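import Mathlib
import Cfsg.Agent.Lib.helper59.UniqueOrderP
import Cfsg.Agent.Lib.helper59.Basic

set_option autoImplicit false

/-!
# Finite `2`-groups in which every normal abelian subgroup is cyclic

* `exists_normal_four`: a central involution `z` and an involution `b` whose conjugates are
  `b` or `z * b` generate a normal non-cyclic abelian subgroup.
* `rel_of_normal_abelian_cyclic`: a non-cyclic finite `2`-group all of whose normal abelian
  subgroups are cyclic has a cyclic subgroup `⟨a⟩` of index `2` and an element `b` outside it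
  satisfying the generalized quaternion, the dihedral (order at least 16) or the semidihedral
  relations.
-/

namespace Cfsg.Agent.Lib.helper59

open Subgroup

universe u

section four

variable {P : Type*} [Group P]

/-- A subgroup of exponent 2 containing two distinct involutions is not cyclic. -/
theorem not_isCyclic_of_two_involutions (E : Subgroup P) (hE2 : ∀ x ∈ E, x ^ 2 = 1) {z b : P}
    (hz : z ∈ E) (hb : b ∈ E) (hz1 : z ≠ 1) (hb1 : b ≠ 1) (hzb : z ≠ b) : ¬ IsCyclic ↥E := by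
  intro hcyc
  obtain ⟨e, he⟩ := (Subgroup.isCyclic_iff_exists_zpowers_eq_top E).mp hcyc
  have heE : e ∈ E := by rw [← he]; exact mem_zpowers e
  have he2 : e ^ 2 = 1 := hE2 e heE
  have h1 : ∀ x ∈ E, x = 1 ∨ x = e := by
    intro x hx
    rw [← he] at hx
    obtain ⟨i, rfl⟩ := mem_zpowers_iff.mp hx
    exact zpow_of_sq_eq_one he2 i
  rcases h1 z hz with h | h
  · exact hz1 h
  · rcases h1 b hb with h' | h'
    · exact hb1 h'
    · exact hzb (h.trans h'.symm)

/-- A central involution `z` and an involution `b ≠ z` whose conjugates are `b` or `z * b`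
generate a normal abelian subgroup that is not cyclic. -/
theorem exists_normal_four {z b : P} (hzc : ∀ g : P, g * z = z * g) (hz2 : z ^ 2 = 1)
    (hz1 : z ≠ 1) (hb2 : b ^ 2 = 1) (hb1 : b ≠ 1) (hzb : z ≠ b)
    (hconj : ∀ g : P, g * b * g⁻¹ = b ∨ g * b * g⁻¹ = z * b) :
    ∃ E : Subgroup P, E.Normal ∧ (∀ x ∈ E, ∀ y ∈ E, x * y = y * x) ∧ ¬ IsCyclic ↥E := by
  have hzb' : z * b = b * z := (hzc b).symm
  have hK : (∀ x ∈ closure ({z, b} : Set P), ∀ y ∈ closure ({z, b} : Set P), x * y = y * x) ∧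
      (∀ x ∈ closure ({z, b} : Set P), x ^ 2 = 1) := by
    apply closure_comm_sq
    · intro x hx y hy
      rcases hx with rfl | hx
      · rcases hy with rfl | hy
        · rfl
        · rw [Set.mem_singleton_iff.mp hy]; exact hzb'
      · rw [Set.mem_singleton_iff.mp hx]
        rcases hy with rfl | hy
        · exact hzb'.symm
        · rw [Set.mem_singleton_iff.mp hy]
    · intro x hx
      rcases hx with rfl | hx
      · exact hz2
      · rw [Set.mem_singleton_iff.mp hx]; exact hb2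
  have hzE : z ∈ closure ({z, b} : Set P) := subset_closure (by simp)
  have hbE : b ∈ closure ({z, b} : Set P) := subset_closure (by simp)
  refine ⟨closure ({z, b} : Set P), ?_, hK.1, ?_⟩
  · refine ⟨fun n hn g => ?_⟩
    have hle : closure ({z, b} : Set P) ≤
        (closure ({z, b} : Set P)).comap (MulAut.conj g).toMonoidHom := by
      rw [closure_le]
      intro x hx
      rw [SetLike.mem_coe, Subgroup.mem_comap]
      show g * x * g⁻¹ ∈ _
      rcases hx with rfl | hx
      · have : g * x * g⁻¹ = x := by rw [hzc g]; group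
        rw [this]; exact hzE
      · rw [Set.mem_singleton_iff.mp hx]
        rcases hconj g with h | h
        · rw [h]; exact hbE
        · rw [h]; exact mul_mem hzE hbE
    exact hle hn
  · exact not_isCyclic_of_two_involutions _ hK.2 hzE hbE hz1 hb1 hzb

end four

/-- A non-cyclic finite `2`-group all of whose normal abelian subgroups are cyclic has a cyclic
subgroup `⟨a⟩` of index `2` and of order at least 4, and an element `b` outside it with the
generalized quaternion relations, the dihedral relations (order at least 16) or the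
semidihedral relations (order at least 16). -/
theorem rel_of_normal_abelian_cyclic {P : Type u} [Group P] [Finite P] (hP : IsPGroup 2 P)
    (hn : ∀ A : Subgroup P, A.Normal → (∀ a ∈ A, ∀ b ∈ A, a * b = b * a) → IsCyclic ↥A)
    (hnc : ¬ IsCyclic P) :
    ∃ (n : ℕ) (a b : P), orderOf a = 2 ^ (n + 2) ∧ Nat.card P = 2 ^ (n + 3) ∧ b ∉ zpowers a ∧
      ((b ^ 2 = a ^ (2 ^ (n + 1)) ∧ b * a * b⁻¹ = a⁻¹) ∨
       (1 ≤ n ∧ b ^ 2 = 1 ∧ b * a * b⁻¹ = a⁻¹) ∨
       (1 ≤ n ∧ b ^ 2 = 1 ∧ b * a * b⁻¹ = a ^ (2 ^ (n + 1) - 1))) := by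
  have : Fact (Nat.Prime 2) := ⟨Nat.prime_two⟩
  obtain ⟨A, hAn, hAc, hAself⟩ := exists_normal_abelian_self_centralizing hP
  have hAcyc : IsCyclic ↥A := hn A hAn hAc
  obtain ⟨a, ha⟩ := (Subgroup.isCyclic_iff_exists_zpowers_eq_top A).mp hAcyc
  have haA : a ∈ A := by rw [← ha]; exact Subgroup.mem_zpowers a
  have hAtop : A ≠ ⊤ := by
    intro hAtop
    apply hnc
    rw [isCyclic_iff_exists_zpowers_eq_top]
    exact ⟨a, by rw [ha, hAtop]⟩
  have hcentA : ∀ g : P, g * a = a * g → g ∈ A := by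
    intro g hga
    apply hAself
    intro a' ha'
    rw [← ha] at ha'
    obtain ⟨i, rfl⟩ := mem_zpowers_iff.mp ha'
    exact ((show Commute g a from hga).zpow_right i).eq
  have hconjA : ∀ g : P, g * a * g⁻¹ ∈ zpowers a := fun g => by
    rw [ha]; exact hAn.conj_mem a haA g
  obtain ⟨k, hk⟩ := (IsPGroup.iff_orderOf.mp hP) a
  have hk2 : 2 ≤ k := by
    by_contra hlt
    push Not at hlt
    have ha2 : a ^ 2 = 1 := by
      apply orderOf_dvd_iff_pow_eq_one.mp
      rw [hk]
      interval_cases k <;> norm_num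
    apply hAtop
    rw [eq_top_iff]
    intro g _
    apply hcentA
    obtain ⟨i, hi⟩ := mem_zpowers_iff.mp (hconjA g)
    rcases zpow_of_sq_eq_one ha2 i with h | h
    · rw [h] at hi
      have ha1 : a = 1 := by
        calc a = g⁻¹ * (g * a * g⁻¹) * g := by group
          _ = 1 := by rw [← hi]; group
      rw [ha1, mul_one, one_mul]
    · rw [h] at hi
      calc g * a = (g * a * g⁻¹) * g := by group
        _ = a * g := by rw [← hi]
  obtain ⟨n, rfl⟩ : ∃ n, k = n + 2 := ⟨k - 2, by omega⟩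
  have hapow : a ^ (2 ^ (n + 2)) = 1 := by rw [← hk]; exact pow_orderOf_eq_one a
  set z := a ^ (2 ^ (n + 1)) with hz
  have hzA : z ∈ A := pow_mem haA _
  have hz2 : z ^ 2 = 1 := by
    rw [hz, ← pow_mul, ← pow_succ]; exact hapow
  have hz1 : z ≠ 1 := by
    apply pow_ne_one_of_lt_orderOf (by positivity)
    rw [hk]
    exact Nat.pow_lt_pow_right (by norm_num) (by omega)
  -- z is central
  have hzc : ∀ g : P, g * z = z * g := by
    intro g
    have h1 : g * z * g⁻¹ ∈ zpowers a := by rw [ha]; exact hAn.conj_mem z hzA g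
    have h2 : (g * z * g⁻¹) ^ 2 = 1 := by rw [conj_pow, hz2]; group
    rcases eq_one_or_eq_pow_of_sq_eq_one (k := 2 ^ (n + 1)) (by rw [hk]; ring) h1 h2 with h | h
    · exfalso; apply hz1
      calc z = g⁻¹ * (g * z * g⁻¹) * g := by group
        _ = 1 := by rw [h]; group
    · calc g * z = (g * z * g⁻¹) * g := by group
        _ = z * g := by rw [h]
  -- P / A is abelian
  have hcommA : ∀ g h : P, g * h * g⁻¹ * h⁻¹ ∈ A := by
    intro g h
    apply hcentA
    obtain ⟨k, hk'⟩ := mem_zpowers_iff.mp (hconjA g⁻¹)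
    obtain ⟨l, hl⟩ := mem_zpowers_iff.mp (hconjA h⁻¹)
    rw [inv_inv] at hk' hl
    have e1 : g⁻¹ * (h⁻¹ * a * h) * g = a ^ (k * l) := by
      rw [← hl]
      calc g⁻¹ * a ^ l * g = (g⁻¹ * a * g) ^ l := by
            have := conj_zpow (a := g⁻¹) (b := a) (i := l)
            rw [inv_inv] at this; exact this.symm
        _ = a ^ (k * l) := by rw [← hk', zpow_mul]
    have e2 : h⁻¹ * (g⁻¹ * a * g) * h = a ^ (k * l) := by
      rw [← hk']
      calc h⁻¹ * a ^ k * h = (h⁻¹ * a * h) ^ k := by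
            have := conj_zpow (a := h⁻¹) (b := a) (i := k)
            rw [inv_inv] at this; exact this.symm
        _ = a ^ (k * l) := by rw [← hl, ← zpow_mul, mul_comm]
    calc g * h * g⁻¹ * h⁻¹ * a = g * h * (g⁻¹ * (h⁻¹ * a * h) * g) * g⁻¹ * h⁻¹ := by group
      _ = g * h * (h⁻¹ * (g⁻¹ * a * g) * h) * g⁻¹ * h⁻¹ := by rw [e1, e2]
      _ = a * (g * h * g⁻¹ * h⁻¹) := by group
  -- a normal four-group is impossible
  have hklein : ∀ b : P, b ∉ A → b ^ 2 = 1 →
      (∀ g : P, g * b * g⁻¹ = b ∨ g * b * g⁻¹ = z * b) → False := by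
    intro b hb hb2 hconj
    have hb1 : b ≠ 1 := fun h => hb (h ▸ one_mem _)
    have hzb : z ≠ b := fun h => hb (h ▸ hzA)
    obtain ⟨E, hEn, hEc, hEnc⟩ := exists_normal_four hzc hz2 hz1 hb2 hb1 hzb hconj
    exact hEnc (hn E hEn hEc)
  -- the modular action is impossible
  have hmod : ∀ b : P, b ∉ A → b ^ 2 ∈ A → 1 ≤ n → b * a * b⁻¹ = a ^ (1 + 2 ^ (n + 1)) →
      False := by
    intro b hb hb2 hn1 h
    obtain ⟨N, rfl⟩ : ∃ N, n = N + 1 := ⟨n - 1, by omega⟩
    have hb2' : b ^ 2 ∈ zpowers a := by rw [ha]; exact hb2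
    obtain ⟨i, hi⟩ := exists_sq_eq_one_of_modular (N := N) hk hb2' h
    obtain ⟨b', hb'⟩ : ∃ b' : P, b' = b * a ^ i := ⟨_, rfl⟩
    rw [← hb'] at hi
    have hb'A : b' ∉ A := by
      intro hcon
      apply hb
      have : b = b' * (a ^ i)⁻¹ := by rw [hb']; group
      rw [this]; exact mul_mem hcon (inv_mem (zpow_mem haA i))
    have hb'a : b' * a * b'⁻¹ = a ^ ((1 : ℤ) + 2 ^ (N + 2)) := by
      have h1 : b' * a * b'⁻¹ = b * a * b⁻¹ := by
        rw [hb']
        have e : a ^ i * a * (a ^ i)⁻¹ = a := by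
          have : Commute (a ^ i) a := (Commute.refl a).zpow_left i
          exact this.mul_inv_cancel
        calc b * a ^ i * a * (b * a ^ i)⁻¹ = b * (a ^ i * a * (a ^ i)⁻¹) * b⁻¹ := by group
          _ = b * a * b⁻¹ := by rw [e]
      rw [h1, h, ← zpow_natCast]; congr 1
    apply hklein b' hb'A hi
    intro g
    have hc : g * b' * g⁻¹ * b'⁻¹ ∈ zpowers a := by rw [ha]; exact hcommA g b'
    obtain ⟨j, hj⟩ := mem_zpowers_iff.mp hc
    have hbinv : b'⁻¹ = b' := by
      rw [inv_eq_iff_mul_eq_one, ← pow_two]; exact hi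
    have e1 : g * b' * g⁻¹ = a ^ j * b' := by
      rw [hj]; group
    have e2 : (a ^ j * b') ^ 2 = 1 := by
      rw [← e1, conj_pow, hi]; group
    have e3 : a ^ (j + ((1 : ℤ) + 2 ^ (N + 2)) * j) = 1 := by
      rw [zpow_add, ← conj_zpow_of_conj_eq hb'a j]
      calc a ^ j * (b' * a ^ j * b'⁻¹) = a ^ j * b' * (a ^ j * b') := by rw [hbinv]; group
        _ = (a ^ j * b') ^ 2 := by rw [pow_two]
        _ = 1 := e2
    rw [← orderOf_dvd_iff_zpow_eq_one, hk] at e3
    have e4 : (2 : ℤ) ^ (N + 2) ∣ j := by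
      have h1 : ((2 ^ (N + 1 + 2) : ℕ) : ℤ) = 2 * 2 ^ (N + 2) := by push_cast; ring
      have h2 : j + ((1 : ℤ) + 2 ^ (N + 2)) * j = 2 * (j * (1 + 2 ^ (N + 1))) := by ring
      rw [h1, h2] at e3
      have h3 : (2 : ℤ) ^ (N + 2) ∣ j * (1 + 2 ^ (N + 1)) :=
        (mul_dvd_mul_iff_left two_ne_zero).mp e3
      have hcop : IsCoprime ((2 : ℤ) ^ (N + 2)) (1 + 2 ^ (N + 1)) := by
        apply IsCoprime.pow_left
        exact ⟨-2 ^ N, 1, by ring⟩
      exact hcop.dvd_of_dvd_mul_right h3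
    obtain ⟨t, ht⟩ := e4
    have e5 : a ^ j = z ^ t := by
      rw [ht, zpow_mul, hz]; norm_cast
    rw [e1, e5]
    rcases zpow_of_sq_eq_one hz2 t with h' | h'
    · left; rw [h', one_mul]
    · right; rw [h']
  -- elements outside A squaring into A invert A or act in the semidihedral way
  have claim1 : ∀ b : P, b ∉ A → b ^ 2 ∈ A →
      b * a * b⁻¹ = a⁻¹ ∨ (1 ≤ n ∧ b * a * b⁻¹ = a ^ (2 ^ (n + 1) - 1)) := by
    intro b hb hb2
    have hb2' : b ^ 2 ∈ zpowers a := by rw [ha]; exact hb2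
    have hcomm : b ^ 2 * a = a * b ^ 2 := by
      have := comm_zpow_of_mem_zpowers hb2' 1
      rwa [zpow_one] at this
    have hcase1 : b * a * b⁻¹ = a → False := by
      intro h
      apply hb
      apply hcentA
      calc b * a = (b * a * b⁻¹) * b := by group
        _ = a * b := by rw [h]
    rcases conj_cyclic_two_pow (n + 1) a b hk (hconjA b) hcomm with h | h | h | h
    · exact (hcase1 h).elim
    · rcases Nat.eq_zero_or_pos n with hn0 | hn0
      · subst hn0
        left
        rw [h]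
        have : a ^ (1 + 2 ^ (0 + 1)) * a = 1 := by
          rw [← pow_succ]; exact hapow
        exact eq_inv_of_mul_eq_one_left this
      · exact (hmod b hb hb2 hn0 h).elim
    · left; exact h
    · rcases Nat.eq_zero_or_pos n with hn0 | hn0
      · subst hn0
        exfalso
        apply hcase1
        rw [h]; norm_num
      · right; exact ⟨hn0, h⟩
  -- every element outside A squares into A
  have claim2 : ∀ g : P, g ∉ A → g ^ 2 ∈ A := by
    intro g hg
    by_contra hg2
    have hex : ∃ j, g ^ (2 ^ j) ∈ A := by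
      obtain ⟨j, hj⟩ := hP g
      exact ⟨j, by rw [hj]; exact one_mem _⟩
    classical
    obtain ⟨j, hjspec, hjmin⟩ : ∃ j, g ^ (2 ^ j) ∈ A ∧ ∀ i < j, g ^ (2 ^ i) ∉ A :=
      ⟨Nat.find hex, Nat.find_spec hex, fun i hi => Nat.find_min hex hi⟩
    have hj2 : 2 ≤ j := by
      by_contra hlt
      push Not at hlt
      interval_cases j
      · apply hg; simpa using hjspec
      · apply hg2; simpa using hjspec
    obtain ⟨i, rfl⟩ : ∃ i, j = i + 2 := ⟨j - 2, by omega⟩
    set h := g ^ (2 ^ i) with hh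
    have hh2 : h ^ 2 ∉ A := by
      have := hjmin (i + 1) (by omega)
      rwa [pow_succ, pow_mul] at this
    have hh4 : (h ^ 2) ^ 2 ∈ A := by
      have : g ^ (2 ^ (i + 2)) = (h ^ 2) ^ 2 := by
        rw [hh, ← pow_mul, ← pow_mul]; congr 1; ring
      rw [← this]; exact hjspec
    obtain ⟨k', hk'⟩ := mem_zpowers_iff.mp (hconjA h)
    have e1 : h ^ 2 * a * (h ^ 2)⁻¹ = a ^ (k' * k') := by
      calc h ^ 2 * a * (h ^ 2)⁻¹ = h * (h * a * h⁻¹) * h⁻¹ := by rw [pow_two]; group
        _ = h * a ^ k' * h⁻¹ := by rw [hk']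
        _ = (h * a * h⁻¹) ^ k' := by rw [conj_zpow]
        _ = (a ^ k') ^ k' := by rw [hk']
        _ = a ^ (k' * k') := by rw [zpow_mul]
    have e3 : (4 : ℤ) ∣ k' * k' + 1 := by
      rcases claim1 (h ^ 2) hh2 hh4 with hinvh | ⟨hn1, hsd⟩
      · rw [hinvh] at e1
        have e2 : a ^ (k' * k' + 1) = 1 := by
          rw [zpow_add, ← e1, zpow_one, inv_mul_cancel]
        rw [← orderOf_dvd_iff_zpow_eq_one, hk] at e2
        refine dvd_trans ?_ e2
        refine ⟨2 ^ n, ?_⟩
        push_cast; ring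
      · rw [hsd] at e1
        have e2 : a ^ (k' * k' + 1 - 2 ^ (n + 1)) = 1 := by
          have h1 : a ^ (2 ^ (n + 1) - 1) = a ^ ((2 : ℤ) ^ (n + 1) - 1) := by
            rw [← zpow_natCast]; congr 1
            have : 1 ≤ 2 ^ (n + 1) := Nat.one_le_two_pow
            push_cast [this]; ring
          rw [h1] at e1
          have h2 : k' * k' + 1 - 2 ^ (n + 1) = k' * k' - (2 ^ (n + 1) - 1) := by ring
          rw [h2, zpow_sub, ← e1, mul_inv_cancel]
        rw [← orderOf_dvd_iff_zpow_eq_one, hk] at e2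
        obtain ⟨N, rfl⟩ : ∃ N, n = N + 1 := ⟨n - 1, by omega⟩
        have h4 : (4 : ℤ) ∣ k' * k' + 1 - 2 ^ (N + 1 + 1) := by
          refine dvd_trans ?_ e2
          refine ⟨2 ^ (N + 1), ?_⟩
          push_cast; ring
        have h5 : (4 : ℤ) ∣ 2 ^ (N + 1 + 1) := ⟨2 ^ N, by ring⟩
        have := dvd_add h4 h5
        simpa using this
    rcases Int.even_or_odd' k' with ⟨t, rfl | rfl⟩
    · have : (2 * t) * (2 * t) + 1 = 4 * (t * t) + 1 := by ring
      rw [this] at e3; omega
    · have : (2 * t + 1) * (2 * t + 1) + 1 = 4 * (t * t + t) + 2 := by ring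
      rw [this] at e3; omega
  -- A has index 2
  obtain ⟨b, hb⟩ : ∃ b : P, b ∉ A := by
    by_contra hcon
    push Not at hcon
    exact hAtop (eq_top_iff.mpr fun x _ => hcon x)
  have hkey : ∀ g : P, g ∉ A → g * b⁻¹ ∈ A := by
    intro g hg
    by_contra hx
    obtain ⟨x, hxdef⟩ : ∃ x : P, x = g * b⁻¹ := ⟨_, rfl⟩
    rw [← hxdef] at hx
    have hgx : g = x * b := by rw [hxdef]; group
    have hga : g * a * g⁻¹ = x * (b * a * b⁻¹) * x⁻¹ := by rw [hgx]; group
    have hgA : g * a * g⁻¹ = a → False := by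
      intro h; apply hg; apply hcentA
      calc g * a = (g * a * g⁻¹) * g := by group
        _ = a * g := by rw [h]
    have hinvpow : (a ^ (2 ^ (n + 1) - 1))⁻¹ = a ^ (1 + 2 ^ (n + 1)) := by
      apply inv_eq_of_mul_eq_one_right
      rw [← pow_add]
      have : 2 ^ (n + 1) - 1 + (1 + 2 ^ (n + 1)) = 2 ^ (n + 2) := by
        have : 1 ≤ 2 ^ (n + 1) := Nat.one_le_two_pow
        have h6 : (2 : ℕ) ^ (n + 2) = 2 ^ (n + 1) * 2 := by ring
        omega
      rw [this]; exact hapow
    have hxinv : x * a⁻¹ * x⁻¹ = (x * a * x⁻¹)⁻¹ := by group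
    rcases claim1 b hb (claim2 b hb) with hb1 | ⟨hn1, hb1⟩ <;>
    rcases claim1 x hx (claim2 x hx) with hx1 | ⟨hn1', hx1⟩
    · apply hgA
      rw [hga, hb1, hxinv, hx1, inv_inv]
    · apply hmod g hg (claim2 g hg) hn1'
      rw [hga, hb1, hxinv, hx1, hinvpow]
    · apply hmod g hg (claim2 g hg) hn1
      rw [hga, hb1, ← conj_pow, hx1, inv_pow, hinvpow]
    · apply hgA
      rw [hga, hb1, ← conj_pow, hx1, ← pow_mul]
      obtain ⟨N, rfl⟩ : ∃ N, n = N + 1 := ⟨n - 1, by omega⟩
      obtain ⟨m', hm'⟩ : ∃ m', 2 ^ (N + 1) = m' + 1 :=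
        ⟨2 ^ (N + 1) - 1, by have : 1 ≤ 2 ^ (N + 1) := Nat.one_le_two_pow; omega⟩
      have h1 : 2 ^ (N + 1 + 1) = 2 * m' + 2 := by rw [pow_succ, hm']; ring
      have h2 : 2 ^ (N + 1 + 2) = 4 * m' + 4 := by rw [pow_succ, pow_succ, hm']; ring
      have h3 : (2 ^ (N + 1 + 1) - 1) * (2 ^ (N + 1 + 1) - 1) = 2 ^ (N + 1 + 2) * m' + 1 := by
        rw [h1, h2]
        have : 2 * m' + 2 - 1 = 2 * m' + 1 := by omega
        rw [this]; ring
      rw [h3, pow_succ, pow_mul, hapow, one_pow, one_mul]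
  have hidx : A.index = 2 := by
    rw [Subgroup.index_eq_two_iff]
    refine ⟨b⁻¹, fun g => ?_⟩
    by_cases hgA : g ∈ A
    · right
      refine ⟨hgA, fun h => hb ?_⟩
      have h1 : b⁻¹ ∈ A := by
        have : b⁻¹ = g⁻¹ * (g * b⁻¹) := by group
        rw [this]; exact mul_mem (inv_mem hgA) h
      exact (inv_mem_iff (x := b)).mp h1
    · left
      exact ⟨hkey g hgA, hgA⟩
  have hcard : Nat.card P = 2 ^ (n + 3) := by
    have h1 := Subgroup.card_mul_index A
    rw [hidx, ← ha, Nat.card_zpowers, hk] at h1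
    rw [← h1]; ring
  have hbz : b ∉ zpowers a := by rw [ha]; exact hb
  have hb2' : b ^ 2 ∈ zpowers a := by rw [ha]; exact claim2 b hb
  rcases claim1 b hb (claim2 b hb) with hinv | ⟨hn1, hsd⟩
  · rcases sq_of_inverts (k := 2 ^ (n + 1)) (by rw [hk]; ring) hb2' hinv with h5 | h5
    · rcases Nat.eq_zero_or_pos n with hn0 | hn0
      · exfalso
        subst hn0
        apply hklein b hb h5
        intro g
        have hconj_c : ∀ c ∈ A, c * b * c⁻¹ = b ∨ c * b * c⁻¹ = z * b := by
          intro c hc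
          rw [← ha] at hc
          obtain ⟨i, rfl⟩ := mem_zpowers_iff.mp hc
          have e1 : b * (a ^ i)⁻¹ * b⁻¹ = a ^ i := by
            have h' : b * a * b⁻¹ = a ^ (-1 : ℤ) := by rw [hinv, zpow_neg_one]
            rw [← zpow_neg, conj_zpow_of_conj_eq h']; congr 1; ring
          have e2 : a ^ i * b * (a ^ i)⁻¹ = (z ^ i) * b := by
            calc a ^ i * b * (a ^ i)⁻¹ = a ^ i * (b * (a ^ i)⁻¹ * b⁻¹) * b := by group
              _ = a ^ i * a ^ i * b := by rw [e1]
              _ = z ^ i * b := by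
                  rw [hz, ← zpow_add, ← zpow_natCast, ← zpow_mul]
                  congr 2
                  push_cast; ring
          rw [e2]
          rcases zpow_of_sq_eq_one hz2 i with h' | h'
          · left; rw [h', one_mul]
          · right; rw [h']
        by_cases hgA : g ∈ A
        · exact hconj_c g hgA
        · have hx := hkey g hgA
          have : g * b * g⁻¹ = (g * b⁻¹) * b * (g * b⁻¹)⁻¹ := by group
          rw [this]; exact hconj_c _ hx
      · exact ⟨n, a, b, hk, hcard, hbz, Or.inr (Or.inl ⟨hn0, h5, hinv⟩)⟩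
    · exact ⟨n, a, b, hk, hcard, hbz, Or.inl ⟨h5, hinv⟩⟩
  · obtain ⟨N, rfl⟩ : ∃ N, n = N + 1 := ⟨n - 1, by omega⟩
    rcases sq_eq_one_of_semidihedral (N := N) hk hb2' hsd with h5 | h5
    · exact ⟨N + 1, a, b, hk, hcard, hbz, Or.inr (Or.inr ⟨hn1, h5, hsd⟩)⟩
    · refine ⟨N + 1, a, b * a, hk, hcard, ?_, Or.inr (Or.inr ⟨hn1, h5, ?_⟩)⟩
      · intro hcon
        apply hbz
        have : b = (b * a) * a⁻¹ := by group
        rw [this]; exact mul_mem hcon (inv_mem (mem_zpowers a))
      · rw [← hsd]; group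

end Cfsg.Agent.Lib.helper59
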