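import Mathlib
import Cfsg.Prelude.Def_OddOrderLocal

/-!
# S1431 (B-G Corollary 14.3): hypothesis shapes

`H30 G` is the conclusion of the frozen statement S1430 for every maximal subgroup `M` and every
nontrivial Hall `κ(M)`-subgroup `K`; `H78 G` is the second clause of the frozen statement S1378
(two maximal subgroups whose `σ`-sets meet are conjugate).
-/

set_option autoImplicit false
open Cfsg

namespace Cfsg.Agent.Lib.helper59.BG1431

/-- The conclusion of S1430, for all `M` and `K`. -/
def H30 (G : Type*) [Group G] : Prop :=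
  ∀ (M : Subgroup G), IsCoatom M → ∀ K : Subgroup G, IsPiHallOf (kappa M) K M → K ≠ ⊥ →
    (∀ k ∈ K, k ≠ 1 → sigmaCore M ⊓ Subgroup.centralizer ({k} : Set G) =
        (sigmaCore M ⊓ Subgroup.centralizer (K : Set G))) ∧
      (∃ U : Subgroup G, IsMulCommutative U ∧
        IsPiHallOf {q | q.Prime ∧ q ∉ kappa M ∧ q ∉ sigma M} U M ∧
        K ≤ Subgroup.normalizer (U : Set G) ∧
        ∀ k ∈ K, k ≠ 1 → U ⊓ Subgroup.centralizer ({k} : Set G) = ⊥) ∧
      ∀ X : Subgroup G, X ≤ K → (Nat.card X).Prime →
        M ⊓ Subgroup.normalizer (X : Set G) =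
            K ⊔ (sigmaCore M ⊓ Subgroup.centralizer (K : Set G)) ∧
          M ⊓ Subgroup.normalizer (K : Set G) =
            K ⊔ (sigmaCore M ⊓ Subgroup.centralizer (K : Set G)) ∧
          ∀ Mstar : Subgroup G, IsCoatom Mstar → Subgroup.normalizer (X : Set G) ≤ Mstar →
            X ≤ sigmaCore Mstar

/-- The second clause of S1378: maximal subgroups with a common `σ`-prime are conjugate. -/
def H78 (G : Type*) [Group G] : Prop :=
  ∀ M N : Subgroup G, IsCoatom M → IsCoatom N → (sigma M ∩ sigma N).Nonempty →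
    ∃ g : G, N = M.map (MulAut.conj g).toMonoidHom

end Cfsg.Agent.Lib.helper59.BG1431
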