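import Mathlib
import Cfsg.Agent.Lib.helper59.BG1431Defs
import Cfsg.Agent.Lib.helper13.BG11a
import Cfsg.Agent.Lib.helper66.PGroupAction
import Cfsg.Agent.S1350
import Cfsg.Agent.S1404
import Cfsg.Agent.S1423
import Cfsg.Agent.S1425

/-!
# S1431 (B-G Corollary 14.3) from S1430 and helper13's key lemma

`HKey G`: a subgroup of prime order `p` of `K* = M_σ ∩ C_G(K)` lies in `[M_σ, M_σ]` unless
`p ∈ β(M)`.  With S1423 this gives `C_G(X) ≤ M` and the uniqueness of `M` over the Sylow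
`p`-subgroups of `M_σ`; the four clauses of S1431 follow.
-/

set_option autoImplicit false
open Cfsg

namespace Cfsg.Agent.Lib.helper59.BG1431

variable {G : Type*} [Group G]

/-- helper13's key lemma, as a hypothesis. -/
def HKey (G : Type*) [Group G] : Prop :=
  ∀ (M : Subgroup G), IsCoatom M → ∀ K : Subgroup G, IsPiHallOf (kappa M) K M → K ≠ ⊥ →
    ∀ p : ℕ, p.Prime → ∀ X : Subgroup G,
      X ≤ sigmaCore M ⊓ Subgroup.centralizer (K : Set G) → Nat.card X = p →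
      p ∈ beta M ∨ X ≤ ⁅sigmaCore M, sigmaCore M⁆

theorem exists_prime_pow [Finite G] {z : G} (hz : z ≠ 1) :
    ∃ p : ℕ, p.Prime ∧ orderOf (z ^ (orderOf z / p)) = p := by
  have h1 : orderOf z ≠ 1 := fun h => hz (orderOf_eq_one_iff.mp h)
  obtain ⟨p, hp, hpd⟩ := Nat.exists_prime_and_dvd h1
  exact ⟨p, hp, orderOf_pow_orderOf_div (orderOf_pos z).ne' hpd⟩

/-- A subgroup of prime order of `K`, for `K ≠ 1`. -/
theorem exists_prime_subgroup [Finite G] {K : Subgroup G} (hK1 : K ≠ ⊥) :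
    ∃ x ∈ K, (orderOf x).Prime := by
  have hcard : Nat.card K ≠ 1 := fun h => hK1 (Subgroup.card_eq_one.mp h)
  obtain ⟨p, hp, hpd⟩ := Nat.exists_prime_and_dvd hcard
  have : Fact p.Prime := ⟨hp⟩
  obtain ⟨k, hk⟩ := exists_prime_orderOf_dvd_card' p hpd
  refine ⟨(k : G), k.2, ?_⟩
  rw [Subgroup.orderOf_coe, hk]
  exact hp

/-- Consequences of the key lemma and S1423 for a subgroup of prime order of `K*`. -/
theorem kstar_prime_facts [Finite G] (hG : IsMinSimpleOddOrder G) (hkey : HKey G)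
    (M : Subgroup G) (hM : IsCoatom M) (K : Subgroup G) (hK : IsPiHallOf (kappa M) K M)
    (hK1 : K ≠ ⊥) (p : ℕ) [Fact p.Prime] (X : Subgroup G)
    (hX : X ≤ sigmaCore M ⊓ Subgroup.centralizer (K : Set G)) (hXc : Nat.card X = p) :
    p ∈ sigma M ∧ Subgroup.centralizer (X : Set G) ≤ M ∧
      ∀ P : Sylow p ↥(sigmaCore M),
        InUniqueMaximal ((P : Subgroup ↥(sigmaCore M)).map (sigmaCore M).subtype) := by
  obtain ⟨hHallM, -, -⟩ := Cfsg.Agent.S1350.result hG M hM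
  have hpσ : p ∈ sigma M :=
    hHallM.2.1 p Fact.out (by rw [← hXc]; exact Subgroup.card_dvd_of_le (hX.trans inf_le_left))
  have hXM : X ≤ M := (hX.trans inf_le_left).trans hHallM.1
  have hk := hkey M hM K hK hK1 p Fact.out X hX hXc
  refine ⟨hpσ, ?_, fun P => ?_⟩
  · obtain ⟨P⟩ : Nonempty (Sylow p ↥(sigmaCore M)) := inferInstance
    exact (Cfsg.Agent.S1423.result hG M hM p hpσ X hXM hXc P hk).1.1
  · exact (Cfsg.Agent.S1423.result hG M hM p hpσ X hXM hXc P hk).2.1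

/-- Clause 1 of S1431: `K* ∩ gMg⁻¹ = 1` for `g ∉ M`. -/
theorem kstar_inter_conj [Finite G] (hG : IsMinSimpleOddOrder G) (hkey : HKey G)
    (M : Subgroup G) (hM : IsCoatom M) (K : Subgroup G) (hK : IsPiHallOf (kappa M) K M)
    (hK1 : K ≠ ⊥) :
    ∀ g : G, g ∉ M →
      (sigmaCore M ⊓ Subgroup.centralizer (K : Set G)) ⊓ M.map (MulAut.conj g).toMonoidHom = ⊥ := by
  intro g hg
  by_contra hne
  rw [Subgroup.eq_bot_iff_forall] at hne
  push Not at hne
  obtain ⟨z, hz, hz1⟩ := hne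
  obtain ⟨p, hp, hord⟩ := exists_prime_pow hz1
  have : Fact p.Prime := ⟨hp⟩
  have hyKs : z ^ (orderOf z / p) ∈ sigmaCore M ⊓ Subgroup.centralizer (K : Set G) :=
    Subgroup.pow_mem _ hz.1 _
  have hyMg : z ^ (orderOf z / p) ∈ M.map (MulAut.conj g).toMonoidHom := Subgroup.pow_mem _ hz.2 _
  have hXc : Nat.card (Subgroup.zpowers (z ^ (orderOf z / p))) = p := by
    rw [Nat.card_zpowers, hord]
  obtain ⟨hpσ, hCX, -⟩ := kstar_prime_facts hG hkey M hM K hK hK1 p
    (Subgroup.zpowers (z ^ (orderOf z / p))) (Subgroup.zpowers_le.mpr hyKs) hXc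
  obtain ⟨hHallM, -, -⟩ := Cfsg.Agent.S1350.result hG M hM
  have hyM : z ^ (orderOf z / p) ∈ M := hHallM.1 hyKs.1
  have hXM : Subgroup.zpowers (z ^ (orderOf z / p)) ≤ M := Subgroup.zpowers_le.mpr hyM
  have hXp : IsPGroup p (Subgroup.zpowers (z ^ (orderOf z / p))) :=
    IsPGroup.of_card (n := 1) (by rw [hXc, pow_one])
  have hy1 : z ^ (orderOf z / p) ≠ 1 := by
    intro h
    rw [h, orderOf_one] at hord
    exact hp.one_lt.ne hord
  have hX1 : Subgroup.zpowers (z ^ (orderOf z / p)) ≠ ⊥ :=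
    fun h => hy1 (Subgroup.zpowers_eq_bot.mp h)
  obtain ⟨h04, -⟩ := Cfsg.Agent.S1404.result hG M hM p hpσ _ hXp hX1 hXM
  have hconj : (Subgroup.zpowers (z ^ (orderOf z / p))).map (MulAut.conj g⁻¹).toMonoidHom ≤ M := by
    rw [MonoidHom.map_zpowers]
    apply Subgroup.zpowers_le.mpr
    obtain ⟨m, hm, hmy⟩ := hyMg
    have h1 : (MulAut.conj g⁻¹).toMonoidHom (z ^ (orderOf z / p)) = m := by
      rw [← hmy]
      show g⁻¹ * (g * m * g⁻¹) * g⁻¹⁻¹ = m
      group
    rw [h1]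
    exact hm
  obtain ⟨m, hm, c, hc, hgmc⟩ := h04 g⁻¹ hconj
  have hginv : g⁻¹ ∈ M := by
    rw [hgmc]
    exact M.mul_mem hm (hCX hc)
  exact hg (by simpa using M.inv_mem hginv)

/-- Clause 2 of S1431: `K ∩ gKg⁻¹ = 1` for `g ∈ M` outside `K K*`. -/
theorem k_inter_conj [Finite G] (h30 : H30 G)
    (M : Subgroup G) (hM : IsCoatom M) (K : Subgroup G) (hK : IsPiHallOf (kappa M) K M)
    (hK1 : K ≠ ⊥) :
    ∀ g ∈ M, g ∉ K ⊔ (sigmaCore M ⊓ Subgroup.centralizer (K : Set G)) →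
      K ⊓ K.map (MulAut.conj g).toMonoidHom = ⊥ := by
  intro g hgM hgJ
  by_contra hne
  rw [Subgroup.eq_bot_iff_forall] at hne
  push Not at hne
  obtain ⟨z, hz, hz1⟩ := hne
  obtain ⟨p, hp, hord⟩ := exists_prime_pow hz1
  have : Fact p.Prime := ⟨hp⟩
  have hyK : z ^ (orderOf z / p) ∈ K := K.pow_mem hz.1 _
  have hyKg : z ^ (orderOf z / p) ∈ K.map (MulAut.conj g).toMonoidHom := Subgroup.pow_mem _ hz.2 _
  obtain ⟨k, hkK, hky⟩ := hyKg
  have hky' : g * k * g⁻¹ = z ^ (orderOf z / p) := hky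
  have hordk : orderOf k = p := by
    rw [← hord, ← hky']
    exact (MulEquiv.orderOf_eq (MulAut.conj g) k).symm
  have hXK : Subgroup.zpowers (z ^ (orderOf z / p)) ≤ K := Subgroup.zpowers_le.mpr hyK
  have hX''K : Subgroup.zpowers k ≤ K := Subgroup.zpowers_le.mpr hkK
  have hXc : Nat.card (Subgroup.zpowers (z ^ (orderOf z / p))) = p := by
    rw [Nat.card_zpowers, hord]
  have hX''c : Nat.card (Subgroup.zpowers k) = p := by rw [Nat.card_zpowers, hordk]
  obtain ⟨-, -, h3⟩ := h30 M hM K hK hK1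
  obtain ⟨hN1, -, -⟩ := h3 _ hXK (by rw [hXc]; exact hp)
  obtain ⟨hN2, -, -⟩ := h3 _ hX''K (by rw [hX''c]; exact hp)
  have hKN2 : K ≤ Subgroup.normalizer ((Subgroup.zpowers k : Subgroup G) : Set G) := by
    have h1 : K ≤ M ⊓ Subgroup.normalizer ((Subgroup.zpowers k : Subgroup G) : Set G) := by
      rw [hN2]
      exact le_sup_left
    exact h1.trans inf_le_right
  have hpκ : p ∈ kappa M :=
    hK.2.1 p hp (by rw [← hXc]; exact Subgroup.card_dvd_of_le hXK)
  have hp1 : IsPGroup p (Subgroup.zpowers (z ^ (orderOf z / p))) :=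
    IsPGroup.of_card (n := 1) (by rw [hXc, pow_one])
  have hp2 : IsPGroup p (Subgroup.zpowers k) := IsPGroup.of_card (n := 1) (by rw [hX''c, pow_one])
  have hW : IsPGroup p
      (Subgroup.zpowers (z ^ (orderOf z / p)) ⊔ Subgroup.zpowers k : Subgroup G) :=
    IsPGroup.to_sup_of_normal_right' hp1 hp2 (hXK.trans hKN2)
  have hXM : Subgroup.zpowers (z ^ (orderOf z / p)) ≤ M := hXK.trans hK.1
  have hX''M : Subgroup.zpowers k ≤ M := hX''K.trans hK.1
  obtain ⟨P, hP⟩ := (hW.comap_subtype (K := M)).exists_le_sylow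
  have : IsCyclic ↥(P : Subgroup ↥M) := (hpκ.2.2.2 P).1
  have e : (Subgroup.zpowers (z ^ (orderOf z / p))).subgroupOf M =
      (Subgroup.zpowers k).subgroupOf M := by
    apply Cfsg.Agent.Lib.helper66.eq_of_card_eq_of_isCyclic (E := (P : Subgroup ↥M))
      ((Subgroup.comap_mono le_sup_left).trans hP) ((Subgroup.comap_mono le_sup_right).trans hP)
    show Nat.card ((Subgroup.zpowers (z ^ (orderOf z / p))).subgroupOf M) =
      Nat.card ((Subgroup.zpowers k).subgroupOf M)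
    rw [Nat.card_congr (Subgroup.subgroupOfEquivOfLe hXM).toEquiv,
      Nat.card_congr (Subgroup.subgroupOfEquivOfLe hX''M).toEquiv, hXc, hX''c]
  have e' : Subgroup.zpowers (z ^ (orderOf z / p)) = Subgroup.zpowers k := by
    apply le_antisymm
    · intro w hw
      have h1 : (⟨w, hXM hw⟩ : M) ∈ (Subgroup.zpowers (z ^ (orderOf z / p))).subgroupOf M :=
        Subgroup.mem_subgroupOf.mpr hw
      rw [e] at h1
      exact Subgroup.mem_subgroupOf.mp h1
    · intro w hw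
      have h1 : (⟨w, hX''M hw⟩ : M) ∈ (Subgroup.zpowers k).subgroupOf M :=
        Subgroup.mem_subgroupOf.mpr hw
      rw [← e] at h1
      exact Subgroup.mem_subgroupOf.mp h1
  have hgN : g ∈ Subgroup.normalizer
      ((Subgroup.zpowers (z ^ (orderOf z / p)) : Subgroup G) : Set G) := by
    rw [Subgroup.mem_normalizer_iff]
    intro h
    constructor
    · intro hh
      rw [e'] at hh
      obtain ⟨i, rfl⟩ := Subgroup.mem_zpowers_iff.mp hh
      rw [← conj_zpow, hky']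
      exact Subgroup.zpow_mem _ (Subgroup.mem_zpowers _) i
    · intro hh
      obtain ⟨i, hi⟩ := Subgroup.mem_zpowers_iff.mp hh
      rw [e']
      refine Subgroup.mem_zpowers_iff.mpr ⟨i, ?_⟩
      rw [← hky', conj_zpow] at hi
      exact mul_left_cancel (mul_right_cancel hi)
  have hgJ' : g ∈ M ⊓ Subgroup.normalizer
      ((Subgroup.zpowers (z ^ (orderOf z / p)) : Subgroup G) : Set G) := ⟨hgM, hgN⟩
  rw [hN1] at hgJ'
  exact hgJ hgJ'

/-- S1431 from S1430 and the key lemma. -/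
theorem s1431_of [Finite G] (hG : IsMinSimpleOddOrder G) (h30 : H30 G) (hkey : HKey G)
    (M : Subgroup G) (hM : IsCoatom M) (K : Subgroup G) (hK : IsPiHallOf (kappa M) K M)
    (hK1 : K ≠ ⊥) :
    (∀ g : G, g ∉ M → (sigmaCore M ⊓ Subgroup.centralizer (K : Set G)) ⊓
        M.map (MulAut.conj g).toMonoidHom = ⊥) ∧
      (∀ g ∈ M, g ∉ K ⊔ (sigmaCore M ⊓ Subgroup.centralizer (K : Set G)) →
        K ⊓ K.map (MulAut.conj g).toMonoidHom = ⊥) ∧
      (∀ (p : ℕ), p.Prime →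
        p ∣ Nat.card ↥(sigmaCore M ⊓ Subgroup.centralizer (K : Set G)) →
        ∀ S : Sylow p ↥(sigmaCore M),
          InUniqueMaximal ((S : Subgroup ↥(sigmaCore M)).map (sigmaCore M).subtype) ∧
          (S : Subgroup ↥(sigmaCore M)).map (sigmaCore M).subtype ≤ M ∧
          ¬ (S : Subgroup ↥(sigmaCore M)).map (sigmaCore M).subtype ≤
            (sigmaCore M ⊓ Subgroup.centralizer (K : Set G))) ∧
      ∀ Y : Subgroup G, (∀ p : ℕ, p.Prime → p ∣ Nat.card Y → p ∈ sigma M) →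
        Y ⊓ (sigmaCore M ⊓ Subgroup.centralizer (K : Set G)) ≠ ⊥ → Y ≤ sigmaCore M := by
  obtain ⟨hodd, hsimple, hna, hsolv⟩ := id hG
  have := hsimple
  obtain ⟨hHallM, -, -⟩ := Cfsg.Agent.S1350.result hG M hM
  have hσM : sigmaCore M ≤ M := hHallM.1
  have h1 := kstar_inter_conj hG hkey M hM K hK hK1
  refine ⟨h1, k_inter_conj h30 M hM K hK hK1, ?_, ?_⟩
  · -- clause 3
    intro p hp hpK S
    have : Fact p.Prime := ⟨hp⟩
    obtain ⟨x, hx⟩ := exists_prime_orderOf_dvd_card' p hpK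
    have hXc : Nat.card (Subgroup.zpowers (x : G)) = p := by
      rw [Nat.card_zpowers, Subgroup.orderOf_coe, hx]
    obtain ⟨hpσ, -, huniq⟩ := kstar_prime_facts hG hkey M hM K hK hK1 p
      (Subgroup.zpowers (x : G)) (Subgroup.zpowers_le.mpr x.2) hXc
    have hSM : (S : Subgroup ↥(sigmaCore M)).map (sigmaCore M).subtype ≤ M :=
      (Subgroup.map_subtype_le _).trans hσM
    refine ⟨huniq S, hSM, fun hSK => ?_⟩
    -- `S ≤ K*` is impossible
    obtain ⟨x₁, hx₁K, hx₁p⟩ := exists_prime_subgroup hK1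
    have hx₁1 : x₁ ≠ 1 := by
      intro h
      rw [h, orderOf_one] at hx₁p
      exact Nat.not_prime_one hx₁p
    have hX₁K : Subgroup.zpowers x₁ ≤ K := Subgroup.zpowers_le.mpr hx₁K
    have hX₁c : Nat.card (Subgroup.zpowers x₁) = orderOf x₁ := Nat.card_zpowers x₁
    have hX₁M : Subgroup.zpowers x₁ ≤ M := hX₁K.trans hK.1
    have hX₁1 : Subgroup.zpowers x₁ ≠ ⊥ := fun h => hx₁1 (Subgroup.zpowers_eq_bot.mp h)
    have hNtop : Subgroup.normalizer ((Subgroup.zpowers x₁ : Subgroup G) : Set G) ≠ ⊤ := by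
      intro h
      have hXn : (Subgroup.zpowers x₁).Normal := Subgroup.normalizer_eq_top_iff.mp h
      rcases hXn.eq_bot_or_eq_top with h1 | h1
      · exact hX₁1 h1
      · apply hM.1
        rw [eq_top_iff, ← h1]
        exact hX₁M
    obtain ⟨L, hL, hNL⟩ := (eq_top_or_exists_le_coatom _).resolve_left hNtop
    have hSL : (S : Subgroup ↥(sigmaCore M)).map (sigmaCore M).subtype ≤ L := by
      intro s hs
      apply hNL
      apply Subgroup.centralizer_le_normalizer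
      have hsK : s ∈ Subgroup.centralizer (K : Set G) := (hSK hs).2
      rw [Subgroup.mem_centralizer_iff]
      intro w hw
      exact hsK w (hX₁K hw)
    have hLM : L = M := (huniq S).unique ⟨hL, hSL⟩ ⟨hM, hSM⟩
    obtain ⟨-, -, h3⟩ := h30 M hM K hK hK1
    obtain ⟨-, -, hstar⟩ := h3 (Subgroup.zpowers x₁) hX₁K (by rw [hX₁c]; exact hx₁p)
    have hX₁σ : Subgroup.zpowers x₁ ≤ sigmaCore M := by
      have h5 := hstar L hL hNL
      rwa [hLM] at h5
    have hp₁κ : orderOf x₁ ∈ kappa M :=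
      hK.2.1 _ hx₁p (by rw [← hX₁c]; exact Subgroup.card_dvd_of_le hX₁K)
    exact hp₁κ.2.2.1 (hHallM.2.1 _ hx₁p (by rw [← hX₁c]; exact Subgroup.card_dvd_of_le hX₁σ))
  · -- clause 4
    intro Y hY hYK
    have hY1 : Y ≠ ⊥ := by
      rintro rfl
      exact hYK (bot_inf_eq _)
    obtain ⟨g, hg⟩ := Cfsg.Agent.S1425.result hG M hM Y hY1 hY
    have hgM : g ∈ M := by
      by_contra hgM
      have hgM' : g⁻¹ ∉ M := fun h => hgM (by simpa using M.inv_mem h)
      apply hYK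
      rw [eq_bot_iff, ← h1 g⁻¹ hgM']
      intro w hw
      refine ⟨hw.2, ?_⟩
      refine ⟨g * w * g⁻¹, hσM (hg ⟨w, hw.1, rfl⟩), ?_⟩
      show g⁻¹ * (g * w * g⁻¹) * g⁻¹⁻¹ = w
      group
    intro w hw
    have h2 : g * w * g⁻¹ ∈ sigmaCore M := hg ⟨w, hw, rfl⟩
    have hnorm := Cfsg.Agent.Lib.helper13.le_normalizer_sigmaCore M (M.inv_mem hgM)
    have h3 := (Subgroup.mem_normalizer_iff.mp hnorm (g * w * g⁻¹)).mp h2
    have h4 : g⁻¹ * (g * w * g⁻¹) * g⁻¹⁻¹ = w := by group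
    rwa [h4] at h3

end Cfsg.Agent.Lib.helper59.BG1431
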