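import Mathlib
import Cfsg.Agent.Lib.helper59.BG1431Main
import Cfsg.Agent.Lib.helper71.BGKs
import Cfsg.Agent.Lib.helper13.BGZhat

/-!
# S1431 (B-G Corollary 14.3) from S1430 alone

The key lemma is `helper71.BGKs.ks_beta_or_comm` (paper proof by helper13).
-/

set_option autoImplicit false
open Cfsg

namespace Cfsg.Agent.Lib.helper59.BG1431

variable {G : Type*} [Group G]

/-- The key lemma, from S1430. -/
theorem hKey_of_h1430 [Finite G] (hG : IsMinSimpleOddOrder G)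
    (h30 : Cfsg.Agent.Lib.helper69.H1430 G) : HKey G := by
  intro M hM K hK hK1 p hp X hX hXc
  have h := Cfsg.Agent.Lib.helper71.BGKs.ks_beta_or_comm hG h30 M hM K hK hK1 X hX
    (by rw [hXc]; exact hp)
  rwa [hXc] at h

/-- The statement S1431, with S1430 as a hypothesis. -/
theorem s1431_of_h1430 [Finite G] (hG : IsMinSimpleOddOrder G)
    (h30 : Cfsg.Agent.Lib.helper69.H1430 G)
    (M : Subgroup G) (hM : IsCoatom M) (K : Subgroup G) (hK : IsPiHallOf (kappa M) K M)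
    (hK1 : K ≠ ⊥) :
    (∀ g : G, g ∉ M → (sigmaCore M ⊓ Subgroup.centralizer (K : Set G)) ⊓
        M.map (MulAut.conj g).toMonoidHom = ⊥) ∧
      (∀ g ∈ M, g ∉ K ⊔ (sigmaCore M ⊓ Subgroup.centralizer (K : Set G)) →
        K ⊓ K.map (MulAut.conj g).toMonoidHom = ⊥) ∧
      (∀ (p : ℕ), p.Prime →
        p ∣ Nat.card ↥(sigmaCore M ⊓ Subgroup.centralizer (K : Set G)) →
        ∀ S : Sylow p ↥(sigmaCore M),
          InUniqueMaximal ((S : Subgroup ↥(sigmaCore M)).map (sigmaCore M).subtype) ∧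
          (S : Subgroup ↥(sigmaCore M)).map (sigmaCore M).subtype ≤ M ∧
          ¬ (S : Subgroup ↥(sigmaCore M)).map (sigmaCore M).subtype ≤
            (sigmaCore M ⊓ Subgroup.centralizer (K : Set G))) ∧
      ∀ Y : Subgroup G, (∀ p : ℕ, p.Prime → p ∣ Nat.card Y → p ∈ sigma M) →
        Y ⊓ (sigmaCore M ⊓ Subgroup.centralizer (K : Set G)) ≠ ⊥ → Y ≤ sigmaCore M :=
  s1431_of hG h30 (hKey_of_h1430 hG h30) M hM K hK hK1

/-- helper13's hypothesis `H1431` (first two clauses of S1431), from S1430. -/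
theorem h1431_of_h1430 [Finite G] (hG : IsMinSimpleOddOrder G)
    (h30 : Cfsg.Agent.Lib.helper69.H1430 G) : Cfsg.Agent.Lib.helper13.H1431 G := by
  intro M hM K hK hK1
  obtain ⟨h1, h2, -, -⟩ := s1431_of_h1430 hG h30 M hM K hK hK1
  exact ⟨h1, h2⟩

end Cfsg.Agent.Lib.helper59.BG1431
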