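import Mathlib
import Cfsg.Prelude.Def_OddOrderLocal
import Cfsg.Agent.S1350
import Cfsg.Agent.S1351
import Cfsg.Agent.S1352
import Cfsg.Agent.S1361
import Cfsg.Agent.S1366
import Cfsg.Agent.S1375
import Cfsg.Agent.S1424
import Cfsg.Agent.Lib.helper3.BG1390
import Cfsg.Agent.Lib.helper3.ZgBase
import Cfsg.Agent.Lib.helper11.BGT3Wrap
import Cfsg.Agent.Lib.helper25.BG1367
import Cfsg.Agent.Lib.helper29.Basic
import Cfsg.Agent.Lib.helper69.BGKappaA
import Cfsg.Agent.Lib.helper71.BGTenA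
import Cfsg.Agent.Lib.helper71.BGTenB

/-!
# S1376, part A: the setting

`x ∈ M_σ#`, `C_G(x) ≰ M`, `N` the maximal subgroup over `C_G(x)`, `κ(N) ≠ ∅`.  We produce a
standard factorisation `N = K U N_σ` with `M ∩ N = U K`, `x ∈ U`, the partner `N*` of `N`, and
(from the frozen S1435, applied with `H := M`) `κ(M) = ∅`, `U ≤ M_σ`, `E := M ∩ N*` a complement
of `M_σ` in `M` and `K ≤ F(E)`.
-/

set_option autoImplicit false

namespace Cfsg.Agent.Lib.helper59.BG1376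

open Cfsg Subgroup

variable {G : Type*} [Group G]

/-- The frozen statement S1435, as a hypothesis. -/
def H1435 (G : Type*) [Group G] : Prop :=
  ∀ (M : Subgroup G) (_ : IsCoatom M) (K U : Subgroup G) (_ : IsSigmaDecomposition M K U)
    (_ : K ≠ ⊥) (_ : U ≠ ⊥) (Mstar : Subgroup G) (_ : IsCoatom Mstar)
    (_ : K = sigmaCore Mstar ⊓
      centralizer ((sigmaCore M ⊓ centralizer (K : Set G) : Subgroup G) : Set G))
    (_ : IsPiHallOf (kappa Mstar) (sigmaCore M ⊓ centralizer (K : Set G)) Mstar)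
    (r : ℕ) [Fact r.Prime] (_ : r ∣ Nat.card U) (R : Sylow r U) (H : Subgroup G) (_ : IsCoatom H)
    (_ : normalizer (((R : Subgroup U).map U.subtype : Subgroup G) : Set G) ≤ H),
    kappa H = ∅ ∧ U ≤ sigmaCore H ∧ M ⊓ H = U ⊔ K ∧ ¬ H ⊓ normalizer (U : Set G) ≤ M ∧
      K ≤ fittingOf (H ⊓ Mstar) ∧ IsComplIn (H ⊓ Mstar) (sigmaCore H) H

/-- The setting of S1376. -/
structure Setting (M N K U Ns : Subgroup G) (x : G) : Prop where
  hM : IsCoatom M
  hN : IsCoatom N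
  hNs : IsCoatom Ns
  hKU : IsSigmaDecomposition N K U
  hK1 : K ≠ ⊥
  hU1 : U ≠ ⊥
  hKst : K = sigmaCore Ns ⊓
    centralizer ((sigmaCore N ⊓ centralizer (K : Set G) : Subgroup G) : Set G)
  hKstH : IsPiHallOf (kappa Ns) (sigmaCore N ⊓ centralizer (K : Set G)) Ns
  hx : x ∈ sigmaCore M
  hx1 : x ≠ 1
  hxM : ¬ centralizer ({x} : Set G) ≤ M
  hxN : centralizer ({x} : Set G) ≤ N
  hxU : x ∈ U
  hκ : kappa M = ∅
  hUσ : U ≤ sigmaCore M
  hMN : N ⊓ M = U ⊔ K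
  hnorm : ¬ M ⊓ normalizer (U : Set G) ≤ N
  hKF : K ≤ fittingOf (M ⊓ Ns)
  hE : IsComplIn (M ⊓ Ns) (sigmaCore M) M

/-- If `C_G(X) ≤ N` and `N` is the only maximal subgroup over `C_G(X)`, then `N_G(X) ≤ N`. -/
theorem normalizer_le_of_cent_unique [Finite G] (hG : IsMinSimpleOddOrder G) {N X : Subgroup G}
    (hN : IsCoatom N) (hc : centralizer (X : Set G) ≤ N)
    (hu : ∀ L : Subgroup G, IsCoatom L → centralizer (X : Set G) ≤ L → L = N) :
    normalizer (X : Set G) ≤ N := by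
  intro g hg
  have hL : IsCoatom (N.map (MulAut.conj g).toMonoidHom) :=
    Cfsg.Agent.Lib.helper71.BGA.isCoatom_map_conj hN g
  have hle : centralizer (X : Set G) ≤ N.map (MulAut.conj g).toMonoidHom := by
    intro c hc'
    refine ⟨g⁻¹ * c * g, hc ?_, ?_⟩
    · rw [mem_centralizer_iff] at hc' ⊢
      intro y hy
      have hy' : g * y * g⁻¹ ∈ X := (mem_normalizer_iff.mp hg y).mp hy
      have h1 := hc' _ hy'
      have e1 : y * (g⁻¹ * c * g) = g⁻¹ * ((g * y * g⁻¹) * c) * g := by group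
      have e2 : g⁻¹ * c * g * y = g⁻¹ * (c * (g * y * g⁻¹)) * g := by group
      rw [e1, e2, h1]
    · show g * (g⁻¹ * c * g) * g⁻¹ = c
      group
  have h1 := hu _ hL hle
  -- `g ∈ N_G(N) = N`
  by_contra hgN
  have hnorm : N < N ⊔ zpowers g := by
    refine lt_of_le_of_ne le_sup_left ?_
    intro h
    apply hgN
    rw [h]
    exact mem_sup_right (mem_zpowers g)
  have htop := hN.2 _ hnorm
  have hNn : N ⊔ zpowers g ≤ normalizer (N : Set G) := by
    refine sup_le le_normalizer ?_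
    rw [zpowers_le]
    rw [mem_normalizer_iff]
    intro y
    constructor
    · intro hy
      have : g * y * g⁻¹ ∈ N.map (MulAut.conj g).toMonoidHom := ⟨y, hy, rfl⟩
      rwa [h1] at this
    · intro hy
      rw [← h1] at hy
      obtain ⟨z, hz, hzz⟩ := hy
      have e : z = y := by
        have : g * z * g⁻¹ = g * y * g⁻¹ := hzz
        have h2 := mul_right_cancel this
        exact mul_left_cancel h2
      rwa [e] at hz
  rw [htop, top_le_iff] at hNn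
  have hnormal : N.Normal := normalizer_eq_top_iff.mp hNn
  obtain ⟨hodd, hsimple, hna, hsolv⟩ := id hG
  rcases hsimple.eq_bot_or_eq_top_of_normal N hnormal with h | h
  · -- `N = ⊥` is not a coatom in a nonabelian group... use `g ∉ N` and `N ⊔ ⟨g⟩ = ⊤`
    rw [h, bot_sup_eq] at htop
    -- `G` cyclic, hence commutative, hence `X`'s centralizer is `⊤ ≤ N = ⊥`
    have hcomm : ∀ a b : G, a * b = b * a := by
      intro a b
      have ha : a ∈ zpowers g := by rw [htop]; exact mem_top a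
      have hb : b ∈ zpowers g := by rw [htop]; exact mem_top b
      obtain ⟨i, rfl⟩ := ha
      obtain ⟨j, rfl⟩ := hb
      rw [← zpow_add, ← zpow_add, add_comm]
    have hgc : g ∈ centralizer (X : Set G) := by
      rw [mem_centralizer_iff]
      intro y _
      exact hcomm y g
    exact hgN (hc hgc)
  · exact hN.1 h

/-- The setting of S1376, from the frozen S1435 (used with `H := M`). -/
theorem setting [Finite G] (hG : IsMinSimpleOddOrder G) (h35 : H1435 G)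
    (M : Subgroup G) (hM : IsCoatom M) (x : G) (hx : x ∈ sigmaCore M) (hx1 : x ≠ 1)
    (hxM : ¬ centralizer ({x} : Set G) ≤ M)
    (N : Subgroup G) (hN : IsCoatom N) (hxN : centralizer ({x} : Set G) ≤ N)
    (hkN : (kappa N).Nonempty) :
    ∃ K U Ns : Subgroup G, Setting M N K U Ns x := by
  classical
  obtain ⟨N₀, ⟨hN₀, hxN₀⟩, huniq, hσF, -, -, hcomplMN, hdec⟩ :=
    Cfsg.Agent.S1375.result hG M hM x hx hx1 hxM
  obtain rfl : N = N₀ := huniq N hN hxN
  obtain ⟨⟨K₀, hK₀⟩, hcyc⟩ := Cfsg.Agent.S1351.result hG N hN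
  have hK₀c := hcyc K₀ hK₀
  obtain ⟨⟨U₀, hKU₀⟩, -⟩ := Cfsg.Agent.S1352.result hG N hN K₀ hK₀c hK₀
  have hHall : IsPiHallOf (sigma N) (sigmaCore N) N := (Cfsg.Agent.S1350.result hG N hN).1
  have hHallM : IsPiHallOf (sigma M) (sigmaCore M) M := (Cfsg.Agent.S1350.result hG M hM).1
  have hUH₀ := Cfsg.Agent.Lib.helper69.bgk_decomp_hall hHall hKU₀
  have hE₀ : IsComplIn (U₀ ⊔ K₀) (sigmaCore N) N :=
    Cfsg.Agent.Lib.helper25.BG1367.compl_of_halls N K₀ U₀ hHall hKU₀.hall hUH₀ hKU₀.normal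
  obtain ⟨g, hgN, hg⟩ :=
    Cfsg.Agent.Lib.helper11.compl_sigmaCore_conj hG N hN (U₀ ⊔ K₀) (M ⊓ N) hE₀ hcomplMN
  have hnσ : N ≤ normalizer (sigmaCore N : Set G) :=
    Cfsg.Agent.Lib.helper71.BGA.le_normalizer_sigmaCore N
  have hKU := Cfsg.Agent.Lib.helper3.BG1390.sigmaDecomp_conj hKU₀ hnσ hgN
  obtain ⟨K, hKdef⟩ : ∃ K : Subgroup G, K = K₀.map (MulAut.conj g).toMonoidHom := ⟨_, rfl⟩
  obtain ⟨U, hUdef⟩ : ∃ U : Subgroup G, U = U₀.map (MulAut.conj g).toMonoidHom := ⟨_, rfl⟩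
  rw [← hKdef, ← hUdef] at hKU
  have hMN : M ⊓ N = U ⊔ K := by rw [hg, Subgroup.map_sup, hKdef, hUdef]
  have hUH := Cfsg.Agent.Lib.helper69.bgk_decomp_hall hHall hKU
  have hKN : K ≤ N := hKU.hall.1
  have hUN : U ≤ N := hKU.compl.1
  -- `K ≠ ⊥`
  have hK1 : K ≠ ⊥ := by
    obtain ⟨p, hp⟩ := hkN
    intro h0
    have h1 := hKU.hall.2.2 p hp.1 hp
    have h2 := Cfsg.Agent.Lib.helper69.bgk_card_mul_relIndex hKN
    rw [h0, Subgroup.card_bot, one_mul] at h2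
    rw [h0, h2] at h1
    exact h1 hp.2.1
  obtain ⟨hU1, hxA, hxNσ⟩ := hdec K U hKU
  have hxMM : x ∈ M := Cfsg.Agent.Lib.helper71.BGA.sigmaCore_le M hx
  have hxNN : x ∈ N := hxA.1.1
  -- cards
  have hσU : sigmaCore N ⊓ U = ⊥ := by
    rw [eq_bot_iff]
    rintro y ⟨hy1, hy2⟩
    have : y ∈ U ⊓ (K ⊔ sigmaCore N) := ⟨hy2, mem_sup_right hy1⟩
    rwa [hKU.compl.2.2.1] at this
  have hcUσ : Nat.card ↥(sigmaCore N ⊔ U) = Nat.card (sigmaCore N) * Nat.card U :=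
    Cfsg.Agent.Lib.helper3.zg_card_sup (sigmaCore N) U (hUN.trans hnσ) hσU
  have hKdisj : K ⊓ (U ⊔ sigmaCore N) = ⊥ := by
    apply disjoint_iff.mp
    apply Subgroup.disjoint_of_coprime_natCard
    rw [sup_comm, hcUσ]
    apply Nat.coprime_of_dvd
    intro k hk h1 h2
    have hκ := hKU.hall.2.1 k hk h1
    rcases (Nat.Prime.dvd_mul hk).mp h2 with h | h
    · exact hκ.2.2.1 (hHall.2.1 k hk h)
    · exact (hUH.2.1 k hk h).2.1 hκ
  -- `x ∈ U`
  have hxU : x ∈ U := by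
    have hxE : x ∈ U ⊔ K := by rw [← hMN]; exact ⟨hxMM, hxNN⟩
    obtain ⟨u, hu, k, hk, rfl⟩ :=
      Cfsg.Agent.Lib.helper29.exists_mul_of_mem_sup_of_le_normalizer hKU.normal hxE
    have hk' : k ∈ K ⊓ (U ⊔ sigmaCore N) := by
      refine ⟨hk, ?_⟩
      have e : k = u⁻¹ * (u * k) := by group
      rw [e]
      exact Subgroup.mul_mem _ (Subgroup.inv_mem _ (mem_sup_left hu)) hxA.2
    rw [hKdisj, mem_bot] at hk'
    rw [hk', mul_one]
    exact hu
  -- a prime `q` dividing the order of `x`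
  have hox : orderOf x ≠ 1 := fun h => hx1 (orderOf_eq_one_iff.mp h)
  obtain ⟨q, hq, hqx⟩ := Nat.exists_prime_and_dvd hox
  have : Fact q.Prime := ⟨hq⟩
  have hqU : q ∣ Nat.card U := by
    have h1 : orderOf (⟨x, hxU⟩ : U) ∣ Nat.card U := orderOf_dvd_natCard _
    rw [Subgroup.orderOf_mk] at h1
    exact hqx.trans h1
  have hqσ : q ∈ sigma M := by
    have h1 : orderOf (⟨x, hx⟩ : sigmaCore M) ∣ Nat.card (sigmaCore M) := orderOf_dvd_natCard _
    rw [Subgroup.orderOf_mk] at h1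
    exact hHallM.2.1 q hq (hqx.trans h1)
  -- the element `x₀` of order `q`
  obtain ⟨x₀, hx₀def⟩ : ∃ x₀ : G, x₀ = x ^ (orderOf x / q) := ⟨_, rfl⟩
  have hx₀o : orderOf x₀ = q := by
    rw [hx₀def]
    exact orderOf_pow_orderOf_div (orderOf_pos x).ne' hqx
  have hx₀1 : x₀ ≠ 1 := by
    intro h
    rw [h, orderOf_one] at hx₀o
    exact hq.one_lt.ne hx₀o
  have hx₀U : x₀ ∈ U := by rw [hx₀def]; exact pow_mem hxU _
  obtain ⟨X, hXdef⟩ : ∃ X : Subgroup G, X = zpowers x₀ := ⟨_, rfl⟩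
  have hXU : X ≤ U := by rw [hXdef, zpowers_le]; exact hx₀U
  have hX1 : X ≠ ⊥ := by
    intro h
    have : x₀ ∈ X := by rw [hXdef]; exact mem_zpowers x₀
    rw [h, mem_bot] at this
    exact hx₀1 this
  have hXq : IsPGroup q X := by
    apply IsPGroup.of_card (n := 1)
    rw [hXdef, Nat.card_zpowers, hx₀o, pow_one]
  have hXM : X ≤ M := by
    rw [hXdef, zpowers_le, hx₀def]
    exact pow_mem hxMM _
  -- `C_{N_σ}(X) ≠ 1`
  have hXc : sigmaCore N ⊓ centralizer (X : Set G) ≠ ⊥ := by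
    obtain ⟨y, hy, hy1, hxy⟩ := hxA.1.2
    intro h
    have : y ∈ sigmaCore N ⊓ centralizer (X : Set G) := by
      refine Subgroup.mem_inf.mpr ⟨hy, ?_⟩
      rw [mem_centralizer_iff]
      intro z hz
      rw [hXdef] at hz
      obtain ⟨i, rfl⟩ := hz
      have hc : Commute x y := hxy
      have hc2 : Commute x₀ y := by rw [hx₀def]; exact hc.pow_left _
      exact (hc2.zpow_left i).eq
    rw [h, mem_bot] at this
    exact hy1 this
  obtain ⟨hCX, hCXu⟩ := Cfsg.Agent.S1361.result hG N hN K U hKU X hXU hX1 hXc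
  have hNX : normalizer (X : Set G) ≤ N := normalizer_le_of_cent_unique hG hN hCX hCXu
  have hne : N ≠ M := by
    rintro rfl
    exact hxM hxN
  -- Sylow subgroups
  have hXq' : IsPGroup q (X.subgroupOf U) := hXq.comap_subtype
  obtain ⟨R, hR⟩ := hXq'.exists_le_sylow
  obtain ⟨P, hPdef⟩ : ∃ P : Subgroup G, P = (R : Subgroup U).map U.subtype := ⟨_, rfl⟩
  have hPU : P ≤ U := by rw [hPdef]; exact map_subtype_le _
  have hPMN : P ≤ M ⊓ N := by rw [hMN]; exact hPU.trans le_sup_left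
  have hXP : X ≤ P := by
    intro z hz
    rw [hPdef]
    exact ⟨⟨z, hXU hz⟩, hR (mem_subgroupOf.mpr hz), rfl⟩
  have hUK : U ⊓ K = ⊥ := by
    rw [eq_bot_iff]
    rintro y ⟨hy1, hy2⟩
    have : y ∈ U ⊓ (K ⊔ sigmaCore N) := ⟨hy1, mem_sup_left hy2⟩
    rwa [hKU.compl.2.2.1] at this
  have hcMN : Nat.card ↥(M ⊓ N) = Nat.card U * Nat.card K := by
    rw [hMN]
    exact Cfsg.Agent.Lib.helper3.zg_card_sup U K hKU.normal hUK
  have hqK : ¬ q ∣ Nat.card K := fun h =>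
    (hUH.2.1 q hq hqU).2.1 (hKU.hall.2.1 q hq h)
  have hcP : Nat.card P = q ^ (Nat.card U).factorization q := by
    rw [hPdef, Subgroup.card_map_of_injective U.subtype_injective]
    exact Sylow.card_eq_multiplicity R
  have hcP' : Nat.card (P.subgroupOf (M ⊓ N)) = q ^ (Nat.card ↥(M ⊓ N)).factorization q := by
    rw [Nat.card_congr (Subgroup.subgroupOfEquivOfLe hPMN).toEquiv, hcP, hcMN,
      Nat.factorization_mul Nat.card_pos.ne' Nat.card_pos.ne']
    simp [Nat.factorization_eq_zero_of_not_dvd hqK]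
  obtain ⟨S, hS⟩ : ∃ S : Sylow q ↥(M ⊓ N), (S : Subgroup ↥(M ⊓ N)) = P.subgroupOf (M ⊓ N) :=
    ⟨Sylow.ofCard (P.subgroupOf (M ⊓ N)) hcP', rfl⟩
  have hSmap : (S : Subgroup ↥(M ⊓ N)).map (M ⊓ N).subtype = P := by
    rw [hS]
    exact Subgroup.map_subgroupOf_eq_of_le hPMN
  have hXS : X ≤ (S : Subgroup ↥(M ⊓ N)).map (M ⊓ N).subtype := by rw [hSmap]; exact hXP
  obtain ⟨-, hNS, -⟩ := Cfsg.Agent.S1424.result hG M hM q hqσ X hXq hX1 hXM N hN hne hNX S hXS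
  rw [hSmap, hPdef] at hNS
  -- the partner
  obtain ⟨Ns, ⟨hNs, hKst, hKstH⟩, -⟩ := Cfsg.Agent.S1366.result hG N hN K U hKU hK1
  obtain ⟨hκ, hUσ, hNM, hnorm, hKF, hE⟩ :=
    h35 N hN K U hKU hK1 hU1 Ns hNs hKst hKstH q hqU R M hM hNS
  exact ⟨K, U, Ns, ⟨hM, hN, hNs, hKU, hK1, hU1, hKst, hKstH, hx, hx1, hxM, hxN, hxU, hκ, hUσ,
    hNM, hnorm, hKF, hE⟩⟩

end Cfsg.Agent.Lib.helper59.BG1376
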