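import Mathlib
import Cfsg.Agent.Lib.helper3.SylowLemmas
import Cfsg.Agent.Lib.helper3.PGroupNormal
import Cfsg.Agent.Lib.helper59.UniqueOrderP

set_option autoImplicit false

/-!
# Subgroups of type `(p, p)` in finite `p`-groups

* `closure_comm_pow`: the closure of pairwise commuting elements of exponent `n` is abelian of
  exponent `n`.
* `exists_commuting_pair_of_not_uniqueOrderP`: a finite `p`-group with two subgroups of order `p`
  has a central element `z` of order `p` and an element `t` of order `p` outside `⟨z⟩`.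
* `exists_rank_two_of_commuting`: two commuting elements of order `p` generating different
  subgroups generate an abelian subgroup of order `p ^ 2` and exponent `p`.
* `not_isCyclic_of_card_sq_of_exp`: such a subgroup is not cyclic.
-/

namespace Cfsg.Agent.Lib.helper59

open Subgroup

/-- The closure of a set of pairwise commuting elements of exponent `n` is abelian of
exponent `n`. -/
theorem closure_comm_pow {G : Type*} [Group G] (n : ℕ) (K : Set G)
    (hc : ∀ x ∈ K, ∀ y ∈ K, x * y = y * x) (h2 : ∀ x ∈ K, x ^ n = 1) :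
    (∀ x ∈ closure K, ∀ y ∈ closure K, x * y = y * x) ∧ (∀ x ∈ closure K, x ^ n = 1) := by
  have hcomm : ∀ x ∈ closure K, ∀ y ∈ closure K, x * y = y * x := by
    intro x hx y hy
    have h1 : closure K ≤ centralizer K := by
      rw [closure_le]
      intro a ha
      rw [SetLike.mem_coe, mem_centralizer_iff]
      intro b hb
      exact hc b hb a ha
    have h2' : closure K ≤ centralizer (closure K : Set G) := by
      rw [closure_le]
      intro a ha
      rw [SetLike.mem_coe, mem_centralizer_iff]
      intro b hb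
      exact ((mem_centralizer_iff.mp (h1 hb)) a ha).symm
    exact (mem_centralizer_iff.mp (h2' hy)) x hx
  refine ⟨hcomm, ?_⟩
  intro x hx
  induction hx using closure_induction with
  | mem x hx => exact h2 x hx
  | one => simp
  | mul x y hx hy ihx ihy =>
    have hxy : Commute x y := hcomm x hx y hy
    rw [hxy.mul_pow, ihx, ihy, one_mul]
  | inv x hx ih => rw [inv_pow, ih, inv_one]

/-- A finite `p`-group with two different subgroups of order `p` has a central element `z` of
order `p` and an element `t` of order `p` outside `⟨z⟩`. -/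
theorem exists_commuting_pair_of_not_uniqueOrderP {p : ℕ} [Fact p.Prime] {P : Type*} [Group P]
    [Finite P] (hP : IsPGroup p P) (hU : ¬ UniqueOrderP p P) :
    ∃ t z : P, orderOf t = p ∧ orderOf z = p ∧ z ∈ center P ∧ t ∉ zpowers z := by
  have hpP : p.Prime := Fact.out
  unfold UniqueOrderP at hU
  push Not at hU
  obtain ⟨H, K, hH, hK, hne⟩ := hU
  have hnt : (⊤ : Subgroup P) ≠ ⊥ := by
    intro h
    have h1 : H = ⊥ := by rw [eq_bot_iff, ← h]; exact le_top
    rw [h1, Subgroup.card_bot] at hH
    exact hpP.one_lt.ne hH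
  obtain ⟨z, -, hzc, hz1, hzp⟩ :=
    Cfsg.Agent.Lib.helper3.exists_central_of_normal_ne_bot hP ⊤ hnt
  have hoz : orderOf z = p := orderOf_eq_prime hzp hz1
  have key : ∀ T : Subgroup P, Nat.card T = p → T ≠ zpowers z →
      ∃ t : P, orderOf t = p ∧ t ∉ zpowers z := by
    intro T hT hTz
    have hTbot : T ≠ ⊥ := by
      intro h
      rw [h, Subgroup.card_bot] at hT
      exact hpP.one_lt.ne hT
    obtain ⟨⟨t, htT⟩, ht1⟩ := (Subgroup.ne_bot_iff_exists_ne_one).mp hTbot
    have ht1' : t ≠ 1 := fun h => ht1 (Subtype.ext h)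
    have hot : orderOf t = p := by
      have hdvd : orderOf t ∣ p := by
        rw [← hT]; exact Subgroup.orderOf_dvd_natCard T htT
      rcases (Nat.dvd_prime hpP).mp hdvd with h | h
      · exact absurd (orderOf_eq_one_iff.mp h) ht1'
      · exact h
    refine ⟨t, hot, fun htz => hTz ?_⟩
    have e1 : zpowers t = zpowers z :=
      Subgroup.eq_of_le_of_card_ge (zpowers_le.mpr htz) (by
        rw [Nat.card_zpowers, Nat.card_zpowers, hot, hoz])
    have e2 : zpowers t = T :=
      Subgroup.eq_of_le_of_card_ge (zpowers_le.mpr htT) (by rw [Nat.card_zpowers, hot, hT])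
    rw [← e2, e1]
  by_cases hHz : H = zpowers z
  · obtain ⟨t, hot, htz⟩ := key K hK (fun h => hne (hHz.trans h.symm))
    exact ⟨t, z, hot, hoz, hzc, htz⟩
  · obtain ⟨t, hot, htz⟩ := key H hH hHz
    exact ⟨t, z, hot, hoz, hzc, htz⟩

/-- Two commuting elements of order `p` generating different subgroups generate an abelian
subgroup of order `p ^ 2` and exponent `p`. -/
theorem exists_rank_two_of_commuting {G : Type*} [Group G] [Finite G] {p : ℕ} [Fact p.Prime]
    {t z : G} (ht : orderOf t = p) (hz : orderOf z = p) (hcomm : t * z = z * t)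
    (hne : t ∉ zpowers z) :
    ∃ B : Subgroup G, Nat.card B = p ^ 2 ∧ (∀ x ∈ B, ∀ y ∈ B, x * y = y * x) ∧
      (∀ x ∈ B, x ^ p = 1) ∧ t ∈ B ∧ z ∈ B := by
  have hpP : p.Prime := Fact.out
  have hcx : Nat.card (zpowers t) = p := by rw [Nat.card_zpowers, ht]
  have hZcard : Nat.card (zpowers z) = p := by rw [Nat.card_zpowers, hz]
  have hinf : zpowers t ⊓ zpowers z = ⊥ := by
    by_contra hne'
    have h1 : Nat.card (zpowers t ⊓ zpowers z : Subgroup G) ∣ p := by
      rw [← hcx]; exact Subgroup.card_dvd_of_le inf_le_left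
    rcases (Nat.dvd_prime hpP).mp h1 with h2 | h2
    · exact hne' (Subgroup.card_eq_one.mp h2)
    · have h3 : zpowers t ⊓ zpowers z = zpowers t :=
        Subgroup.eq_of_le_of_card_ge inf_le_left (by rw [h2, hcx])
      apply hne
      have h4 : t ∈ zpowers t ⊓ zpowers z := by rw [h3]; exact mem_zpowers t
      exact h4.2
  have hnorm : zpowers t ≤ normalizer (zpowers z : Set G) := by
    rw [zpowers_le, Subgroup.mem_normalizer_iff]
    intro h
    have hc : ∀ w ∈ zpowers z, t * w * t⁻¹ = w := by
      intro w hw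
      obtain ⟨i, rfl⟩ := mem_zpowers_iff.mp hw
      have : Commute t (z ^ i) := (show Commute t z from hcomm).zpow_right i
      exact this.mul_inv_cancel
    have hc' : ∀ w ∈ zpowers z, t⁻¹ * w * t = w := by
      intro w hw
      have h1 := hc w hw
      calc t⁻¹ * w * t = t⁻¹ * (t * w * t⁻¹) * t := by rw [h1]
        _ = w := by group
    constructor
    · intro hh; rw [hc h hh]; exact hh
    · intro hh
      have e : h = t⁻¹ * (t * h * t⁻¹) * t := by group
      rw [e, hc' _ hh]; exact hh
  have hr := Cfsg.Agent.Lib.helper3.relIndex_inf_eq_of_le_normalizer (zpowers t) (zpowers z) hnorm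
  rw [hinf, Subgroup.relIndex_bot_left, hZcard] at hr
  have hcard : Nat.card (zpowers t ⊔ zpowers z : Subgroup G) = p ^ 2 := by
    have := Cfsg.Agent.Lib.helper3.card_mul_relIndex_of_le
      (le_sup_left : zpowers t ≤ zpowers t ⊔ zpowers z)
    rw [← hr, hcx] at this
    rw [← this, sq]
  have hle : zpowers t ⊔ zpowers z ≤ closure ({t, z} : Set G) :=
    sup_le (zpowers_le.mpr (subset_closure (by simp))) (zpowers_le.mpr (subset_closure (by simp)))
  have hK := closure_comm_pow p ({t, z} : Set G) (by
    intro x hx y hy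
    rcases hx with rfl | hx
    · rcases hy with rfl | hy
      · rfl
      · rw [Set.mem_singleton_iff.mp hy]; exact hcomm
    · rw [Set.mem_singleton_iff.mp hx]
      rcases hy with rfl | hy
      · exact hcomm.symm
      · rw [Set.mem_singleton_iff.mp hy]) (by
    intro x hx
    rcases hx with rfl | hx
    · rw [← ht]; exact pow_orderOf_eq_one x
    · rw [Set.mem_singleton_iff.mp hx, ← hz]; exact pow_orderOf_eq_one z)
  refine ⟨zpowers t ⊔ zpowers z, hcard, fun x hx y hy => hK.1 x (hle hx) y (hle hy),
    fun x hx => hK.2 x (hle hx), ?_, ?_⟩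
  · exact (le_sup_left : zpowers t ≤ _) (mem_zpowers t)
  · exact (le_sup_right : zpowers z ≤ _) (mem_zpowers z)

/-- A subgroup of order `p ^ 2` and exponent `p` is not cyclic. -/
theorem not_isCyclic_of_card_sq_of_exp {G : Type*} [Group G] {p : ℕ} [Fact p.Prime]
    (B : Subgroup G) (hcard : Nat.card B = p ^ 2) (hexp : ∀ x ∈ B, x ^ p = 1) :
    ¬ IsCyclic ↥B := by
  intro hcyc
  obtain ⟨e, he⟩ := (Subgroup.isCyclic_iff_exists_zpowers_eq_top B).mp hcyc
  have heB : e ∈ B := by rw [← he]; exact mem_zpowers e
  have hpP : p.Prime := Fact.out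
  have hle : Nat.card B ≤ p := by
    rw [← he, Nat.card_zpowers]
    exact Nat.le_of_dvd hpP.pos (orderOf_dvd_of_pow_eq_one (hexp e heB))
  rw [hcard] at hle
  have := hpP.one_lt
  nlinarith

end Cfsg.Agent.Lib.helper59
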