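import Mathlib
import Cfsg.Agent.Lib.helper75.QuatAction
import Cfsg.Agent.Lib.helper47.S4Gen

set_option autoImplicit false
set_option linter.unusedSimpArgs false

/-!
# Automorphisms of the quaternion group of order `8`

An automorphism `α` of `Q₈ = QuaternionGroup 2` is determined by the pair `(α (a 1), α (xa 0))`;
the admissible pairs are decided by enumeration.  We get `Aut(Q₈) ≃* S₄` and the facts on outer
involutions needed to recognise `GL(2,3)` and the binary octahedral group.
-/

namespace Cfsg.Agent.Lib.helper59.AutQ8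

open QuaternionGroup

/-- the quaternion group of order `8` -/
abbrev Q8 := QuaternionGroup 2

/-- the map `a i ↦ u ^ i`, `xa i ↦ v * u ^ i` -/
def qw {X : Type*} [Monoid X] (u v : X) : Q8 → X
  | a i => u ^ i.val
  | xa i => v * u ^ i.val

theorem qw_a_one {X : Type*} [Monoid X] (u v : X) : qw u v (a 1) = u := by
  show u ^ (1 : ZMod (2 * 2)).val = u
  have : (1 : ZMod (2 * 2)).val = 1 := rfl
  rw [this, pow_one]

theorem qw_xa_zero {X : Type*} [Monoid X] (u v : X) : qw u v (xa 0) = v := by
  show v * u ^ (0 : ZMod (2 * 2)).val = v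
  have : (0 : ZMod (2 * 2)).val = 0 := rfl
  rw [this, pow_zero, mul_one]

/-- a homomorphism from `Q₈` is given by `qw` of the images of the generators -/
theorem hom_eq_qw {X : Type*} [Group X] (f : Q8 →* X) (q : Q8) :
    f q = qw (f (a 1)) (f (xa 0)) q := by
  rcases q with i | i
  · show f (a i) = f (a 1) ^ i.val
    rw [← map_pow, QuaternionGroup.a_one_pow, ZMod.natCast_zmod_val]
  · show f (xa i) = f (xa 0) * f (a 1) ^ i.val
    rw [← map_pow, QuaternionGroup.a_one_pow, ZMod.natCast_zmod_val, ← map_mul,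
      QuaternionGroup.xa_mul_a, zero_add]

/-- the admissible pairs -/
def VP (u v : Q8) : Prop := u ^ 2 ≠ 1 ∧ v ^ 2 ≠ 1 ∧ v ≠ u ∧ v ≠ u⁻¹

instance (u v : Q8) : Decidable (VP u v) := by unfold VP; infer_instance

set_option maxRecDepth 100000 in
theorem vp_rel : ∀ u v : Q8, VP u v → u ^ (2 * 2) = 1 ∧ v * v = u ^ 2 ∧ v⁻¹ * u * v = u⁻¹ := by
  decide

set_option maxRecDepth 100000 in
theorem vp_inj : ∀ u v : Q8, VP u v → ∀ q r : Q8, qw u v q = qw u v r → q = r := by decide

theorem quatHom_eq_qw (u v : Q8) (h4 : u ^ (2 * 2) = 1) (hv : v * v = u ^ 2)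
    (hc : v⁻¹ * u * v = u⁻¹) (q : Q8) :
    Cfsg.Agent.Lib.helper75.quatHom u v h4 hv hc q = qw u v q := by
  rcases q with i | i <;> rfl

/-- the automorphism attached to an admissible pair -/
noncomputable def autOfPair (u v : Q8) (h : VP u v) : MulAut Q8 :=
  MulEquiv.ofBijective
    (Cfsg.Agent.Lib.helper75.quatHom u v (vp_rel u v h).1 (vp_rel u v h).2.1 (vp_rel u v h).2.2)
    (Finite.injective_iff_bijective.mp (fun q r hqr => vp_inj u v h q r (by
      rw [← quatHom_eq_qw u v (vp_rel u v h).1 (vp_rel u v h).2.1 (vp_rel u v h).2.2,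
        ← quatHom_eq_qw u v (vp_rel u v h).1 (vp_rel u v h).2.1 (vp_rel u v h).2.2]
      exact hqr)))

theorem autOfPair_apply (u v : Q8) (h : VP u v) (q : Q8) : autOfPair u v h q = qw u v q :=
  quatHom_eq_qw u v (vp_rel u v h).1 (vp_rel u v h).2.1 (vp_rel u v h).2.2 q

theorem vp_of_aut (α : MulAut Q8) : VP (α (a 1)) (α (xa 0)) := by
  refine ⟨fun h => ?_, fun h => ?_, fun h => ?_, fun h => ?_⟩
  · rw [← map_pow, ← map_one α] at h
    exact absurd (α.injective h) (by decide)
  · rw [← map_pow, ← map_one α] at h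
    exact absurd (α.injective h) (by decide)
  · exact absurd (α.injective h) (by decide)
  · rw [← map_inv] at h
    exact absurd (α.injective h) (by decide)

theorem aut_apply (α : MulAut Q8) (q : Q8) : α q = qw (α (a 1)) (α (xa 0)) q :=
  hom_eq_qw α.toMonoidHom q

theorem aut_ext {α β : MulAut Q8} (h1 : α (a 1) = β (a 1)) (h2 : α (xa 0) = β (xa 0)) : α = β := by
  apply MulEquiv.ext
  intro q
  rw [aut_apply α, aut_apply β, h1, h2]

set_option maxRecDepth 100000 in
theorem card_vp : Fintype.card {p : Q8 × Q8 // VP p.1 p.2} = 24 := by decide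

theorem card_mulAut_le : Nat.card (MulAut Q8) ≤ 24 := by
  have h : Function.Injective
      (fun α : MulAut Q8 => (⟨(α (a 1), α (xa 0)), vp_of_aut α⟩ : {p : Q8 × Q8 // VP p.1 p.2})) := by
    intro α β hαβ
    have h1 := congrArg (fun x => x.1.1) hαβ
    have h2 := congrArg (fun x => x.1.2) hαβ
    exact aut_ext h1 h2
  have h2 : Nat.card {p : Q8 × Q8 // VP p.1 p.2} = 24 := by
    rw [Nat.card_eq_fintype_card]; exact card_vp
  have := Nat.card_le_card_of_injective _ h
  rwa [h2] at this

/-! ### `Aut(Q₈) ≃* S₄` -/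

set_option maxRecDepth 100000 in
theorem mulAut_q8_equiv_S4 : Nonempty (MulAut Q8 ≃* Equiv.Perm (Fin 4)) := by
  obtain ⟨H, ⟨e⟩⟩ := Cfsg.Agent.Lib.helper47.S4Gen.exists_S4_of_rel
    (autOfPair (a 1) (xa 2) (by decide)) (autOfPair (a 3) (xa 0) (by decide))
    (autOfPair (xa 0) (xa 1) (by decide)) (autOfPair (a 1) (xa 1) (by decide))
    (by apply aut_ext <;> simp only [MulAut.mul_apply, autOfPair_apply, MulAut.one_apply] <;> decide)
    (by apply aut_ext <;> simp only [MulAut.mul_apply, autOfPair_apply, MulAut.one_apply] <;> decide)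
    (by apply aut_ext <;> simp only [MulAut.mul_apply, autOfPair_apply, MulAut.one_apply] <;> decide)
    (by
      intro h
      have := congrArg (fun α : MulAut Q8 => α (xa 0)) h
      simp only [autOfPair_apply, MulAut.one_apply] at this
      revert this; decide)
    (by
      intro h
      have := congrArg (fun α : MulAut Q8 => α (xa 0)) h
      simp only [autOfPair_apply, MulAut.one_apply] at this
      revert this; decide)
    (by apply aut_ext <;> simp only [MulAut.mul_apply, autOfPair_apply, MulAut.one_apply] <;> decide)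
    (by apply aut_ext <;> simp only [MulAut.mul_apply, autOfPair_apply, MulAut.one_apply] <;> decide)
    (by apply aut_ext <;> simp only [MulAut.mul_apply, autOfPair_apply, MulAut.one_apply] <;> decide)
    (by apply aut_ext <;> simp only [MulAut.mul_apply, autOfPair_apply, MulAut.one_apply] <;> decide)
    (by apply aut_ext <;> simp only [MulAut.mul_apply, autOfPair_apply, MulAut.one_apply] <;> decide)
    (by apply aut_ext <;> simp only [MulAut.mul_apply, autOfPair_apply, MulAut.one_apply] <;> decide)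
    (by apply aut_ext <;> simp only [MulAut.mul_apply, autOfPair_apply, MulAut.one_apply] <;> decide)
  have hH : Nat.card H = 24 := by
    rw [Nat.card_congr e.toEquiv, Nat.card_eq_fintype_card, Fintype.card_perm, Fintype.card_fin]
    rfl
  have htop : H = ⊤ := Subgroup.eq_top_of_le_card H (by rw [hH]; exact card_mulAut_le)
  exact ⟨(Subgroup.topEquiv.symm.trans (MulEquiv.subgroupCongr htop.symm)).trans e⟩

theorem card_mulAut : Nat.card (MulAut Q8) = 24 := by
  obtain ⟨e⟩ := mulAut_q8_equiv_S4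
  rw [Nat.card_congr e.toEquiv, Nat.card_eq_fintype_card, Fintype.card_perm, Fintype.card_fin]
  rfl

/-! ### Facts on `Q₈` and its automorphisms -/

theorem center_q8 : ∀ q : Q8, (∀ r : Q8, q * r = r * q) → q = 1 ∨ q = a 2 := by decide

theorem a2_central : ∀ r : Q8, a 2 * r = r * a 2 := by decide

theorem sq_one_q8 : ∀ q : Q8, q ^ 2 = 1 → q = 1 ∨ q = a 2 := by decide

theorem a2_ne_one : (a 2 : Q8) ≠ 1 := by decide

theorem a2_sq : (a 2 : Q8) ^ 2 = 1 := by decide

set_option maxRecDepth 100000 in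
theorem aut_a2 (α : MulAut Q8) : α (a 2) = a 2 := by
  rw [aut_apply α]
  have h : ∀ u v : Q8, VP u v → qw u v (a 2) = a 2 := by decide
  exact h _ _ (vp_of_aut α)

/-- an automorphism of order `3` -/
noncomputable def γ : MulAut Q8 := autOfPair (xa 0) (xa 1) (by decide)

/-- an outer automorphism of order `2` -/
noncomputable def τ : MulAut Q8 := autOfPair (a 3) (xa 3) (by decide)

theorem γ_a : γ (a 1) = xa 0 := by
  rw [γ, autOfPair_apply, qw_a_one]

theorem γ_xa : γ (xa 0) = xa 1 := by
  rw [γ, autOfPair_apply, qw_xa_zero]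

theorem τ_a : τ (a 1) = a 3 := by
  rw [τ, autOfPair_apply, qw_a_one]

theorem τ_xa : τ (xa 0) = xa 3 := by
  rw [τ, autOfPair_apply, qw_xa_zero]

set_option maxRecDepth 100000 in
theorem γ_cube : γ ^ 3 = 1 := by
  have : γ * γ * γ = 1 := by
    apply aut_ext <;> simp only [γ, MulAut.mul_apply, autOfPair_apply, MulAut.one_apply] <;> decide
  rw [pow_succ, pow_two]; exact this

set_option maxRecDepth 100000 in
theorem τ_sq : τ ^ 2 = 1 := by
  have : τ * τ = 1 := by
    apply aut_ext <;> simp only [τ, MulAut.mul_apply, autOfPair_apply, MulAut.one_apply] <;> decide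
  rw [pow_two]; exact this

set_option maxRecDepth 100000 in
theorem τ_γ : τ * γ * τ * γ = 1 := by
  apply aut_ext <;> simp only [τ, γ, MulAut.mul_apply, autOfPair_apply, MulAut.one_apply] <;> decide

theorem γ_ne_one : γ ≠ 1 := by
  intro h
  have := congrArg (fun α : MulAut Q8 => α (a 1)) h
  simp only [γ_a, MulAut.one_apply] at this
  revert this; decide

theorem τ_not_inner : ∀ q : Q8, ¬ (a 3 = q * a 1 * q⁻¹ ∧ xa 3 = q * xa 0 * q⁻¹) := by decide

set_option maxRecDepth 100000 in
theorem conj_τ_pairs : ∀ u v : Q8, VP u v → qw u v u = a 1 → qw u v v = xa 0 →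
    (∀ q : Q8, ¬ (u = q * a 1 * q⁻¹ ∧ v = q * xa 0 * q⁻¹)) →
    ∃ u' v' : Q8, VP u' v' ∧ qw u' v' (a 3) = qw u v u' ∧ qw u' v' (xa 3) = qw u v v' := by
  decide

/-- every outer involution of `Aut(Q₈)` is conjugate to `τ` -/
theorem conj_τ (σ : MulAut Q8) (hσ : σ ^ 2 = 1)
    (hout : ∀ q : Q8, ¬ (σ (a 1) = q * a 1 * q⁻¹ ∧ σ (xa 0) = q * xa 0 * q⁻¹)) :
    ∃ β : MulAut Q8, β * τ = σ * β := by
  have h1 : σ (σ (a 1)) = a 1 := by
    have := congrArg (fun α : MulAut Q8 => α (a 1)) hσ
    simpa [pow_two, MulAut.mul_apply] using this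
  have h2 : σ (σ (xa 0)) = xa 0 := by
    have := congrArg (fun α : MulAut Q8 => α (xa 0)) hσ
    simpa [pow_two, MulAut.mul_apply] using this
  rw [aut_apply σ (σ (a 1))] at h1
  rw [aut_apply σ (σ (xa 0))] at h2
  obtain ⟨u', v', hvp, hu, hv⟩ := conj_τ_pairs _ _ (vp_of_aut σ) h1 h2 hout
  refine ⟨autOfPair u' v' hvp, ?_⟩
  apply aut_ext
  · rw [MulAut.mul_apply, MulAut.mul_apply, τ_a, autOfPair_apply, autOfPair_apply, qw_a_one, hu,
      ← aut_apply σ]
  · rw [MulAut.mul_apply, MulAut.mul_apply, τ_xa, autOfPair_apply, autOfPair_apply, qw_xa_zero, hv,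
      ← aut_apply σ]

end Cfsg.Agent.Lib.helper59.AutQ8
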