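import Mathlib

/-!
# Faithful irreducible modules of `p`-groups with a normal `C_p × C_p`

Let `ρ : G → GL(V)` be faithful and irreducible over `ZMod q`, `p ≠ q`, and let `z` be a central
element of order `p` and `a ∉ ⟨z⟩` of order `p` with `g a g⁻¹ ∈ a ⟨z⟩` for all `g`.  Then the
fixed spaces `W i` of `a z ^ i` (`i < p`) decompose `V`, and they are permuted transitively by `G`
with kernel `C_G(a)` of index `p`.
-/

set_option autoImplicit false
set_option linter.unusedSectionVars false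

namespace Cfsg.Agent.Lib.helper59

section Lin

variable {q : ℕ} [hq : Fact q.Prime] {V : Type*} [AddCommGroup V] [Module (ZMod q) V]
  {G : Type*} [Group G] (ρ : G →* (V ≃ₗ[ZMod q] V))

/-- The endomorphism of `V` given by `g`. -/
def rr (g : G) : Module.End (ZMod q) V := (ρ g : V →ₗ[ZMod q] V)

theorem rr_apply (g : G) (v : V) : rr ρ g v = ρ g v := rfl

theorem rr_mul (g h : G) : rr ρ (g * h) = rr ρ g * rr ρ h := by
  ext v
  simp [rr, map_mul]

theorem rr_one : rr ρ (1 : G) = 1 := by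
  ext v
  simp [rr]

/-- The fixed space of `y`. -/
def fixS (y : G) : Submodule (ZMod q) V := LinearMap.ker (rr ρ y - 1)

theorem mem_fixS (y : G) (v : V) : v ∈ fixS ρ y ↔ ρ y v = v := by
  simp [fixS, sub_eq_zero, rr]

/-- The norm map `1 + y + … + y ^ (p - 1)`. -/
def nrm (p : ℕ) (y : G) : Module.End (ZMod q) V := ∑ t ∈ Finset.range p, rr ρ (y ^ t)

theorem rr_mul_nrm {p : ℕ} {y : G} (hy : y ^ p = 1) : rr ρ y * nrm ρ p y = nrm ρ p y := by
  rw [nrm, Finset.mul_sum]
  have h : ∀ t, rr ρ y * rr ρ (y ^ t) = rr ρ (y ^ (t + 1)) := by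
    intro t
    rw [← rr_mul, ← pow_succ']
  simp_rw [h]
  have h1 := Finset.sum_range_succ (fun t => rr ρ (y ^ t)) p
  have h2 := Finset.sum_range_succ' (fun t => rr ρ (y ^ t)) p
  rw [h1] at h2
  simp only [hy, pow_zero] at h2
  exact (add_right_cancel h2).symm

theorem nrm_mem {p : ℕ} {y : G} (hy : y ^ p = 1) (v : V) : nrm ρ p y v ∈ fixS ρ y := by
  rw [mem_fixS]
  have h := rr_mul_nrm ρ hy
  have h2 := congrArg (fun f : Module.End (ZMod q) V => f v) h
  exact h2

theorem nrm_apply_of_mem (p : ℕ) {y : G} {v : V} (hv : v ∈ fixS ρ y) :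
    nrm ρ p y v = (p : ZMod q) • v := by
  have h : ∀ t : ℕ, rr ρ (y ^ t) v = v := by
    intro t
    induction t with
    | zero => simp [rr]
    | succ t ih =>
      rw [pow_succ, rr_mul, Module.End.mul_apply, rr_apply ρ y, (mem_fixS ρ y v).mp hv, ih]
  rw [nrm, LinearMap.sum_apply]
  simp_rw [h]
  rw [Finset.sum_const, Finset.card_range, Nat.cast_smul_eq_nsmul]

theorem nrm_commute (p : ℕ) {y y' : G} (h : y * y' = y' * y) :
    Commute (nrm ρ p y) (nrm ρ p y') := by
  apply Commute.sum_left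
  intro s _
  apply Commute.sum_right
  intro t _
  have hc : Commute y y' := h
  have h2 : y ^ s * y' ^ t = y' ^ t * y ^ s := (hc.pow_pow s t).eq
  show rr ρ (y ^ s) * rr ρ (y' ^ t) = rr ρ (y' ^ t) * rr ρ (y ^ s)
  rw [← rr_mul, ← rr_mul, h2]

theorem nrm_one (p : ℕ) : nrm ρ p (1 : G) = (p : ZMod q) • (1 : Module.End (ZMod q) V) := by
  rw [nrm]
  simp only [one_pow, rr_one]
  rw [Finset.sum_const, Finset.card_range, Nat.cast_smul_eq_nsmul]

theorem fixS_eq_bot_of_central (hρ : Function.Injective ρ)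
    (hirr : ∀ W : Submodule (ZMod q) V, (∀ g : G, ∀ w ∈ W, ρ g w ∈ W) → W = ⊥ ∨ W = ⊤)
    {y : G} (hyc : y ∈ Subgroup.center G) (hy1 : y ≠ 1) : fixS ρ y = ⊥ := by
  have hinv : ∀ g : G, ∀ w ∈ fixS ρ y, ρ g w ∈ fixS ρ y := by
    intro g w hw
    rw [mem_fixS] at hw ⊢
    have h1 : y * g = g * y := (Subgroup.mem_center_iff.mp hyc g).symm
    calc ρ y (ρ g w) = ρ (y * g) w := by rw [map_mul]; rfl
      _ = ρ (g * y) w := by rw [h1]
      _ = ρ g (ρ y w) := by rw [map_mul]; rfl
      _ = ρ g w := by rw [hw]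
  rcases hirr _ hinv with h | h
  · exact h
  · exfalso
    apply hy1
    apply hρ
    rw [map_one]
    ext v
    have hv : v ∈ fixS ρ y := by rw [h]; trivial
    rw [mem_fixS] at hv
    simpa using hv

end Lin

end Cfsg.Agent.Lib.helper59
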