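import Mathlib
import Cfsg.Agent.Lib.helper59.IrredPGroup

/-!
# Faithful irreducible modules of `p`-groups with a normal `C_p × C_p`, II

The block decomposition.
-/

set_option autoImplicit false
set_option linter.unusedSectionVars false

namespace Cfsg.Agent.Lib.helper59

theorem blocks_of_pair {q : ℕ} [hq : Fact q.Prime] {V : Type*} [AddCommGroup V]
    [Module (ZMod q) V] [Nontrivial V]
    {G : Type*} [Group G] [Finite G] {p : ℕ} [hp : Fact p.Prime] (hpq : p ≠ q)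
    (hG : IsPGroup p G)
    (ρ : G →* (V ≃ₗ[ZMod q] V)) (hρ : Function.Injective ρ)
    (hirr : ∀ W : Submodule (ZMod q) V, (∀ g : G, ∀ w ∈ W, ρ g w ∈ W) → W = ⊥ ∨ W = ⊤)
    {z a : G} (hzc : z ∈ Subgroup.center G) (hz1 : z ≠ 1) (hzp : z ^ p = 1) (hap : a ^ p = 1)
    (haz : a ∉ Subgroup.zpowers z)
    (hconj : ∀ g : G, ∃ j : ℕ, j < p ∧ g * a * g⁻¹ = a * z ^ j) :
    ∃ (H : Subgroup G) (W : Fin p → Submodule (ZMod q) V), H.index = p ∧
      iSup W = ⊤ ∧ iSupIndep W ∧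
      (∀ h ∈ H, ∀ i, ∀ w ∈ W i, ρ h w ∈ W i) ∧
      (∀ i, ∃ h ∈ H, h ≠ 1 ∧ ∀ w ∈ W i, ρ h w = w) ∧
      ∀ g : G, g ∉ H → ∃ σ : Equiv.Perm (Fin p), orderOf σ = p ∧
        ∀ i, (W i).map (ρ g : V →ₗ[ZMod q] V) = W (σ i) := by
  classical
  have hpne : NeZero p := ⟨hp.out.ne_zero⟩
  have hzord : orderOf z = p := orderOf_eq_prime hzp hz1
  have hp0 : (p : ZMod q) ≠ 0 := by
    intro h
    rw [ZMod.natCast_eq_zero_iff] at h
    exact hpq ((Nat.prime_dvd_prime_iff_eq hq.out hp.out).mp h).symm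
  have hρmul : ∀ (g h : G) (w : V), ρ g (ρ h w) = ρ (g * h) w := by
    intro g h w
    rw [map_mul]
    rfl
  have hzpc : ∀ (i : ℕ) (g : G), g * z ^ i = z ^ i * g := fun i g =>
    Subgroup.mem_center_iff.mp (Subgroup.pow_mem _ hzc i) g
  have hpow : ∀ i t : ℕ, (a * z ^ i) ^ t = a ^ t * (z ^ t) ^ i := by
    intro i t
    have hc : Commute a (z ^ i) := hzpc i a
    rw [hc.mul_pow, ← pow_mul, ← pow_mul, mul_comm]
  have hazp : ∀ i : ℕ, (a * z ^ i) ^ p = 1 := by
    intro i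
    rw [hpow, hap, hzp, one_pow, one_mul]
  have hzt1 : ∀ t : ℕ, 0 < t → t < p → z ^ t ≠ 1 := by
    intro t ht0 htp h
    have := orderOf_dvd_of_pow_eq_one h
    rw [hzord] at this
    exact absurd (Nat.le_of_dvd ht0 this) (by omega)
  have hfix0 : ∀ y : G, y ∈ Subgroup.center G → y ≠ 1 → fixS ρ y = ⊥ := fun y hyc hy1 =>
    fixS_eq_bot_of_central ρ hρ hirr hyc hy1
  have hN0 : ∀ t : ℕ, 0 < t → t < p → nrm ρ p (z ^ t) = 0 := by
    intro t ht0 htp
    ext v
    have h1 := nrm_mem ρ (y := z ^ t) (p := p)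
      (by rw [← pow_mul, mul_comm, pow_mul, hzp, one_pow]) v
    rw [hfix0 _ (Subgroup.pow_mem _ hzc t) (hzt1 t ht0 htp), Submodule.mem_bot] at h1
    simpa using h1
  have hsum : ∑ i ∈ Finset.range p, nrm ρ p (a * z ^ i) =
      (p : ZMod q) • (1 : Module.End (ZMod q) V) := by
    have h1 : ∀ i ∈ Finset.range p, nrm ρ p (a * z ^ i) =
        ∑ t ∈ Finset.range p, rr ρ (a ^ t) * rr ρ ((z ^ t) ^ i) := by
      intro i _
      rw [nrm]
      apply Finset.sum_congr rfl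
      intro t _
      rw [hpow, rr_mul]
    rw [Finset.sum_congr rfl h1, Finset.sum_comm]
    have h2 : ∀ t ∈ Finset.range p, ∑ i ∈ Finset.range p, rr ρ (a ^ t) * rr ρ ((z ^ t) ^ i) =
        rr ρ (a ^ t) * nrm ρ p (z ^ t) := by
      intro t _
      rw [nrm, Finset.mul_sum]
    rw [Finset.sum_congr rfl h2, Finset.sum_eq_single 0]
    · rw [pow_zero, pow_zero, rr_one, one_mul, nrm_one]
    · intro t ht ht0
      rw [hN0 t (Nat.pos_of_ne_zero ht0) (Finset.mem_range.mp ht), mul_zero]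
    · intro h
      exact absurd (Finset.mem_range.mpr hp.out.pos) h
  let W : Fin p → Submodule (ZMod q) V := fun i => fixS ρ (a * z ^ (i : ℕ))
  have hNW : ∀ (i : Fin p) (v : V), nrm ρ p (a * z ^ (i : ℕ)) v ∈ W i := fun i v =>
    nrm_mem ρ (hazp i) v
  have hNij : ∀ i j : Fin p, i ≠ j → ∀ u ∈ W j, nrm ρ p (a * z ^ (i : ℕ)) u = 0 := by
    intro i j hij u hu
    have hcomm : (a * z ^ (i : ℕ)) * (a * z ^ (j : ℕ)) =
        (a * z ^ (j : ℕ)) * (a * z ^ (i : ℕ)) := by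
      have e1 : a * z ^ (i : ℕ) * (a * z ^ (j : ℕ)) = a * a * (z ^ (i : ℕ) * z ^ (j : ℕ)) := by
        rw [mul_assoc, ← mul_assoc (z ^ (i : ℕ)), ← hzpc (i : ℕ) a]
        group
      have e2 : a * z ^ (j : ℕ) * (a * z ^ (i : ℕ)) = a * a * (z ^ (j : ℕ) * z ^ (i : ℕ)) := by
        rw [mul_assoc, ← mul_assoc (z ^ (j : ℕ)), ← hzpc (j : ℕ) a]
        group
      rw [e1, e2, ← pow_add, ← pow_add, add_comm]
    have hx1 : nrm ρ p (a * z ^ (i : ℕ)) (nrm ρ p (a * z ^ (j : ℕ)) u) ∈ W i := hNW i _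
    have hx2 : nrm ρ p (a * z ^ (i : ℕ)) (nrm ρ p (a * z ^ (j : ℕ)) u) ∈ W j := by
      have h3 := (nrm_commute ρ p hcomm).eq
      have h4 : nrm ρ p (a * z ^ (i : ℕ)) (nrm ρ p (a * z ^ (j : ℕ)) u) =
          nrm ρ p (a * z ^ (j : ℕ)) (nrm ρ p (a * z ^ (i : ℕ)) u) := by
        rw [← Module.End.mul_apply, h3, Module.End.mul_apply]
      rw [h4]
      exact hNW j _
    have hyeq : (a * z ^ (i : ℕ))⁻¹ * (a * z ^ (j : ℕ)) = (z ^ (i : ℕ))⁻¹ * z ^ (j : ℕ) := by
      group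
    have hy : ρ ((z ^ (i : ℕ))⁻¹ * z ^ (j : ℕ))
        (nrm ρ p (a * z ^ (i : ℕ)) (nrm ρ p (a * z ^ (j : ℕ)) u)) =
        nrm ρ p (a * z ^ (i : ℕ)) (nrm ρ p (a * z ^ (j : ℕ)) u) := by
      rw [← hyeq, map_mul, LinearEquiv.mul_apply, (mem_fixS ρ _ _).mp hx2, map_inv]
      have h4 := (mem_fixS ρ _ _).mp hx1
      nth_rewrite 1 [← h4]
      exact (ρ (a * z ^ (i : ℕ))).symm_apply_apply _
    have hyc : (z ^ (i : ℕ))⁻¹ * z ^ (j : ℕ) ∈ Subgroup.center G :=
      Subgroup.mul_mem _ (Subgroup.inv_mem _ (Subgroup.pow_mem _ hzc _))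
        (Subgroup.pow_mem _ hzc _)
    have hy1 : (z ^ (i : ℕ))⁻¹ * z ^ (j : ℕ) ≠ 1 := by
      intro h
      have h5 : z ^ (i : ℕ) = z ^ (j : ℕ) := inv_mul_eq_one.mp h
      have h6 := pow_injOn_Iio_orderOf (x := z) (by rw [hzord]; exact i.isLt)
        (by rw [hzord]; exact j.isLt) h5
      exact hij (Fin.ext h6)
    have hx0 : nrm ρ p (a * z ^ (i : ℕ)) (nrm ρ p (a * z ^ (j : ℕ)) u) = 0 := by
      have h7 : nrm ρ p (a * z ^ (i : ℕ)) (nrm ρ p (a * z ^ (j : ℕ)) u) ∈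
          fixS ρ ((z ^ (i : ℕ))⁻¹ * z ^ (j : ℕ)) := by
        rw [mem_fixS]
        exact hy
      rw [hfix0 _ hyc hy1, Submodule.mem_bot] at h7
      exact h7
    rw [nrm_apply_of_mem ρ p hu, map_smul] at hx0
    exact (smul_eq_zero.mp hx0).resolve_left hp0
  have hsumV : ∀ v : V, (p : ZMod q) • v = ∑ i : Fin p, nrm ρ p (a * z ^ (i : ℕ)) v := by
    intro v
    have h1 := congrArg (fun f : Module.End (ZMod q) V => f v) hsum
    simp only [LinearMap.sum_apply, LinearMap.smul_apply, Module.End.one_apply] at h1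
    rw [← h1, Fin.sum_univ_eq_sum_range (fun i => nrm ρ p (a * z ^ i) v) p]
  have htop : iSup W = ⊤ := by
    rw [eq_top_iff]
    intro v _
    have h1 : (p : ZMod q) • v ∈ iSup W := by
      rw [hsumV]
      exact Submodule.sum_mem _ (fun i _ => Submodule.mem_iSup_of_mem i (hNW i v))
    have h2 := Submodule.smul_mem _ ((p : ZMod q)⁻¹) h1
    rwa [inv_smul_smul₀ hp0] at h2
  have hindep : iSupIndep W := by
    rw [iSupIndep_def]
    intro i
    rw [Submodule.disjoint_def]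
    intro x hxi hx
    have hle : (⨆ j, ⨆ (_ : j ≠ i), W j) ≤ LinearMap.ker (nrm ρ p (a * z ^ (i : ℕ))) := by
      apply iSup₂_le
      intro j hj u hu
      rw [LinearMap.mem_ker]
      exact hNij i j (Ne.symm hj) u hu
    have h1 := hle hx
    rw [LinearMap.mem_ker, nrm_apply_of_mem ρ p hxi] at h1
    exact (smul_eq_zero.mp h1).resolve_left hp0
  -- the subgroup `H = C_G(a)`
  have hHmem : ∀ g : G, g ∈ Subgroup.centralizer ({a} : Set G) ↔ g * a = a * g := by
    intro g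
    rw [Subgroup.mem_centralizer_iff]
    constructor
    · intro h
      exact (h a rfl).symm
    · intro h x hx
      rw [Set.mem_singleton_iff] at hx
      rw [hx]
      exact h.symm
  have haz1 : ∀ i : ℕ, a * z ^ i ≠ 1 := by
    intro i h
    apply haz
    have : a = (z ^ i)⁻¹ := eq_inv_of_mul_eq_one_left h
    rw [this]
    exact Subgroup.inv_mem _ (Subgroup.pow_mem _ (Subgroup.mem_zpowers z) i)
  -- `a` is not central
  have hex : ∃ g₀ : G, g₀ ∉ Subgroup.centralizer ({a} : Set G) := by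
    by_contra hall
    push Not at hall
    have hac : ∀ i : ℕ, a * z ^ i ∈ Subgroup.center G := by
      intro i
      apply Subgroup.mul_mem _ _ (Subgroup.pow_mem _ hzc i)
      rw [Subgroup.mem_center_iff]
      intro g
      exact (hHmem g).mp (hall g)
    have hW : ∀ i : Fin p, W i = ⊥ := fun i => hfix0 _ (hac i) (haz1 i)
    have hbot : iSup W = ⊥ := by
      rw [iSup_eq_bot]
      exact hW
    rw [hbot] at htop
    obtain ⟨v, hv⟩ := exists_ne (0 : V)
    have : v ∈ (⊤ : Submodule (ZMod q) V) := trivial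
    rw [← htop, Submodule.mem_bot] at this
    exact hv this
  obtain ⟨g₀, hg₀⟩ := hex
  obtain ⟨j₀, hj₀p, hj₀⟩ := hconj g₀
  have hj₀0 : j₀ ≠ 0 := by
    rintro rfl
    apply hg₀
    rw [hHmem]
    rw [pow_zero, mul_one] at hj₀
    calc g₀ * a = (g₀ * a * g₀⁻¹) * g₀ := by group
      _ = a * g₀ := by rw [hj₀]
  have hg₀pow : ∀ t : ℕ, g₀ ^ t * a * (g₀ ^ t)⁻¹ = a * z ^ (j₀ * t) := by
    intro t
    induction t with
    | zero => simp
    | succ t ih =>
      have e : g₀ ^ (t + 1) * a * (g₀ ^ (t + 1))⁻¹ = g₀ * (g₀ ^ t * a * (g₀ ^ t)⁻¹) * g₀⁻¹ := by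
        rw [pow_succ']
        group
      rw [e, ih]
      have e2 : g₀ * (a * z ^ (j₀ * t)) * g₀⁻¹ = (g₀ * a * g₀⁻¹) * z ^ (j₀ * t) := by
        rw [mul_assoc, mul_assoc, ← hzpc (j₀ * t) g₀⁻¹]
        group
      rw [e2, hj₀, mul_assoc, ← pow_add]
      congr 2
      ring
  have hcoset : ∀ g : G, ∃ t : ℕ, t < p ∧ (g₀ ^ t)⁻¹ * g ∈ Subgroup.centralizer ({a} : Set G) := by
    intro g
    obtain ⟨j, hjp, hj⟩ := hconj g
    have hj₀z : ((j₀ : ℕ) : ZMod p) ≠ 0 := by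
      rw [Ne, ZMod.natCast_eq_zero_iff]
      intro h
      exact absurd (Nat.le_of_dvd (Nat.pos_of_ne_zero hj₀0) h) (by omega)
    refine ⟨((j : ZMod p) * ((j₀ : ZMod p))⁻¹).val, ZMod.val_lt _, ?_⟩
    set t := ((j : ZMod p) * ((j₀ : ZMod p))⁻¹).val with ht
    have htc : ((t : ℕ) : ZMod p) = (j : ZMod p) * ((j₀ : ZMod p))⁻¹ := ZMod.natCast_zmod_val _
    have hmod : j₀ * t ≡ j [MOD p] := by
      rw [← ZMod.natCast_eq_natCast_iff]
      push_cast
      rw [htc]
      field_simp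
    have hzeq : z ^ (j₀ * t) = z ^ j := by
      rw [pow_eq_pow_iff_modEq, hzord]
      exact hmod
    rw [hHmem]
    have h1 : g ^ 1 * a * g⁻¹ = g₀ ^ t * a * (g₀ ^ t)⁻¹ := by
      rw [pow_one, hj, hg₀pow, hzeq]
    rw [pow_one] at h1
    calc (g₀ ^ t)⁻¹ * g * a = (g₀ ^ t)⁻¹ * (g * a * g⁻¹) * g := by group
      _ = (g₀ ^ t)⁻¹ * (g₀ ^ t * a * (g₀ ^ t)⁻¹) * g := by rw [h1]
      _ = a * ((g₀ ^ t)⁻¹ * g) := by group
  have hidx : (Subgroup.centralizer ({a} : Set G)).index = p := by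
    have hne1 : (Subgroup.centralizer ({a} : Set G)).index ≠ 1 := by
      intro h
      rw [Subgroup.index_eq_one] at h
      apply hg₀
      rw [h]
      trivial
    obtain ⟨N, hN⟩ := IsPGroup.iff_card.mp hG
    have hdvd : (Subgroup.centralizer ({a} : Set G)).index ∣ p ^ N := by
      rw [← hN]
      exact Subgroup.index_dvd_card _
    obtain ⟨b, -, hb⟩ := (Nat.dvd_prime_pow hp.out).mp hdvd
    have hb0 : b ≠ 0 := by
      rintro rfl
      exact hne1 (by rw [hb, pow_zero])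
    have hge : p ≤ (Subgroup.centralizer ({a} : Set G)).index := by
      rw [hb]
      exact Nat.le_self_pow hb0 p
    have hupper : Nat.card G ≤ p * Nat.card (Subgroup.centralizer ({a} : Set G)) := by
      choose t ht1 ht2 using hcoset
      have hinj : Function.Injective (fun g : G =>
          ((⟨t g, ht1 g⟩ : Fin p),
            (⟨(g₀ ^ t g)⁻¹ * g, ht2 g⟩ : Subgroup.centralizer ({a} : Set G)))) := by
        intro g g' h
        simp only [Prod.mk.injEq, Subtype.mk.injEq, Fin.mk.injEq] at h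
        obtain ⟨h1, h2⟩ := h
        rw [h1] at h2
        exact mul_left_cancel h2
      have := Nat.card_le_card_of_injective _ hinj
      rwa [Nat.card_prod, Nat.card_eq_fintype_card (α := Fin p), Fintype.card_fin] at this
    have hcard := Subgroup.card_mul_index (Subgroup.centralizer ({a} : Set G))
    have hpos : 0 < Nat.card (Subgroup.centralizer ({a} : Set G)) := Nat.card_pos
    have hle : (Subgroup.centralizer ({a} : Set G)).index ≤ p := by
      rw [← hcard] at hupper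
      have : Nat.card (Subgroup.centralizer ({a} : Set G)) *
          (Subgroup.centralizer ({a} : Set G)).index ≤
          Nat.card (Subgroup.centralizer ({a} : Set G)) * p := by
        rw [mul_comm _ p]
        exact hupper
      exact Nat.le_of_mul_le_mul_left this hpos
    exact le_antisymm hle hge
  refine ⟨Subgroup.centralizer ({a} : Set G), W, hidx, htop, hindep, ?_, ?_, ?_⟩
  · intro h hh i w hw
    rw [hHmem] at hh
    show ρ h w ∈ fixS ρ (a * z ^ (i : ℕ))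
    have hw' : ρ (a * z ^ (i : ℕ)) w = w := (mem_fixS ρ _ w).mp hw
    rw [mem_fixS]
    have hc : (a * z ^ (i : ℕ)) * h = h * (a * z ^ (i : ℕ)) := by
      rw [mul_assoc, ← hzpc (i : ℕ) h, ← mul_assoc, ← hh, mul_assoc]
    calc ρ (a * z ^ (i : ℕ)) (ρ h w) = ρ ((a * z ^ (i : ℕ)) * h) w := hρmul _ _ _
      _ = ρ (h * (a * z ^ (i : ℕ))) w := by rw [hc]
      _ = ρ h (ρ (a * z ^ (i : ℕ)) w) := (hρmul _ _ _).symm
      _ = ρ h w := by rw [hw']
  · intro i
    refine ⟨a * z ^ (i : ℕ), ?_, haz1 i, fun w hw => (mem_fixS ρ _ w).mp hw⟩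
    rw [hHmem, mul_assoc, ← hzpc (i : ℕ) a]
  · intro g hg
    obtain ⟨j, hjp, hj⟩ := hconj g
    have hj0 : j ≠ 0 := by
      rintro rfl
      apply hg
      rw [hHmem]
      rw [pow_zero, mul_one] at hj
      calc g * a = (g * a * g⁻¹) * g := by group
        _ = a * g := by rw [hj]
    refine ⟨Equiv.addRight (⟨j, hjp⟩ : Fin p), ?_, ?_⟩
    · apply orderOf_eq_prime
      · have hpj : p • (⟨j, hjp⟩ : Fin p) = 0 := by
          have h0 := card_nsmul_eq_zero (G := Fin p) (x := (⟨j, hjp⟩ : Fin p))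
          rwa [Fintype.card_fin] at h0
        refine Equiv.ext fun x => ?_
        rw [Equiv.Perm.coe_pow]
        have h1 : ⇑(Equiv.addRight (⟨j, hjp⟩ : Fin p)) = fun x => x + (⟨j, hjp⟩ : Fin p) := rfl
        rw [h1, add_right_iterate]
        show x + p • (⟨j, hjp⟩ : Fin p) = x
        rw [hpj, add_zero]
      · intro h
        have h1 := congrArg (fun σ : Equiv.Perm (Fin p) => σ 0) h
        simp only [Equiv.coe_addRight, zero_add, Equiv.Perm.coe_one, id_eq] at h1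
        apply hj0
        have := congrArg Fin.val h1
        simpa using this
    · intro i
      have hσ : z ^ ((Equiv.addRight (⟨j, hjp⟩ : Fin p) i : Fin p) : ℕ) = z ^ (j + (i : ℕ)) := by
        rw [Equiv.coe_addRight, Fin.val_add]
        have h2 := pow_mod_orderOf z ((i : ℕ) + j)
        rw [hzord] at h2
        rw [add_comm j]
        exact h2
      have hgconj : g * (a * z ^ (i : ℕ)) * g⁻¹ = a * z ^ (j + (i : ℕ)) := by
        have e2 : g * (a * z ^ (i : ℕ)) * g⁻¹ = (g * a * g⁻¹) * z ^ (i : ℕ) := by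
          rw [mul_assoc, mul_assoc, ← hzpc (i : ℕ) g⁻¹]
          group
        rw [e2, hj, mul_assoc, ← pow_add]
      ext w'
      rw [Submodule.mem_map]
      show (∃ w ∈ fixS ρ (a * z ^ (i : ℕ)), (ρ g : V →ₗ[ZMod q] V) w = w') ↔
        w' ∈ fixS ρ (a * z ^ ((Equiv.addRight (⟨j, hjp⟩ : Fin p) i : Fin p) : ℕ))
      rw [hσ, ← hgconj]
      constructor
      · rintro ⟨w, hw, rfl⟩
        rw [mem_fixS] at hw ⊢
        rw [LinearEquiv.coe_coe]
        calc ρ (g * (a * z ^ (i : ℕ)) * g⁻¹) (ρ g w)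
            = ρ (g * (a * z ^ (i : ℕ)) * g⁻¹ * g) w := hρmul _ _ _
          _ = ρ (g * (a * z ^ (i : ℕ))) w := by rw [inv_mul_cancel_right]
          _ = ρ g (ρ (a * z ^ (i : ℕ)) w) := (hρmul _ _ _).symm
          _ = ρ g w := by rw [hw]
      · intro hw'
        rw [mem_fixS] at hw'
        refine ⟨ρ g⁻¹ w', ?_, ?_⟩
        · rw [mem_fixS]
          calc ρ (a * z ^ (i : ℕ)) (ρ g⁻¹ w')
              = ρ (a * z ^ (i : ℕ) * g⁻¹) w' := hρmul _ _ _
            _ = ρ (g⁻¹ * (g * (a * z ^ (i : ℕ)) * g⁻¹)) w' := by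
                congr 2
                group
            _ = ρ g⁻¹ (ρ (g * (a * z ^ (i : ℕ)) * g⁻¹) w') := (hρmul _ _ _).symm
            _ = ρ g⁻¹ w' := by rw [hw']
        · rw [LinearEquiv.coe_coe, hρmul, mul_inv_cancel, map_one]
          rfl

end Cfsg.Agent.Lib.helper59
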