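import Mathlib
import Cfsg.Prelude.Def_Transfer
import Cfsg.Prelude.Def_CaseTheorems
import Cfsg.Agent.Lib.helper59.IrredPGroup2
import Cfsg.Agent.Lib.helper59.UniqueOrderP
import Cfsg.Agent.Lib.helper59.NormalAbelianCyclic
import Cfsg.Agent.Lib.helper59.TwoGroups
import Cfsg.Agent.Lib.helper3.PGroupNormal
import Cfsg.Agent.Lib.helper55.NormalElemAb

/-!
# Faithful irreducible modules of `p`-groups, III

A `p`-group that is not cyclic, generalized quaternion, dihedral or semidihedral has a normal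
abelian non-cyclic subgroup; such a subgroup yields a central element `z` of order `p` and an
element `a ∉ ⟨z⟩` of order `p` with `g a g⁻¹ ∈ a ⟨z⟩`.
-/

set_option autoImplicit false
set_option linter.unusedSectionVars false

namespace Cfsg.Agent.Lib.helper59

open scoped commutatorElement in
theorem exists_central_pair {G : Type*} [Group G] [Finite G] {p : ℕ} [hp : Fact p.Prime]
    (hG : IsPGroup p G) (B : Subgroup G) [hBn : B.Normal]
    (hBc : ∀ a ∈ B, ∀ b ∈ B, a * b = b * a) (hBnc : ¬ IsCyclic B) :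
    ∃ z a : G, z ∈ Subgroup.center G ∧ z ≠ 1 ∧ z ^ p = 1 ∧ a ^ p = 1 ∧
      a ∉ Subgroup.zpowers z ∧ ∀ g : G, ∃ j : ℕ, j < p ∧ g * a * g⁻¹ = a * z ^ j := by
  let Q : Subgroup G :=
    { carrier := {b | b ∈ B ∧ b ^ p = 1}
      mul_mem' := by
        rintro x y ⟨hx, hxp⟩ ⟨hy, hyp⟩
        refine ⟨B.mul_mem hx hy, ?_⟩
        have hc : Commute x y := hBc x hx y hy
        rw [hc.mul_pow, hxp, hyp, one_mul]
      one_mem' := ⟨B.one_mem, one_pow _⟩
      inv_mem' := by
        rintro x ⟨hx, hxp⟩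
        exact ⟨B.inv_mem hx, by rw [inv_pow, hxp, inv_one]⟩ }
  have hQn : Q.Normal := ⟨by
    rintro x ⟨hx, hxp⟩ g
    refine ⟨hBn.conj_mem x hx g, ?_⟩
    rw [conj_pow, hxp]
    group⟩
  have hBne : B ≠ ⊥ := by
    rintro rfl
    exact hBnc inferInstance
  obtain ⟨z, hzB, hzc, hz1, hzp⟩ :=
    Cfsg.Agent.Lib.helper3.exists_central_of_normal_ne_bot hG B hBne
  have hzQ : z ∈ Q := ⟨hzB, hzp⟩
  have hzord : orderOf z = p := orderOf_eq_prime hzp hz1
  have hZn : (Subgroup.zpowers z).Normal := ⟨by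
    rintro x hx g
    obtain ⟨i, rfl⟩ := Subgroup.mem_zpowers_iff.mp hx
    have h1 : g * z ^ i * g⁻¹ = z ^ i := by
      have h2 := Subgroup.mem_center_iff.mp (Subgroup.zpow_mem _ hzc i) g
      rw [h2]
      group
    rw [h1]
    exact Subgroup.zpow_mem_zpowers z i⟩
  have hle : Subgroup.zpowers z ≤ Q := (Subgroup.zpowers_le).mpr hzQ
  have hlt : Subgroup.zpowers z < Q := by
    refine lt_of_le_of_ne hle ?_
    intro heq
    apply hBnc
    have hU : UniqueOrderP p ↥B := by
      intro H K hH hK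
      have key : ∀ L : Subgroup ↥B, Nat.card L = p →
          L.map B.subtype = Subgroup.zpowers z := by
        intro L hL
        have h1 : L.map B.subtype ≤ Subgroup.zpowers z := by
          rintro _ ⟨x, hx, rfl⟩
          rw [heq]
          refine ⟨x.2, ?_⟩
          have h2 : (⟨x, hx⟩ : L) ^ p = 1 := by
            rw [← hL]
            exact pow_card_eq_one'
          have h3 := congrArg (fun y : L => ((y : ↥B) : G)) h2
          simpa using h3
        have h2 : Nat.card (L.map B.subtype) = p := by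
          rw [Subgroup.card_map_of_injective B.subtype_injective, hL]
        have h3 : Nat.card (Subgroup.zpowers z) = p := by
          rw [Nat.card_zpowers, hzord]
        exact Subgroup.eq_of_le_of_card_ge h1 (by rw [h2, h3])
      have h4 := (key H hH).trans (key K hK).symm
      exact Subgroup.map_injective B.subtype_injective h4
    exact isCyclic_of_comm_of_uniqueOrderP (Nat.card B) ↥B rfl (hG.to_subgroup B) hU
      (fun a b => Subtype.ext (hBc a a.2 b b.2))
  obtain ⟨a, haQ, haZ, -, hcomm⟩ :=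
    Cfsg.Agent.Lib.helper3.exists_mem_not_mem_of_normal_lt hG (Subgroup.zpowers z) Q hlt
  refine ⟨z, a, hzc, hz1, hzp, haQ.2, haZ, fun g => ?_⟩
  have h1 : (⁅a, g⁆)⁻¹ ∈ Subgroup.zpowers z := Subgroup.inv_mem _ (hcomm g)
  obtain ⟨k, hk⟩ := Subgroup.mem_zpowers_iff.mp h1
  have hpz : (p : ℤ) ≠ 0 := by exact_mod_cast hp.out.ne_zero
  have hnn : 0 ≤ k % (p : ℤ) := Int.emod_nonneg k hpz
  have hk2 : z ^ ((k % (p : ℤ)).toNat) = z ^ k := by
    rw [← zpow_natCast, Int.toNat_of_nonneg hnn]
    have h2 := zpow_mod_orderOf z k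
    rw [hzord] at h2
    exact h2
  refine ⟨(k % (p : ℤ)).toNat, ?_, ?_⟩
  · have hlt' : k % (p : ℤ) < p := Int.emod_lt_of_pos k (by exact_mod_cast hp.out.pos)
    omega
  · rw [hk2, hk, commutatorElement_inv, commutatorElement_def]
    have hc : a * z ^ k = z ^ k * a := Subgroup.mem_center_iff.mp (Subgroup.zpow_mem _ hzc k) a
    rw [hk, commutatorElement_inv, commutatorElement_def] at hc
    rw [hc]
    group

theorem exists_normal_abelian_noncyclic {G : Type*} [Group G] [Finite G] {p : ℕ}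
    [hp : Fact p.Prime] (hG : IsPGroup p G)
    (hnc : ¬ IsCyclic G) (hnq : ∀ n : ℕ, ¬ Nonempty (G ≃* QuaternionGroup n))
    (hnd : ∀ n : ℕ, ¬ Nonempty (G ≃* DihedralGroup n)) (hnsd : ¬ Cfsg.IsQuasiDihedral G) :
    ∃ B : Subgroup G, B.Normal ∧ (∀ a ∈ B, ∀ b ∈ B, a * b = b * a) ∧ ¬ IsCyclic B := by
  by_cases hp2 : p = 2
  · subst hp2
    by_contra hno
    push Not at hno
    obtain ⟨n, a, b, hord, hcard, hb, h⟩ := rel_of_normal_abelian_cyclic hG hno hnc
    rcases h with ⟨hb2, hrel⟩ | ⟨hn1, hb2, hrel⟩ | ⟨hn1, hb2, hrel⟩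
    · exact hnq (2 ^ (n + 1)) (quaternion_equiv_of_rel (2 ^ (n + 1)) a b (by rw [hord]; ring)
        (by rw [hcard]; ring) hb hb2 hrel)
    · exact hnd (2 ^ (n + 2)) (dihedral_equiv_of_rel (2 ^ (n + 2)) a b hord
        (by rw [hcard]; ring) hb hb2 hrel)
    · apply hnsd
      refine ⟨n + 2, by omega, hcard, a, b, hord, ?_, ?_⟩
      · apply orderOf_eq_prime hb2
        rintro rfl
        exact hb (Subgroup.one_mem _)
      · rw [hrel]
        rfl
  · obtain ⟨A, hAn, ⟨hAc, hAe⟩, hAcard⟩ :=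
      Cfsg.Agent.Lib.helper55.exists_normal_elemAb_sq hp2 hG hnc
    refine ⟨A, hAn, fun a ha b hb => congrArg Subtype.val (mul_comm' (⟨a, ha⟩ : A) ⟨b, hb⟩), ?_⟩
    intro hcyc
    obtain ⟨g, hg⟩ := hcyc.exists_generator
    have h1 : orderOf g = Nat.card A := orderOf_eq_card_of_forall_mem_zpowers hg
    have h2 : g ^ p = 1 := Subtype.ext (by simpa using hAe g g.2)
    have h3 := orderOf_dvd_of_pow_eq_one h2
    rw [h1, hAcard] at h3
    have h4 := Nat.le_of_dvd hp.out.pos h3
    have h5 := hp.out.one_lt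
    nlinarith

theorem prime_ne_of_faithful_irred {q : ℕ} [hq : Fact q.Prime] {V : Type*} [AddCommGroup V]
    [Module (ZMod q) V] [Finite V] [Nontrivial V] {G : Type*} [Group G] [Finite G]
    [Nontrivial G] {p : ℕ} [hp : Fact p.Prime] (hG : IsPGroup p G)
    (ρ : G →* (V ≃ₗ[ZMod q] V)) (hρ : Function.Injective ρ)
    (hirr : ∀ W : Submodule (ZMod q) V, (∀ g : G, ∀ w ∈ W, ρ g w ∈ W) → W = ⊥ ∨ W = ⊤) :
    p ≠ q := by
  rintro rfl
  let _inst : MulAction G V := MulAction.compHom V ρ
  have hsmul : ∀ (g : G) (v : V), g • v = ρ g v := fun _ _ => rfl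
  let F : Submodule (ZMod p) V :=
    { carrier := {v | ∀ g : G, ρ g v = v}
      add_mem' := by
        intro x y hx hy g
        rw [map_add, hx g, hy g]
      zero_mem' := fun g => map_zero _
      smul_mem' := by
        intro c x hx g
        rw [map_smul, hx g] }
  have hFinv : ∀ g : G, ∀ w ∈ F, ρ g w ∈ F := by
    intro g w hw h
    rw [hw g, hw h]
  rcases hirr F hFinv with hF | hF
  · have hcong := hG.card_modEq_card_fixedPoints V
    have hdvd : p ∣ Nat.card V := by
      obtain ⟨v, hv⟩ := exists_ne (0 : V)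
      have hpv : p • v = 0 := by
        rw [← Nat.cast_smul_eq_nsmul (ZMod p), ZMod.natCast_self, zero_smul]
      have h1 : addOrderOf v ∣ p := addOrderOf_dvd_of_nsmul_eq_zero hpv
      have h2 : addOrderOf v = p := by
        rcases (Nat.dvd_prime hp.out).mp h1 with h | h
        · exact absurd (AddMonoid.addOrderOf_eq_one_iff.mp h) hv
        · exact h
      rw [← h2]
      exact addOrderOf_dvd_natCard v
    have hfix : Nat.card (MulAction.fixedPoints G V) = 1 := by
      rw [Nat.card_eq_one_iff_unique]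
      refine ⟨⟨fun x y => ?_⟩, ⟨⟨0, fun g => ?_⟩⟩⟩
      · have hx : (x : V) ∈ F := fun g => by rw [← hsmul]; exact x.2 g
        have hy : (y : V) ∈ F := fun g => by rw [← hsmul]; exact y.2 g
        rw [hF, Submodule.mem_bot] at hx hy
        exact Subtype.ext (hx.trans hy.symm)
      · rw [hsmul, map_zero]
    rw [hfix] at hcong
    have h3 : Nat.card V % p = 0 := Nat.mod_eq_zero_of_dvd hdvd
    have h4 : Nat.card V % p = 1 % p := hcong
    rw [h3, Nat.mod_eq_of_lt hp.out.one_lt] at h4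
    exact absurd h4 (by norm_num)
  · obtain ⟨g, hg⟩ := exists_ne (1 : G)
    apply hg
    apply hρ
    rw [map_one]
    ext v
    have hv : v ∈ F := by rw [hF]; trivial
    simpa using hv g

end Cfsg.Agent.Lib.helper59
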