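import Mathlib
import Cfsg.Prelude.Def_OddOrderLocal
import Cfsg.Agent.Lib.helper3.BGCross
import Cfsg.Agent.Lib.helper13.BG11a
import Cfsg.Agent.Lib.helper71.BGTenB

/-!
# Conjugation-equivariance of `M_σ`, `M_F`, `κ(M)`, `R(x)` and the tilde-sets

* `piCore_map_equiv`, `fittingHall_map_equiv`: transport along a group isomorphism.
* `sigmaCore_map_conj`, `fittingHallOf_map_conj`, `mem_kappa_map_conj`, `kappa_map_conj`.
* `supportR_eq_bot_of_le`, `supportR_eq_of_unique`, `mem_supportR_cases`, `conj_mem_supportR`.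
* `conj_mem_tildeOf`.
-/

set_option autoImplicit false
open Cfsg

namespace Cfsg.Agent.Lib.helper59.BGConj

section Equiv

variable {A B : Type*} [Group A] [Group B]

theorem piCore_map_le (π : Set ℕ) (ψ : A ≃* B) :
    (piCore π A).map ψ.toMonoidHom ≤ piCore π B := by
  unfold piCore
  rw [Subgroup.map_le_iff_le_comap]
  apply sSup_le
  rintro N ⟨hn, hπ⟩
  rw [← Subgroup.map_le_iff_le_comap]
  apply le_sSup
  refine ⟨hn.map ψ.toMonoidHom ψ.surjective, ?_⟩
  intro p hp hpd
  rw [Subgroup.card_map_of_injective ψ.injective] at hpd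
  exact hπ p hp hpd

theorem piCore_map_equiv (π : Set ℕ) (ψ : A ≃* B) :
    (piCore π A).map ψ.toMonoidHom = piCore π B := by
  apply le_antisymm (piCore_map_le π ψ)
  intro b hb
  have h : ψ.symm b ∈ piCore π A := piCore_map_le π ψ.symm ⟨b, hb, rfl⟩
  exact ⟨ψ.symm b, h, ψ.apply_symm_apply b⟩

theorem fittingHall_map_le (ψ : A ≃* B) :
    (fittingHall A).map ψ.toMonoidHom ≤ fittingHall B := by
  unfold fittingHall
  rw [Subgroup.map_le_iff_le_comap]
  apply sSup_le
  rintro N ⟨hn, hnil, hcop⟩
  rw [← Subgroup.map_le_iff_le_comap]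
  apply le_sSup
  refine ⟨hn.map ψ.toMonoidHom ψ.surjective, ?_, ?_⟩
  · have := hnil
    exact Group.nilpotent_of_mulEquiv (N.equivMapOfInjective ψ.toMonoidHom ψ.injective)
  · rw [Subgroup.card_map_of_injective ψ.injective]
    have h : (N.map ψ.toMonoidHom).index = N.index := Subgroup.index_map_equiv N ψ
    rw [h]
    exact hcop

theorem fittingHall_map_equiv (ψ : A ≃* B) :
    (fittingHall A).map ψ.toMonoidHom = fittingHall B := by
  apply le_antisymm (fittingHall_map_le ψ)
  intro b hb
  have h : ψ.symm b ∈ fittingHall A := fittingHall_map_le ψ.symm ⟨b, hb, rfl⟩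
  exact ⟨ψ.symm b, h, ψ.apply_symm_apply b⟩

end Equiv

variable {G : Type*} [Group G]

/-- The isomorphism `M ≃* cMc⁻¹`. -/
noncomputable def conjEquiv (M : Subgroup G) (c : G) : M ≃* M.map (MulAut.conj c).toMonoidHom :=
  M.equivMapOfInjective (MulAut.conj c).toMonoidHom (MulAut.conj c).injective

theorem conjEquiv_coe (M : Subgroup G) (c : G) (x : M) :
    ((conjEquiv M c x : M.map (MulAut.conj c).toMonoidHom) : G) = c * x * c⁻¹ := rfl

theorem subtype_comp_conjEquiv (M : Subgroup G) (c : G) :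
    ((M.map (MulAut.conj c).toMonoidHom).subtype).comp (conjEquiv M c).toMonoidHom =
      (MulAut.conj c).toMonoidHom.comp M.subtype := by
  ext x
  rfl

theorem sigmaCore_map_conj [Finite G] (M : Subgroup G) (c : G) :
    sigmaCore (M.map (MulAut.conj c).toMonoidHom) =
      (sigmaCore M).map (MulAut.conj c).toMonoidHom := by
  unfold sigmaCore
  rw [Cfsg.Agent.Lib.helper3.sigma_map_conj, ← piCore_map_equiv (sigma M) (conjEquiv M c),
    Subgroup.map_map, Subgroup.map_map, subtype_comp_conjEquiv]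

theorem fittingHallOf_map_conj (M : Subgroup G) (c : G) :
    fittingHallOf (M.map (MulAut.conj c).toMonoidHom) =
      (fittingHallOf M).map (MulAut.conj c).toMonoidHom := by
  unfold fittingHallOf
  rw [← fittingHall_map_equiv (conjEquiv M c), Subgroup.map_map, Subgroup.map_map,
    subtype_comp_conjEquiv]

theorem conj_mem_map_conj {H : Subgroup G} {x : G} (c : G) (hx : x ∈ H) :
    c * x * c⁻¹ ∈ H.map (MulAut.conj c).toMonoidHom := ⟨x, hx, rfl⟩

theorem centralizer_singleton_conj (x c : G) :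
    Subgroup.centralizer ({c * x * c⁻¹} : Set G) =
      (Subgroup.centralizer ({x} : Set G)).map (MulAut.conj c).toMonoidHom := by
  ext y
  rw [Cfsg.Agent.Lib.helper13.sf_mem_map_conj_iff, Subgroup.mem_centralizer_iff,
    Subgroup.mem_centralizer_iff]
  constructor
  · intro h z hz
    rw [Set.mem_singleton_iff] at hz
    subst hz
    have h1 := h (c * z * c⁻¹) rfl
    have e1 : z * (c⁻¹ * y * c) = c⁻¹ * ((c * z * c⁻¹) * y) * c := by group
    rw [e1, h1]
    group
  · intro h z hz
    rw [Set.mem_singleton_iff] at hz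
    subst hz
    have h1 := h x rfl
    have e1 : c * x * c⁻¹ * y = c * (x * (c⁻¹ * y * c)) * c⁻¹ := by group
    rw [e1, h1]
    group

/-! ### `supportR` -/

theorem supportR_eq_bot_of_le {M : Subgroup G} {x : G}
    (h : Subgroup.centralizer ({x} : Set G) ≤ M) : supportR M x = ⊥ := by
  unfold supportR
  rw [dif_neg]
  exact fun h' => h'.1 h

theorem supportR_eq_of_unique {M L : Subgroup G} {x : G}
    (h1 : ¬ Subgroup.centralizer ({x} : Set G) ≤ M)
    (hL : IsCoatom L) (hxL : Subgroup.centralizer ({x} : Set G) ≤ L)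
    (huniq : ∀ L' : Subgroup G, IsCoatom L' → Subgroup.centralizer ({x} : Set G) ≤ L' → L' = L) :
    supportR M x = fittingHallOf L ⊓ Subgroup.centralizer ({x} : Set G) := by
  have hex : ∃! L : Subgroup G, IsCoatom L ∧ Subgroup.centralizer ({x} : Set G) ≤ L :=
    ⟨L, ⟨hL, hxL⟩, fun L' h => huniq L' h.1 h.2⟩
  have key : ∀ (h : ∃ L : Subgroup G, IsCoatom L ∧ Subgroup.centralizer ({x} : Set G) ≤ L),
      Classical.choose h = L :=
    fun h => huniq _ (Classical.choose_spec h).1 (Classical.choose_spec h).2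
  unfold supportR
  rw [dif_pos ⟨h1, hex⟩, key]

theorem mem_supportR_cases {M : Subgroup G} {x r : G} (hr : r ∈ supportR M x) :
    r = 1 ∨ (¬ Subgroup.centralizer ({x} : Set G) ≤ M ∧
      ∃ L : Subgroup G, IsCoatom L ∧ Subgroup.centralizer ({x} : Set G) ≤ L ∧
        (∀ L' : Subgroup G, IsCoatom L' → Subgroup.centralizer ({x} : Set G) ≤ L' → L' = L) ∧
        r ∈ fittingHallOf L ∧ r ∈ Subgroup.centralizer ({x} : Set G)) := by
  by_cases h : ¬ Subgroup.centralizer ({x} : Set G) ≤ M ∧
      ∃! L : Subgroup G, IsCoatom L ∧ Subgroup.centralizer ({x} : Set G) ≤ L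
  · right
    obtain ⟨h1, L, ⟨hL, hxL⟩, hu⟩ := h
    have e := supportR_eq_of_unique h1 hL hxL (fun L' a b => hu L' ⟨a, b⟩)
    rw [e] at hr
    exact ⟨h1, L, hL, hxL, fun L' a b => hu L' ⟨a, b⟩, hr.1, hr.2⟩
  · left
    unfold supportR at hr
    rw [dif_neg h] at hr
    exact Subgroup.mem_bot.mp hr

theorem conj_mem_supportR {M : Subgroup G} {x r : G} (c : G) (hr : r ∈ supportR M x) :
    c * r * c⁻¹ ∈ supportR (M.map (MulAut.conj c).toMonoidHom) (c * x * c⁻¹) := by
  rcases mem_supportR_cases hr with rfl | ⟨h1, L, hL, hxL, hu, hrF, hrC⟩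
  · have e : c * (1 : G) * c⁻¹ = 1 := by group
    rw [e]
    exact Subgroup.one_mem _
  · have e := supportR_eq_of_unique (M := M.map (MulAut.conj c).toMonoidHom)
      (L := L.map (MulAut.conj c).toMonoidHom) (x := c * x * c⁻¹) ?_
      (Cfsg.Agent.Lib.helper71.BGA.isCoatom_map_conj hL c) ?_ ?_
    · rw [e]
      refine ⟨?_, ?_⟩
      · rw [fittingHallOf_map_conj]
        exact conj_mem_map_conj c hrF
      · rw [centralizer_singleton_conj]
        exact conj_mem_map_conj c hrC
    · rw [centralizer_singleton_conj]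
      intro h
      exact h1 ((Subgroup.map_le_map_iff_of_injective (MulAut.conj c).injective).mp h)
    · rw [centralizer_singleton_conj]
      exact Subgroup.map_mono hxL
    · intro L' hL' hxL'
      have h2 : Subgroup.centralizer ({x} : Set G) ≤ L'.map (MulAut.conj c⁻¹).toMonoidHom := by
        intro y hy
        rw [Cfsg.Agent.Lib.helper13.sf_mem_map_conj_iff]
        have h3 : c * y * c⁻¹ ∈ L' := by
          apply hxL'
          rw [centralizer_singleton_conj]
          exact conj_mem_map_conj c hy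
        simpa using h3
      have h3 := hu _ (Cfsg.Agent.Lib.helper71.BGA.isCoatom_map_conj hL' c⁻¹) h2
      rw [← h3]
      exact (Cfsg.Agent.Lib.helper13.map_conj_inv_map_conj L' c).symm

/-! ### tilde-sets -/

theorem conj_mem_tildeOf {M : Subgroup G} {A : Set G} {g : G} (h : G) (hg : g ∈ tildeOf M A) :
    h * g * h⁻¹ ∈ tildeOf M A := by
  obtain ⟨a, ha, r, hr, y, rfl⟩ := hg
  exact ⟨a, ha, r, hr, h * y, by group⟩

theorem mem_tildeOf_of_conj {M : Subgroup G} {A : Set G} {g : G} (h : G)
    (hg : h * g * h⁻¹ ∈ tildeOf M A) : g ∈ tildeOf M A := by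
  have := conj_mem_tildeOf h⁻¹ hg
  have e : h⁻¹ * (h * g * h⁻¹) * h⁻¹⁻¹ = g := by group
  rwa [e] at this

/-! ### `κ` -/

theorem mem_kappa_map_conj [Finite G] {M : Subgroup G} {p : ℕ} (hp : p ∈ kappa M) (c : G) :
    p ∈ kappa (M.map (MulAut.conj c).toMonoidHom) := by
  obtain ⟨hpp, hdvd, hnσ, hsyl⟩ := hp
  have : Fact p.Prime := ⟨hpp⟩
  refine ⟨hpp, ?_, ?_, ?_⟩
  · rwa [Subgroup.card_map_of_injective (MulAut.conj c).injective]
  · rwa [Cfsg.Agent.Lib.helper3.sigma_map_conj]
  · intro P'
    have hinj : Function.Injective (conjEquiv M c).toMonoidHom := (conjEquiv M c).injective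
    have hrange : (P' : Subgroup ↥(M.map (MulAut.conj c).toMonoidHom)) ≤
        (conjEquiv M c).toMonoidHom.range := by
      rw [MonoidHom.range_eq_top.mpr (conjEquiv M c).surjective]
      exact le_top
    obtain ⟨hcyc, x, hxP, hx1, y, hy, hy1, hxy⟩ :=
      hsyl (P'.comapOfInjective (conjEquiv M c).toMonoidHom hinj hrange)
    have hmem : ∀ z : M, z ∈ (P'.comapOfInjective (conjEquiv M c).toMonoidHom
        hinj hrange : Subgroup M) ↔
        conjEquiv M c z ∈ (P' : Subgroup ↥(M.map (MulAut.conj c).toMonoidHom)) := by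
      intro z
      exact Iff.rfl
    refine ⟨?_, conjEquiv M c x, (hmem x).mp hxP, ?_, c * y * c⁻¹, ?_, ?_, ?_⟩
    · have := hcyc
      let f : ↥(P'.comapOfInjective (conjEquiv M c).toMonoidHom
          hinj hrange : Subgroup M) →*
          ↥(P' : Subgroup ↥(M.map (MulAut.conj c).toMonoidHom)) :=
        ((conjEquiv M c).toMonoidHom.comp (Subgroup.subtype _)).codRestrict _
          (fun z => (hmem z.1).mp z.2)
      apply isCyclic_of_surjective f
      intro w
      refine ⟨⟨(conjEquiv M c).symm w.1, ?_⟩, ?_⟩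
      · rw [hmem, MulEquiv.apply_symm_apply]
        exact w.2
      · apply Subtype.ext
        exact (conjEquiv M c).apply_symm_apply w.1
    · intro h
      apply hx1
      apply (conjEquiv M c).injective
      rw [h, map_one]
    · rw [sigmaCore_map_conj]
      exact conj_mem_map_conj c hy
    · intro h
      apply hy1
      have e : y = c⁻¹ * (c * y * c⁻¹) * c := by group
      rw [e, h]
      group
    · rw [conjEquiv_coe]
      have e1 : c * (x : G) * c⁻¹ * (c * y * c⁻¹) = c * ((x : G) * y) * c⁻¹ := by group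
      rw [e1, hxy]
      group

theorem kappa_map_conj [Finite G] (M : Subgroup G) (c : G) :
    kappa (M.map (MulAut.conj c).toMonoidHom) = kappa M := by
  ext p
  constructor
  · intro h
    have h1 := mem_kappa_map_conj h c⁻¹
    have h2 : (M.map (MulAut.conj c).toMonoidHom).map (MulAut.conj c⁻¹).toMonoidHom = M := by
      have := Cfsg.Agent.Lib.helper13.map_conj_inv_map_conj M c⁻¹
      rwa [inv_inv] at this
    rwa [h2] at h1
  · intro h
    exact mem_kappa_map_conj h c

end Cfsg.Agent.Lib.helper59.BGConj
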