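import Mathlib

/-!
# Geometric sums modulo prime powers

`gs ρ t = 1 + ρ + … + ρ^(t-1)` for an integer `ρ ≡ 1 (mod p)`, `p` an odd prime:
`p`-adic valuation (lifting the exponent) and surjectivity modulo `p ^ n`.
-/

set_option autoImplicit false
set_option linter.unusedSectionVars false

namespace Cfsg.Agent.Lib.helper59

/-- Geometric sum `1 + ρ + … + ρ^(t-1)`. -/
def gs (ρ : ℤ) (t : ℕ) : ℤ := ∑ i ∈ Finset.range t, ρ ^ i

theorem gs_zero (ρ : ℤ) : gs ρ 0 = 0 := by simp [gs]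

theorem gs_one (ρ : ℤ) : gs ρ 1 = 1 := by simp [gs]

theorem gs_succ (ρ : ℤ) (t : ℕ) : gs ρ (t + 1) = gs ρ t + ρ ^ t := by
  simp [gs, Finset.sum_range_succ]

theorem gs_mul_sub (ρ : ℤ) (t : ℕ) : gs ρ t * (ρ - 1) = ρ ^ t - 1 := geom_sum_mul ρ t

theorem pow_eq_gs (ρ : ℤ) (t : ℕ) : ρ ^ t = 1 + (ρ - 1) * gs ρ t := by
  have := gs_mul_sub ρ t
  linarith

theorem gs_add (ρ : ℤ) (s t : ℕ) : gs ρ (s + t) = gs ρ s + ρ ^ s * gs ρ t := by
  induction t with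
  | zero => simp [gs_zero]
  | succ t ih => rw [← add_assoc, gs_succ, ih, gs_succ]; ring

theorem gs_mul (ρ : ℤ) (j t : ℕ) : gs ρ (j * t) = gs ρ j * gs (ρ ^ j) t := by
  induction t with
  | zero => simp [gs_zero]
  | succ t ih => rw [Nat.mul_succ, gs_add, ih, gs_succ, ← pow_mul]; ring

theorem gs_one_left (t : ℕ) : gs 1 t = t := by simp [gs]

section Prime

variable {p : ℕ} [hp : Fact p.Prime]

theorem not_dvd_of_dvd_sub_one {ρ : ℤ} (hρ : (p : ℤ) ∣ ρ - 1) : ¬ (p : ℤ) ∣ ρ := by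
  intro h
  have h1 : (p : ℤ) ∣ 1 := by
    have := dvd_sub h hρ
    simpa using this
  have h2 : (p : ℤ) ∣ ((1 : ℕ) : ℤ) := by simpa using h1
  have h3 : p ∣ 1 := Int.natCast_dvd_natCast.mp h2
  exact hp.out.one_lt.ne' (Nat.dvd_one.mp h3)

theorem dvd_pow_sub_one {ρ : ℤ} (hρ : (p : ℤ) ∣ ρ - 1) (j : ℕ) : (p : ℤ) ∣ ρ ^ j - 1 := by
  rw [← gs_mul_sub]
  exact Dvd.dvd.mul_left hρ _

/-- Lifting the exponent for geometric sums. -/
theorem gs_dvd_iff (hp2 : p ≠ 2) {ρ : ℤ} (hρ : (p : ℤ) ∣ ρ - 1) (e t : ℕ) :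
    (p : ℤ) ^ e ∣ gs ρ t ↔ p ^ e ∣ t := by
  by_cases h1 : ρ = 1
  · subst h1
    rw [gs_one_left]
    constructor
    · intro h
      have : ((p ^ e : ℕ) : ℤ) ∣ (t : ℤ) := by push_cast; exact h
      exact Int.natCast_dvd_natCast.mp this
    · intro h
      have : ((p ^ e : ℕ) : ℤ) ∣ (t : ℤ) := Int.natCast_dvd_natCast.mpr h
      push_cast at this
      exact this
  · have hodd : Odd p := hp.out.odd_of_ne_two hp2
    have hρp : ¬ (p : ℤ) ∣ ρ := not_dvd_of_dvd_sub_one hρ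
    have hlte := Int.emultiplicity_pow_sub_pow hp.out hodd (x := ρ) (y := 1) hρ hρp t
    have hpr : Prime (p : ℤ) := Nat.prime_iff_prime_int.mp hp.out
    rw [one_pow, ← gs_mul_sub, emultiplicity_mul hpr, add_comm] at hlte
    have hfin : emultiplicity (p : ℤ) (ρ - 1) ≠ ⊤ := by
      rw [← finiteMultiplicity_iff_emultiplicity_ne_top, Int.finiteMultiplicity_iff]
      refine ⟨?_, sub_ne_zero.mpr h1⟩
      simp only [Int.natAbs_natCast]
      exact hp.out.one_lt.ne'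
    have heq : emultiplicity (p : ℤ) (gs ρ t) = emultiplicity p t :=
      WithTop.add_left_cancel hfin hlte
    rw [pow_dvd_iff_le_emultiplicity, pow_dvd_iff_le_emultiplicity, heq]

theorem zmodpow_intCast_eq_zero_iff (n : ℕ) (k : ℤ) :
    ((k : ℤ) : ZMod (p ^ n)) = 0 ↔ (p : ℤ) ^ n ∣ k := by
  rw [ZMod.intCast_zmod_eq_zero_iff_dvd]
  push_cast
  rfl

theorem zmodpow_intCast_eq_iff (n : ℕ) (k l : ℤ) :
    ((k : ℤ) : ZMod (p ^ n)) = (l : ZMod (p ^ n)) ↔ (p : ℤ) ^ n ∣ k - l := by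
  rw [← sub_eq_zero, ← Int.cast_sub, zmodpow_intCast_eq_zero_iff]

theorem zmodpow_pow_dvd_intCast_iff {n s : ℕ} (hs : s ≤ n) (x : ℤ) :
    (p : ZMod (p ^ n)) ^ s ∣ ((x : ℤ) : ZMod (p ^ n)) ↔ (p : ℤ) ^ s ∣ x := by
  have hne : NeZero (p ^ n) := ⟨pow_ne_zero _ hp.out.ne_zero⟩
  constructor
  · rintro ⟨y, hy⟩
    have hy' : ((y.val : ℤ) : ZMod (p ^ n)) = y := by
      rw [Int.cast_natCast]; exact ZMod.natCast_zmod_val y
    have h1 : ((x - (p : ℤ) ^ s * (y.val : ℤ) : ℤ) : ZMod (p ^ n)) = 0 := by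
      rw [Int.cast_sub, Int.cast_mul, hy', hy]
      push_cast
      ring
    rw [zmodpow_intCast_eq_zero_iff] at h1
    have h2 : (p : ℤ) ^ s ∣ x - (p : ℤ) ^ s * (y.val : ℤ) := (pow_dvd_pow _ hs).trans h1
    have h3 : (p : ℤ) ^ s ∣ (p : ℤ) ^ s * (y.val : ℤ) := dvd_mul_right _ _
    have := dvd_add h2 h3
    simpa using this
  · rintro ⟨k, rfl⟩
    refine ⟨(k : ZMod (p ^ n)), ?_⟩
    push_cast
    ring

theorem zmodpow_isUnit_one_add (n : ℕ) (x : ZMod (p ^ n)) :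
    IsUnit (1 + (p : ZMod (p ^ n)) * x) := by
  apply IsNilpotent.isUnit_one_add
  refine ⟨n, ?_⟩
  rw [mul_pow]
  have : (p : ZMod (p ^ n)) ^ n = 0 := by
    have := ZMod.natCast_self (p ^ n)
    push_cast at this
    exact this
  rw [this, zero_mul]

theorem zmodpow_isUnit_intCast {ρ : ℤ} (hρ : (p : ℤ) ∣ ρ - 1) (n : ℕ) :
    IsUnit ((ρ : ℤ) : ZMod (p ^ n)) := by
  obtain ⟨k, hk⟩ := hρ
  have : ρ = 1 + (p : ℤ) * k := by linarith
  rw [this]
  push_cast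
  exact zmodpow_isUnit_one_add n _

/-- `t ↦ gs ρ t` is surjective modulo `p ^ n`. -/
theorem gs_surjective (hp2 : p ≠ 2) {ρ : ℤ} (hρ : (p : ℤ) ∣ ρ - 1) (n : ℕ) (x : ZMod (p ^ n)) :
    ∃ t : ℕ, ((gs ρ t : ℤ) : ZMod (p ^ n)) = x := by
  have hne : NeZero (p ^ n) := ⟨pow_ne_zero _ hp.out.ne_zero⟩
  have key : ∀ s t : ℕ, s ≤ t → t < p ^ n →
      ((gs ρ s : ℤ) : ZMod (p ^ n)) = ((gs ρ t : ℤ) : ZMod (p ^ n)) → s = t := by
    intro s t hst ht h
    obtain ⟨d, rfl⟩ := Nat.exists_eq_add_of_le hst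
    rw [gs_add, Int.cast_add, left_eq_add, Int.cast_mul] at h
    have hu : IsUnit ((ρ ^ s : ℤ) : ZMod (p ^ n)) := by
      rw [Int.cast_pow]
      exact (zmodpow_isUnit_intCast hρ n).pow s
    have h0 : ((gs ρ d : ℤ) : ZMod (p ^ n)) = 0 := (hu.mul_right_eq_zero).mp h
    rw [zmodpow_intCast_eq_zero_iff, gs_dvd_iff hp2 hρ] at h0
    have hd : d < p ^ n := by omega
    have : d = 0 := Nat.eq_zero_of_dvd_of_lt h0 hd
    omega
  let f : Fin (p ^ n) → ZMod (p ^ n) := fun t => ((gs ρ t.val : ℤ) : ZMod (p ^ n))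
  have hinj : Function.Injective f := by
    intro s t hst
    rcases le_total s.val t.val with h | h
    · exact Fin.ext (key s.val t.val h t.isLt hst)
    · exact Fin.ext (key t.val s.val h s.isLt hst.symm).symm
  have hbij : Function.Bijective f := by
    apply hinj.bijective_of_nat_card_le
    rw [Nat.card_eq_fintype_card, Nat.card_eq_fintype_card, ZMod.card, Fintype.card_fin]
  obtain ⟨t, ht⟩ := hbij.2 x
  exact ⟨t.val, ht⟩

end Prime

end Cfsg.Agent.Lib.helper59
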