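import Mathlib
import Cfsg.Prelude.Def_PLocal
import Cfsg.Agent.Lib.helper59.MetaArith

/-!
# `p`-groups with a self-centralizing cyclic normal subgroup

Basic facts about a `p`-group `G` with a cyclic normal subgroup `U = ⟨u⟩` of order `p ^ n` such
that `C_G(U) = U`: the action of `G` on `U`, the subgroup `M = C_G(U ^ p)`.
-/

set_option autoImplicit false
set_option linter.unusedSectionVars false

namespace Cfsg.Agent.Lib.helper59

section Arith

variable {p : ℕ} [hp : Fact p.Prime]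

theorem pow_pred_dvd_of_mul_dvd {n : ℕ} {i g : ℤ} (h : (p : ℤ) ^ n ∣ i * g)
    (hg : ¬ (p : ℤ) ^ 2 ∣ g) : (p : ℤ) ^ (n - 1) ∣ i := by
  have hpr : Prime (p : ℤ) := Nat.prime_iff_prime_int.mp hp.out
  rcases Nat.eq_zero_or_pos n with hn | hn
  · subst hn
    simp
  by_cases hpg : (p : ℤ) ∣ g
  · obtain ⟨g', rfl⟩ := hpg
    have hg' : ¬ (p : ℤ) ∣ g' := by
      intro h'
      apply hg
      rw [pow_two]
      exact mul_dvd_mul_left _ h'
    have h1 : (p : ℤ) ^ (n - 1) * p ∣ (i * g') * p := by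
      rw [← pow_succ, show n - 1 + 1 = n by omega]
      convert h using 1
      ring
    have h2 : (p : ℤ) ^ (n - 1) ∣ i * g' :=
      (mul_dvd_mul_iff_right hpr.ne_zero).mp h1
    exact hpr.pow_dvd_of_dvd_mul_right _ hg' h2
  · have h2 := hpr.pow_dvd_of_dvd_mul_right _ hpg h
    exact (pow_dvd_pow _ (Nat.sub_le n 1)).trans h2

/-- Fermat: if `k ^ p ≡ 1` modulo `p` then `k ≡ 1` modulo `p`. -/
theorem dvd_sub_one_of_dvd_pow_sub_one {k : ℤ} (h : (p : ℤ) ∣ k ^ p - 1) : (p : ℤ) ∣ k - 1 := by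
  have h5 : ((k ^ p - 1 : ℤ) : ZMod p) = 0 := (ZMod.intCast_zmod_eq_zero_iff_dvd _ p).mpr h
  rw [Int.cast_sub, Int.cast_pow, ZMod.pow_card, Int.cast_one] at h5
  have h6 : ((k - 1 : ℤ) : ZMod p) = 0 := by
    rw [Int.cast_sub, Int.cast_one]; exact h5
  exact (ZMod.intCast_zmod_eq_zero_iff_dvd _ p).mp h6

/-- The `p`-adic valuation of `1 + k + … + k ^ (p - 1)` is `1`. -/
theorem gs_prime_val {n : ℕ} {k : ℤ} (h : (p : ℤ) ^ (n - 1) ∣ k - 1) (hn : 2 ≤ n)
    (hpn : p ≠ 2 ∨ 3 ≤ n) : (p : ℤ) ∣ gs k p ∧ ¬ (p : ℤ) ^ 2 ∣ gs k p := by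
  have hk1 : (p : ℤ) ∣ k - 1 := (dvd_pow_self _ (by omega)).trans h
  by_cases hp2 : p = 2
  · have hn3 : 3 ≤ n := by
      rcases hpn with h' | h'
      · exact absurd hp2 h'
      · exact h'
    subst hp2
    have h4 : (4 : ℤ) ∣ k - 1 := by
      have : ((2 : ℕ) : ℤ) ^ 2 ∣ ((2 : ℕ) : ℤ) ^ (n - 1) := pow_dvd_pow _ (by omega)
      have h' := this.trans h
      norm_num at h'
      exact h'
    obtain ⟨q, hq⟩ := h4
    have hgs : gs k 2 = 2 * (1 + 2 * q) := by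
      have : k = 1 + 4 * q := by linarith
      simp [gs, Finset.sum_range_succ, this]
      ring
    rw [hgs]
    refine ⟨⟨1 + 2 * q, by push_cast; ring⟩, ?_⟩
    push_cast
    intro h'
    have : (2 : ℤ) ∣ 1 + 2 * q := by
      have h'' : (2 : ℤ) * 2 ∣ 2 * (1 + 2 * q) := by
        convert h' using 1
        norm_num
      exact (mul_dvd_mul_iff_left (by norm_num : (2 : ℤ) ≠ 0)).mp h''
    omega
  · constructor
    · have := (gs_dvd_iff hp2 hk1 1 p).mpr (by simp)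
      simpa using this
    · intro h'
      have := (gs_dvd_iff hp2 hk1 2 p).mp h'
      have hle := Nat.le_of_dvd hp.out.pos this
      have := hp.out.one_lt
      nlinarith

/-- If `k ^ p ≡ 1` modulo `p ^ n` then `k ≡ 1` modulo `p ^ (n - 1)`, for `p` odd. -/
theorem pow_pred_dvd_sub_one (hp2 : p ≠ 2) {n : ℕ} (hn : 1 ≤ n) {k : ℤ}
    (h : (p : ℤ) ^ n ∣ k ^ p - 1) : (p : ℤ) ^ (n - 1) ∣ k - 1 := by
  have hk1 : (p : ℤ) ∣ k - 1 :=
    dvd_sub_one_of_dvd_pow_sub_one ((dvd_pow_self _ (by omega)).trans h)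
  have hgs : ¬ (p : ℤ) ^ 2 ∣ gs k p := by
    intro h'
    have := (gs_dvd_iff hp2 hk1 2 p).mp h'
    have hle := Nat.le_of_dvd hp.out.pos this
    have := hp.out.one_lt
    nlinarith
  rw [← gs_mul_sub, mul_comm] at h
  exact pow_pred_dvd_of_mul_dvd h hgs

end Arith

section Conj

variable {G : Type*} [Group G]

theorem cr_zpow {a b : G} {r : ℤ} (h : b * a * b⁻¹ = a ^ r) (i : ℤ) :
    b * a ^ i = a ^ (i * r) * b := by
  have h' : b * a ^ i * b⁻¹ = a ^ (i * r) := by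
    rw [← conj_zpow, h, ← zpow_mul, mul_comm]
  rw [← h']
  group

theorem cr_pow_zpow {a b : G} {r : ℤ} (h : b * a * b⁻¹ = a ^ r) (j : ℕ) (i : ℤ) :
    b ^ j * a ^ i = a ^ (i * r ^ j) * b ^ j := by
  induction j generalizing i with
  | zero => simp
  | succ j ih =>
    rw [pow_succ, mul_assoc, cr_zpow h, ← mul_assoc, ih, mul_assoc]
    congr 2
    ring

theorem cr_pow {a b : G} {r : ℤ} (h : b * a * b⁻¹ = a ^ r) (i : ℤ) (t : ℕ) :
    (a ^ i * b) ^ t = a ^ (i * gs r t) * b ^ t := by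
  induction t with
  | zero => simp [gs_zero]
  | succ t ih =>
    rw [pow_succ, ih, mul_assoc, ← mul_assoc (b ^ t), cr_pow_zpow h, mul_assoc, ← pow_succ,
      ← mul_assoc, ← zpow_add, gs_succ]
    congr 2
    ring

theorem cr_mul {a b c : G} {r s : ℤ} (hb : b * a * b⁻¹ = a ^ r) (hc : c * a * c⁻¹ = a ^ s) :
    (b * c) * a * (b * c)⁻¹ = a ^ (r * s) := by
  have h1 : (b * c) * a * (b * c)⁻¹ = b * (c * a * c⁻¹) * b⁻¹ := by group
  rw [h1, hc, ← conj_zpow, hb, ← zpow_mul]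

theorem cr_pow_conj {a b : G} {r : ℤ} (h : b * a * b⁻¹ = a ^ r) (j : ℕ) :
    b ^ j * a * (b ^ j)⁻¹ = a ^ (r ^ j) := by
  have := cr_pow_zpow h j 1
  rw [zpow_one, one_mul] at this
  rw [this]
  group

theorem cr_inv {a b : G} {r : ℤ} (h : b * a * b⁻¹ = a ^ r) :
    b⁻¹ * a ^ r * b = a := by
  rw [← h]; group

end Conj

end Cfsg.Agent.Lib.helper59
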