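import Mathlib
import Cfsg.Agent.S0115
import Cfsg.Agent.S0646
import Cfsg.Agent.Lib.helper59.TwoGroups
import Cfsg.Agent.Lib.helper59.TwoGroups2

set_option autoImplicit false

/-!
# `2`-groups of maximal class, by generators and relations

* `taussky_rel`: a group of order `2 ^ (N + 3)` whose derived subgroup has index `4` has a
  cyclic subgroup `⟨a⟩` of index `2` and `b ∉ ⟨a⟩` with the dihedral, generalized quaternion or
  semidihedral relations.
* `index_commutator_of_inverts`: conversely, if `b` inverts `a` of order `2 ^ (N + 2)` in a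
  group of order `2 ^ (N + 3)`, the derived subgroup has index `4`.
* `centralizer_le_of_rel`: in a dihedral, generalized quaternion or semidihedral group every
  non-cyclic subgroup contains its centralizer.
-/

namespace Cfsg.Agent.Lib.helper59

open Subgroup
open scoped commutatorElement

universe u

/-- Taussky's theorem with generators and relations. -/
theorem taussky_rel {S : Type u} [Group S] [Finite S] (N : ℕ) (hn : Nat.card S = 2 ^ (N + 3))
    (hidx : (commutator S).index = 4) :
    ∃ a b : S, orderOf a = 2 ^ (N + 2) ∧ b ∉ zpowers a ∧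
      ((b ^ 2 = 1 ∧ b * a * b⁻¹ = a⁻¹) ∨ (b ^ 2 = a ^ (2 ^ (N + 1)) ∧ b * a * b⁻¹ = a⁻¹) ∨
        (1 ≤ N ∧ b ^ 2 = 1 ∧ b * a * b⁻¹ = a ^ (2 ^ (N + 1) - 1))) := by
  obtain ⟨-, C, hC, hCi⟩ := Cfsg.Agent.S0115.taussky (N + 3) S (by omega) hn hidx
  have hna : ∃ x y : S, x * y ≠ y * x := by
    by_contra hcon
    push Not at hcon
    have hbot : commutator S = ⊥ := by
      rw [_root_.commutator_def, Subgroup.commutator_eq_bot_iff_le_centralizer]
      intro x _
      rw [Subgroup.mem_centralizer_iff]
      intro y _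
      exact hcon y x
    rw [hbot, Subgroup.index_bot, hn] at hidx
    have : (2 : ℕ) ^ 3 ≤ 2 ^ (N + 3) := Nat.pow_le_pow_right (by norm_num) (by omega)
    omega
  obtain ⟨a, b, hord, hb, hcase⟩ := Cfsg.Agent.S0646.result (N + 3) (by omega) hn C hC hCi hna
  rw [show N + 3 - 1 = N + 2 from rfl] at hord
  rw [show N + 3 - 2 = N + 1 from rfl] at hcase
  rcases hcase with ⟨hb2, hinv⟩ | ⟨hb2, hinv⟩ | ⟨h4, hb2, hmod⟩ | ⟨h4, hb2, hsd⟩
  · exact ⟨a, b, hord, hb, Or.inl ⟨hb2, hinv⟩⟩
  · exact ⟨a, b, hord, hb, Or.inr (Or.inl ⟨hb2, hinv⟩)⟩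
  · exfalso
    obtain ⟨M, rfl⟩ : ∃ M, N = M + 1 := ⟨N - 1, by omega⟩
    set z := a ^ (2 ^ (M + 1 + 1)) with hz
    have hapow : a ^ (2 ^ (M + 1 + 2)) = 1 := by rw [← hord]; exact pow_orderOf_eq_one a
    have hz2 : z ^ 2 = 1 := by
      rw [hz, ← pow_mul, ← hapow]; congr 1
    have hbz : b * z * b⁻¹ = z := by
      rw [hz, ← conj_pow, hmod, ← pow_mul, add_mul, pow_add, one_mul]
      have : a ^ (2 ^ (M + 1 + 1) * 2 ^ (M + 1 + 1)) = 1 := by
        rw [show (2 : ℕ) ^ (M + 1 + 1) * 2 ^ (M + 1 + 1) = 2 ^ (M + 1 + 2) * 2 ^ (M + 1) by ring,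
          pow_mul, hapow, one_pow]
      rw [this, mul_one]
    -- closure {a, b} = ⊤
    have hcl : Subgroup.closure ({a, b} : Set S) = ⊤ := by
      have hle : zpowers a ≤ Subgroup.closure ({a, b} : Set S) :=
        zpowers_le.mpr (Subgroup.subset_closure (by simp))
      have hai : (zpowers a).index = 2 := by
        have h1 := Subgroup.card_mul_index (zpowers a)
        rw [Nat.card_zpowers, hord, hn] at h1
        have h3 : (2 : ℕ) ^ (M + 1 + 3) = 2 ^ (M + 1 + 2) * 2 := by ring
        rw [h3] at h1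
        exact Nat.eq_of_mul_eq_mul_left (by positivity) h1
      have hdvd := Subgroup.index_dvd_of_le hle
      rw [hai] at hdvd
      rcases (Nat.dvd_prime Nat.prime_two).mp hdvd with h1 | h1
      · exact Subgroup.index_eq_one.mp h1
      · exfalso
        apply hb
        have heq : zpowers a = Subgroup.closure ({a, b} : Set S) := by
          apply Subgroup.eq_of_le_of_card_ge hle
          have e1 := Subgroup.card_mul_index (zpowers a)
          have e2 := Subgroup.card_mul_index (Subgroup.closure ({a, b} : Set S))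
          rw [hai] at e1; rw [h1] at e2
          omega
        rw [heq]
        exact Subgroup.subset_closure (by simp)
    have hzc : ∀ g : S, g * z = z * g := by
      have hle : Subgroup.closure ({a, b} : Set S) ≤ Subgroup.centralizer {z} := by
        rw [Subgroup.closure_le]
        intro g hg
        rw [SetLike.mem_coe, Subgroup.mem_centralizer_singleton_iff]
        rcases hg with rfl | rfl
        · rw [hz, ← pow_succ', ← pow_succ]
        · calc g * z = (g * z * g⁻¹) * g := by group
            _ = z * g := by rw [hbz]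
      intro g
      have := hle (hcl ▸ Subgroup.mem_top g)
      exact Subgroup.mem_centralizer_singleton_iff.mp this
    have hNn : (zpowers z).Normal := by
      constructor
      intro x hx g
      have hxc : g * x = x * g := by
        obtain ⟨i, rfl⟩ := mem_zpowers_iff.mp hx
        exact ((Commute.zpow_right (show Commute g z from hzc g)) i)
      have : g * x * g⁻¹ = x := by rw [hxc]; group
      rw [this]; exact hx
    have hcomm : commutator S ≤ zpowers z := by
      apply Cfsg.Agent.S0115.commutator_le_of_generators (zpowers z) {a, b} hcl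
      have hab' : ⁅a, b⁆ = z⁻¹ := by
        have h1 : b * a⁻¹ * b⁻¹ = (a ^ (1 + 2 ^ (M + 1 + 1)))⁻¹ := by
          rw [← hmod]; group
        rw [commutatorElement_def, mul_assoc a b, mul_assoc, h1, pow_add, pow_one,
          mul_inv_rev, ← mul_assoc]
        exact (((Commute.refl a).pow_right _).inv_right).mul_inv_cancel
      have hba' : ⁅b, a⁆ = z := by
        rw [← commutatorElement_inv, hab', inv_inv]
      intro s hs t ht
      rcases hs with rfl | hs
      · rcases ht with rfl | ht
        · rw [commutatorElement_self]; exact one_mem _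
        · rw [Set.mem_singleton_iff.mp ht, hab']; exact inv_mem (mem_zpowers z)
      · rw [Set.mem_singleton_iff.mp hs]
        rcases ht with rfl | ht
        · rw [hba']; exact mem_zpowers z
        · rw [Set.mem_singleton_iff.mp ht, commutatorElement_self]; exact one_mem _
    have hdvd := Subgroup.index_dvd_of_le hcomm
    rw [hidx] at hdvd
    have hle4 : (zpowers z).index ≤ 4 := Nat.le_of_dvd (by norm_num) hdvd
    have hcard := Subgroup.card_mul_index (zpowers z)
    rw [Nat.card_zpowers, hn] at hcard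
    have hoz : orderOf z ≤ 2 := Nat.le_of_dvd (by norm_num) (orderOf_dvd_of_pow_eq_one hz2)
    have h16 : (2 : ℕ) ^ 4 ≤ 2 ^ (M + 1 + 3) := Nat.pow_le_pow_right (by norm_num) (by omega)
    nlinarith
  · exact ⟨a, b, hord, hb, Or.inr (Or.inr ⟨by omega, hb2, hsd⟩)⟩

/-- If `b` inverts `a` of order `2 ^ (N + 2)` in a group of order `2 ^ (N + 3)`, the derived
subgroup has index `4`. -/
theorem index_commutator_of_inverts {G : Type*} [Group G] [Finite G] (N : ℕ) (a b : G)
    (ha : orderOf a = 2 ^ (N + 2)) (hcard : Nat.card G = 2 ^ (N + 3))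
    (hinv : b * a * b⁻¹ = a⁻¹) : (commutator G).index = 4 := by
  have hP : IsPGroup 2 G := IsPGroup.of_card hcard
  have : Fact (Nat.Prime 2) := ⟨Nat.prime_two⟩
  have hmem : a ^ 2 ∈ commutator G := by
    have h1 : ⁅b, a⁆ = (a ^ 2)⁻¹ := by
      rw [commutatorElement_def, hinv, pow_two, mul_inv_rev]
    have h2 := Cfsg.Agent.S0115.comm_mem_commutator b a
    rw [h1] at h2
    exact (inv_mem_iff (x := a ^ 2)).mp h2
  have ho : orderOf (a ^ 2) = 2 ^ (N + 1) := by
    rw [orderOf_pow_of_dvd (by norm_num) (by rw [ha]; exact dvd_pow_self 2 (by omega)), ha,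
      pow_succ]
    exact Nat.mul_div_cancel _ (by norm_num)
  have hdvd : 2 ^ (N + 1) ∣ Nat.card (commutator G) := by
    rw [← ho, ← Nat.card_zpowers]
    exact Subgroup.card_dvd_of_le (zpowers_le.mpr hmem)
  obtain ⟨m, hm⟩ := hdvd
  have h2 := Subgroup.card_mul_index (commutator G)
  rw [hcard, hm] at h2
  have h3 : m * (commutator G).index = 4 := by
    have e : (2 : ℕ) ^ (N + 3) = 2 ^ (N + 1) * 4 := by ring
    rw [e, mul_assoc] at h2
    exact Nat.eq_of_mul_eq_mul_left (by positivity) h2
  have hidvd : (commutator G).index ∣ 4 := Dvd.intro_left _ h3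
  have hncyc : ¬ IsCyclic (G ⧸ commutator G) := by
    intro hcyc
    have hGc := Cfsg.Agent.S0115.isCyclic_of_isCyclic_abelianization hP hcyc
    have hcomm : b * a = a * b := (IsCyclic.isMulCommutative (α := G)).is_comm.comm b a
    have h4 : b * a * b⁻¹ = a := by rw [hcomm]; group
    rw [hinv] at h4
    have h5 : a ^ 2 = 1 := by
      rw [pow_two]
      nth_rewrite 1 [← h4]
      exact inv_mul_cancel a
    have h6 := orderOf_dvd_of_pow_eq_one h5
    rw [ha] at h6
    have h7 : (2 : ℕ) ^ (N + 2) ≤ 2 := Nat.le_of_dvd (by norm_num) h6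
    have h8 : (2 : ℕ) ^ 2 ≤ 2 ^ (N + 2) := Nat.pow_le_pow_right (by norm_num) (by omega)
    omega
  have hle : (commutator G).index ≤ 4 := Nat.le_of_dvd (by norm_num) hidvd
  have hpos : 0 < (commutator G).index := Nat.pos_of_ne_zero Subgroup.index_ne_zero_of_finite
  interval_cases hi : (commutator G).index
  · exfalso
    apply hncyc
    have hc1 : Nat.card (G ⧸ commutator G) = 1 := by rw [← Subgroup.index_eq_card, hi]
    have : Subsingleton (G ⧸ commutator G) := (Nat.card_eq_one_iff_unique.mp hc1).1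
    exact isCyclic_of_subsingleton
  · exfalso
    apply hncyc
    have hc2 : Nat.card (G ⧸ commutator G) = 2 := by rw [← Subgroup.index_eq_card, hi]
    exact isCyclic_of_prime_card hc2
  · exfalso
    norm_num at hidvd
  · rfl

/-- In a group of order `2 ^ (N + 3)` with a cyclic subgroup `⟨a⟩` of index `2` on which the
elements outside act by a power map `ε` fixing only elements of order at most `2` (dihedral,
generalized quaternion and semidihedral groups), every non-cyclic subgroup contains its
centralizer. -/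
theorem centralizer_le_of_rel {G : Type*} [Group G] [Finite G] (N : ℕ) (a b : G) (ε : ℤ)
    (ha : orderOf a = 2 ^ (N + 2)) (hcard : Nat.card G = 2 ^ (N + 3)) (hb : b ∉ zpowers a)
    (hε : b * a * b⁻¹ = a ^ ε)
    (hεd : ∀ i : ℤ, (2 : ℤ) ^ (N + 2) ∣ i * (ε - 1) → (2 : ℤ) ^ (N + 2) ∣ 2 * i)
    (H : Subgroup G) (hH : ¬ IsCyclic ↥H) : centralizer (H : Set G) ≤ H := by
  have hidx : (zpowers a).index = 2 := by
    have h1 := Subgroup.card_mul_index (zpowers a)
    rw [Nat.card_zpowers, ha, hcard] at h1
    have h3 : (2 : ℕ) ^ (N + 3) = 2 ^ (N + 2) * 2 := by ring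
    rw [h3] at h1
    exact Nat.eq_of_mul_eq_mul_left (by positivity) h1
  have hapow : a ^ (2 ^ (N + 2)) = 1 := by rw [← ha]; exact pow_orderOf_eq_one a
  obtain ⟨z, hz⟩ : ∃ z : G, z = a ^ (2 ^ (N + 1)) := ⟨_, rfl⟩
  have hzA : z ∈ zpowers a := by rw [hz]; exact pow_mem (mem_zpowers a) _
  have hF2 : ∀ c ∈ zpowers a, c ^ 2 = 1 → c = 1 ∨ c = z := fun c hc hc2 => by
    rw [hz]
    exact eq_one_or_eq_pow_of_sq_eq_one (k := 2 ^ (N + 1)) (by rw [ha]; ring) hc hc2
  -- conjugation by elements outside A
  have hconj : ∀ x : G, x ∉ zpowers a → ∀ i : ℤ, x * a ^ i * x⁻¹ = a ^ (ε * i) := by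
    intro x hx i
    have hxb : x * b⁻¹ ∈ zpowers a := by
      rw [Subgroup.mul_mem_iff_of_index_two hidx]
      constructor
      · intro h; exact absurd h hx
      · intro h; exact absurd ((inv_mem_iff (x := b)).mp h) hb
    obtain ⟨j, hj⟩ := mem_zpowers_iff.mp hxb
    have hxe : x = a ^ j * b := by rw [hj]; group
    have h1 : x * a * x⁻¹ = a ^ ε := by
      rw [hxe]
      calc a ^ j * b * a * (a ^ j * b)⁻¹ = a ^ j * (b * a * b⁻¹) * (a ^ j)⁻¹ := by group
        _ = a ^ j * a ^ ε * (a ^ j)⁻¹ := by rw [hε]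
        _ = a ^ ε := by rw [← zpow_add, ← zpow_neg, ← zpow_add]; congr 1; ring
    exact conj_zpow_of_conj_eq h1 i
  have hF1 : ∀ x : G, x ∉ zpowers a → ∀ c ∈ zpowers a, x * c * x⁻¹ = c → c ^ 2 = 1 := by
    intro x hx c hc hxc
    obtain ⟨i, rfl⟩ := mem_zpowers_iff.mp hc
    rw [hconj x hx i] at hxc
    have h1 : a ^ (i * (ε - 1)) = 1 := by
      have : i * (ε - 1) = ε * i - i := by ring
      rw [this, zpow_sub, hxc, mul_inv_cancel]
    rw [← orderOf_dvd_iff_zpow_eq_one, ha] at h1
    have h2 : (2 : ℤ) ^ (N + 2) ∣ 2 * i := hεd i (by exact_mod_cast h1)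
    rw [← zpow_natCast, ← zpow_mul]
    apply orderOf_dvd_iff_zpow_eq_one.mp
    rw [ha]; push_cast; rw [mul_comm]; exact h2
  have hHA : ¬ H ≤ zpowers a := by
    intro hle
    exact hH (Subgroup.isCyclic_of_le hle)
  obtain ⟨x, hxH, hxA⟩ := SetLike.not_le_iff_exists.mp hHA
  have hzH : z ∈ H := by
    by_contra hzH
    have hinf : ∀ c ∈ H, c ∈ zpowers a → c = 1 := by
      intro c hcH hcA
      by_contra hc1
      obtain ⟨j, hj⟩ : ∃ j, orderOf c = 2 ^ j := by
        have hdvd : orderOf c ∣ 2 ^ (N + 2) := by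
          rw [← ha]; exact orderOf_dvd_of_mem_zpowers hcA
        obtain ⟨j, -, hj⟩ := (Nat.dvd_prime_pow Nat.prime_two).mp hdvd
        exact ⟨j, hj⟩
      have hj1 : 1 ≤ j := by
        by_contra hlt
        have : j = 0 := by omega
        rw [this, pow_zero, orderOf_eq_one_iff] at hj
        exact hc1 hj
      obtain ⟨j', rfl⟩ : ∃ j', j = j' + 1 := ⟨j - 1, by omega⟩
      have hw2 : (c ^ (2 ^ j')) ^ 2 = 1 := by
        rw [← pow_mul, ← pow_succ, ← hj]; exact pow_orderOf_eq_one c
      have hw1 : c ^ (2 ^ j') ≠ 1 := by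
        apply pow_ne_one_of_lt_orderOf (by positivity)
        rw [hj]; exact Nat.pow_lt_pow_right (by norm_num) (by omega)
      rcases hF2 _ (pow_mem hcA _) hw2 with h | h
      · exact hw1 h
      · exact hzH (h ▸ pow_mem hcH _)
    apply hH
    have hHx : H = zpowers x := by
      apply le_antisymm
      · intro h hh
        by_cases hhA : h ∈ zpowers a
        · rw [hinf h hh hhA]; exact one_mem _
        · have h1 : h * x⁻¹ ∈ zpowers a := by
            rw [Subgroup.mul_mem_iff_of_index_two hidx]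
            constructor
            · intro h'; exact absurd h' hhA
            · intro h'; exact absurd ((inv_mem_iff (x := x)).mp h') hxA
          have h2 := hinf _ (mul_mem hh (inv_mem hxH)) h1
          have : h = x := by
            calc h = (h * x⁻¹) * x := by group
              _ = x := by rw [h2, one_mul]
          rw [this]; exact mem_zpowers x
      · exact zpowers_le.mpr hxH
    rw [hHx]
    exact (Subgroup.isCyclic_iff_exists_zpowers_eq_top _).mpr ⟨x, rfl⟩
  intro g hg
  rw [mem_centralizer_iff] at hg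
  have hgx : x * g = g * x := hg x hxH
  by_cases hgA : g ∈ zpowers a
  · have h1 : x * g * x⁻¹ = g := by rw [hgx]; group
    rcases hF2 g hgA (hF1 x hxA g hgA h1) with h | h
    · rw [h]; exact one_mem _
    · rw [h]; exact hzH
  · have hc : g * x⁻¹ ∈ zpowers a := by
      rw [Subgroup.mul_mem_iff_of_index_two hidx]
      constructor
      · intro h'; exact absurd h' hgA
      · intro h'; exact absurd ((inv_mem_iff (x := x)).mp h') hxA
    have h1 : x * (g * x⁻¹) * x⁻¹ = g * x⁻¹ := by
      calc x * (g * x⁻¹) * x⁻¹ = (x * g) * x⁻¹ * x⁻¹ := by group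
        _ = g * x * x⁻¹ * x⁻¹ := by rw [hgx]
        _ = g * x⁻¹ := by group
    have hg' : g = (g * x⁻¹) * x := by group
    rcases hF2 _ hc (hF1 x hxA _ hc h1) with h | h
    · rw [hg', h, one_mul]; exact hxH
    · rw [hg', h]; exact mul_mem hzH hxH

end Cfsg.Agent.Lib.helper59
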