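import Cfsg.Agent.Lib.helper59.FGT2C2core
import Cfsg.Agent.Lib.helper17.FGAUT

/-! S1915 split (architect helper42), piece T2C2: `case_faithful_types` (canonical name, verbatim Skel
statement), from the core and the landed AUT (helper17). -/

set_option autoImplicit false

namespace Cfsg.Agent.Lib.helper42.FG

variable {G : Type*} [Group G] [Finite G]

/-- T2C2 -/
theorem case_faithful_types {A S U : Subgroup G} (h : Cfg A S U) {B : Subgroup G} (hB : BData S U B)
    {z : G} (hzB : z ∈ B) (hz : ZData S z) (hII : ∀ u ∈ U, u ≠ 1 → ∃ x ∈ B, u * x ≠ x * u)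
    (b : G) (hb : Subgroup.zpowers b = B) :
    b * b ≠ z ∧ (∃ u ∈ U, u * b * u⁻¹ = b * z) ∧ (∃ u ∈ U, u * b * u⁻¹ = b⁻¹ * z) :=
  h59_case_faithful_types_core (fun b z t h2 hzb hz2 htb htt => aut_cyclic_two b z t h2 hzb hz2 htb htt)
    h hB hzB hz hII b hb

end Cfsg.Agent.Lib.helper42.FG
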