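import Mathlib
import Cfsg.Prelude.Def_OddOrderLocal
import Cfsg.Prelude.Def_Solvable
import Cfsg.Agent.S1350
import Cfsg.Agent.S1429
import Cfsg.Agent.S1432
import Cfsg.Agent.Lib.helper59.BG1376A
import Cfsg.Agent.Lib.helper29.FittingHall
import Cfsg.Agent.Lib.helper30.BGKsF
import Cfsg.Agent.Lib.helper60.BGCentU
import Cfsg.Agent.Lib.helper69.BGKappaA
import Cfsg.Agent.Lib.helper71.NilMax

/-!
# S1376, part B: clauses 1 and 3, and the Frobenius packaging of clause 2

In the setting of `BG1376A` (`E := M ∩ N*` a complement of `M_σ` in `M`, `K ≤ E`, `κ(M) = ∅`):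
* `sigma_nilpotent` : `M_σ` is nilpotent (S1429);
* `not_TI` : `M_F` is not a TI-subset of `G`;
* `fpf` : if `τ₂(M) = ∅`, every non-identity element of `E` acts fixed-point-freely on `M_σ`;
* `frob` : then `E` (inside `M`) is a Frobenius complement;
* `concl_of` : the conclusion of S1376 from `τ₂(M) = ∅` and `E` cyclic.
-/

set_option autoImplicit false

namespace Cfsg.Agent.Lib.helper59.BG1376

open Cfsg Subgroup

variable {G : Type*} [Group G]

theorem Setting.hKE {M N K U Ns : Subgroup G} {x : G} (s : Setting M N K U Ns x) :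
    K ≤ M ⊓ Ns := by
  refine s.hKF.trans ?_
  unfold fittingOf
  exact map_subtype_le _

/-- `|M : M_σ| = |E|`. -/
theorem Setting.relIndex_eq [Finite G] {M N K U Ns : Subgroup G} {x : G}
    (s : Setting M N K U Ns x) : (sigmaCore M).relIndex M = Nat.card ↥(M ⊓ Ns) := by
  have h1 := Cfsg.Agent.Lib.helper60.BGCentU.card_of_isComplIn s.hE
  have h2 := Cfsg.Agent.Lib.helper69.bgk_card_mul_relIndex s.hE.2.1
  rw [← h1, mul_comm] at h2
  exact Nat.eq_of_mul_eq_mul_right Nat.card_pos h2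

/-- No prime of `σ(M)` divides `|E|`. -/
theorem Setting.not_sigma [Finite G] (hG : IsMinSimpleOddOrder G) {M N K U Ns : Subgroup G}
    {x : G} (s : Setting M N K U Ns x) (p : ℕ) (hp : p.Prime) (hpE : p ∣ Nat.card ↥(M ⊓ Ns)) :
    p ∉ sigma M := by
  intro hpσ
  have hHallM : IsPiHallOf (sigma M) (sigmaCore M) M := (Cfsg.Agent.S1350.result hG M s.hM).1
  apply hHallM.2.2 p hp hpσ
  rw [s.relIndex_eq]
  exact hpE

/-- `M_σ` is nilpotent. -/
theorem sigma_nilpotent [Finite G] (hG : IsMinSimpleOddOrder G) {M N K U Ns : Subgroup G}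
    {x : G} (s : Setting M N K U Ns x) : Group.IsNilpotent (sigmaCore M) := by
  have hK1 : Nat.card K ≠ 1 := fun h => s.hK1 (Subgroup.eq_bot_of_card_eq K h)
  obtain ⟨p, hp, hpK⟩ := Nat.exists_prime_and_dvd hK1
  have : Fact p.Prime := ⟨hp⟩
  have hpE : p ∣ Nat.card ↥(M ⊓ Ns) := hpK.trans (Subgroup.card_dvd_of_le s.hKE)
  have hpM : p ∣ Nat.card M := hpE.trans (Subgroup.card_dvd_of_le inf_le_left)
  have hpσ : p ∉ sigma M := s.not_sigma hG p hp hpE
  have hpκ : p ∉ kappa M := by rw [s.hκ]; exact Set.notMem_empty p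
  have hP1 : ¬ (∀ q : ℕ, q.Prime → q ∣ Nat.card M → q ∉ sigma M → q ∈ kappa M) := by
    intro h
    exact hpκ (h p hp hpM hpσ)
  obtain ⟨S⟩ : Nonempty (Sylow p M) := inferInstance
  exact (Cfsg.Agent.S1429.result hG M s.hM hP1 p hpM
    (fun h => h.elim hpσ hpκ) S).2.2

/-- `M_F` is not a TI-subset of `G`. -/
theorem not_TI [Finite G] (hG : IsMinSimpleOddOrder G) {M N K U Ns : Subgroup G}
    {x : G} (s : Setting M N K U Ns x) : ¬ IsTISubset (fittingHallOf M : Set G) := by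
  intro hTI
  have hnil := sigma_nilpotent hG s
  have hσF : sigmaCore M ≤ fittingHallOf M :=
    Cfsg.Agent.Lib.helper30.BGKsF.sigmaCore_le_fittingHallOf hG M s.hM hnil
  have hxF : x ∈ fittingHallOf M := hσF s.hx
  obtain ⟨hodd, hsimple, hna, hsolv⟩ := id hG
  have hcore : ∀ L : Subgroup G, L.Normal → L ≤ M → L = ⊥ := by
    intro L hL hLM
    rcases hsimple.eq_bot_or_eq_top_of_normal L hL with h | h
    · exact h
    · exfalso
      apply s.hM.1
      rw [eq_top_iff, ← h]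
      exact hLM
  have hF1 : fittingHallOf M ≠ ⊥ := by
    intro h
    rw [h, mem_bot] at hxF
    exact s.hx1 hxF
  have hnorm : normalizer (fittingHallOf M : Set G) = M :=
    Cfsg.Agent.Lib.helper71.normalizer_eq_of_coatom s.hM hcore
      (Cfsg.Agent.Lib.helper29.fittingHallOf_le M) hF1
      (Cfsg.Agent.Lib.helper29.le_normalizer_fittingHallOf M)
  -- an element of `C_G(x)` outside `M`
  obtain ⟨c, hc, hcM⟩ := SetLike.not_le_iff_exists.mp s.hxM
  have hcn : c ∉ normalizer (fittingHallOf M : Set G) := by rw [hnorm]; exact hcM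
  have hcx : c * x * c⁻¹ = x := by
    have h1 : x * c = c * x := mem_centralizer_iff.mp hc x (Set.mem_singleton x)
    rw [← h1, mul_inv_cancel_right]
  apply s.hx1
  apply hTI c hcn x hxF
  rw [hcx]
  exact hxF

/-- If `τ₂(M) = ∅`, every non-identity element of `E` is fixed-point-free on `M_σ`. -/
theorem fpf [Finite G] (hG : IsMinSimpleOddOrder G) {M N K U Ns : Subgroup G}
    {x : G} (s : Setting M N K U Ns x) (hτ : tau2 M = ∅) :
    ∀ e ∈ M ⊓ Ns, e ≠ 1 → ∀ y ∈ sigmaCore M, e * y = y * e → y = 1 := by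
  intro e he he1 y hy hey
  by_contra hy1
  have hemem : e ∈ M ⊓ centralizer ({y} : Set G) := by
    refine Subgroup.mem_inf.mpr ⟨he.1, ?_⟩
    rw [mem_centralizer_iff]
    intro z hz
    rw [Set.mem_singleton_iff] at hz
    rw [hz]
    exact hey.symm
  have hoe : orderOf e ∣ Nat.card ↥(M ⊓ Ns) := by
    have h1 : orderOf (⟨e, he⟩ : ↥(M ⊓ Ns)) ∣ Nat.card ↥(M ⊓ Ns) := orderOf_dvd_natCard _
    rwa [Subgroup.orderOf_mk] at h1
  have hσ : ∀ p : ℕ, p.Prime → p ∣ orderOf e → p ∉ sigma M := fun p hp hpe =>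
    s.not_sigma hG p hp (hpe.trans hoe)
  have hoe1 : orderOf e ≠ 1 := fun h => he1 (orderOf_eq_one_iff.mp h)
  obtain ⟨p, hp, hpe⟩ := Nat.exists_prime_and_dvd hoe1
  rcases Cfsg.Agent.S1432.result hG M s.hM y hy hy1 e hemem he1 hσ with h | h
  · have := h.1 p hp hpe
    rw [s.hκ] at this
    exact this
  · have := h.1 p hp hpe
    rw [hτ] at this
    exact this

/-- A complement `E` of the normal subgroup `S` of `M` acting fixed-point-freely on `S ≠ 1`,
`E ≠ 1`, is a Frobenius complement of `M`. -/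
theorem frob_of_fpf {M E S : Subgroup G} (hE : IsComplIn E S M)
    (hSn : M ≤ normalizer (S : Set G)) (hE1 : E ≠ ⊥) (hS1 : S ≠ ⊥)
    (hfpf : ∀ e ∈ E, e ≠ 1 → ∀ y ∈ S, e * y = y * e → y = 1) :
    IsFrobeniusComplement (E.subgroupOf M) := by
  obtain ⟨hEM, hSM, hES, hprod⟩ := hE
  refine ⟨?_, ?_, ?_⟩
  · intro h
    apply hE1
    rw [eq_bot_iff]
    intro e he
    have h1 : (⟨e, hEM he⟩ : ↥M) ∈ E.subgroupOf M := mem_subgroupOf.mpr he
    rw [h, mem_bot] at h1
    have := congrArg Subtype.val h1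
    exact this
  · intro h
    apply hS1
    rw [eq_bot_iff]
    intro y hy
    have h1 : (⟨y, hSM hy⟩ : ↥M) ∈ E.subgroupOf M := by rw [h]; exact mem_top _
    have h2 : y ∈ E ⊓ S := ⟨mem_subgroupOf.mp h1, hy⟩
    rwa [hES] at h2
  · intro g hg
    rw [eq_bot_iff]
    rintro z ⟨hz1, hz2⟩
    have hzE : (z : G) ∈ E := mem_subgroupOf.mp hz1
    have hw : (MulAut.conj g)⁻¹ • z ∈ E.subgroupOf M :=
      Subgroup.mem_pointwise_smul_iff_inv_smul_mem.mp hz2
    have hwE : ((g⁻¹ * z * g : ↥M) : G) ∈ E := by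
      have h3 : (MulAut.conj g)⁻¹ • z = g⁻¹ * z * g := by
        rw [MulAut.smul_def, MulAut.conj_inv_apply]
      rw [h3] at hw
      exact mem_subgroupOf.mp hw
    -- write `g = a * b`
    obtain ⟨a, ha, b, hb, hgab⟩ := hprod (g : G) g.2
    have hb1 : b ≠ 1 := by
      intro h
      apply hg
      rw [h, mul_one] at hgab
      rw [mem_subgroupOf, hgab]
      exact ha
    -- `e := b⁻¹ (a⁻¹ z a) b ∈ E`, with `z' := a⁻¹ z a ∈ E`
    obtain ⟨z', hz'def⟩ : ∃ z' : G, z' = a⁻¹ * (z : G) * a := ⟨_, rfl⟩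
    have hz'E : z' ∈ E := by
      rw [hz'def]; exact E.mul_mem (E.mul_mem (E.inv_mem ha) hzE) ha
    have he : b⁻¹ * z' * b ∈ E := by
      have e1 : b⁻¹ * z' * b = (g : G)⁻¹ * (z : G) * (g : G) := by
        rw [hz'def, hgab]; group
      rw [e1]
      exact hwE
    -- `z'⁻¹ * (b⁻¹ z' b) ∈ E ∩ S`
    have hbn : z'⁻¹ * b⁻¹ * z' ∈ S := by
      have h4 := (mem_normalizer_iff.mp (hSn (hEM (E.inv_mem hz'E))) b⁻¹).mp (S.inv_mem hb)
      rwa [inv_inv] at h4
    have h5 : z'⁻¹ * (b⁻¹ * z' * b) ∈ E ⊓ S := by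
      refine ⟨E.mul_mem (E.inv_mem hz'E) he, ?_⟩
      have e2 : z'⁻¹ * (b⁻¹ * z' * b) = (z'⁻¹ * b⁻¹ * z') * b := by group
      rw [e2]
      exact S.mul_mem hbn hb
    rw [hES, mem_bot] at h5
    have hcomm : z' * b = b * z' := by
      have e3 : b⁻¹ * z' * b = z' := by
        have := congrArg (fun t => z' * t) h5
        simpa [mul_assoc] using this
      have h6 := congrArg (fun t => b * t) e3
      simpa [mul_assoc] using h6
    have hz'1 : z' = 1 := by
      by_contra hne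
      exact hb1 (hfpf z' hz'E hne b hb hcomm)
    have hz1' : (z : G) = 1 := by
      rw [hz'def] at hz'1
      have : (z : G) = a * (a⁻¹ * (z : G) * a) * a⁻¹ := by group
      rw [this, hz'1]; group
    rw [mem_bot]
    exact Subtype.ext hz1'

/-- The conclusion of S1376 from `τ₂(M) = ∅` and the cyclicity of `E = M ∩ N*`. -/
theorem concl_of [Finite G] (hG : IsMinSimpleOddOrder G) {M N K U Ns : Subgroup G} {x : G}
    (s : Setting M N K U Ns x) (hτ : tau2 M = ∅) (hcyc : IsCyclic ↥(M ⊓ Ns)) :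
    kappa M = ∅ ∧ (∃ E : Subgroup ↥M, IsFrobeniusComplement E ∧ IsCyclic E) ∧
      ¬ IsTISubset (fittingHallOf M : Set G) := by
  refine ⟨s.hκ, ⟨(M ⊓ Ns).subgroupOf M, ?_, ?_⟩, not_TI hG s⟩
  · refine frob_of_fpf s.hE (Cfsg.Agent.Lib.helper71.BGA.le_normalizer_sigmaCore M) ?_ ?_
      (fpf hG s hτ)
    · intro h
      apply s.hK1
      rw [eq_bot_iff, ← h]
      exact s.hKE
    · intro h
      have := s.hx
      rw [h, mem_bot] at this
      exact s.hx1 this
  · have e : ↥((M ⊓ Ns).subgroupOf M) ≃* ↥(M ⊓ Ns) :=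
      Subgroup.subgroupOfEquivOfLe inf_le_left
    exact isCyclic_of_surjective e.symm.toMonoidHom e.symm.surjective

/-- S1376 from the frozen S1435 and the two remaining inputs: `τ₂(M) = ∅` and `E` cyclic. -/
theorem s1376_of [Finite G] (hG : IsMinSimpleOddOrder G) (h35 : H1435 G)
    (hT2 : ∀ (M N K U Ns : Subgroup G) (x : G), Setting M N K U Ns x → tau2 M = ∅)
    (hCyc : ∀ (M N K U Ns : Subgroup G) (x : G), Setting M N K U Ns x → tau2 M = ∅ →
      IsCyclic ↥(M ⊓ Ns))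
    (M : Subgroup G) (hM : IsCoatom M) (x : G) (hx : x ∈ sigmaCore M) (hx1 : x ≠ 1)
    (hxM : ¬ centralizer ({x} : Set G) ≤ M)
    (N : Subgroup G) (hN : IsCoatom N) (hxN : centralizer ({x} : Set G) ≤ N)
    (hkN : (kappa N).Nonempty) :
    kappa M = ∅ ∧ (∃ E : Subgroup ↥M, IsFrobeniusComplement E ∧ IsCyclic E) ∧
      ¬ IsTISubset (fittingHallOf M : Set G) := by
  obtain ⟨K, U, Ns, s⟩ := setting hG h35 M hM x hx hx1 hxM N hN hxN hkN
  have hτ := hT2 M N K U Ns x s
  exact concl_of hG s hτ (hCyc M N K U Ns x s hτ)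

end Cfsg.Agent.Lib.helper59.BG1376
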