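import Mathlib
import Cfsg.Prelude.Def_OddOrderLocal
import Cfsg.Prelude.Def_Solvable
import Cfsg.Agent.S1350
import Cfsg.Agent.S1430
import Cfsg.Agent.Lib.helper59.BG1376B
import Cfsg.Agent.Lib.helper10.BGTau2P2
import Cfsg.Agent.Lib.helper88.BG1376AB
import Cfsg.Agent.Lib.helper27.BGKPrime
import Cfsg.Agent.Lib.helper69.BGKappaB

/-!
# S1376, part C: the assembly

`s1376_main` : the statement S1376 from the frozen S1435 and S1364 (as hypotheses), using
* `BG1376A.setting` / `BG1376B.sigma_nilpotent` / `BG1376B.not_TI` (helper59),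
* `helper10.BGTau2P2.tau2_empty_of_setting` (`τ₂(M) = ∅`),
* `helper88.BG1376.s1376_cl2` (cyclic Frobenius complement).
-/

set_option autoImplicit false

namespace Cfsg.Agent.Lib.helper59.BG1376

open Cfsg Subgroup

variable {G : Type*} [Group G]

/-- `M ≠ N*`. -/
theorem Setting.ne_Ns {M N K U Ns : Subgroup G} {x : G} (s : Setting M N K U Ns x) :
    M ≠ Ns := by
  rintro rfl
  apply s.hK1
  rw [eq_bot_iff]
  intro k hk
  have h1 : k ∈ sigmaCore M := by
    have h2 := hk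
    rw [s.hKst] at h2
    exact h2.1
  have h3 : k ∈ (M ⊓ M) ⊓ sigmaCore M := ⟨s.hKE hk, h1⟩
  rwa [s.hE.2.2.1] at h3

/-- `|K|` is a prime. -/
theorem Setting.kprime [Finite G] (hG : IsMinSimpleOddOrder G) {M N K U Ns : Subgroup G}
    {x : G} (s : Setting M N K U Ns x) : (Nat.card K).Prime :=
  Cfsg.Agent.Lib.helper27.BGKP.kappa_card_prime hG
    (fun M hM K hK hK1 => Cfsg.Agent.S1430.result hG M hM K hK hK1) N s.hN K s.hKU.hall s.hK1 U
    s.hKU.compl s.hU1

/-- `C_M(x) ≤ M_σ` (indeed `C_M(x) ≤ U`). -/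
theorem Setting.cent_x [Finite G] (hG : IsMinSimpleOddOrder G) {M N K U Ns : Subgroup G}
    {x : G} (s : Setting M N K U Ns x) : M ⊓ centralizer ({x} : Set G) ≤ sigmaCore M := by
  have hHall : IsPiHallOf (sigma N) (sigmaCore N) N := (Cfsg.Agent.S1350.result hG N s.hN).1
  obtain ⟨huab, hureg⟩ := Cfsg.Agent.Lib.helper69.bgk_decomp_facts hG
    (fun M hM K hK hK1 => Cfsg.Agent.S1430.result hG M hM K hK hK1) N s.hN hHall K U s.hKU s.hK1
  intro c hc
  have hcM : c ∈ M := hc.1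
  have hcx : c ∈ centralizer ({x} : Set G) := hc.2
  have hcN : c ∈ N := s.hxN hcx
  have hcE : c ∈ U ⊔ K := by rw [← s.hMN]; exact ⟨hcN, hcM⟩
  obtain ⟨u, hu, k, hk, rfl⟩ :=
    Cfsg.Agent.Lib.helper29.exists_mul_of_mem_sup_of_le_normalizer s.hKU.normal hcE
  have h1 : x * (u * k) = u * k * x := mem_centralizer_iff.mp hcx x (Set.mem_singleton x)
  have h2 : x * u = u * x := huab x s.hxU u hu
  have h3 : x * k = k * x := by
    have e : u * (x * k) = u * (k * x) := by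
      rw [← mul_assoc, ← h2, mul_assoc, h1, mul_assoc]
    exact mul_left_cancel e
  have hk1 : k = 1 := by
    by_contra hne
    have h4 : x ∈ U ⊓ centralizer ({k} : Set G) := by
      refine Subgroup.mem_inf.mpr ⟨s.hxU, ?_⟩
      rw [mem_centralizer_iff]
      intro z hz
      rw [Set.mem_singleton_iff] at hz
      rw [hz]
      exact h3.symm
    rw [hureg k hk hne, mem_bot] at h4
    exact s.hx1 h4
  rw [hk1, mul_one]
  exact s.hUσ hu

/-- S1376, from the frozen statements S1435 and S1364. -/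
theorem s1376_main [Finite G] (hG : IsMinSimpleOddOrder G) (h35 : H1435 G)
    (h64 : Cfsg.Agent.Lib.helper10.BGTau2P2.H1364 G)
    (M : Subgroup G) (hM : IsCoatom M) (x : G) (hx : x ∈ sigmaCore M) (hx1 : x ≠ 1)
    (hxM : ¬ centralizer ({x} : Set G) ≤ M)
    (N : Subgroup G) (hN : IsCoatom N) (hxN : centralizer ({x} : Set G) ≤ N)
    (hkN : (kappa N).Nonempty) :
    kappa M = ∅ ∧ (∃ E : Subgroup ↥M, IsFrobeniusComplement E ∧ IsCyclic E) ∧
      ¬ IsTISubset (fittingHallOf M : Set G) := by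
  obtain ⟨K, U, Ns, s⟩ := setting hG h35 M hM x hx hx1 hxM N hN hxN hkN
  have hτ : tau2 M = ∅ :=
    Cfsg.Agent.Lib.helper10.BGTau2P2.tau2_empty_of_setting hG h64 M hM N hN K U s.hKU s.hK1
      (s.kprime hG) Ns s.hNs s.hKst s.hKstH s.hE s.hKF s.ne_Ns x hx (s.cent_x hG)
  have hE1 : M ⊓ Ns ≠ ⊥ := by
    intro h
    apply s.hK1
    rw [eq_bot_iff, ← h]
    exact s.hKE
  exact ⟨s.hκ,
    Cfsg.Agent.Lib.helper88.BG1376.s1376_cl2 hG M hM (M ⊓ Ns) s.hE hE1 (sigma_nilpotent hG s)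
      s.hκ hτ x hx hx1 hxM,
    not_TI hG s⟩

end Cfsg.Agent.Lib.helper59.BG1376
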