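import Mathlib

/-!
# `π`-parts of elements of finite groups

* `exists_pi_decomp`: `g = a * b` with `a, b` powers of `g`, `a` a `π`-element, `b` a `π'`-element.
* `pi_decomp_unique`: uniqueness of such a commuting decomposition.
-/

set_option autoImplicit false

namespace Cfsg.Agent.Lib.helper59.BGPiElt

theorem nat_pi_split (π : Set ℕ) (n : ℕ) : n ≠ 0 → ∃ a b : ℕ, a * b = n ∧
    (∀ p : ℕ, p.Prime → p ∣ a → p ∈ π) ∧ (∀ p : ℕ, p.Prime → p ∣ b → p ∉ π) := by
  induction n using Nat.recOnMul with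
  | zero => intro h; exact absurd rfl h
  | one =>
    intro _
    refine ⟨1, 1, rfl, ?_, ?_⟩
    · intro p hp hd
      exact absurd (Nat.dvd_one.mp hd) hp.one_lt.ne'
    · intro p hp hd
      exact absurd (Nat.dvd_one.mp hd) hp.one_lt.ne'
  | prime q hq =>
    intro _
    by_cases hqπ : q ∈ π
    · refine ⟨q, 1, mul_one q, ?_, ?_⟩
      · intro p hp hd
        rw [(Nat.prime_dvd_prime_iff_eq hp hq).mp hd]
        exact hqπ
      · intro p hp hd
        exact absurd (Nat.dvd_one.mp hd) hp.one_lt.ne'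
    · refine ⟨1, q, one_mul q, ?_, ?_⟩
      · intro p hp hd
        exact absurd (Nat.dvd_one.mp hd) hp.one_lt.ne'
      · intro p hp hd
        rw [(Nat.prime_dvd_prime_iff_eq hp hq).mp hd]
        exact hqπ
  | mul m n ihm ihn =>
    intro hmn
    obtain ⟨a₁, b₁, e₁, ha₁, hb₁⟩ := ihm (fun h => hmn (by rw [h, zero_mul]))
    obtain ⟨a₂, b₂, e₂, ha₂, hb₂⟩ := ihn (fun h => hmn (by rw [h, mul_zero]))
    refine ⟨a₁ * a₂, b₁ * b₂, ?_, ?_, ?_⟩
    · rw [← e₁, ← e₂]; ring
    · intro p hp hd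
      rcases hp.dvd_mul.mp hd with h | h
      · exact ha₁ p hp h
      · exact ha₂ p hp h
    · intro p hp hd
      rcases hp.dvd_mul.mp hd with h | h
      · exact hb₁ p hp h
      · exact hb₂ p hp h

theorem coprime_of_pi {π : Set ℕ} {a b : ℕ} (ha : ∀ p : ℕ, p.Prime → p ∣ a → p ∈ π)
    (hb : ∀ p : ℕ, p.Prime → p ∣ b → p ∉ π) : a.Coprime b :=
  Nat.coprime_of_dvd (fun p hp h1 h2 => hb p hp h2 (ha p hp h1))

variable {X : Type*} [Group X]

/-- The `π`-part and the `π'`-part of an element of finite order. -/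
theorem exists_pi_decomp [Finite X] (π : Set ℕ) (g : X) :
    ∃ a b : X, a ∈ Subgroup.zpowers g ∧ b ∈ Subgroup.zpowers g ∧ g = a * b ∧
      (∀ p : ℕ, p.Prime → p ∣ orderOf a → p ∈ π) ∧ (∀ p : ℕ, p.Prime → p ∣ orderOf b → p ∉ π) := by
  obtain ⟨m₁, m₂, hm, h1, h2⟩ := nat_pi_split π (orderOf g) (orderOf_pos g).ne'
  have hcop : Nat.gcd m₁ m₂ = 1 := coprime_of_pi h1 h2
  have hbez : (m₁ : ℤ) * Nat.gcdA m₁ m₂ + (m₂ : ℤ) * Nat.gcdB m₁ m₂ = 1 := by
    have := Nat.gcd_eq_gcd_ab m₁ m₂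
    rw [hcop] at this
    rw [← this]; simp
  refine ⟨g ^ ((m₂ : ℤ) * Nat.gcdB m₁ m₂), g ^ ((m₁ : ℤ) * Nat.gcdA m₁ m₂),
    Subgroup.zpow_mem _ (Subgroup.mem_zpowers g) _, Subgroup.zpow_mem _ (Subgroup.mem_zpowers g) _,
    ?_, ?_, ?_⟩
  · rw [← zpow_add, add_comm, hbez, zpow_one]
  · intro p hp hd
    apply h1 p hp
    apply hd.trans
    apply orderOf_dvd_of_pow_eq_one
    rw [← zpow_natCast, ← zpow_mul]
    have e : (m₂ : ℤ) * Nat.gcdB m₁ m₂ * (m₁ : ℤ) = ((orderOf g : ℕ) : ℤ) * Nat.gcdB m₁ m₂ := by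
      rw [← hm]; push_cast; ring
    rw [e, zpow_mul, zpow_natCast, pow_orderOf_eq_one, one_zpow]
  · intro p hp hd
    apply h2 p hp
    apply hd.trans
    apply orderOf_dvd_of_pow_eq_one
    rw [← zpow_natCast, ← zpow_mul]
    have e : (m₁ : ℤ) * Nat.gcdA m₁ m₂ * (m₂ : ℤ) = ((orderOf g : ℕ) : ℤ) * Nat.gcdA m₁ m₂ := by
      rw [← hm]; push_cast; ring
    rw [e, zpow_mul, zpow_natCast, pow_orderOf_eq_one, one_zpow]

/-- For commuting elements of coprime orders, the first factor is a power of the product. -/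
theorem left_eq_zpow_mul {a r : X} (hc : Commute a r)
    (hcop : (orderOf a).Coprime (orderOf r)) :
    a = (a * r) ^ ((orderOf r : ℤ) * Nat.gcdB (orderOf a) (orderOf r)) := by
  have hg : Nat.gcd (orderOf a) (orderOf r) = 1 := hcop
  have hbez : (orderOf a : ℤ) * Nat.gcdA (orderOf a) (orderOf r) +
      (orderOf r : ℤ) * Nat.gcdB (orderOf a) (orderOf r) = 1 := by
    have := Nat.gcd_eq_gcd_ab (orderOf a) (orderOf r)
    rw [hg] at this
    rw [← this]; simp
  have h1 : r ^ ((orderOf r : ℤ) * Nat.gcdB (orderOf a) (orderOf r)) = 1 := by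
    rw [zpow_mul, zpow_natCast, pow_orderOf_eq_one, one_zpow]
  have h2 : a ^ ((orderOf a : ℤ) * Nat.gcdA (orderOf a) (orderOf r)) = 1 := by
    rw [zpow_mul, zpow_natCast, pow_orderOf_eq_one, one_zpow]
  have h3 : a ^ ((orderOf r : ℤ) * Nat.gcdB (orderOf a) (orderOf r)) = a := by
    have h4 : a ^ (1 : ℤ) = a := zpow_one a
    rw [← hbez, zpow_add, h2, one_mul] at h4
    exact h4
  rw [hc.mul_zpow, h1, mul_one, h3]

theorem left_mem_zpowers_mul {a r : X} (hc : Commute a r)
    (hcop : (orderOf a).Coprime (orderOf r)) : a ∈ Subgroup.zpowers (a * r) := by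
  exact Subgroup.mem_zpowers_iff.mpr ⟨_, (left_eq_zpow_mul hc hcop).symm⟩

theorem right_mem_zpowers_mul {a r : X} (hc : Commute a r)
    (hcop : (orderOf a).Coprime (orderOf r)) : r ∈ Subgroup.zpowers (a * r) := by
  have h := left_mem_zpowers_mul (a := r) (r := a) hc.symm hcop.symm
  rwa [hc.symm.eq] at h

theorem commute_of_mem_zpowers {z a b : X} (ha : a ∈ Subgroup.zpowers z)
    (hb : b ∈ Subgroup.zpowers z) : Commute a b := by
  obtain ⟨i, rfl⟩ := Subgroup.mem_zpowers_iff.mp ha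
  obtain ⟨j, rfl⟩ := Subgroup.mem_zpowers_iff.mp hb
  exact (Commute.refl z).zpow_zpow i j

/-- A prime dividing the order of a product of commuting elements divides the order of one of
them. -/
theorem prime_dvd_orderOf_mul {a r : X} (hc : Commute a r) {p : ℕ} (hp : p.Prime)
    (hd : p ∣ orderOf (a * r)) : p ∣ orderOf a ∨ p ∣ orderOf r := by
  apply hp.dvd_mul.mp
  apply hd.trans
  apply orderOf_dvd_of_pow_eq_one
  rw [hc.mul_pow, pow_mul, pow_orderOf_eq_one, one_pow, one_mul, mul_comm, pow_mul,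
    pow_orderOf_eq_one, one_pow]

/-- The order of a factor divides the order of the product (commuting, coprime orders). -/
theorem orderOf_left_dvd_mul {a r : X} (hc : Commute a r)
    (hcop : (orderOf a).Coprime (orderOf r)) : orderOf a ∣ orderOf (a * r) := by
  obtain ⟨i, hi⟩ := Subgroup.mem_zpowers_iff.mp (left_mem_zpowers_mul hc hcop)
  generalize a * r = z at hi ⊢
  subst hi
  apply orderOf_dvd_of_pow_eq_one
  rw [← zpow_natCast, ← zpow_mul, mul_comm, zpow_mul, zpow_natCast, pow_orderOf_eq_one, one_zpow]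

theorem orderOf_right_dvd_mul {a r : X} (hc : Commute a r)
    (hcop : (orderOf a).Coprime (orderOf r)) : orderOf r ∣ orderOf (a * r) := by
  have h := orderOf_left_dvd_mul (a := r) (r := a) hc.symm hcop.symm
  rwa [hc.symm.eq] at h

/-- Uniqueness of the decomposition into commuting `π`- and `π'`-parts. -/
theorem pi_decomp_unique [Finite X] (π : Set ℕ) {a r b s : X}
    (hab : a * r = b * s) (har : Commute a r) (hbs : Commute b s)
    (ha : ∀ p : ℕ, p.Prime → p ∣ orderOf a → p ∈ π)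
    (hb : ∀ p : ℕ, p.Prime → p ∣ orderOf b → p ∈ π)
    (hr : ∀ p : ℕ, p.Prime → p ∣ orderOf r → p ∉ π)
    (hs : ∀ p : ℕ, p.Prime → p ∣ orderOf s → p ∉ π) : a = b ∧ r = s := by
  have ha' : a ∈ Subgroup.zpowers (a * r) := left_mem_zpowers_mul har (coprime_of_pi ha hr)
  have hr' : r ∈ Subgroup.zpowers (a * r) := right_mem_zpowers_mul har (coprime_of_pi ha hr)
  have hb' : b ∈ Subgroup.zpowers (a * r) := by
    rw [hab]; exact left_mem_zpowers_mul hbs (coprime_of_pi hb hs)
  have hs' : s ∈ Subgroup.zpowers (a * r) := by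
    rw [hab]; exact right_mem_zpowers_mul hbs (coprime_of_pi hb hs)
  have cab : Commute a b := commute_of_mem_zpowers ha' hb'
  have crs : Commute r s := commute_of_mem_zpowers hr' hs'
  have e : a⁻¹ * b = r * s⁻¹ := by
    have h1 : b = a * r * s⁻¹ := by rw [hab]; group
    rw [h1]; group
  have h1 : (a⁻¹ * b) ^ (orderOf a * orderOf b) = 1 := by
    rw [(cab.inv_left).mul_pow, inv_pow, pow_mul, pow_orderOf_eq_one, one_pow, inv_one, one_mul,
      mul_comm, pow_mul, pow_orderOf_eq_one, one_pow]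
  have h2 : (a⁻¹ * b) ^ (orderOf r * orderOf s) = 1 := by
    rw [e, (crs.inv_right).mul_pow, inv_pow, pow_mul, pow_orderOf_eq_one, one_pow, one_mul,
      mul_comm, pow_mul, pow_orderOf_eq_one, one_pow, inv_one]
  have h3 : orderOf (a⁻¹ * b) ∣ Nat.gcd (orderOf a * orderOf b) (orderOf r * orderOf s) :=
    Nat.dvd_gcd (orderOf_dvd_of_pow_eq_one h1) (orderOf_dvd_of_pow_eq_one h2)
  have h4 : Nat.gcd (orderOf a * orderOf b) (orderOf r * orderOf s) = 1 := by
    apply coprime_of_pi (π := π)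
    · intro p hp hd
      rcases hp.dvd_mul.mp hd with h | h
      · exact ha p hp h
      · exact hb p hp h
    · intro p hp hd
      rcases hp.dvd_mul.mp hd with h | h
      · exact hr p hp h
      · exact hs p hp h
  rw [h4, Nat.dvd_one, orderOf_eq_one_iff] at h3
  have hab' : a = b := by
    have := congrArg (fun t => a * t) h3
    simpa using this.symm
  refine ⟨hab', ?_⟩
  rw [hab'] at hab
  exact mul_left_cancel hab

end Cfsg.Agent.Lib.helper59.BGPiElt
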