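import Mathlib
import Cfsg.Agent.Lib.helper59.BGTildeDefs
import Cfsg.Agent.Lib.helper59.BGConj
import Cfsg.Agent.S1350

/-!
# Tilde-sets of non-conjugate maximal subgroups are disjoint (S1379, clause 1)

From the frozen statement S1433 (`H1433`) and the second clause of S1378 (`BG1431.H78`).
-/

set_option autoImplicit false
open Cfsg

namespace Cfsg.Agent.Lib.helper59.BGTilde

open Cfsg.Agent.Lib.helper59.BGConj

variable {G : Type*} [Group G]

/-- A prime divisor of the order of an element of `M_σ` lies in `σ(M)`. -/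
theorem prime_mem_sigma_of_mem_sigmaCore [Finite G] (hG : IsMinSimpleOddOrder G)
    (M : Subgroup G) (hM : IsCoatom M) {a : G} (ha : a ∈ sigmaCore M) {p : ℕ} (hp : p.Prime)
    (hpd : p ∣ orderOf a) : p ∈ sigma M := by
  obtain ⟨hHallM, -, -⟩ := Cfsg.Agent.S1350.result hG M hM
  exact hHallM.2.1 p hp (hpd.trans (Subgroup.orderOf_dvd_natCard _ ha))

theorem exists_prime_dvd_orderOf [Finite G] {a : G} (ha : a ≠ 1) :
    ∃ p : ℕ, p.Prime ∧ p ∣ orderOf a :=
  Nat.exists_prime_and_dvd (fun h => ha (orderOf_eq_one_iff.mp h))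

/-- If `N^c = M^g` then `N` is conjugate to `M`. -/
theorem conj_of_map_conj_eq {M N : Subgroup G} {c g : G}
    (h : N.map (MulAut.conj c).toMonoidHom = M.map (MulAut.conj g).toMonoidHom) :
    N = M.map (MulAut.conj (c⁻¹ * g)).toMonoidHom := by
  have h1 : (N.map (MulAut.conj c).toMonoidHom).map (MulAut.conj c⁻¹).toMonoidHom = N := by
    have := Cfsg.Agent.Lib.helper13.map_conj_inv_map_conj N c⁻¹
    rwa [inv_inv] at this
  rw [← h1, h, Cfsg.Agent.Lib.helper13.sf_map_conj_mul]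

/-- S1379, clause 1: the tilde-sets of non-conjugate maximal subgroups are disjoint. -/
theorem tilde_disjoint [Finite G] (hG : IsMinSimpleOddOrder G) (h33 : H1433 G)
    (h78 : Cfsg.Agent.Lib.helper59.BG1431.H78 G)
    (M N : Subgroup G) (hM : IsCoatom M) (hN : IsCoatom N)
    (hnc : ∀ g : G, N ≠ M.map (MulAut.conj g).toMonoidHom) :
    tildeOf M ((sigmaCore M : Set G) \ {1}) ∩ tildeOf N ((sigmaCore N : Set G) \ {1}) = ∅ := by
  rw [Set.eq_empty_iff_forall_notMem]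
  rintro t ⟨⟨a, ⟨ha, ha1⟩, r, hr, y₁, h1⟩, ⟨b, ⟨hb, hb1⟩, s, hs, y₂, h2⟩⟩
  have ha1' : a ≠ 1 := fun h => ha1 (Set.mem_singleton_iff.mpr h)
  have hb1' : b ≠ 1 := fun h => hb1 (Set.mem_singleton_iff.mpr h)
  have e : a * r = ((y₁⁻¹ * y₂) * b * (y₁⁻¹ * y₂)⁻¹) * ((y₁⁻¹ * y₂) * s * (y₁⁻¹ * y₂)⁻¹) := by
    have h3 : y₁ * (a * r) * y₁⁻¹ = y₂ * (b * s) * y₂⁻¹ := by rw [← h1, ← h2]
    have e2 : a * r = y₁⁻¹ * (y₁ * (a * r) * y₁⁻¹) * y₁ := by group
    rw [e2, h3]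
    group
  generalize y₁⁻¹ * y₂ = c at e
  have hN' : IsCoatom (N.map (MulAut.conj c).toMonoidHom) :=
    Cfsg.Agent.Lib.helper71.BGA.isCoatom_map_conj hN c
  have hb' : c * b * c⁻¹ ∈ sigmaCore (N.map (MulAut.conj c).toMonoidHom) := by
    rw [sigmaCore_map_conj]
    exact conj_mem_map_conj c hb
  have hb'1 : c * b * c⁻¹ ≠ 1 := by
    intro h
    apply hb1'
    have e3 : b = c⁻¹ * (c * b * c⁻¹) * c := by group
    rw [e3, h]
    group
  have hs' := conj_mem_supportR (M := N) c hs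
  by_cases hab : a = c * b * c⁻¹
  · obtain ⟨p, hp, hpd⟩ := exists_prime_dvd_orderOf ha1'
    have hpM : p ∈ sigma M := prime_mem_sigma_of_mem_sigmaCore hG M hM ha hp hpd
    have hpN' : p ∈ sigma (N.map (MulAut.conj c).toMonoidHom) := by
      rw [hab] at hpd
      exact prime_mem_sigma_of_mem_sigmaCore hG _ hN' hb' hp hpd
    obtain ⟨g, hg⟩ := h78 M _ hM hN' ⟨p, hpM, hpN'⟩
    exact hnc (c⁻¹ * g) (conj_of_map_conj_eq hg)
  · exact h33 M _ hM hN' a (c * b * c⁻¹) ha hb' ha1' hb'1 hab r hr (c * s * c⁻¹) hs' e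

end Cfsg.Agent.Lib.helper59.BGTilde
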