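import Mathlib
import Cfsg.Agent.Lib.helper59.BGTildeDefs
import Cfsg.Agent.Lib.helper59.BGConj
import Cfsg.Agent.Lib.helper59.BGPiElt
import Cfsg.Agent.Lib.helper59.BGTildeA
import Cfsg.Agent.Lib.helper59.BG1431Fin
import Cfsg.Agent.Lib.helper87.BG1425Main
import Cfsg.Agent.S1350

/-!
# No conjugate of an element of `Ẑ` lies in a tilde-set (S1379, clause 3, second half)

`M` a maximal subgroup, `K ≠ 1` a Hall `κ(M)`-subgroup, `K* = M_σ ∩ C(K)`, and `M*` a maximal
subgroup with `K = M*_σ ∩ C(K*)` and `K*` a Hall `κ(M*)`-subgroup of `M*`.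
-/

set_option autoImplicit false
open Cfsg

namespace Cfsg.Agent.Lib.helper59.BGTilde

open Cfsg.Agent.Lib.helper59.BGConj Cfsg.Agent.Lib.helper59.BGPiElt

variable {G : Type*} [Group G]

/-- Conjugating a subgroup by one of its elements does nothing. -/
theorem map_conj_of_mem {M : Subgroup G} {g : G} (hg : g ∈ M) :
    M.map (MulAut.conj g).toMonoidHom = M := by
  ext y
  rw [Cfsg.Agent.Lib.helper13.sf_mem_map_conj_iff]
  constructor
  · intro h
    have e : y = g * (g⁻¹ * y * g) * g⁻¹ := by group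
    rw [e]
    exact M.mul_mem (M.mul_mem hg h) (M.inv_mem hg)
  · intro h
    exact M.mul_mem (M.mul_mem (M.inv_mem hg) h) hg

/-- A non-identity element of a subgroup has a power of prime order; its centralizer contains the
centralizer of the element. -/
theorem exists_prime_sub_cent [Finite G] {H : Subgroup G} {z : G} (hz : z ∈ H) (hz1 : z ≠ 1) :
    ∃ X : Subgroup G, X ≤ H ∧ (Nat.card X).Prime ∧
      Subgroup.centralizer ({z} : Set G) ≤ Subgroup.centralizer (X : Set G) := by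
  obtain ⟨p, hp, hord⟩ := Cfsg.Agent.Lib.helper59.BG1431.exists_prime_pow hz1
  refine ⟨Subgroup.zpowers (z ^ (orderOf z / p)), Subgroup.zpowers_le.mpr (H.pow_mem hz _), ?_, ?_⟩
  · rw [Nat.card_zpowers, hord]
    exact hp
  · intro y hy
    rw [Subgroup.mem_centralizer_iff] at hy ⊢
    intro h hh
    have hzy : Commute z y := hy z rfl
    obtain ⟨i, rfl⟩ := Subgroup.mem_zpowers_iff.mp hh
    exact ((hzy.pow_left _).zpow_left i).eq

theorem mem_centralizer_singleton_self (a : G) : a ∈ Subgroup.centralizer ({a} : Set G) := by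
  rw [Subgroup.mem_centralizer_iff]
  intro h hh
  rw [Set.mem_singleton_iff] at hh
  rw [hh]

/-- The core of `zhat_not_tilde`: no coset element `a * r` lies in `Ẑ`. -/
theorem zhat_core [Finite G] (hG : IsMinSimpleOddOrder G)
    (h30 : Cfsg.Agent.Lib.helper69.H1430 G) (h78 : Cfsg.Agent.Lib.helper59.BG1431.H78 G)
    (h75 : H1375 G)
    (M : Subgroup G) (hM : IsCoatom M) (K : Subgroup G) (hK : IsPiHallOf (kappa M) K M)
    (hK1 : K ≠ ⊥) (Mstar : Subgroup G) (hMstar : IsCoatom Mstar)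
    (hKst : K = sigmaCore Mstar ⊓ Subgroup.centralizer
      ((sigmaCore M ⊓ Subgroup.centralizer (K : Set G) : Subgroup G) : Set G))
    (hKstH : IsPiHallOf (kappa Mstar) (sigmaCore M ⊓ Subgroup.centralizer (K : Set G)) Mstar)
    (N : Subgroup G) (hN : IsCoatom N) (a : G) (ha : a ∈ sigmaCore N) (ha1 : a ≠ 1)
    (r : G) (hr : r ∈ supportR N a) : a * r ∉ zhat M K := by
  intro hz
  obtain ⟨hcomm, -, -, -⟩ := Cfsg.Agent.Lib.helper13.bgz_setup hG h30 M hM K hK hK1
  obtain ⟨hzZ, hzn⟩ := hz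
  obtain ⟨k, hk, ks, hks, hzk⟩ := Cfsg.Agent.Lib.helper13.bgz_decomp hcomm hzZ
  have hk1 : k ≠ 1 := by
    rintro rfl
    apply hzn
    right
    rw [hzk, one_mul]
    exact hks
  have hks1 : ks ≠ 1 := by
    rintro rfl
    apply hzn
    left
    rw [hzk, mul_one]
    exact hk
  have hkks : Commute k ks := hcomm k hk ks hks
  -- prime conditions
  have hksσ : ∀ p : ℕ, p.Prime → p ∣ orderOf ks → p ∈ sigma M :=
    fun p hp hd => prime_mem_sigma_of_mem_sigmaCore hG M hM hks.1 hp hd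
  have hkκ : ∀ p : ℕ, p.Prime → p ∣ orderOf k → p ∈ kappa M :=
    fun p hp hd => hK.2.1 p hp (hd.trans (Subgroup.orderOf_dvd_natCard _ hk))
  have hknσ : ∀ p : ℕ, p.Prime → p ∣ orderOf k → p ∉ sigma M :=
    fun p hp hd => (hkκ p hp hd).2.2.1
  have hkMs : k ∈ sigmaCore Mstar := by
    have h1 := hk
    rw [hKst] at h1
    exact h1.1
  have hkσs : ∀ p : ℕ, p.Prime → p ∣ orderOf k → p ∈ sigma Mstar :=
    fun p hp hd => prime_mem_sigma_of_mem_sigmaCore hG Mstar hMstar hkMs hp hd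
  have hksκs : ∀ p : ℕ, p.Prime → p ∣ orderOf ks → p ∈ kappa Mstar :=
    fun p hp hd => hKstH.2.1 p hp (hd.trans (Subgroup.orderOf_dvd_natCard _ hks))
  have hksnσs : ∀ p : ℕ, p.Prime → p ∣ orderOf ks → p ∉ sigma Mstar :=
    fun p hp hd => (hksκs p hp hd).2.2.1
  have hcop : (orderOf k).Coprime (orderOf ks) :=
    (coprime_of_pi (π := sigma M) hksσ hknσ).symm
  have haσ : ∀ p : ℕ, p.Prime → p ∣ orderOf a → p ∈ sigma N :=
    fun p hp hd => prime_mem_sigma_of_mem_sigmaCore hG N hN ha hp hd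
  obtain ⟨hHallN, -, -⟩ := Cfsg.Agent.S1350.result hG N hN
  have haN : a ∈ N := hHallN.1 ha
  by_cases hr1 : r = 1
  · -- `z = a ∈ N_σ`
    rw [hr1, mul_one] at hzk
    obtain ⟨p, hp, hpd⟩ := exists_prime_dvd_orderOf hks1
    have hpa : p ∣ orderOf a := by
      rw [hzk]
      exact hpd.trans (orderOf_right_dvd_mul hkks hcop)
    obtain ⟨g, hg⟩ := h78 M N hM hN ⟨p, hksσ p hp hpd, haσ p hp hpa⟩
    obtain ⟨q, hq, hqd⟩ := exists_prime_dvd_orderOf hk1
    have hqa : q ∣ orderOf a := by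
      rw [hzk]
      exact hqd.trans (orderOf_left_dvd_mul hkks hcop)
    have hqN := haσ q hq hqa
    rw [hg, Cfsg.Agent.Lib.helper3.sigma_map_conj] at hqN
    exact hknσ q hq hqd hqN
  · rcases mem_supportR_cases hr with h | ⟨h1, L, hL, hxL, hu, hrF, hrC⟩
    · exact hr1 h
    obtain ⟨N₂, ⟨hN₂, hC₂⟩, -, hσF, -, -, hcompl, -⟩ := h75 N hN a ha ha1 h1
    have hN₂L : N₂ = L := hu N₂ hN₂ hC₂
    rw [hN₂L] at hσF hcompl
    have hrL : r ∈ sigmaCore L := by rw [hσF]; exact hrF
    have haL : a ∈ L := hxL (mem_centralizer_singleton_self a)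
    have hdisjL : ∀ p : ℕ, p ∈ sigma L → p ∉ sigma N := by
      intro p hpL hpN
      obtain ⟨g, hg⟩ := h78 N L hN hL ⟨p, hpN, hpL⟩
      have hσeq : sigma L = sigma N := by
        rw [hg, Cfsg.Agent.Lib.helper3.sigma_map_conj]
      have h2 : Subgroup.zpowers a ≤ sigmaCore L := by
        apply Cfsg.Agent.Lib.helper87.BG133.le_sigmaCore_of_pi hG L hL _
          (Subgroup.zpowers_le.mpr haL)
        intro q hq hqd
        rw [Nat.card_zpowers] at hqd
        rw [hσeq]
        exact haσ q hq hqd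
      have h3 : a ∈ (N ⊓ L) ⊓ sigmaCore L := ⟨⟨haN, haL⟩, h2 (Subgroup.mem_zpowers a)⟩
      rw [hcompl.2.2.1, Subgroup.mem_bot] at h3
      exact ha1 h3
    have hrnσ : ∀ p : ℕ, p.Prime → p ∣ orderOf r → p ∉ sigma N :=
      fun p hp hd => hdisjL p (prime_mem_sigma_of_mem_sigmaCore hG L hL hrL hp hd)
    have har : Commute a r := by
      rw [Subgroup.mem_centralizer_iff] at hrC
      exact hrC a rfl
    have hcop' : (orderOf a).Coprime (orderOf r) := coprime_of_pi (π := sigma N) haσ hrnσ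
    obtain ⟨p, hp, hpd⟩ := exists_prime_dvd_orderOf ha1
    have hpz : p ∣ orderOf (k * ks) := by
      rw [← hzk]
      exact hpd.trans (orderOf_left_dvd_mul har hcop')
    rcases prime_dvd_orderOf_mul hkks hp hpz with hpk | hpks
    · -- `N` is conjugate to `M*`
      obtain ⟨g, hg⟩ := h78 Mstar N hMstar hN ⟨p, hkσs p hp hpk, haσ p hp hpd⟩
      have hσeq : sigma N = sigma Mstar := by
        rw [hg, Cfsg.Agent.Lib.helper3.sigma_map_conj]
      obtain ⟨hak, hrks⟩ := pi_decomp_unique (sigma Mstar) hzk har hkks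
        (fun q hq hd => hσeq ▸ haσ q hq hd) hkσs
        (fun q hq hd => hσeq ▸ hrnσ q hq hd) hksnσs
      have hKs1 : sigmaCore M ⊓ Subgroup.centralizer (K : Set G) ≠ ⊥ := by
        intro h
        rw [h, Subgroup.mem_bot] at hks
        exact hks1 hks
      have hgM : g ∈ Mstar := by
        by_contra hgM
        have h2 := (Cfsg.Agent.Lib.helper59.BG1431.s1431_of_h1430 hG h30 Mstar hMstar _ hKstH
          hKs1).1 g hgM
        have h3 : k ∈ (sigmaCore Mstar ⊓ Subgroup.centralizer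
            ((sigmaCore M ⊓ Subgroup.centralizer (K : Set G) : Subgroup G) : Set G)) ⊓
            Mstar.map (MulAut.conj g).toMonoidHom := by
          refine ⟨?_, ?_⟩
          · rw [← hKst]; exact hk
          · rw [← hg, ← hak]; exact haN
        rw [h2, Subgroup.mem_bot] at h3
        exact hk1 h3
      rw [map_conj_of_mem hgM] at hg
      -- `C_G(k) ≤ M*`
      have hkK' : k ∈ sigmaCore Mstar ⊓ Subgroup.centralizer
          ((sigmaCore M ⊓ Subgroup.centralizer (K : Set G) : Subgroup G) : Set G) := by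
        rw [← hKst]; exact hk
      obtain ⟨X, hX, hXp, hXc⟩ := exists_prime_sub_cent hkK' hk1
      have h4 := (Cfsg.Agent.Lib.helper71.BGKs.ks_cent_unique hG h30 Mstar hMstar _ hKstH hKs1
        X hX hXp).1
      apply h1
      rw [hak, hg]
      exact hXc.trans h4
    · -- `N` is conjugate to `M`
      obtain ⟨g, hg⟩ := h78 M N hM hN ⟨p, hksσ p hp hpks, haσ p hp hpd⟩
      have hσeq : sigma N = sigma M := by
        rw [hg, Cfsg.Agent.Lib.helper3.sigma_map_conj]
      have hzk' : a * r = ks * k := by rw [hzk, hkks.eq]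
      obtain ⟨haks, hrk⟩ := pi_decomp_unique (sigma M) hzk' har hkks.symm
        (fun q hq hd => hσeq ▸ haσ q hq hd) hksσ
        (fun q hq hd => hσeq ▸ hrnσ q hq hd) hknσ
      have hgM : g ∈ M := by
        by_contra hgM
        have h2 := (Cfsg.Agent.Lib.helper59.BG1431.s1431_of_h1430 hG h30 M hM K hK hK1).1 g hgM
        have h3 : ks ∈ (sigmaCore M ⊓ Subgroup.centralizer (K : Set G)) ⊓
            M.map (MulAut.conj g).toMonoidHom := by
          refine ⟨hks, ?_⟩
          rw [← hg, ← haks]; exact haN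
        rw [h2, Subgroup.mem_bot] at h3
        exact hks1 h3
      rw [map_conj_of_mem hgM] at hg
      obtain ⟨X, hX, hXp, hXc⟩ := exists_prime_sub_cent hks hks1
      have h4 := (Cfsg.Agent.Lib.helper71.BGKs.ks_cent_unique hG h30 M hM K hK hK1 X hX hXp).1
      apply h1
      rw [haks, hg]
      exact hXc.trans h4

/-- S1379, clause 3 (second half): no conjugate of an element of `Ẑ` lies in a tilde-set. -/
theorem zhat_not_tilde [Finite G] (hG : IsMinSimpleOddOrder G)
    (h30 : Cfsg.Agent.Lib.helper69.H1430 G) (h78 : Cfsg.Agent.Lib.helper59.BG1431.H78 G)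
    (h75 : H1375 G)
    (M : Subgroup G) (hM : IsCoatom M) (K : Subgroup G) (hK : IsPiHallOf (kappa M) K M)
    (hK1 : K ≠ ⊥) (Mstar : Subgroup G) (hMstar : IsCoatom Mstar)
    (hKst : K = sigmaCore Mstar ⊓ Subgroup.centralizer
      ((sigmaCore M ⊓ Subgroup.centralizer (K : Set G) : Subgroup G) : Set G))
    (hKstH : IsPiHallOf (kappa Mstar) (sigmaCore M ⊓ Subgroup.centralizer (K : Set G)) Mstar)
    (N : Subgroup G) (hN : IsCoatom N) (y z : G) (hz : z ∈ zhat M K) :
    y * z * y⁻¹ ∉ tildeOf N ((sigmaCore N : Set G) \ {1}) := by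
  rintro ⟨a, ⟨ha, ha1⟩, r, hr, y', h⟩
  have ha1' : a ≠ 1 := fun h => ha1 (Set.mem_singleton_iff.mpr h)
  have e : z = ((y⁻¹ * y') * a * (y⁻¹ * y')⁻¹) * ((y⁻¹ * y') * r * (y⁻¹ * y')⁻¹) := by
    have e2 : z = y⁻¹ * (y * z * y⁻¹) * y := by group
    rw [e2, h]
    group
  generalize y⁻¹ * y' = c at e
  have hN' : IsCoatom (N.map (MulAut.conj c).toMonoidHom) :=
    Cfsg.Agent.Lib.helper71.BGA.isCoatom_map_conj hN c
  have ha' : c * a * c⁻¹ ∈ sigmaCore (N.map (MulAut.conj c).toMonoidHom) := by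
    rw [sigmaCore_map_conj]
    exact conj_mem_map_conj c ha
  have ha'1 : c * a * c⁻¹ ≠ 1 := by
    intro h
    apply ha1'
    have e3 : a = c⁻¹ * (c * a * c⁻¹) * c := by group
    rw [e3, h]
    group
  have hr' := conj_mem_supportR (M := N) c hr
  apply zhat_core hG h30 h78 h75 M hM K hK hK1 Mstar hMstar hKst hKstH _ hN' _ ha' ha'1 _ hr'
  rw [← e]
  exact hz

end Cfsg.Agent.Lib.helper59.BGTilde
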