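import Mathlib
import Cfsg.Agent.Lib.helper59.BGTildeDefs
import Cfsg.Agent.Lib.helper59.BGConj
import Cfsg.Agent.Lib.helper59.BGPiElt
import Cfsg.Agent.Lib.helper59.BGTildeA
import Cfsg.Agent.Lib.helper59.BGTildeC
import Cfsg.Agent.Lib.helper56.HallFactor
import Cfsg.Agent.Lib.helper87.BG1425Main
import Cfsg.Agent.Lib.lead.Hall
import Cfsg.Agent.S1350
import Cfsg.Agent.S1425

/-!
# The covering dichotomy for tilde-sets (S1379, clauses 2 and 3a)

Every `g ≠ 1` lies in a tilde-set, or is conjugate to `x * x'` with `x ∈ (M₁)_σ` non-identity and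
`x' ∈ C_{M₁}(x)` a non-identity `κ(M₁)`-element, for some maximal subgroup `M₁`.
-/

set_option autoImplicit false
open Cfsg

namespace Cfsg.Agent.Lib.helper59.BGTilde

open Cfsg.Agent.Lib.helper59.BGConj Cfsg.Agent.Lib.helper59.BGPiElt

variable {G : Type*} [Group G]

/-- In a solvable subgroup `M`, every `π`-subgroup lies in a Hall `π`-subgroup of `M`. -/
theorem exists_hall_ge [Finite G] (M : Subgroup G) (hsolv : Group.IsSolvable M) (π : Set ℕ)
    (Y : Subgroup G) (hYM : Y ≤ M) (hY : ∀ p : ℕ, p.Prime → p ∣ Nat.card Y → p ∈ π) :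
    ∃ K : Subgroup G, IsPiHallOf π K M ∧ Y ≤ K := by
  have := hsolv
  obtain ⟨H, hH⟩ := Cfsg.Agent.Lib.lead.exists_isPiHall_of_isSolvable π ↥M
  have hYs : Cfsg.IsPiSubgroup π (Y.subgroupOf M) := by
    intro p hp hdvd
    apply hY p hp
    rwa [Nat.card_congr (Subgroup.subgroupOfEquivOfLe hYM).toEquiv] at hdvd
  obtain ⟨g, hg⟩ := Cfsg.Agent.Lib.lead.le_conj_isPiHall_of_isSolvable hH hYs
  have hH' := Cfsg.Agent.Lib.lead.isPiHall_map_conj hH g
  refine ⟨(H.map (MulAut.conj g).toMonoidHom).map M.subtype,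
    ⟨Subgroup.map_subtype_le _, ?_, ?_⟩, ?_⟩
  · intro p hp hdvd
    rw [Subgroup.card_map_of_injective M.subtype_injective] at hdvd
    exact hH'.1 p hp hdvd
  · intro p hp hpπ hdvd
    apply hH'.2 p hp hpπ
    have e : ((H.map (MulAut.conj g).toMonoidHom).map M.subtype).subgroupOf M =
        H.map (MulAut.conj g).toMonoidHom :=
      Subgroup.comap_map_eq_self_of_injective M.subtype_injective _
    rwa [Subgroup.relIndex, e] at hdvd
  · intro y hy
    have h1 : (⟨y, hYM hy⟩ : M) ∈ Y.subgroupOf M := Subgroup.mem_subgroupOf.mpr hy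
    exact ⟨_, hg h1, rfl⟩

theorem cent_singleton_le_normalizer_zpowers (w : G) :
    Subgroup.centralizer ({w} : Set G) ≤
      Subgroup.normalizer ((Subgroup.zpowers w : Subgroup G) : Set G) := by
  intro y hy
  apply Subgroup.centralizer_le_normalizer
  rw [Subgroup.mem_centralizer_iff] at hy ⊢
  intro h hh
  have hwy : Commute w y := hy w rfl
  obtain ⟨i, rfl⟩ := Subgroup.mem_zpowers_iff.mp hh
  exact (hwy.zpow_left i).eq

theorem orderOf_conj_eq (c w : G) : orderOf (c * w * c⁻¹) = orderOf w :=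
  MulEquiv.orderOf_eq (MulAut.conj c) w

/-- The `τ₂`-case of S1432 puts `x * w` in a tilde-set. -/
theorem tilde_of_tau2 [Finite G] (hG : IsMinSimpleOddOrder G) (h75 : H1375 G)
    (M : Subgroup G) (hM : IsCoatom M) (x : G) (hx : x ∈ sigmaCore M)
    (w : G) (hw1 : w ≠ 1) (hxw : Commute x w)
    (hwσ : ∀ p : ℕ, p.Prime → p ∣ orderOf w → p ∉ sigma M)
    (L : Subgroup G) (hL : IsCoatom L) (hLσ : ∀ p : ℕ, p.Prime → p ∣ orderOf w → p ∈ sigma L)
    (hCw : Subgroup.centralizer ({w} : Set G) ≤ M)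
    (huniq : ∀ L' : Subgroup G, IsCoatom L' → Subgroup.centralizer ({w} : Set G) ≤ L' → L' = M) :
    ∃ N : Subgroup G, IsCoatom N ∧ x * w ∈ tildeOf N ((sigmaCore N : Set G) \ {1}) := by
  have hW1 : Subgroup.zpowers w ≠ ⊥ := fun h => hw1 (Subgroup.zpowers_eq_bot.mp h)
  obtain ⟨h, hh⟩ := Cfsg.Agent.S1425.result hG L hL (Subgroup.zpowers w) hW1
    (by rw [Nat.card_zpowers]; exact hLσ)
  have hL' : IsCoatom (L.map (MulAut.conj h⁻¹).toMonoidHom) :=
    Cfsg.Agent.Lib.helper71.BGA.isCoatom_map_conj hL h⁻¹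
  have hwL' : w ∈ sigmaCore (L.map (MulAut.conj h⁻¹).toMonoidHom) := by
    rw [sigmaCore_map_conj]
    refine ⟨h * w * h⁻¹, hh ⟨w, Subgroup.mem_zpowers w, rfl⟩, ?_⟩
    show h⁻¹ * (h * w * h⁻¹) * h⁻¹⁻¹ = w
    group
  have hnL' : ¬ Subgroup.centralizer ({w} : Set G) ≤ L.map (MulAut.conj h⁻¹).toMonoidHom := by
    intro hle
    have e := huniq _ hL' hle
    rw [e] at hwL'
    obtain ⟨p, hp, hpd⟩ := exists_prime_dvd_orderOf hw1
    exact hwσ p hp hpd (prime_mem_sigma_of_mem_sigmaCore hG M hM hwL' hp hpd)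
  obtain ⟨N₂, ⟨hN₂, hC₂⟩, hu₂, hσF, -⟩ := h75 _ hL' w hwL' hw1 hnL'
  have hMN₂ : M = N₂ := hu₂ M hM hCw
  rw [← hMN₂] at hσF
  have hsupp := supportR_eq_of_unique hnL' hM hCw huniq
  refine ⟨_, hL', w, ⟨hwL', fun h => hw1 (Set.mem_singleton_iff.mp h)⟩, x, ?_, 1, ?_⟩
  · rw [hsupp]
    refine ⟨hσF ▸ hx, ?_⟩
    show x ∈ Subgroup.centralizer ({w} : Set G)
    rw [Subgroup.mem_centralizer_iff]
    intro h' hh'
    rw [Set.mem_singleton_iff] at hh'
    rw [hh']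
    exact hxw.symm.eq
  · rw [hxw.eq]
    group

/-- The covering dichotomy for `g = x * x'`, `x ∈ M_σ` non-identity, `x'` a `σ(M)'`-element
commuting with `x`. -/
theorem cover_core [Finite G] (hG : IsMinSimpleOddOrder G)
    (h30 : Cfsg.Agent.Lib.helper69.H1430 G) (h32 : H1432 G) (h75 : H1375 G)
    (M : Subgroup G) (hM : IsCoatom M) (x : G) (hx : x ∈ sigmaCore M) (hx1 : x ≠ 1)
    (x' : G) (hxx' : Commute x x') (hx'σ : ∀ p : ℕ, p.Prime → p ∣ orderOf x' → p ∉ sigma M) :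
    (∃ N : Subgroup G, IsCoatom N ∧ x * x' ∈ tildeOf N ((sigmaCore N : Set G) \ {1})) ∨
    ∃ M₁ : Subgroup G, IsCoatom M₁ ∧ ∃ x₁ ∈ sigmaCore M₁, x₁ ≠ 1 ∧ ∃ x₁' ∈ M₁, x₁' ≠ 1 ∧
      x₁ * x₁' = x₁' * x₁ ∧ (∀ p : ℕ, p.Prime → p ∣ orderOf x₁' → p ∈ kappa M₁) ∧
      ∃ y : G, x * x' = y * (x₁ * x₁') * y⁻¹ := by
  obtain ⟨hodd, hsimple, hna, hsolv⟩ := id hG
  have := hsimple
  have hx1' : x ∉ ({1} : Set G) := fun h => hx1 (Set.mem_singleton_iff.mp h)
  by_cases hx'1 : x' = 1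
  · left
    refine ⟨M, hM, x, ⟨hx, hx1'⟩, 1, Subgroup.one_mem _, 1, ?_⟩
    rw [hx'1]
    group
  have hx'C : x' ∈ Subgroup.centralizer ({x} : Set G) := by
    rw [Subgroup.mem_centralizer_iff]
    intro h hh
    rw [Set.mem_singleton_iff] at hh
    rw [hh]
    exact hxx'.eq
  by_cases hC : Subgroup.centralizer ({x} : Set G) ≤ M
  · -- Case A
    rcases h32 M hM x hx hx1 x' ⟨hC hx'C, hx'C⟩ hx'1 hx'σ with
      ⟨hκ, -⟩ | ⟨-, ⟨L, hL, hLσ⟩, hCw, huniq⟩
    · right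
      exact ⟨M, hM, x, hx, hx1, x', hC hx'C, hx'1, hxx'.eq, hκ, 1, by group⟩
    · left
      exact tilde_of_tau2 hG h75 M hM x hx x' hx'1 hxx' hx'σ L hL hLσ hCw huniq
  · -- Case B
    obtain ⟨N, ⟨hN, hCN⟩, huN, hσF, hnorm, hcompl, -, -⟩ := h75 M hM x hx hx1 hC
    have hsupp : supportR M x = sigmaCore N ⊓ Subgroup.centralizer ({x} : Set G) := by
      rw [supportR_eq_of_unique hC hN hCN huN, hσF]
    obtain ⟨hHallN, -, -⟩ := Cfsg.Agent.S1350.result hG N hN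
    obtain ⟨v, w, hvz, hwz, hx'vw, hvπ, hwπ⟩ := exists_pi_decomp (sigma N) x'
    have hzC : Subgroup.zpowers x' ≤ Subgroup.centralizer ({x} : Set G) :=
      Subgroup.zpowers_le.mpr hx'C
    have hvC := hzC hvz
    have hwC := hzC hwz
    have hvN : v ∈ sigmaCore N := by
      apply Cfsg.Agent.Lib.helper87.BG133.le_sigmaCore_of_pi hG N hN (Subgroup.zpowers v)
        (Subgroup.zpowers_le.mpr (hCN hvC)) (by rw [Nat.card_zpowers]; exact hvπ)
      exact Subgroup.mem_zpowers v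
    have hvR : v ∈ supportR M x := by
      rw [hsupp]
      exact ⟨hvN, hvC⟩
    by_cases hw1 : w = 1
    · left
      refine ⟨M, hM, x, ⟨hx, hx1'⟩, v, hvR, 1, ?_⟩
      rw [hx'vw, hw1]
      group
    -- conjugate `w` into `M ⊓ C(x)` inside `C(x)`
    have hCtop : Subgroup.centralizer ({x} : Set G) ≠ ⊤ := by
      intro h
      apply hN.1
      rw [eq_top_iff, ← h]
      exact hCN
    obtain ⟨c, hcC, hcW⟩ := Cfsg.Agent.Lib.helper56.hall_factor_conj {p : ℕ | p ∉ sigma N}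
      (Subgroup.centralizer ({x} : Set G)) (sigmaCore N ⊓ Subgroup.centralizer ({x} : Set G))
      (M ⊓ Subgroup.centralizer ({x} : Set G)) (Subgroup.zpowers w) (hsolv _ hCtop)
      inf_le_right inf_le_right hnorm
      (fun p hp hd hn => hn (hHallN.2.1 p hp (hd.trans (Subgroup.card_dvd_of_le inf_le_left))))
      (by
        intro h hh
        obtain ⟨a, ha, b, hb, e⟩ := hcompl.2.2.2 h⁻¹ (Subgroup.inv_mem _ hh)
        refine ⟨b⁻¹, Subgroup.inv_mem _ hb, a⁻¹, Subgroup.inv_mem _ ha, ?_⟩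
        rw [← mul_inv_rev, ← e, inv_inv])
      (Subgroup.zpowers_le.mpr hwC)
      (by rw [Nat.card_zpowers]; exact hwπ)
    have hw₁ : c * w * c⁻¹ ∈ M ⊓ Subgroup.centralizer ({x} : Set G) :=
      hcW ⟨w, Subgroup.mem_zpowers w, rfl⟩
    have hcx : c * x * c⁻¹ = x := by
      rw [Subgroup.mem_centralizer_iff] at hcC
      have h1 := hcC x rfl
      rw [← h1]
      group
    have hv₁ : c * v * c⁻¹ ∈ sigmaCore N ⊓ Subgroup.centralizer ({x} : Set G) :=
      (Subgroup.mem_normalizer_iff.mp (hnorm hcC) v).mp ⟨hvN, hvC⟩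
    have e1 : x * ((c * v * c⁻¹) * (c * w * c⁻¹)) = c * (x * x') * c⁻¹ := by
      have e2 : c * (x * x') * c⁻¹ = (c * x * c⁻¹) * ((c * v * c⁻¹) * (c * w * c⁻¹)) := by
        rw [hx'vw]
        group
      rw [e2, hcx]
    have hw₁1 : c * w * c⁻¹ ≠ 1 := by
      intro h
      apply hw1
      have e3 : w = c⁻¹ * (c * w * c⁻¹) * c := by group
      rw [e3, h]
      group
    have hordw : orderOf (c * w * c⁻¹) = orderOf w := orderOf_conj_eq c w
    have hw₁σN : ∀ p : ℕ, p.Prime → p ∣ orderOf (c * w * c⁻¹) → p ∉ sigma N := by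
      intro p hp hd
      rw [hordw] at hd
      exact hwπ p hp hd
    have hw₁σM : ∀ p : ℕ, p.Prime → p ∣ orderOf (c * w * c⁻¹) → p ∉ sigma M := by
      intro p hp hd
      rw [hordw] at hd
      exact hx'σ p hp (hd.trans (orderOf_dvd_of_mem_zpowers hwz))
    have hxw₁ : Commute x (c * w * c⁻¹) := by
      have h1 : c * w * c⁻¹ ∈ Subgroup.centralizer ({x} : Set G) := hw₁.2
      rw [Subgroup.mem_centralizer_iff] at h1
      exact h1 x rfl
    rcases h32 M hM x hx hx1 (c * w * c⁻¹) hw₁ hw₁1 hw₁σM with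
      ⟨-, hbad⟩ | ⟨-, ⟨L, hL, hLσ⟩, hCw, huniq⟩
    · exact absurd hbad hC
    by_cases hv₁1 : c * v * c⁻¹ = 1
    · obtain ⟨N', hN', ht⟩ := tilde_of_tau2 hG h75 M hM x hx (c * w * c⁻¹) hw₁1 hxw₁ hw₁σM
        L hL hLσ hCw huniq
      left
      refine ⟨N', hN', ?_⟩
      apply mem_tildeOf_of_conj c
      rw [← e1, hv₁1, one_mul]
      exact ht
    · exfalso
      have hw₁N : c * w * c⁻¹ ∈ N := hCN hw₁.2
      have hcomm : Commute (c * v * c⁻¹) (c * w * c⁻¹) := by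
        have h1 : Commute v w := commute_of_mem_zpowers hvz hwz
        show (c * v * c⁻¹) * (c * w * c⁻¹) = (c * w * c⁻¹) * (c * v * c⁻¹)
        have e3 : (c * v * c⁻¹) * (c * w * c⁻¹) = c * (v * w) * c⁻¹ := by group
        have e4 : (c * w * c⁻¹) * (c * v * c⁻¹) = c * (w * v) * c⁻¹ := by group
        rw [e3, e4, h1.eq]
      have hw₁Cv : c * w * c⁻¹ ∈ N ⊓ Subgroup.centralizer ({c * v * c⁻¹} : Set G) := by
        refine ⟨hw₁N, ?_⟩
        show c * w * c⁻¹ ∈ Subgroup.centralizer ({c * v * c⁻¹} : Set G)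
        rw [Subgroup.mem_centralizer_iff]
        intro h hh
        rw [Set.mem_singleton_iff] at hh
        rw [hh]
        exact hcomm.eq
      rcases h32 N hN (c * v * c⁻¹) hv₁.1 hv₁1 (c * w * c⁻¹) hw₁Cv hw₁1 hw₁σN with
        ⟨hκ, -⟩ | ⟨-, -, -, huniq'⟩
      · -- the `κ(N)`-case
        obtain ⟨q, hq, hqd⟩ := exists_prime_dvd_orderOf hw₁1
        have hord : orderOf ((c * w * c⁻¹) ^ (orderOf (c * w * c⁻¹) / q)) = q :=
          orderOf_pow_orderOf_div (orderOf_pos _).ne' hqd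
        obtain ⟨w₂, hw₂def⟩ : ∃ w₂ : G, w₂ = (c * w * c⁻¹) ^ (orderOf (c * w * c⁻¹) / q) :=
          ⟨_, rfl⟩
        rw [← hw₂def] at hord
        have hw₂ : w₂ ∈ M ⊓ Subgroup.centralizer ({x} : Set G) := by
          rw [hw₂def]
          exact Subgroup.pow_mem _ hw₁ _
        have hw₂1 : w₂ ≠ 1 := by
          intro h
          rw [h, orderOf_one] at hord
          exact hq.one_lt.ne hord
        have hw₂σM : ∀ p : ℕ, p.Prime → p ∣ orderOf w₂ → p ∉ sigma M := by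
          intro p hp hd
          rw [hord] at hd
          rw [(Nat.prime_dvd_prime_iff_eq hp hq).mp hd]
          exact hw₁σM q hq hqd
        rcases h32 M hM x hx hx1 w₂ hw₂ hw₂1 hw₂σM with ⟨-, hbad⟩ | ⟨-, -, hCw₂, huniq₂⟩
        · exact hC hbad
        have hqκ : q ∈ kappa N := hκ q hq hqd
        have hW₂N : Subgroup.zpowers w₂ ≤ N := Subgroup.zpowers_le.mpr (hCN hw₂.2)
        obtain ⟨K₀, hK₀, hWK₀⟩ := exists_hall_ge N (hsolv N hN.1) (kappa N) (Subgroup.zpowers w₂)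
          hW₂N (by
            rw [Nat.card_zpowers, hord]
            intro p hp hd
            rw [(Nat.prime_dvd_prime_iff_eq hp hq).mp hd]
            exact hqκ)
        have hK₀1 : K₀ ≠ ⊥ := by
          intro h
          have h2 := hWK₀ (Subgroup.mem_zpowers w₂)
          rw [h, Subgroup.mem_bot] at h2
          exact hw₂1 h2
        obtain ⟨-, -, h3⟩ := h30 N hN K₀ hK₀ hK₀1
        obtain ⟨-, -, hstar⟩ := h3 (Subgroup.zpowers w₂) hWK₀
          (by rw [Nat.card_zpowers, hord]; exact hq)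
        have hX1 : Subgroup.zpowers w₂ ≠ ⊥ := fun h => hw₂1 (Subgroup.zpowers_eq_bot.mp h)
        have hNtop : Subgroup.normalizer ((Subgroup.zpowers w₂ : Subgroup G) : Set G) ≠ ⊤ := by
          intro h
          have hXn : (Subgroup.zpowers w₂).Normal := Subgroup.normalizer_eq_top_iff.mp h
          rcases hXn.eq_bot_or_eq_top with h1 | h1
          · exact hX1 h1
          · apply hN.1
            rw [eq_top_iff, ← h1]
            exact hW₂N
        obtain ⟨Mst, hMst, hNMst⟩ := (eq_top_or_exists_le_coatom _).resolve_left hNtop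
        have hCMst : Subgroup.centralizer ({w₂} : Set G) ≤ Mst :=
          (cent_singleton_le_normalizer_zpowers w₂).trans hNMst
        have hMstM : Mst = M := huniq₂ Mst hMst hCMst
        have hXσ := hstar Mst hMst hNMst
        rw [hMstM] at hXσ
        exact hw₂σM q hq (by rw [hord])
          (prime_mem_sigma_of_mem_sigmaCore hG M hM (hXσ (Subgroup.mem_zpowers w₂)) hq
            (by rw [hord]))
      · -- the `τ₂(N)`-case
        have hMN : M = N := huniq' M hM hCw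
        exact hC (hMN ▸ hCN)

/-- The covering dichotomy: every `g ≠ 1` lies in a tilde-set or is conjugate to a product
`x * x'` of a non-identity element of some `(M₁)_σ` and a commuting non-identity
`κ(M₁)`-element of `M₁`. -/
theorem tilde_cover [Finite G] (hG : IsMinSimpleOddOrder G) (h78a : H78a G)
    (h30 : Cfsg.Agent.Lib.helper69.H1430 G) (h32 : H1432 G) (h75 : H1375 G)
    (g : G) (hg : g ≠ 1) :
    (∃ N : Subgroup G, IsCoatom N ∧ g ∈ tildeOf N ((sigmaCore N : Set G) \ {1})) ∨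
    ∃ M₁ : Subgroup G, IsCoatom M₁ ∧ ∃ x₁ ∈ sigmaCore M₁, x₁ ≠ 1 ∧ ∃ x₁' ∈ M₁, x₁' ≠ 1 ∧
      x₁ * x₁' = x₁' * x₁ ∧ (∀ p : ℕ, p.Prime → p ∣ orderOf x₁' → p ∈ kappa M₁) ∧
      ∃ y : G, g = y * (x₁ * x₁') * y⁻¹ := by
  obtain ⟨p, hp, hpd⟩ := exists_prime_dvd_orderOf hg
  obtain ⟨M₀, hM₀, hpM₀⟩ := h78a p hp (hpd.trans (orderOf_dvd_natCard g))
  obtain ⟨x, x', hxz, hx'z, hgx, hxπ, hx'π⟩ := exists_pi_decomp (sigma M₀) g
  have hx1 : x ≠ 1 := by
    rintro rfl
    rw [one_mul] at hgx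
    rw [hgx] at hpd
    exact hx'π p hp hpd hpM₀
  have hxx' : Commute x x' := commute_of_mem_zpowers hxz hx'z
  have hX1 : Subgroup.zpowers x ≠ ⊥ := fun h => hx1 (Subgroup.zpowers_eq_bot.mp h)
  obtain ⟨h, hh⟩ := Cfsg.Agent.S1425.result hG M₀ hM₀ (Subgroup.zpowers x) hX1
    (by rw [Nat.card_zpowers]; exact hxπ)
  have hM : IsCoatom (M₀.map (MulAut.conj h⁻¹).toMonoidHom) :=
    Cfsg.Agent.Lib.helper71.BGA.isCoatom_map_conj hM₀ h⁻¹
  have hx : x ∈ sigmaCore (M₀.map (MulAut.conj h⁻¹).toMonoidHom) := by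
    rw [sigmaCore_map_conj]
    refine ⟨h * x * h⁻¹, hh ⟨x, Subgroup.mem_zpowers x, rfl⟩, ?_⟩
    show h⁻¹ * (h * x * h⁻¹) * h⁻¹⁻¹ = x
    group
  have hx'σ : ∀ p : ℕ, p.Prime → p ∣ orderOf x' →
      p ∉ sigma (M₀.map (MulAut.conj h⁻¹).toMonoidHom) := by
    intro q hq hd
    rw [Cfsg.Agent.Lib.helper3.sigma_map_conj]
    exact hx'π q hq hd
  rw [hgx]
  exact cover_core hG h30 h32 h75 _ hM x hx hx1 x' hxx' hx'σ

end Cfsg.Agent.Lib.helper59.BGTilde
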