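import Mathlib
import Cfsg.Agent.Lib.helper59.BGTildeDefs
import Cfsg.Agent.Lib.helper59.BGConj
import Cfsg.Agent.Lib.helper59.BGPiElt
import Cfsg.Agent.Lib.helper59.BGTildeA
import Cfsg.Agent.Lib.helper59.BGTildeB
import Cfsg.Agent.Lib.helper59.BGTildeC
import Cfsg.Agent.Lib.helper13.BGZhat
import Cfsg.Agent.Lib.helper69.BGKappaA

/-!
# S1379 from its input rows

`bg1379`: the statement S1379, with the frozen statements S1430, S1378, S1432, S1375, S1433,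
S1366 (existence) and S1369 (second clause) as hypotheses.
-/

set_option autoImplicit false
open Cfsg

namespace Cfsg.Agent.Lib.helper59.BGTilde

open Cfsg.Agent.Lib.helper59.BGConj Cfsg.Agent.Lib.helper59.BGPiElt

variable {G : Type*} [Group G]

/-- The existence part of the frozen statement S1366. -/
def H1366e (G : Type*) [Group G] : Prop :=
  ∀ (M : Subgroup G), IsCoatom M → ∀ K U : Subgroup G, IsSigmaDecomposition M K U → K ≠ ⊥ →
    ∃ Mstar : Subgroup G, IsCoatom Mstar ∧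
      K = sigmaCore Mstar ⊓ Subgroup.centralizer
        ((sigmaCore M ⊓ Subgroup.centralizer (K : Set G) : Subgroup G) : Set G) ∧
      IsPiHallOf (kappa Mstar) (sigmaCore M ⊓ Subgroup.centralizer (K : Set G)) Mstar

/-- The second clause of the frozen statement S1369. -/
def H1369b (G : Type*) [Group G] : Prop :=
  ∀ (M : Subgroup G), IsCoatom M → ∀ K U : Subgroup G, IsSigmaDecomposition M K U → K ≠ ⊥ →
    ∀ Mstar : Subgroup G, IsCoatom Mstar →
      K = sigmaCore Mstar ⊓ Subgroup.centralizer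
        ((sigmaCore M ⊓ Subgroup.centralizer (K : Set G) : Subgroup G) : Set G) →
      IsPiHallOf (kappa Mstar) (sigmaCore M ⊓ Subgroup.centralizer (K : Set G)) Mstar →
      ∀ H : Subgroup G, IsCoatom H → (kappa H).Nonempty →
        ∃ g : G, H = M.map (MulAut.conj g).toMonoidHom ∨ H = Mstar.map (MulAut.conj g).toMonoidHom

theorem mem_cent_singleton_of_commute {a b : G} (h : Commute a b) :
    b ∈ Subgroup.centralizer ({a} : Set G) := by
  rw [Subgroup.mem_centralizer_iff]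
  intro c hc
  rw [Set.mem_singleton_iff] at hc
  rw [hc]
  exact h.eq

theorem conj_pow_eq (m x : G) (n : ℕ) : (m * x * m⁻¹) ^ n = m * x ^ n * m⁻¹ := by
  induction n with
  | zero => simp
  | succ n ih => rw [pow_succ, ih, pow_succ]; group

/-- For a Hall `κ(M)`-subgroup `K ≠ 1`: a product of a non-identity element of `M_σ` and a
commuting non-identity `κ(M)`-element of `M` is `M`-conjugate into `Ẑ`. -/
theorem pair_zhat [Finite G] (hG : IsMinSimpleOddOrder G)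
    (h30 : Cfsg.Agent.Lib.helper69.H1430 G)
    (M : Subgroup G) (hM : IsCoatom M) (K : Subgroup G) (hK : IsPiHallOf (kappa M) K M)
    (hK1 : K ≠ ⊥) (x : G) (hx : x ∈ sigmaCore M) (hx1 : x ≠ 1) (x' : G) (hx' : x' ∈ M)
    (hx'1 : x' ≠ 1) (hxx' : Commute x x')
    (hκ : ∀ p : ℕ, p.Prime → p ∣ orderOf x' → p ∈ kappa M) :
    ∃ m : G, m * (x * x') * m⁻¹ ∈ zhat M K := by
  obtain ⟨hcomm, -, -, hdisjσ⟩ := Cfsg.Agent.Lib.helper13.bgz_setup hG h30 M hM K hK hK1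
  obtain ⟨h1, -, h3⟩ := h30 M hM K hK hK1
  obtain ⟨p, hp, hpd⟩ := exists_prime_dvd_orderOf hx'1
  have : Fact p.Prime := ⟨hp⟩
  have hord : orderOf (x' ^ (orderOf x' / p)) = p :=
    orderOf_pow_orderOf_div (orderOf_pos _).ne' hpd
  have hBM : Subgroup.zpowers (x' ^ (orderOf x' / p)) ≤ M :=
    Subgroup.zpowers_le.mpr (M.pow_mem hx' _)
  have hB : IsPGroup p (Subgroup.zpowers (x' ^ (orderOf x' / p))) :=
    IsPGroup.of_card (n := 1) (by rw [Nat.card_zpowers, hord, pow_one])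
  obtain ⟨m, hm, hmK⟩ := Cfsg.Agent.Lib.helper69.bgk_conj_into_hall hK (hκ p hp hpd) hBM hB
  have hu₁K : m * x' ^ (orderOf x' / p) * m⁻¹ ∈ K := hmK _ (Subgroup.mem_zpowers _)
  have hu₁e : m * x' ^ (orderOf x' / p) * m⁻¹ = (m * x' * m⁻¹) ^ (orderOf x' / p) :=
    (conj_pow_eq m x' _).symm
  have hu₁1 : m * x' ^ (orderOf x' / p) * m⁻¹ ≠ 1 := by
    intro h
    have e3 : x' ^ (orderOf x' / p) = m⁻¹ * (m * x' ^ (orderOf x' / p) * m⁻¹) * m := by group
    rw [h] at e3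
    have e4 : x' ^ (orderOf x' / p) = 1 := by rw [e3]; group
    rw [e4, orderOf_one] at hord
    exact hp.one_lt.ne hord
  have hordu₁ : orderOf (m * x' ^ (orderOf x' / p) * m⁻¹) = p := by
    rw [orderOf_conj_eq, hord]
  -- the conjugated elements
  have hx₁ : m * x * m⁻¹ ∈ sigmaCore M :=
    (Subgroup.mem_normalizer_iff.mp (Cfsg.Agent.Lib.helper13.le_normalizer_sigmaCore M hm) x).mp hx
  have hx₁' : m * x' * m⁻¹ ∈ M := M.mul_mem (M.mul_mem hm hx') (M.inv_mem hm)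
  have hx₁1 : m * x * m⁻¹ ≠ 1 := by
    intro h
    apply hx1
    have e3 : x = m⁻¹ * (m * x * m⁻¹) * m := by group
    rw [e3, h]
    group
  have hx₁'1 : m * x' * m⁻¹ ≠ 1 := by
    intro h
    apply hx'1
    have e3 : x' = m⁻¹ * (m * x' * m⁻¹) * m := by group
    rw [e3, h]
    group
  have hc₁ : Commute (m * x * m⁻¹) (m * x' * m⁻¹) := by
    show (m * x * m⁻¹) * (m * x' * m⁻¹) = (m * x' * m⁻¹) * (m * x * m⁻¹)
    have e3 : (m * x * m⁻¹) * (m * x' * m⁻¹) = m * (x * x') * m⁻¹ := by group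
    have e4 : (m * x' * m⁻¹) * (m * x * m⁻¹) = m * (x' * x) * m⁻¹ := by group
    rw [e3, e4, hxx'.eq]
  -- `x₁ ∈ K*`
  have hx₁Ks : m * x * m⁻¹ ∈ sigmaCore M ⊓ Subgroup.centralizer (K : Set G) := by
    rw [← h1 _ hu₁K hu₁1]
    refine ⟨hx₁, ?_⟩
    apply mem_cent_singleton_of_commute
    rw [hu₁e]
    exact (hc₁.pow_right _).symm
  -- `x₁' ∈ K ⊔ K*`
  have hx₁'Z : m * x' * m⁻¹ ∈ K ⊔ (sigmaCore M ⊓ Subgroup.centralizer (K : Set G)) := by
    obtain ⟨hN1, -, -⟩ := h3 (Subgroup.zpowers (m * x' ^ (orderOf x' / p) * m⁻¹))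
      (Subgroup.zpowers_le.mpr hu₁K) (by rw [Nat.card_zpowers, hordu₁]; exact hp)
    rw [← hN1]
    refine ⟨hx₁', ?_⟩
    apply cent_singleton_le_normalizer_zpowers
    apply mem_cent_singleton_of_commute
    rw [hu₁e]
    exact (Commute.refl (m * x' * m⁻¹)).pow_left _
  obtain ⟨k, hk, ks, hks, e⟩ := Cfsg.Agent.Lib.helper13.bgz_decomp hcomm hx₁'Z
  have hκ₁ : ∀ q : ℕ, q.Prime → q ∣ orderOf (m * x' * m⁻¹) → q ∉ sigma M := by
    intro q hq hd
    rw [orderOf_conj_eq] at hd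
    exact (hκ q hq hd).2.2.1
  have hkks : Commute k ks := hcomm k hk ks hks
  obtain ⟨hks1, hkx⟩ := pi_decomp_unique (sigma M) (a := ks) (r := k) (b := 1)
    (s := m * x' * m⁻¹) (by rw [one_mul, e, hkks.eq]) hkks.symm (Commute.one_left _)
    (fun q hq hd => prime_mem_sigma_of_mem_sigmaCore hG M hM hks.1 hq hd)
    (fun q hq hd => by
      rw [orderOf_one] at hd
      exact absurd (Nat.dvd_one.mp hd) hq.one_lt.ne')
    (fun q hq hd => (hK.2.1 q hq (hd.trans (Subgroup.orderOf_dvd_natCard _ hk))).2.2.1)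
    hκ₁
  have hx₁'K : m * x' * m⁻¹ ∈ K := by rw [← hkx]; exact hk
  have hdisj : K ⊓ (sigmaCore M ⊓ Subgroup.centralizer (K : Set G)) = ⊥ := by
    rw [eq_bot_iff, ← hdisjσ]
    exact inf_le_inf_left K inf_le_left
  refine ⟨m, ?_⟩
  have e5 : m * (x * x') * m⁻¹ = (m * x' * m⁻¹) * (m * x * m⁻¹) := by
    rw [hxx'.eq]
    group
  rw [e5]
  exact Cfsg.Agent.Lib.helper13.bgz_mul_mem hdisj hx₁'K hx₁'1 hx₁Ks hx₁1

/-- The second alternative of the covering dichotomy is conjugate into `Ẑ`. -/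
theorem cover_zhat [Finite G] (hG : IsMinSimpleOddOrder G)
    (h30 : Cfsg.Agent.Lib.helper69.H1430 G)
    (M : Subgroup G) (hM : IsCoatom M) (K : Subgroup G) (hK : IsPiHallOf (kappa M) K M)
    (hK1 : K ≠ ⊥) (Mstar : Subgroup G) (hMstar : IsCoatom Mstar)
    (hKst : K = sigmaCore Mstar ⊓ Subgroup.centralizer
      ((sigmaCore M ⊓ Subgroup.centralizer (K : Set G) : Subgroup G) : Set G))
    (hKstH : IsPiHallOf (kappa Mstar) (sigmaCore M ⊓ Subgroup.centralizer (K : Set G)) Mstar)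
    (hf : ∀ H : Subgroup G, IsCoatom H → (kappa H).Nonempty →
      ∃ g : G, H = M.map (MulAut.conj g).toMonoidHom ∨ H = Mstar.map (MulAut.conj g).toMonoidHom)
    (M₁ : Subgroup G) (hM₁ : IsCoatom M₁) (x : G) (hx : x ∈ sigmaCore M₁) (hx1 : x ≠ 1)
    (x' : G) (hx' : x' ∈ M₁) (hx'1 : x' ≠ 1) (hxx' : x * x' = x' * x)
    (hκ : ∀ p : ℕ, p.Prime → p ∣ orderOf x' → p ∈ kappa M₁) :
    ∃ y : G, ∃ z ∈ zhat M K, x * x' = y * z * y⁻¹ := by
  obtain ⟨-, -, hKs1, -⟩ := Cfsg.Agent.Lib.helper13.bgz_setup hG h30 M hM K hK hK1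
  obtain ⟨p, hp, hpd⟩ := exists_prime_dvd_orderOf hx'1
  -- reduce to a pair `(M₂, K₂)` with `M₁ = M₂^g`
  have key : ∀ (M₂ K₂ : Subgroup G), IsCoatom M₂ → IsPiHallOf (kappa M₂) K₂ M₂ → K₂ ≠ ⊥ →
      ∀ g : G, M₁ = M₂.map (MulAut.conj g).toMonoidHom →
      ∃ y : G, ∃ z ∈ zhat M₂ K₂, x * x' = y * z * y⁻¹ := by
    intro M₂ K₂ hM₂ hK₂ hK₂1 g hg
    have hx₀ : g⁻¹ * x * g ∈ sigmaCore M₂ := by
      have h1 := hx
      rw [hg, sigmaCore_map_conj, Cfsg.Agent.Lib.helper13.sf_mem_map_conj_iff] at h1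
      exact h1
    have hx₀' : g⁻¹ * x' * g ∈ M₂ := by
      have h1 := hx'
      rw [hg, Cfsg.Agent.Lib.helper13.sf_mem_map_conj_iff] at h1
      exact h1
    have hx₀1 : g⁻¹ * x * g ≠ 1 := by
      intro h
      apply hx1
      have e3 : x = g * (g⁻¹ * x * g) * g⁻¹ := by group
      rw [e3, h]
      group
    have hx₀'1 : g⁻¹ * x' * g ≠ 1 := by
      intro h
      apply hx'1
      have e3 : x' = g * (g⁻¹ * x' * g) * g⁻¹ := by group
      rw [e3, h]
      group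
    have hc₀ : Commute (g⁻¹ * x * g) (g⁻¹ * x' * g) := by
      show (g⁻¹ * x * g) * (g⁻¹ * x' * g) = (g⁻¹ * x' * g) * (g⁻¹ * x * g)
      have e3 : (g⁻¹ * x * g) * (g⁻¹ * x' * g) = g⁻¹ * (x * x') * g := by group
      have e4 : (g⁻¹ * x' * g) * (g⁻¹ * x * g) = g⁻¹ * (x' * x) * g := by group
      rw [e3, e4, hxx']
    have hκ₀ : ∀ q : ℕ, q.Prime → q ∣ orderOf (g⁻¹ * x' * g) → q ∈ kappa M₂ := by
      intro q hq hd
      have e3 : g⁻¹ * x' * g = g⁻¹ * x' * g⁻¹⁻¹ := by group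
      rw [e3, orderOf_conj_eq] at hd
      have h1 := hκ q hq hd
      rwa [hg, kappa_map_conj] at h1
    obtain ⟨m, hmz⟩ := pair_zhat hG h30 M₂ hM₂ K₂ hK₂ hK₂1 _ hx₀ hx₀1 _ hx₀' hx₀'1 hc₀ hκ₀
    refine ⟨g * m⁻¹, _, hmz, ?_⟩
    group
  rcases hf M₁ hM₁ ⟨p, hκ p hp hpd⟩ with ⟨g, hg | hg⟩
  · exact key M K hM hK hK1 g hg
  · obtain ⟨y, z, hz, e⟩ := key Mstar _ hMstar hKstH hKs1 g hg
    refine ⟨y, z, ?_, e⟩
    have hz' : z ∈ (↑((sigmaCore M ⊓ Subgroup.centralizer (K : Set G)) ⊔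
        (sigmaCore Mstar ⊓ Subgroup.centralizer
          ((sigmaCore M ⊓ Subgroup.centralizer (K : Set G) : Subgroup G) : Set G))) : Set G) \
        ((↑(sigmaCore M ⊓ Subgroup.centralizer (K : Set G)) : Set G) ∪
          ↑(sigmaCore Mstar ⊓ Subgroup.centralizer
            ((sigmaCore M ⊓ Subgroup.centralizer (K : Set G) : Subgroup G) : Set G))) := hz
    rw [← hKst] at hz'
    show z ∈ (↑(K ⊔ (sigmaCore M ⊓ Subgroup.centralizer (K : Set G))) : Set G) \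
      ((K : Set G) ∪ ↑(sigmaCore M ⊓ Subgroup.centralizer (K : Set G)))
    rw [sup_comm, Set.union_comm]
    exact hz'

/-- The statement S1379 from its input rows. -/
theorem bg1379 [Finite G] (hG : IsMinSimpleOddOrder G)
    (h30 : Cfsg.Agent.Lib.helper69.H1430 G) (h78a : H78a G)
    (h78 : Cfsg.Agent.Lib.helper59.BG1431.H78 G) (h32 : H1432 G) (h75 : H1375 G)
    (h33 : H1433 G) (h66 : H1366e G) (h69 : H1369b G) :
    (∀ M N : Subgroup G, IsCoatom M → IsCoatom N →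
        (∀ g : G, N ≠ M.map (MulAut.conj g).toMonoidHom) →
        tildeOf M ((sigmaCore M : Set G) \ {1}) ∩ tildeOf N ((sigmaCore N : Set G) \ {1}) = ∅) ∧
      ((∀ M : Subgroup G, IsCoatom M → kappa M = ∅) →
        ∀ g : G, g ≠ 1 → ∃ M : Subgroup G, IsCoatom M ∧
          g ∈ tildeOf M ((sigmaCore M : Set G) \ {1})) ∧
      ∀ (M K U : Subgroup G), IsCoatom M → IsSigmaDecomposition M K U → K ≠ ⊥ →
        (∀ g : G, g ≠ 1 →
            (∃ N : Subgroup G, IsCoatom N ∧ g ∈ tildeOf N ((sigmaCore N : Set G) \ {1})) ∨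
            ∃ y : G, ∃ z ∈ ((↑(K ⊔ (sigmaCore M ⊓ Subgroup.centralizer (K : Set G))) : Set G) \
              ((K : Set G) ∪ ↑(sigmaCore M ⊓ Subgroup.centralizer (K : Set G)))),
              g = y * z * y⁻¹) ∧
        ∀ N : Subgroup G, IsCoatom N → ∀ y : G,
          ∀ z ∈ ((↑(K ⊔ (sigmaCore M ⊓ Subgroup.centralizer (K : Set G))) : Set G) \
              ((K : Set G) ∪ ↑(sigmaCore M ⊓ Subgroup.centralizer (K : Set G)))),
            y * z * y⁻¹ ∉ tildeOf N ((sigmaCore N : Set G) \ {1}) := by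
  refine ⟨fun M N hM hN hnc => tilde_disjoint hG h33 h78 M N hM hN hnc, ?_, ?_⟩
  · intro hκ g hg
    rcases tilde_cover hG h78a h30 h32 h75 g hg with
      h | ⟨M₁, hM₁, x₁, -, -, x₁', -, hx₁'1, -, hκ₁, -⟩
    · exact h
    · exfalso
      obtain ⟨p, hp, hpd⟩ := exists_prime_dvd_orderOf hx₁'1
      have h1 := hκ₁ p hp hpd
      rw [hκ M₁ hM₁] at h1
      exact h1
  · intro M K U hM hKU hK1
    obtain ⟨Mstar, hMstar, hKst, hKstH⟩ := h66 M hM K U hKU hK1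
    have hf := h69 M hM K U hKU hK1 Mstar hMstar hKst hKstH
    refine ⟨fun g hg => ?_, fun N hN y z hz =>
      zhat_not_tilde hG h30 h78 h75 M hM K hKU.hall hK1 Mstar hMstar hKst hKstH N hN y z hz⟩
    rcases tilde_cover hG h78a h30 h32 h75 g hg with
      h | ⟨M₁, hM₁, x₁, hx₁, hx₁1, x₁', hx₁', hx₁'1, hcomm, hκ₁, y, hy⟩
    · left
      exact h
    · right
      obtain ⟨y₂, z, hz, e⟩ := cover_zhat hG h30 M hM K hKU.hall hK1 Mstar hMstar hKst hKstH hf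
        M₁ hM₁ x₁ hx₁ hx₁1 x₁' hx₁' hx₁'1 hcomm hκ₁
      refine ⟨y * y₂, z, hz, ?_⟩
      rw [hy, e]
      group

end Cfsg.Agent.Lib.helper59.BGTilde
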