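import Mathlib

/-! Piece AR2 (`ar_minus`) of the S4501 split (helper17): pure arithmetic. -/

set_option autoImplicit false

namespace Cfsg.Agent.Lib.helper59.BW

/-- All prime factors of `n` lie in `{u, v}`. -/
def PQ (u v n : ℕ) : Prop := ∀ ℓ : ℕ, ℓ.Prime → ℓ ∣ n → ℓ = u ∨ ℓ = v

theorem PQ.symm {u v n : ℕ} (h : PQ u v n) : PQ v u n := fun ℓ hℓ hd => (h ℓ hℓ hd).symm

theorem PQ.dvd_or {u v n : ℕ} (h : PQ u v n) (hn : 1 < n) : u ∣ n ∨ v ∣ n := by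
  obtain ⟨ℓ, hℓ, hd⟩ := Nat.exists_prime_and_dvd (by omega : n ≠ 1)
  rcases h ℓ hℓ hd with rfl | rfl
  · exact Or.inl hd
  · exact Or.inr hd

theorem not_dvd_one_of_prime {u : ℕ} (hu : u.Prime) (h : u ∣ 1) : False :=
  hu.one_lt.ne' (Nat.dvd_one.mp h)

theorem dvd_one_of2 {u x y : ℕ} (c d : ℤ) (hx : u ∣ x) (hy : u ∣ y)
    (h : c * (x : ℤ) + d * (y : ℤ) = 1) : u ∣ 1 := by
  have hx' : (u : ℤ) ∣ (x : ℤ) := Int.natCast_dvd_natCast.mpr hx
  have hy' : (u : ℤ) ∣ (y : ℤ) := Int.natCast_dvd_natCast.mpr hy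
  have h1 : (u : ℤ) ∣ ((1 : ℕ) : ℤ) := by
    rw [Nat.cast_one, ← h]
    exact Dvd.dvd.linear_comb hx' hy' c d
  exact Int.natCast_dvd_natCast.mp h1

theorem dvd_one_of3 {u x y z : ℕ} (c d e : ℤ) (hx : u ∣ x) (hy : u ∣ y) (hz : u ∣ z)
    (h : c * (x : ℤ) + d * (y : ℤ) + e * (z : ℤ) = 1) : u ∣ 1 := by
  have hx' : (u : ℤ) ∣ (x : ℤ) := Int.natCast_dvd_natCast.mpr hx
  have hy' : (u : ℤ) ∣ (y : ℤ) := Int.natCast_dvd_natCast.mpr hy
  have hz' : (u : ℤ) ∣ (z : ℤ) := Int.natCast_dvd_natCast.mpr hz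
  have h1 : (u : ℤ) ∣ ((1 : ℕ) : ℤ) := by
    rw [Nat.cast_one, ← h]
    exact dvd_add (Dvd.dvd.linear_comb hx' hy' c d) (Dvd.dvd.mul_left hz' e)
  exact Int.natCast_dvd_natCast.mp h1

/-- Case (a): `B, C > 3`. -/
theorem caseA (u v A B C α β γ : ℕ) (hu : u.Prime) (hv : v.Prime) (hu2 : u ≠ 2) (hv2 : v ≠ 2)
    (hA : A + 1 = 2 * α) (hB : B = 2 * β + 1) (hC : C = 2 * γ + 1) (hα : α = β + γ + 1)
    (hβ3 : 3 ≤ β) (hγ3 : 3 ≤ γ)
    (pA : PQ u v A) (pC : PQ u v C) (pα : PQ u v α) (pβ : PQ u v β) (pγ : PQ u v γ)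
    (huB : u ∣ B) : False := by
  have hβ1 : 1 < β := by omega
  have hγ1 : 1 < γ := by omega
  have hA1 : 1 < A := by omega
  have hα1 : 1 < α := by omega
  have hC1 : 1 < C := by omega
  have zA : (A : ℤ) + 1 = 2 * α := by exact_mod_cast hA
  have zB : (B : ℤ) = 2 * β + 1 := by exact_mod_cast hB
  have zC : (C : ℤ) = 2 * γ + 1 := by exact_mod_cast hC
  have zα : (α : ℤ) = β + γ + 1 := by exact_mod_cast hα
  have huβ : ¬ u ∣ β := fun h =>
    not_dvd_one_of_prime hu (dvd_one_of2 1 (-2) huB h (by linarith))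
  have hvβ : v ∣ β := (pβ.dvd_or hβ1).resolve_left huβ
  rcases pC.dvd_or hC1 with huC | hvC
  · have huγ : ¬ u ∣ γ := fun h =>
      not_dvd_one_of_prime hu (dvd_one_of2 1 (-2) huC h (by linarith))
    have hvγ : v ∣ γ := (pγ.dvd_or hγ1).resolve_left huγ
    have hBC : B + C = 2 * α := by omega
    have hu2α : u ∣ 2 * α := hBC ▸ Nat.dvd_add huB huC
    have huα : u ∣ α := (hu.dvd_mul.mp hu2α).resolve_left
      (fun h => hu2 ((Nat.prime_dvd_prime_iff_eq hu Nat.prime_two).mp h))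
    have huA : ¬ u ∣ A := fun h =>
      not_dvd_one_of_prime hu (dvd_one_of2 (-1) 2 h huα (by linarith))
    have hvA : v ∣ A := (pA.dvd_or hA1).resolve_left huA
    exact not_dvd_one_of_prime hv (dvd_one_of3 1 (-2) (-2) hvA hvβ hvγ (by linarith))
  · have hvγ : ¬ v ∣ γ := fun h =>
      not_dvd_one_of_prime hv (dvd_one_of2 1 (-2) hvC h (by linarith))
    have huγ : u ∣ γ := (pγ.dvd_or hγ1).resolve_right hvγ
    rcases pA.dvd_or hA1 with huA | hvA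
    · have huα : ¬ u ∣ α := fun h =>
        not_dvd_one_of_prime hu (dvd_one_of2 (-1) 2 huA h (by linarith))
      have hvα : v ∣ α := (pα.dvd_or hα1).resolve_left huα
      exact not_dvd_one_of_prime hv (dvd_one_of3 2 (-2) (-1) hvα hvβ hvC (by linarith))
    · have hvα : ¬ v ∣ α := fun h =>
        not_dvd_one_of_prime hv (dvd_one_of2 (-1) 2 hvA h (by linarith))
      have huα : u ∣ α := (pα.dvd_or hα1).resolve_right hvα
      exact not_dvd_one_of_prime hu (dvd_one_of3 2 (-2) (-1) huα huγ huB (by linarith))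

/-- Case (b), one of the two primes dividing `C`. -/
theorem caseB_aux (u v A C α γ : ℕ) (hu : u.Prime) (hv : v.Prime)
    (hA : A + 1 = 2 * α) (hC : C = 2 * γ + 1) (hα : α = γ + 2) (hγ3 : 3 ≤ γ)
    (pA : PQ u v A) (pC : PQ u v C) (pα : PQ u v α) (huC : u ∣ C) : False := by
  have hA1 : 1 < A := by omega
  have hα1 : 1 < α := by omega
  have zA : (A : ℤ) + 1 = 2 * α := by exact_mod_cast hA
  have zC : (C : ℤ) = 2 * γ + 1 := by exact_mod_cast hC
  have zα : (α : ℤ) = γ + 2 := by exact_mod_cast hα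
  have hodd : ∀ w : ℕ, w.Prime → w ∣ A → w ∣ C → False := by
    intro w hw hwA hwC
    have h2 : w ∣ 2 := by
      have h0 : A = C + 2 := by omega
      rw [h0] at hwA
      exact (Nat.dvd_add_right hwC).mp hwA
    have hw2 : w = 2 := (Nat.prime_dvd_prime_iff_eq hw Nat.prime_two).mp h2
    subst hw2
    obtain ⟨k, hk⟩ := hwC
    omega
  have huA : ¬ u ∣ A := fun h => hodd u hu h huC
  have hvA : v ∣ A := (pA.dvd_or hA1).resolve_left huA
  have hvα : ¬ v ∣ α := fun h =>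
    not_dvd_one_of_prime hv (dvd_one_of2 (-1) 2 hvA h (by linarith))
  have huα : u ∣ α := (pα.dvd_or hα1).resolve_right hvα
  have hvC : ¬ v ∣ C := fun h => hodd v hv hvA h
  have hu3 : u = 3 := by
    have h3 : u ∣ 3 := by
      have h0 : 2 * α = C + 3 := by omega
      have h1 : u ∣ C + 3 := h0 ▸ Dvd.dvd.mul_left huα 2
      exact (Nat.dvd_add_right huC).mp h1
    exact (Nat.prime_dvd_prime_iff_eq hu Nat.prime_three).mp h3
  subst hu3
  by_cases h9 : 9 ∣ α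
  · obtain ⟨C', hC'⟩ := huC
    have hC1 : C' = 1 := by
      by_contra hne
      obtain ⟨ℓ, hℓ, hd⟩ := Nat.exists_prime_and_dvd hne
      have hℓC : ℓ ∣ C := hC' ▸ Dvd.dvd.mul_left hd 3
      rcases pC ℓ hℓ hℓC with rfl | rfl
      · obtain ⟨k, hk⟩ := hd
        obtain ⟨m, hm⟩ := h9
        omega
      · exact hvC hℓC
    omega
  · obtain ⟨α', hα'⟩ := huα
    have hα1' : α' = 1 := by
      by_contra hne
      obtain ⟨ℓ, hℓ, hd⟩ := Nat.exists_prime_and_dvd hne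
      have hℓα : ℓ ∣ α := hα' ▸ Dvd.dvd.mul_left hd 3
      rcases pα ℓ hℓ hℓα with rfl | rfl
      · apply h9
        obtain ⟨k, hk⟩ := hd
        exact ⟨k, by rw [hα', hk]; ring⟩
      · exact hvα hℓα
    omega

/-- Case (b): `B = 3` forces `C = 3`. -/
theorem caseB (p q A C α γ : ℕ) (hp : p.Prime) (hq : q.Prime)
    (hA : A + 1 = 2 * α) (hC : C = 2 * γ + 1) (hα : α = γ + 2) (hγodd : γ % 2 = 1)
    (pA : PQ p q A) (pC : PQ p q C) (pα : PQ p q α) : γ = 1 := by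
  by_contra hγ
  have hγ3 : 3 ≤ γ := by omega
  rcases pC.dvd_or (by omega) with h | h
  · exact caseB_aux p q A C α γ hp hq hA hC hα hγ3 pA pC pα h
  · exact caseB_aux q p A C α γ hq hp hA hC hα hγ3 pA.symm pC.symm pα.symm h

/-- AR2 (sign `-`): the degrees are `5, 3, 3` and the primes are `3, 5`. -/
theorem ar_minus (p q a b A B C cJ cP : ℕ) (hp : p.Prime) (hq : q.Prime) (hpq : p ≠ q)
    (hp2 : p ≠ 2) (hq2 : q ≠ 2)
    (hA4 : A % 4 = 1) (hB4 : B % 4 = 3) (hC4 : C % 4 = 3) (hA1 : 1 < A) (hrel : 1 + A = B + C)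
    (hAd : A ∣ 4 * p ^ a * q ^ b) (hBd : B ∣ 4 * p ^ a * q ^ b) (hCd : C ∣ 4 * p ^ a * q ^ b)
    (hcJ : cJ ∣ 4 * p ^ a * q ^ b)
    (hform : (4 * p ^ a * q ^ b) * ((A + 1) * (B - 1) * (C - 1)) * cP ^ 2
      = 8 * (A * B * C) * cJ ^ 3) :
    A = 5 ∧ B = 3 ∧ C = 3 ∧ ((p = 3 ∧ q = 5) ∨ (p = 5 ∧ q = 3)) := by
  obtain ⟨α, hAα, hαodd⟩ : ∃ α, A + 1 = 2 * α ∧ α % 2 = 1 := ⟨(A + 1) / 2, by omega, by omega⟩
  obtain ⟨β, hBβ, hβodd⟩ : ∃ β, B = 2 * β + 1 ∧ β % 2 = 1 := ⟨(B - 1) / 2, by omega, by omega⟩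
  obtain ⟨γ, hCγ, hγodd⟩ : ∃ γ, C = 2 * γ + 1 ∧ γ % 2 = 1 := ⟨(C - 1) / 2, by omega, by omega⟩
  have hα : α = β + γ + 1 := by omega
  generalize hN : 4 * p ^ a * q ^ b = N at hAd hBd hCd hcJ hform
  have hNpq : ∀ ℓ : ℕ, ℓ.Prime → ℓ ∣ N → ℓ = 2 ∨ ℓ = p ∨ ℓ = q := by
    intro ℓ hℓ hd
    rw [← hN] at hd
    rcases (Nat.Prime.dvd_mul hℓ).mp hd with h | h
    · rcases (Nat.Prime.dvd_mul hℓ).mp h with h4 | hpa
      · left
        have h22 : ℓ ∣ 2 ^ 2 := by norm_num; exact h4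
        exact (Nat.prime_dvd_prime_iff_eq hℓ Nat.prime_two).mp (hℓ.dvd_of_dvd_pow h22)
      · right; left; exact (Nat.prime_dvd_prime_iff_eq hℓ hp).mp (hℓ.dvd_of_dvd_pow hpa)
    · right; right; exact (Nat.prime_dvd_prime_iff_eq hℓ hq).mp (hℓ.dvd_of_dvd_pow h)
  have podd : ∀ n : ℕ, n % 2 = 1 → n ∣ N → PQ p q n := by
    intro n hn hd ℓ hℓ hℓn
    rcases hNpq ℓ hℓ (hℓn.trans hd) with rfl | h | h
    · exfalso; obtain ⟨k, hk⟩ := hℓn; omega
    · exact Or.inl h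
    · exact Or.inr h
  have pA : PQ p q A := podd A (by omega) hAd
  have pB : PQ p q B := podd B (by omega) hBd
  have pC : PQ p q C := podd C (by omega) hCd
  have hform' : N * (α * β * γ) * cP ^ 2 = A * B * C * cJ ^ 3 := by
    have h1 : (A + 1) * (B - 1) * (C - 1) = 8 * (α * β * γ) := by
      have hB1 : B - 1 = 2 * β := by omega
      have hC1 : C - 1 = 2 * γ := by omega
      rw [hAα, hB1, hC1]; ring
    rw [h1] at hform
    have h8 : 8 * (N * (α * β * γ) * cP ^ 2) = 8 * (A * B * C * cJ ^ 3) := by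
      calc 8 * (N * (α * β * γ) * cP ^ 2) = N * (8 * (α * β * γ)) * cP ^ 2 := by ring
        _ = 8 * (A * B * C) * cJ ^ 3 := hform
        _ = 8 * (A * B * C * cJ ^ 3) := by ring
    exact Nat.eq_of_mul_eq_mul_left (by norm_num) h8
  have pdiv : ∀ n : ℕ, n % 2 = 1 → n ∣ α * β * γ → PQ p q n := by
    intro n hn hd ℓ hℓ hℓn
    have h1 : ℓ ∣ A * B * C * cJ ^ 3 := by
      rw [← hform']
      exact Dvd.dvd.mul_right (Dvd.dvd.mul_left (hℓn.trans hd) N) _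
    have h2 : ℓ ∣ N := by
      rcases (Nat.Prime.dvd_mul hℓ).mp h1 with h | h
      · rcases (Nat.Prime.dvd_mul hℓ).mp h with h | h
        · rcases (Nat.Prime.dvd_mul hℓ).mp h with h | h
          · exact h.trans hAd
          · exact h.trans hBd
        · exact h.trans hCd
      · exact (hℓ.dvd_of_dvd_pow h).trans hcJ
    rcases hNpq ℓ hℓ h2 with rfl | h | h
    · exfalso; obtain ⟨k, hk⟩ := hℓn; omega
    · exact Or.inl h
    · exact Or.inr h
  have pα : PQ p q α := pdiv α hαodd (Dvd.intro (β * γ) (by ring))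
  have pβ : PQ p q β := pdiv β hβodd (Dvd.intro (α * γ) (by ring))
  have pγ : PQ p q γ := pdiv γ hγodd (Dvd.intro (α * β) (by ring))
  have hABC : A = 5 ∧ B = 3 ∧ C = 3 := by
    by_cases hβ1 : β = 1
    · have hγ1 : γ = 1 := caseB p q A C α γ hp hq hAα hCγ (by omega) hγodd pA pC pα
      omega
    · by_cases hγ1 : γ = 1
      · have hβ1' : β = 1 := caseB p q A B α β hp hq hAα hBβ (by omega) hβodd pA pB pα
        omega
      · exfalso
        have hβ3 : 3 ≤ β := by omega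
        have hγ3 : 3 ≤ γ := by omega
        rcases pB.dvd_or (by omega) with h | h
        · exact caseA p q A B C α β γ hp hq hp2 hq2 hAα hBβ hCγ hα hβ3 hγ3 pA pC pα pβ pγ h
        · exact caseA q p A B C α β γ hq hp hq2 hp2 hAα hBβ hCγ hα hβ3 hγ3
            pA.symm pC.symm pα.symm pβ.symm pγ.symm h
  obtain ⟨hA5, hB3, hC3⟩ := hABC
  refine ⟨hA5, hB3, hC3, ?_⟩
  have h5 := pA 5 (by norm_num) (by rw [hA5])
  have h3 := pB 3 (by norm_num) (by rw [hB3])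
  rcases h5 with h5 | h5 <;> rcases h3 with h3 | h3
  · omega
  · right; exact ⟨h5.symm, h3.symm⟩
  · left; exact ⟨h3.symm, h5.symm⟩
  · omega

end Cfsg.Agent.Lib.helper59.BW
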