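import Mathlib
import Cfsg.Agent.Lib.helper59.BW_AR2

/-! Piece AR1 (`ar_plus`) of the S4501 split (helper17): pure arithmetic (insurance copy). -/

set_option autoImplicit false

namespace Cfsg.Agent.Lib.helper59.BW

/-- AR1 (sign `+`): `x`, `(x-1)/2`, `(x+1)/4` are three pairwise coprime divisors `≥ 2` of
`p^a q^b`. -/
theorem ar_plus (p q a b x cJ cP m : ℕ) (hp : p.Prime) (hq : q.Prime) (hp2 : p ≠ 2) (hq2 : q ≠ 2)
    (hx5 : 5 ≤ x) (hx4 : x % 4 = 3) (hxd : x ∣ 4 * p ^ a * q ^ b)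
    (hcJ : cJ ∣ 4 * p ^ a * q ^ b) (hcP : 4 ∣ cP)
    (h1 : 4 * cJ = m * cP * (x + 1))
    (h2 : 8 * (4 * p ^ a * q ^ b) = m ^ 3 * cP * (x ^ 3 - x)) : False := by
  obtain ⟨u, hu, huodd⟩ : ∃ u, x = 2 * u + 1 ∧ u % 2 = 1 := ⟨(x - 1) / 2, by omega, by omega⟩
  obtain ⟨v, hv⟩ : ∃ v, x + 1 = 4 * v := ⟨(x + 1) / 4, by omega⟩
  have hu3 : 3 ≤ u := by omega
  have hv2 : 2 ≤ v := by omega
  have hg : ∀ ℓ : ℕ, ℓ.Prime → ℓ ∣ p ^ a * q ^ b → ℓ = p ∨ ℓ = q := by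
    intro ℓ hℓ hd
    rcases (Nat.Prime.dvd_mul hℓ).mp hd with h | h
    · left; exact (Nat.prime_dvd_prime_iff_eq hℓ hp).mp (hℓ.dvd_of_dvd_pow h)
    · right; exact (Nat.prime_dvd_prime_iff_eq hℓ hq).mp (hℓ.dvd_of_dvd_pow h)
  have hN : ∀ k : ℕ, ∀ ℓ : ℕ, ℓ.Prime → ℓ ∣ 2 ^ k * (p ^ a * q ^ b) → ℓ = 2 ∨ ℓ = p ∨ ℓ = q := by
    intro k ℓ hℓ hd
    rcases (Nat.Prime.dvd_mul hℓ).mp hd with h | h
    · left; exact (Nat.prime_dvd_prime_iff_eq hℓ Nat.prime_two).mp (hℓ.dvd_of_dvd_pow h)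
    · right; exact hg ℓ hℓ h
  -- `x`
  have px : PQ p q x := by
    intro ℓ hℓ hℓx
    have h0 : ℓ ∣ 2 ^ 2 * (p ^ a * q ^ b) := by
      have h3 : 2 ^ 2 * (p ^ a * q ^ b) = 4 * p ^ a * q ^ b := by ring
      rw [h3]; exact hℓx.trans hxd
    rcases hN 2 ℓ hℓ h0 with rfl | h | h
    · exfalso; obtain ⟨k, hk⟩ := hℓx; omega
    · exact Or.inl h
    · exact Or.inr h
  -- `u`
  have pu : PQ p q u := by
    intro ℓ hℓ hℓu
    have h0 : ℓ ∣ 2 ^ 5 * (p ^ a * q ^ b) := by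
      have h3 : 2 ^ 5 * (p ^ a * q ^ b) = 8 * (4 * p ^ a * q ^ b) := by ring
      have h4 : x ^ 3 - x = u * (2 * (2 * u + 1) * (2 * u + 2)) := by
        apply Nat.sub_eq_of_eq_add
        rw [hu]; ring
      rw [h3, h2, h4]
      exact Dvd.dvd.mul_left (Dvd.dvd.mul_right hℓu _) _
    rcases hN 5 ℓ hℓ h0 with rfl | h | h
    · exfalso; obtain ⟨k, hk⟩ := hℓu; omega
    · exact Or.inl h
    · exact Or.inr h
  -- `v`
  have pv : PQ p q v := by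
    intro ℓ hℓ hℓv
    obtain ⟨c, hc⟩ := hcP
    have h3 : cJ = 4 * (m * c * v) := by
      have h4 : 4 * cJ = 4 * (4 * (m * c * v)) := by
        rw [h1, hv, hc]; ring
      exact Nat.eq_of_mul_eq_mul_left (by norm_num) h4
    have h5 : m * c * v ∣ p ^ a * q ^ b := by
      have h6 : 4 * (m * c * v) ∣ 4 * (p ^ a * q ^ b) := by
        rw [← h3]
        have h7 : 4 * (p ^ a * q ^ b) = 4 * p ^ a * q ^ b := by ring
        rw [h7]; exact hcJ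
      exact (Nat.mul_dvd_mul_iff_left (by norm_num)).mp h6
    exact hg ℓ hℓ ((hℓv.trans (Dvd.intro_left (m * c) rfl)).trans h5)
  have zu : (x : ℤ) = 2 * u + 1 := by exact_mod_cast hu
  have zv : (x : ℤ) + 1 = 4 * v := by exact_mod_cast hv
  have cxu : ∀ ℓ : ℕ, ℓ.Prime → ℓ ∣ x → ℓ ∣ u → False := fun ℓ hℓ h h' =>
    not_dvd_one_of_prime hℓ (dvd_one_of2 1 (-2) h h' (by linarith))
  have cxv : ∀ ℓ : ℕ, ℓ.Prime → ℓ ∣ x → ℓ ∣ v → False := fun ℓ hℓ h h' =>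
    not_dvd_one_of_prime hℓ (dvd_one_of2 (-1) 4 h h' (by linarith))
  have cuv : ∀ ℓ : ℕ, ℓ.Prime → ℓ ∣ u → ℓ ∣ v → False := fun ℓ hℓ h h' =>
    not_dvd_one_of_prime hℓ (dvd_one_of2 (-1) 2 h h' (by linarith))
  rcases px.dvd_or (by omega) with hx | hx <;> rcases pu.dvd_or (by omega) with hu' | hu' <;>
    rcases pv.dvd_or (by omega) with hv' | hv'
  · exact cxu p hp hx hu'
  · exact cxu p hp hx hu'
  · exact cxv p hp hx hv'
  · exact cuv q hq hu' hv'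
  · exact cuv p hp hu' hv'
  · exact cxv q hq hx hv'
  · exact cxu q hq hx hu'
  · exact cxu q hq hx hu'

end Cfsg.Agent.Lib.helper59.BW
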