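import Mathlib

set_option autoImplicit false

/-!
# The centralizer in `S₉` of a product of three disjoint `3`-cycles, and invariant complements

* `card_centralizer_le` : the centralizer of `σ9 = (0 1 2)(3 4 5)(6 7 8)` has at most `162` elements.
* `cycleType_of_fpf_cube` : a fixed-point-free permutation of `9` points with cube `1` has cycle
  type `3³`.
* `exists_invariant_complement` : in a finite abelian group of exponent `3` with an involutory
  endomorphism `τ` fixing `z ≠ 1`, there is a `τ`-invariant subgroup `M` with `z ∉ M` and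
  `M ⊔ ⟨z⟩ = ⊤`.
-/

namespace Cfsg.Agent.Lib.helper59.C3wrS3

/-- the product of three disjoint `3`-cycles -/
def σ9 : Equiv.Perm (Fin 9) :=
  Equiv.swap (0 : Fin 9) 1 * Equiv.swap 1 2 * Equiv.swap 3 4 * Equiv.swap 4 5 * Equiv.swap 6 7 *
    Equiv.swap 7 8

theorem σ9_cube : σ9 ^ 3 = 1 := by decide

theorem σ9_fpf : ∀ x : Fin 9, σ9 x ≠ x := by decide

/-- the block of a point -/
def blk (x : Fin 9) : Fin 3 := ⟨x.val / 3, by omega⟩

theorem blk_eq : ∀ x y : Fin 9, blk x = blk y → y = x ∨ y = σ9 x ∨ y = σ9 (σ9 x) := by decide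

theorem pt_cases : ∀ x : Fin 9, (x = 0 ∨ x = σ9 0 ∨ x = σ9 (σ9 0)) ∨
    (x = 3 ∨ x = σ9 3 ∨ x = σ9 (σ9 3)) ∨ (x = 6 ∨ x = σ9 6 ∨ x = σ9 (σ9 6)) := by decide

/-- triples of points in pairwise distinct blocks -/
def goodTriple (p : Fin 9 × Fin 9 × Fin 9) : Prop :=
  blk p.1 ≠ blk p.2.1 ∧ blk p.1 ≠ blk p.2.2 ∧ blk p.2.1 ≠ blk p.2.2

instance : DecidablePred goodTriple := fun p => by unfold goodTriple; infer_instance

set_option maxRecDepth 100000 in
theorem card_goodTriple : Fintype.card {p : Fin 9 × Fin 9 × Fin 9 // goodTriple p} = 162 := by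
  decide

theorem card_centralizer_le :
    Nat.card (Subgroup.centralizer ({σ9} : Set (Equiv.Perm (Fin 9)))) ≤ 162 := by
  have hcomm : ∀ g ∈ Subgroup.centralizer ({σ9} : Set (Equiv.Perm (Fin 9))), ∀ x : Fin 9,
      g (σ9 x) = σ9 (g x) := by
    intro g hg x
    have h := Subgroup.mem_centralizer_iff.mp hg σ9 rfl
    exact (congrArg (fun f : Equiv.Perm (Fin 9) => f x) h).symm
  have hgood : ∀ g ∈ Subgroup.centralizer ({σ9} : Set (Equiv.Perm (Fin 9))),
      goodTriple (g 0, g 3, g 6) := by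
    intro g hg
    have key : ∀ a b : Fin 9, (b ≠ a ∧ b ≠ σ9 a ∧ b ≠ σ9 (σ9 a)) → blk (g a) ≠ blk (g b) := by
      intro a b hab h
      rcases blk_eq _ _ h with h1 | h1 | h1
      · exact hab.1 (g.injective h1)
      · rw [← hcomm g hg] at h1
        exact hab.2.1 (g.injective h1)
      · rw [← hcomm g hg, ← hcomm g hg] at h1
        exact hab.2.2 (g.injective h1)
    exact ⟨key 0 3 (by decide), key 0 6 (by decide), key 3 6 (by decide)⟩
  let f : Subgroup.centralizer ({σ9} : Set (Equiv.Perm (Fin 9))) →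
      {p : Fin 9 × Fin 9 × Fin 9 // goodTriple p} :=
    fun g => ⟨(g.1 0, g.1 3, g.1 6), hgood g.1 g.2⟩
  have hf : Function.Injective f := by
    intro g h hgh
    have h0 : g.1 0 = h.1 0 := congrArg (fun p => p.1.1) hgh
    have h3 : g.1 3 = h.1 3 := congrArg (fun p => p.1.2.1) hgh
    have h6 : g.1 6 = h.1 6 := congrArg (fun p => p.1.2.2) hgh
    apply Subtype.ext
    apply Equiv.ext
    intro x
    have hg := hcomm g.1 g.2
    have hh := hcomm h.1 h.2
    rcases pt_cases x with (rfl | rfl | rfl) | (rfl | rfl | rfl) | (rfl | rfl | rfl)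
    · exact h0
    · rw [hg, hh, h0]
    · rw [hg, hh, hg, hh, h0]
    · exact h3
    · rw [hg, hh, h3]
    · rw [hg, hh, hg, hh, h3]
    · exact h6
    · rw [hg, hh, h6]
    · rw [hg, hh, hg, hh, h6]
  have h1 := Nat.card_le_card_of_injective f hf
  have h2 : Nat.card {p : Fin 9 × Fin 9 × Fin 9 // goodTriple p} = 162 := by
    rw [Nat.card_eq_fintype_card]; exact card_goodTriple
  rwa [h2] at h1

/-- a fixed-point-free permutation of `9` points with trivial cube has cycle type `3³` -/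
theorem cycleType_of_fpf_cube (π : Equiv.Perm (Fin 9)) (h3 : π ^ 3 = 1) (hfpf : ∀ x, π x ≠ x) :
    π.cycleType = Multiset.replicate 3 3 := by
  have hp : Fact (Nat.Prime 3) := ⟨Nat.prime_three⟩
  have h1 : π ≠ 1 := by
    intro h
    exact hfpf 0 (by rw [h]; rfl)
  have hord : orderOf π = 3 := orderOf_eq_prime h3 h1
  obtain ⟨n, hn⟩ := Equiv.Perm.cycleType_prime_order (σ := π) (by rw [hord]; exact Nat.prime_three)
  have hsum := Equiv.Perm.sum_cycleType π
  have hsupp : π.support = Finset.univ := by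
    apply Finset.eq_univ_of_forall
    intro x
    rw [Equiv.Perm.mem_support]
    exact hfpf x
  rw [hn, hsupp, hord, Multiset.sum_replicate, Finset.card_univ, Fintype.card_fin] at hsum
  have hn2 : n = 2 := by
    simp only [smul_eq_mul] at hsum
    omega
  rw [hn, hn2, hord]

/-- if `c ≠ 1` is a power of `b` and `b ^ 3 = 1` then `b` is a power of `c` -/
theorem mem_zpowers_of_mem_zpowers {A : Type*} [Group A] {b c : A} (hb : b ^ 3 = 1)
    (hc : c ∈ Subgroup.zpowers b) (hc1 : c ≠ 1) : b ∈ Subgroup.zpowers c := by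
  have hp : Fact (Nat.Prime 3) := ⟨Nat.prime_three⟩
  have hb1 : b ≠ 1 := by
    rintro rfl
    rw [Subgroup.zpowers_one_eq_bot, Subgroup.mem_bot] at hc
    exact hc1 hc
  have hord : orderOf b = 3 := orderOf_eq_prime hb hb1
  have hle : Subgroup.zpowers c ≤ Subgroup.zpowers b := Subgroup.zpowers_le.mpr hc
  have hcard : Nat.card (Subgroup.zpowers b) = 3 := by rw [Nat.card_zpowers, hord]
  have hfin : Finite (Subgroup.zpowers b) := Nat.finite_of_card_ne_zero (by rw [hcard]; norm_num)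
  have hdvd := Subgroup.card_dvd_of_le hle
  rw [hcard] at hdvd
  have h3 : Nat.card (Subgroup.zpowers c) = 3 := by
    rcases (Nat.dvd_prime Nat.prime_three).mp hdvd with h | h
    · exfalso
      rw [Nat.card_zpowers, orderOf_eq_one_iff] at h
      exact hc1 h
    · exact h
  have heq : Subgroup.zpowers c = Subgroup.zpowers b :=
    Subgroup.eq_of_le_of_card_ge hle (by rw [hcard, h3])
  rw [heq]
  exact Subgroup.mem_zpowers b

/-- In a finite abelian group of exponent `3` with an involutory endomorphism `τ` fixing `z ≠ 1`,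
there is a `τ`-invariant subgroup `M` with `z ∉ M` and `M ⊔ ⟨z⟩ = ⊤`. -/
theorem exists_invariant_complement {A : Type*} [Group A] [Finite A]
    (hcomm : ∀ a b : A, a * b = b * a) (hexp : ∀ a : A, a ^ 3 = 1) (τ : A →* A)
    (hτ : ∀ a, τ (τ a) = a) (z : A) (hz1 : z ≠ 1) :
    ∃ M : Subgroup A, (∀ m ∈ M, τ m ∈ M) ∧ z ∉ M ∧ M ⊔ Subgroup.zpowers z = ⊤ := by
  classical
  have hnormal : ∀ K : Subgroup A, K.Normal := fun K =>
    ⟨fun n hn g => by rw [hcomm g n, mul_inv_cancel_right]; exact hn⟩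
  obtain ⟨M, -, hM⟩ := Finite.exists_le_maximal
    (p := fun M : Subgroup A => z ∉ M ∧ ∀ m ∈ M, τ m ∈ M) (a := ⊥)
    ⟨by rw [Subgroup.mem_bot]; exact hz1, by
      intro m hm
      rw [Subgroup.mem_bot] at hm
      rw [hm, map_one]; exact Subgroup.one_mem _⟩
  refine ⟨M, hM.prop.2, hM.prop.1, ?_⟩
  rw [eq_top_iff]
  intro a _
  by_contra ha
  have hb : ∃ b : A, b ∉ M ⊔ Subgroup.zpowers z ∧ τ b ∈ Subgroup.zpowers b := by
    by_cases h1 : a * τ a ∈ M ⊔ Subgroup.zpowers z
    · by_cases h2 : a * (τ a)⁻¹ ∈ M ⊔ Subgroup.zpowers z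
      · exfalso
        apply ha
        have h3 : a = (a * τ a * (a * (τ a)⁻¹)) ^ 2 := by
          have h4 : a * τ a * (a * (τ a)⁻¹) = a ^ 2 := by
            rw [hcomm a (τ a), mul_assoc, ← mul_assoc a a, hcomm (a * a), ← mul_assoc,
              mul_inv_cancel, one_mul, pow_two]
          rw [h4, ← pow_mul]
          have h5 : a ^ (2 * 2) = a ^ 3 * a := by rw [← pow_succ]
          rw [h5, hexp, one_mul]
        rw [h3]
        exact Subgroup.pow_mem _ (Subgroup.mul_mem _ h1 h2) 2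
      · refine ⟨a * (τ a)⁻¹, h2, ?_⟩
        have h3 : τ (a * (τ a)⁻¹) = (a * (τ a)⁻¹)⁻¹ := by
          rw [map_mul, map_inv, hτ, mul_inv_rev, inv_inv]
        rw [h3]
        exact Subgroup.inv_mem _ (Subgroup.mem_zpowers _)
    · refine ⟨a * τ a, h1, ?_⟩
      have h3 : τ (a * τ a) = a * τ a := by rw [map_mul, hτ, hcomm]
      rw [h3]
      exact Subgroup.mem_zpowers _
  obtain ⟨b, hb1, hb2⟩ := hb
  have hP : z ∉ M ⊔ Subgroup.zpowers b ∧ ∀ m ∈ M ⊔ Subgroup.zpowers b,
      τ m ∈ M ⊔ Subgroup.zpowers b := by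
    constructor
    · intro hzM
      have := hnormal (Subgroup.zpowers b)
      obtain ⟨m, hm, c, hc, hmc⟩ := Subgroup.mem_sup_of_normal_right.mp hzM
      by_cases hc1 : c = 1
      · rw [hc1, mul_one] at hmc
        rw [hmc] at hm
        exact hM.prop.1 hm
      · have hbc : b ∈ Subgroup.zpowers c := mem_zpowers_of_mem_zpowers (hexp b) hc hc1
        apply hb1
        have hcM : c ∈ M ⊔ Subgroup.zpowers z := by
          have h0 : c = m⁻¹ * z := by rw [← hmc, inv_mul_cancel_left]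
          rw [h0]
          exact Subgroup.mul_mem _ ((le_sup_left : M ≤ M ⊔ Subgroup.zpowers z) (M.inv_mem hm))
            ((le_sup_right : Subgroup.zpowers z ≤ M ⊔ Subgroup.zpowers z) (Subgroup.mem_zpowers z))
        exact (Subgroup.zpowers_le.mpr hcM) hbc
    · intro x hx
      have hle : M ⊔ Subgroup.zpowers b ≤ (M ⊔ Subgroup.zpowers b).comap τ := by
        apply sup_le
        · intro m hm
          exact (le_sup_left : M ≤ M ⊔ Subgroup.zpowers b) (hM.prop.2 m hm)
        · rw [Subgroup.zpowers_le, Subgroup.mem_comap]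
          exact (le_sup_right : Subgroup.zpowers b ≤ M ⊔ Subgroup.zpowers b) hb2
      exact hle hx
  have hle := hM.le_of_ge hP le_sup_left
  apply hb1
  exact (le_sup_left : M ≤ M ⊔ Subgroup.zpowers z)
    (hle ((le_sup_right : Subgroup.zpowers b ≤ M ⊔ Subgroup.zpowers b) (Subgroup.mem_zpowers b)))

end Cfsg.Agent.Lib.helper59.C3wrS3
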