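import Cfsg.Agent.Lib.helper42.FGDefs

/-! S1915 split (architect helper42), piece AUT (racer copy by helper59): an automorphism of a cyclic
2-group `<b>` whose square is trivial sends `b` to `b`, `b⁻¹`, `b z` or `b⁻¹ z`. -/

set_option autoImplicit false

namespace Cfsg.Agent.Lib.helper42.FG

variable {G : Type*} [Group G] [Finite G]

theorem h59_sq_mod_two_pow (m : ℕ) (k : ℤ) (h : 2 * (2 : ℤ) ^ m ∣ k * k - 1) :
    (2 : ℤ) ^ m ∣ k - 1 ∨ (2 : ℤ) ^ m ∣ k + 1 := by
  -- k is odd
  obtain ⟨e, he⟩ := h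
  have hodd : ∃ a : ℤ, k = 2 * a + 1 := by
    rcases Int.even_or_odd' k with ⟨c, hc | hc⟩
    · exfalso
      have h1 : k * k = 2 * (2 * (c * c)) := by rw [hc]; ring
      have h2 : 2 * (2 : ℤ) ^ m * e = 2 * ((2 : ℤ) ^ m * e) := by ring
      rw [h1, h2] at he
      generalize c * c = X at he
      generalize (2 : ℤ) ^ m * e = Y at he
      omega
    · exact ⟨c, hc⟩
  obtain ⟨a, rfl⟩ := hodd
  cases m with
  | zero => left; simp
  | succ m' =>
    have h4 : (4 : ℤ) * (2 : ℤ) ^ m' ∣ 4 * (a * (a + 1)) := by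
      refine ⟨e, ?_⟩
      have : (2 * a + 1) * (2 * a + 1) - 1 = 4 * (a * (a + 1)) := by ring
      rw [← this, he]
      ring
    have hM : (2 : ℤ) ^ m' ∣ a * (a + 1) := Int.dvd_of_mul_dvd_mul_left (by norm_num) h4
    rcases Int.even_or_odd' a with ⟨c, hc | hc⟩
    · left
      have hcop : IsCoprime ((2 : ℤ) ^ m') (a + 1) := by
        apply IsCoprime.pow_left
        exact ⟨-c, 1, by rw [hc]; ring⟩
      obtain ⟨f, hf⟩ := hcop.dvd_of_dvd_mul_right hM
      refine ⟨f, ?_⟩
      rw [pow_succ]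
      have : 2 * a + 1 - 1 = 2 * a := by ring
      rw [this, hf]
      ring
    · right
      have hcop : IsCoprime ((2 : ℤ) ^ m') a := by
        apply IsCoprime.pow_left
        exact ⟨-c, 1, by rw [hc]; ring⟩
      obtain ⟨f, hf⟩ := hcop.dvd_of_dvd_mul_left hM
      refine ⟨f, ?_⟩
      rw [pow_succ]
      have : 2 * a + 1 + 1 = 2 * (a + 1) := by ring
      rw [this, hf]
      ring

/-- AUT (racer copy, helper59): verbatim Skel statement of `aut_cyclic_two`. -/
theorem h59_aut_cyclic_two (b z t : G) (h2 : ∃ n : ℕ, orderOf b = 2 ^ n) (hzb : z ∈ Subgroup.zpowers b)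
    (hz2 : orderOf z = 2) (htb : t * b * t⁻¹ ∈ Subgroup.zpowers b) (htt : (t * t) * b = b * (t * t)) :
    t * b * t⁻¹ = b ∨ t * b * t⁻¹ = b⁻¹ ∨ t * b * t⁻¹ = b * z ∨ t * b * t⁻¹ = b⁻¹ * z := by
  obtain ⟨n, hn⟩ := h2
  cases n with
  | zero =>
    left
    have hb1 : b = 1 := orderOf_eq_one_iff.1 (by rw [hn, pow_zero])
    rw [hb1]
    group
  | succ m =>
    obtain ⟨k, hk⟩ := Subgroup.mem_zpowers_iff.1 htb
    have hkk : b ^ (k * k) = b := by
      calc b ^ (k * k) = (b ^ k) ^ k := zpow_mul b k k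
        _ = (t * b * t⁻¹) ^ k := by rw [hk]
        _ = t * b ^ k * t⁻¹ := conj_zpow
        _ = t * (t * b * t⁻¹) * t⁻¹ := by rw [hk]
        _ = (t * t) * b * (t * t)⁻¹ := by group
        _ = b * (t * t) * (t * t)⁻¹ := by rw [htt]
        _ = b := by group
    have hord : ((orderOf b : ℕ) : ℤ) = 2 * (2 : ℤ) ^ m := by
      rw [hn, pow_succ]
      push_cast
      ring
    have hdvd : 2 * (2 : ℤ) ^ m ∣ k * k - 1 := by
      rw [← hord]
      apply orderOf_dvd_iff_zpow_eq_one.2
      rw [zpow_sub, zpow_one, hkk, mul_inv_cancel]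
    -- the involution of <b>
    set w : G := b ^ ((2 : ℤ) ^ m) with hw
    have hww : w ^ (2 : ℤ) = 1 := by
      rw [hw, ← zpow_mul]
      apply orderOf_dvd_iff_zpow_eq_one.1
      rw [hord]
      exact ⟨1, by ring⟩
    have hwj : ∀ j : ℤ, w ^ j = 1 ∨ w ^ j = w := by
      intro j
      rcases Int.even_or_odd' j with ⟨c, hc | hc⟩
      · left
        rw [hc, zpow_mul, hww, one_zpow]
      · right
        rw [hc, zpow_add, zpow_mul, hww, one_zpow, one_mul, zpow_one]
    have hzw : z = w := by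
      obtain ⟨j, hj⟩ := Subgroup.mem_zpowers_iff.1 hzb
      have hz1 : z ≠ 1 := by
        intro h1
        rw [h1, orderOf_one] at hz2
        omega
      have hzz : z ^ (2 : ℤ) = 1 := by
        have := pow_orderOf_eq_one z
        rw [hz2] at this
        rw [zpow_ofNat]
        exact this
      rw [← hj, ← zpow_mul] at hzz
      have hd : 2 * (2 : ℤ) ^ m ∣ j * 2 := by
        rw [← hord]
        exact orderOf_dvd_iff_zpow_eq_one.2 hzz
      have hd' : (2 : ℤ) ^ m ∣ j := by
        have : (2 : ℤ) ^ m * 2 ∣ j * 2 := by rwa [mul_comm] at hd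
        exact Int.dvd_of_mul_dvd_mul_right (by norm_num) this
      obtain ⟨f, hf⟩ := hd'
      have hzf : z = w ^ f := by
        rw [← hj, hf, zpow_mul]
      rcases hwj f with h1 | h1
      · exact absurd (hzf.trans h1) hz1
      · exact hzf.trans h1
    rcases h59_sq_mod_two_pow m k hdvd with ⟨f, hf⟩ | ⟨f, hf⟩
    · have hkf : k = 1 + (2 : ℤ) ^ m * f := by linarith
      have hbk : b ^ k = b * w ^ f := by
        rw [hkf, zpow_add, zpow_one, zpow_mul]
      rw [← hk, hbk]
      rcases hwj f with h1 | h1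
      · left
        rw [h1, mul_one]
      · right; right; left
        rw [h1, hzw]
    · have hkf : k = -1 + (2 : ℤ) ^ m * f := by linarith
      have hbk : b ^ k = b⁻¹ * w ^ f := by
        rw [hkf, zpow_add, zpow_neg_one, zpow_mul]
      rw [← hk, hbk]
      rcases hwj f with h1 | h1
      · right; left
        rw [h1, mul_one]
      · right; right; right
        rw [h1, hzw]

end Cfsg.Agent.Lib.helper42.FG
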