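import Cfsg.Agent.Lib.helper42.FGDefs

/-! S1915 split (architect helper42), piece T2C2 core: `case_faithful_types` with the statement of the
leaf AUT (`aut_cyclic_two`) as a hypothesis. -/

set_option autoImplicit false

namespace Cfsg.Agent.Lib.helper42.FG

variable {G : Type*} [Group G] [Finite G]

/-- T2C2 core: the verbatim statement of `case_faithful_types` plus the statement of AUT as hypothesis `haut`. -/
theorem h59_case_faithful_types_core
    (haut : ∀ (b z t : G), (∃ n : ℕ, orderOf b = 2 ^ n) → z ∈ Subgroup.zpowers b →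
      orderOf z = 2 → t * b * t⁻¹ ∈ Subgroup.zpowers b → (t * t) * b = b * (t * t) →
      t * b * t⁻¹ = b ∨ t * b * t⁻¹ = b⁻¹ ∨ t * b * t⁻¹ = b * z ∨ t * b * t⁻¹ = b⁻¹ * z)
    {A S U : Subgroup G} (h : Cfg A S U) {B : Subgroup G} (hB : BData S U B)
    {z : G} (hzB : z ∈ B) (hz : ZData S z) (hII : ∀ u ∈ U, u ≠ 1 → ∃ x ∈ B, u * x ≠ x * u)
    (b : G) (hb : Subgroup.zpowers b = B) :
    b * b ≠ z ∧ (∃ u ∈ U, u * b * u⁻¹ = b * z) ∧ (∃ u ∈ U, u * b * u⁻¹ = b⁻¹ * z) := by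
  classical
  have hbB : b ∈ B := hb ▸ Subgroup.mem_zpowers b
  have hbS : b ∈ S := hB.hBS hbB
  -- order of b is a power of 2
  have h2 : ∃ n : ℕ, orderOf b = 2 ^ n := by
    have hdvd : orderOf b ∣ Nat.card S := Subgroup.orderOf_dvd_natCard S hbS
    rw [h.hSyl] at hdvd
    obtain ⟨m, -, hm⟩ := (Nat.dvd_prime_pow Nat.prime_two).1 hdvd
    exact ⟨m, hm⟩
  have hzb : z ∈ Subgroup.zpowers b := hb ▸ hzB
  have hKF : IsKleinFour U := h.hU
  have hsq : ∀ u ∈ U, u * u = 1 := by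
    intro u hu
    have h1 : (⟨u, hu⟩ : U) ^ Monoid.exponent U = 1 := Monoid.pow_exponent_eq_one _
    rw [hKF.exponent_two] at h1
    have h2' := congrArg Subtype.val h1
    simpa [pow_two] using h2'
  have hconjmem : ∀ u ∈ U, u * b * u⁻¹ ∈ Subgroup.zpowers b := by
    intro u hu
    rw [hb]
    exact (Subgroup.mem_normalizer_iff.1 (hB.hUB hu) b).1 hbB
  have hval : ∀ u ∈ U, u * b * u⁻¹ = b ∨ u * b * u⁻¹ = b⁻¹ ∨ u * b * u⁻¹ = b * z ∨
      u * b * u⁻¹ = b⁻¹ * z := by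
    intro u hu
    refine haut b z u h2 hzb hz.hz2 (hconjmem u hu) ?_
    rw [hsq u hu, one_mul, mul_one]
  -- a non-identity element of U does not fix b
  have hne : ∀ u ∈ U, u ≠ 1 → u * b * u⁻¹ ≠ b := by
    intro u hu hu1 hfix
    obtain ⟨x, hx, hxu⟩ := hII u hu hu1
    rw [← hb] at hx
    obtain ⟨k, rfl⟩ := Subgroup.mem_zpowers_iff.1 hx
    have hc : Commute u b := by
      have : u * b = b * u := by
        calc u * b = u * b * u⁻¹ * u := by group
          _ = b * u := by rw [hfix]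
      exact this
    exact hxu (hc.zpow_right k)
  have hinj : ∀ u ∈ U, ∀ u' ∈ U, u ≠ u' → u * b * u⁻¹ ≠ u' * b * u'⁻¹ := by
    intro u hu u' hu' huu heq
    have hw : u'⁻¹ * u ∈ U := U.mul_mem (U.inv_mem hu') hu
    have hw1 : u'⁻¹ * u ≠ 1 := by
      intro h1
      apply huu
      have : u = u' * (u'⁻¹ * u) := by group
      rw [this, h1, mul_one]
    apply hne _ hw hw1
    calc u'⁻¹ * u * b * (u'⁻¹ * u)⁻¹ = u'⁻¹ * (u * b * u⁻¹) * u' := by group
      _ = u'⁻¹ * (u' * b * u'⁻¹) * u' := by rw [heq]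
      _ = b := by group
  -- three distinct non-identity elements of U
  have hcard : Nat.card U = 4 := hKF.card_four
  have : Nontrivial U := (Finite.one_lt_card_iff_nontrivial).1 (by rw [hcard]; norm_num)
  obtain ⟨u₁', hu₁'⟩ := exists_ne (1 : U)
  have hex2 : ∃ u₂' : U, u₂' ≠ 1 ∧ u₂' ≠ u₁' := by
    by_contra hcon
    push Not at hcon
    have hsub : (Set.univ : Set U) ⊆ {1, u₁'} := by
      intro x _
      by_cases hx : x = 1
      · exact Or.inl hx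
      · exact Or.inr (hcon x hx)
    have hle : Nat.card U ≤ 2 := by
      calc Nat.card U = (Set.univ : Set U).ncard := (Set.ncard_univ U).symm
        _ ≤ ({1, u₁'} : Set U).ncard := Set.ncard_le_ncard hsub (Set.toFinite _)
        _ = 2 := Set.ncard_pair hu₁'.symm
    omega
  obtain ⟨u₂', hu₂', hu₂₁'⟩ := hex2
  obtain ⟨u₁, hu₁⟩ := u₁'
  obtain ⟨u₂, hu₂⟩ := u₂'
  have hu₁1 : u₁ ≠ 1 := fun e => hu₁' (Subtype.ext e)
  have hu₂1 : u₂ ≠ 1 := fun e => hu₂' (Subtype.ext e)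
  have hu₂₁ : u₂ ≠ u₁ := fun e => hu₂₁' (Subtype.ext e)
  have hu₃ : u₁ * u₂ ∈ U := U.mul_mem hu₁ hu₂
  have hu₃1 : u₁ * u₂ ≠ 1 := by
    intro e
    apply hu₂₁
    have h1 : u₁ * u₁ = 1 := hsq u₁ hu₁
    calc u₂ = u₁ * u₁ * u₂ := by rw [h1, one_mul]
      _ = u₁ * (u₁ * u₂) := by group
      _ = u₁ := by rw [e, mul_one]
  have hu₃₁ : u₁ * u₂ ≠ u₁ := by
    intro e
    apply hu₂1
    have : u₂ = u₁⁻¹ * (u₁ * u₂) := by group
    rw [this, e, inv_mul_cancel]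
  have hu₃₂ : u₁ * u₂ ≠ u₂ := by
    intro e
    apply hu₁1
    have : u₁ = (u₁ * u₂) * u₂⁻¹ := by group
    rw [this, e, mul_inv_cancel]
  have h12 := hinj u₁ hu₁ u₂ hu₂ (Ne.symm hu₂₁)
  have h13 := hinj u₁ hu₁ (u₁ * u₂) hu₃ (Ne.symm hu₃₁)
  have h23 := hinj u₂ hu₂ (u₁ * u₂) hu₃ (Ne.symm hu₃₂)
  have h1 := (hval u₁ hu₁).resolve_left (hne u₁ hu₁ hu₁1)
  have h2v := (hval u₂ hu₂).resolve_left (hne u₂ hu₂ hu₂1)
  have h3 := (hval (u₁ * u₂) hu₃).resolve_left (hne _ hu₃ hu₃1)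
  have key : b⁻¹ ≠ b * z ∧ (∃ u ∈ U, u * b * u⁻¹ = b * z) ∧ (∃ u ∈ U, u * b * u⁻¹ = b⁻¹ * z) := by
    rcases h1 with h1 | h1 | h1 <;> rcases h2v with h2v | h2v | h2v <;>
      rcases h3 with h3 | h3 | h3 <;>
      rw [h1, h2v] at h12 <;> rw [h1, h3] at h13 <;> rw [h2v, h3] at h23 <;>
      first
      | exact absurd rfl h12
      | exact absurd rfl h13
      | exact absurd rfl h23
      | (refine ⟨?_, ?_, ?_⟩
         · first | exact h12 | exact h12.symm | exact h13 | exact h13.symm | exact h23 | exact h23.symm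
         · first | exact ⟨u₁, hu₁, h1⟩ | exact ⟨u₂, hu₂, h2v⟩ | exact ⟨u₁ * u₂, hu₃, h3⟩
         · first | exact ⟨u₁, hu₁, h1⟩ | exact ⟨u₂, hu₂, h2v⟩ | exact ⟨u₁ * u₂, hu₃, h3⟩)
  refine ⟨?_, key.2.1, key.2.2⟩
  intro hbb
  apply key.1
  have hzz : z * z = 1 := by
    have := pow_orderOf_eq_one z
    rw [hz.hz2, pow_two] at this
    exact this
  have h4 : b * z * b = 1 := by
    calc b * z * b = b * (b * b) * b := by rw [hbb]
      _ = (b * b) * (b * b) := by group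
      _ = z * z := by rw [hbb]
      _ = 1 := hzz
  exact (eq_inv_of_mul_eq_one_left h4).symm

end Cfsg.Agent.Lib.helper42.FG
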