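import Mathlib
import Cfsg.Prelude.Def_Transfer
import Cfsg.Agent.Lib.helper3.PGroupFrattini
import Cfsg.Agent.Lib.helper3.PGroupNormal
import Cfsg.Agent.Lib.helper39.SmallExp

/-!
# Tools for P. Hall's theorem on `p`-groups of symplectic type (helper59)

* `sc_mul_left`, `sc_pow_left`, `sc_pow_right`, `sc_mul_right`: calculus of relations
  `u * x = z ^ a * x * u` with `z` central.
* `kill`: if `x * y = z * y * x` and `c` commutes with `x`, `y` up to powers of `z`, then
  `x ^ i * y ^ j * c` commutes with `x` and `y` for suitable `i`, `j`.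
* `inner_of_central_comm`: an element acting on an "extraspecial-like" subgroup `E` trivially
  modulo `⟨z⟩` agrees on `E` with an inner automorphism of `E`.
* `isExtraspecial_of_data'`: recognising extraspecial subgroups.
* `mem_zpowers_of_cyclic`: a cyclic group has at most one subgroup of order `p`.
* `exists_lift`: nontrivial normal subgroups of `G ⧸ A` meet `Ω₁(Z(G ⧸ A))`.
-/

set_option autoImplicit false

namespace Cfsg.Agent.Lib.helper59.SympA

open Subgroup
open scoped commutatorElement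

section semi

variable {G : Type*} [Group G]

theorem zc_pow {z : G} (hz : ∀ g : G, g * z = z * g) (k : ℕ) (g : G) : g * z ^ k = z ^ k * g :=
  (Commute.pow_right (show Commute g z from hz g) k).eq

theorem sc_mul_left {z u v x : G} (hz : ∀ g : G, g * z = z * g) {a b : ℕ}
    (hu : u * x = z ^ a * x * u) (hv : v * x = z ^ b * x * v) :
    (u * v) * x = z ^ (a + b) * x * (u * v) := by
  calc (u * v) * x = u * (v * x) := mul_assoc _ _ _
    _ = u * (z ^ b * x * v) := by rw [hv]
    _ = (u * z ^ b) * x * v := by simp only [mul_assoc]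
    _ = z ^ b * (u * x) * v := by rw [zc_pow hz]; simp only [mul_assoc]
    _ = z ^ b * (z ^ a * x * u) * v := by rw [hu]
    _ = z ^ (a + b) * x * (u * v) := by rw [add_comm, pow_add]; simp only [mul_assoc]

theorem sc_pow_left {z u x : G} (hz : ∀ g : G, g * z = z * g) {a : ℕ}
    (hu : u * x = z ^ a * x * u) (n : ℕ) : u ^ n * x = z ^ (a * n) * x * u ^ n := by
  induction n with
  | zero => simp
  | succ n ih =>
    have := sc_mul_left hz ih hu
    rw [← pow_succ] at this
    rw [this, Nat.mul_succ]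

theorem sc_mul_right {z u x y : G} (hz : ∀ g : G, g * z = z * g) {a b : ℕ}
    (hx : u * x = z ^ a * x * u) (hy : u * y = z ^ b * y * u) :
    u * (x * y) = z ^ (a + b) * (x * y) * u := by
  calc u * (x * y) = (u * x) * y := (mul_assoc _ _ _).symm
    _ = z ^ a * x * u * y := by rw [hx]
    _ = z ^ a * x * (u * y) := by simp only [mul_assoc]
    _ = z ^ a * x * (z ^ b * y * u) := by rw [hy]
    _ = z ^ a * (x * z ^ b) * y * u := by simp only [mul_assoc]
    _ = z ^ (a + b) * (x * y) * u := by rw [zc_pow hz, pow_add]; simp only [mul_assoc]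

theorem sc_pow_right {z u x : G} (hz : ∀ g : G, g * z = z * g) {a : ℕ}
    (hu : u * x = z ^ a * x * u) (n : ℕ) : u * x ^ n = z ^ (a * n) * x ^ n * u := by
  induction n with
  | zero => simp
  | succ n ih =>
    have := sc_mul_right hz ih hu
    rw [← pow_succ] at this
    rw [this, Nat.mul_succ]

theorem sc_self (z x : G) : x * x = z ^ 0 * x * x := by simp

theorem sc_symm {z u x : G} (_hz : ∀ g : G, g * z = z * g) {p : ℕ} (hp : 0 < p)
    (hzp : z ^ p = 1) {a : ℕ}
    (hu : u * x = z ^ a * x * u) : x * u = z ^ ((p - 1) * a) * u * x := by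
  · have h1 : z ^ ((p - 1) * a) * z ^ a = 1 := by
      rw [← pow_add]
      have : (p - 1) * a + a = p * a := by
        obtain ⟨q, rfl⟩ : ∃ q, p = q + 1 := ⟨p - 1, by omega⟩
        simp; ring
      rw [this, pow_mul, hzp, one_pow]
    calc x * u = (z ^ ((p - 1) * a) * z ^ a) * x * u := by rw [h1, one_mul]
      _ = z ^ ((p - 1) * a) * (z ^ a * x * u) := by simp only [mul_assoc]
      _ = z ^ ((p - 1) * a) * u * x := by rw [← hu]; simp only [mul_assoc]

theorem comm_of_sc {z u x : G} {a : ℕ} (hu : u * x = z ^ a * x * u) (h1 : z ^ a = 1) :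
    u * x = x * u := by rw [hu, h1, one_mul]

/-- Killing the action on a hyperbolic pair. -/
theorem kill {z x y c : G} (hz : ∀ g : G, g * z = z * g) {p : ℕ} (hp : 0 < p) (hzp : z ^ p = 1)
    (hxy : x * y = z * y * x) {α β : ℕ} (hcx : c * x = z ^ α * x * c)
    (hcy : c * y = z ^ β * y * c) :
    (x ^ ((p - 1) * β) * y ^ α * c) * x = x * (x ^ ((p - 1) * β) * y ^ α * c) ∧
    (x ^ ((p - 1) * β) * y ^ α * c) * y = y * (x ^ ((p - 1) * β) * y ^ α * c) := by
  have hxy1 : x * y = z ^ 1 * y * x := by rw [pow_one]; exact hxy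
  have hyx : y * x = z ^ ((p - 1) * 1) * x * y := sc_symm hz hp hzp hxy1
  have hpa : ∀ a : ℕ, z ^ ((p - 1) * a + a) = 1 := by
    intro a
    · have : (p - 1) * a + a = p * a := by
        obtain ⟨q, rfl⟩ : ∃ q, p = q + 1 := ⟨p - 1, by omega⟩
        simp; ring
      rw [this, pow_mul, hzp, one_pow]
  constructor
  · have h1 := sc_pow_left hz (sc_self z x) ((p - 1) * β)
    have h2 := sc_pow_left hz hyx α
    have h3 := sc_mul_left hz (sc_mul_left hz h1 h2) hcx
    refine comm_of_sc h3 ?_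
    have : 0 * ((p - 1) * β) + (p - 1) * 1 * α + α = (p - 1) * α + α := by ring
    rw [this]; exact hpa α
  · have h1 := sc_pow_left hz hxy1 ((p - 1) * β)
    have h2 := sc_pow_left hz (sc_self z y) α
    have h3 := sc_mul_left hz (sc_mul_left hz h1 h2) hcy
    refine comm_of_sc h3 ?_
    have : 1 * ((p - 1) * β) + 0 * α + β = (p - 1) * β + β := by ring
    rw [this]; exact hpa β

/-- From a non-commuting pair to a pair with commutator exactly `z`. -/
theorem exists_pow_pair {z a b : G} (hz : ∀ g : G, g * z = z * g) {p : ℕ} (hp : p.Prime)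
    (hzo : orderOf z = p) {k : ℕ} (hab : a * b = z ^ k * b * a) (hne : a * b ≠ b * a) :
    ∃ j : ℕ, a * b ^ j = z * b ^ j * a := by
  have hk : ¬ p ∣ k := by
    intro hd
    apply hne
    refine comm_of_sc hab ?_
    rw [← hzo] at hd
    exact orderOf_dvd_iff_pow_eq_one.mp hd
  have hcop : Nat.Coprime k p := (Nat.Coprime.symm ((Nat.Prime.coprime_iff_not_dvd hp).mpr hk))
  obtain ⟨j, -, hj⟩ := Nat.exists_mul_mod_eq_one_of_coprime hcop hp.one_lt
  refine ⟨j, ?_⟩
  have h1 := sc_pow_right hz hab j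
  rw [h1, ← pow_mod_orderOf z (k * j), hzo, hj, pow_one]

end semi

section inner

variable {G : Type*} [Group G] [Finite G]

/-- Main induction for `inner_of_central_comm`. -/
theorem inner_aux {z : G} (hz : ∀ g : G, g * z = z * g) {p : ℕ} (hp : p.Prime)
    (hzo : orderOf z = p) (F : Subgroup G)
    (hF : ∀ a ∈ F, ∀ b ∈ F, ∃ k : ℕ, a * b = z ^ k * b * a) :
    ∀ (n : ℕ) (C : Subgroup G), C ≤ F → Nat.card C ≤ n →
      (∀ c ∈ C, (∀ d ∈ C, c * d = d * c) → ∀ g : G, g * c = c * g) →
      ∀ g : G, (∀ e ∈ C, ∃ k : ℕ, g * e = z ^ k * e * g) →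
        ∃ e₀ ∈ C, ∀ c ∈ C, (e₀ * g) * c = c * (e₀ * g) := by
  have hzp : z ^ p = 1 := by rw [← hzo]; exact pow_orderOf_eq_one z
  have hz1 : z ≠ 1 := by
    intro h
    rw [h, orderOf_one] at hzo
    exact hp.one_lt.ne hzo
  intro n
  induction n with
  | zero =>
    intro C _ hcard
    exfalso
    have : 0 < Nat.card C := Nat.card_pos
    omega
  | succ n ih =>
    intro C hCF hcard hZ g hg
    by_cases hab : ∀ a ∈ C, ∀ b ∈ C, a * b = b * a
    · refine ⟨1, one_mem _, fun c hc => ?_⟩
      rw [one_mul]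
      exact hZ c hc (fun d hd => hab c hc d hd) g
    · push Not at hab
      obtain ⟨a, haC, b, hbC, hne⟩ := hab
      obtain ⟨k, hk⟩ := hF a (hCF haC) b (hCF hbC)
      obtain ⟨j, hj⟩ := exists_pow_pair hz hp hzo hk hne
      set x := a with hx
      set y := b ^ j with hy
      have hxC : x ∈ C := haC
      have hyC : y ∈ C := C.pow_mem hbC j
      have hxy : x * y = z * y * x := hj
      have hxyne : x * y ≠ y * x := by
        intro h
        rw [h] at hxy
        apply hz1
        have : z * (y * x) = 1 * (y * x) := by rw [one_mul, ← mul_assoc]; exact hxy.symm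
        exact mul_right_cancel this
      -- the subgroup `D`
      set D : Subgroup G := C ⊓ centralizer ({x, y} : Set G) with hD
      have memD : ∀ d : G, d ∈ D ↔ d ∈ C ∧ d * x = x * d ∧ d * y = y * d := by
        intro d
        rw [hD, Subgroup.mem_inf, Subgroup.mem_centralizer_iff]
        constructor
        · rintro ⟨h1, h2⟩
          exact ⟨h1, (h2 x (by simp)).symm, (h2 y (by simp)).symm⟩
        · rintro ⟨h1, h2, h3⟩
          refine ⟨h1, fun t ht => ?_⟩
          rcases ht with rfl | rfl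
          · exact h2.symm
          · exact h3.symm
      have hDC : D ≤ C := inf_le_left
      have hxD : x ∉ D := by
        intro h
        exact hxyne ((memD x).mp h).2.2
      have hDlt : Nat.card D < Nat.card C := by
        have hss : (D : Set G) ⊂ (C : Set G) := by
          refine ⟨hDC, fun h => hxD (h hxC)⟩
        exact Set.Finite.card_lt_card (Set.toFinite _) hss
      -- decomposition
      have dec : ∀ c ∈ C, ∃ i j : ℕ, x ^ i * y ^ j * c ∈ D := by
        intro c hc
        obtain ⟨α, hα⟩ := hF c (hCF hc) x (hCF hxC)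
        obtain ⟨β, hβ⟩ := hF c (hCF hc) y (hCF hyC)
        obtain ⟨h1, h2⟩ := kill hz hp.pos hzp hxy hα hβ
        exact ⟨_, _, (memD _).mpr ⟨C.mul_mem (C.mul_mem (C.pow_mem hxC _) (C.pow_mem hyC _)) hc,
          h1, h2⟩⟩
      have comm_all : ∀ u : G, u * x = x * u → u * y = y * u → (∀ d ∈ D, u * d = d * u) →
          ∀ c ∈ C, u * c = c * u := by
        intro u hux huy hud c hc
        obtain ⟨i, j', hd⟩ := dec c hc
        have hw : Commute u (x ^ i * y ^ j') :=
          (Commute.pow_right (show Commute u x from hux) i).mul_right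
            (Commute.pow_right (show Commute u y from huy) j')
        have hd' : Commute u (x ^ i * y ^ j' * c) := hud _ hd
        have : Commute u ((x ^ i * y ^ j')⁻¹ * (x ^ i * y ^ j' * c)) := hw.inv_right.mul_right hd'
        rw [inv_mul_cancel_left] at this
        exact this
      -- the element `g₁`
      obtain ⟨α, hα⟩ := hg x hxC
      obtain ⟨β, hβ⟩ := hg y hyC
      obtain ⟨hg1x, hg1y⟩ := kill hz hp.pos hzp hxy hα hβ
      set w := x ^ ((p - 1) * β) * y ^ α with hw
      have hwC : w ∈ C := C.mul_mem (C.pow_mem hxC _) (C.pow_mem hyC _)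
      have hZD : ∀ c ∈ D, (∀ d ∈ D, c * d = d * c) → ∀ g : G, g * c = c * g := by
        intro c hc hcd
        have hc' := (memD c).mp hc
        exact hZ c hc'.1 (comm_all c hc'.2.1 hc'.2.2 hcd)
      have hg1 : ∀ e ∈ D, ∃ k : ℕ, (w * g) * e = z ^ k * e * (w * g) := by
        intro e he
        have heC : e ∈ C := hDC he
        obtain ⟨k1, hk1⟩ := hF w (hCF hwC) e (hCF heC)
        obtain ⟨k2, hk2⟩ := hg e heC
        exact ⟨_, sc_mul_left hz hk1 hk2⟩
      obtain ⟨e₁, he₁, he₁c⟩ := ih D (hDC.trans hCF) (by omega) hZD (w * g) hg1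
      have he₁' := (memD e₁).mp he₁
      refine ⟨e₁ * w, C.mul_mem he₁'.1 hwC, ?_⟩
      have hassoc : e₁ * w * g = e₁ * (w * g) := mul_assoc _ _ _
      rw [hassoc]
      refine comm_all _ ?_ ?_ he₁c
      · exact ((show Commute e₁ x from he₁'.2.1).mul_left (show Commute (w * g) x from hg1x)).eq
      · exact ((show Commute e₁ y from he₁'.2.2).mul_left (show Commute (w * g) y from hg1y)).eq

/-- If `E` has centre inside `⟨z⟩`, commutators in `⟨z⟩`, and `g` commutes with `E` up to powers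
of the central element `z` of prime order, then `g` agrees on `E` with conjugation by an element
of `E`. -/
theorem inner_of_central_comm {z : G} (hz : ∀ g : G, g * z = z * g) {p : ℕ} (hp : p.Prime)
    (hzo : orderOf z = p) (E : Subgroup G)
    (hE : ∀ a ∈ E, ∀ b ∈ E, ∃ k : ℕ, a * b = z ^ k * b * a)
    (hcen : ∀ c ∈ E, (∀ d ∈ E, c * d = d * c) → c ∈ zpowers z)
    (g : G) (hg : ∀ e ∈ E, ∃ k : ℕ, g * e = z ^ k * e * g) :
    ∃ e₀ ∈ E, ∀ c ∈ E, (e₀ * g) * c = c * (e₀ * g) := by
  refine inner_aux hz hp hzo E hE (Nat.card E) E le_rfl le_rfl ?_ g hg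
  intro c hc hcd g
  obtain ⟨k, rfl⟩ := Subgroup.mem_zpowers_iff.mp (hcen c hc hcd)
  exact (Commute.zpow_right (show Commute g z from hz g) k).eq

end inner

section extra

variable {G : Type*} [Group G] [Finite G]

omit [Finite G] in
theorem char_mem_iff {A : Subgroup G} (hA : A.Characteristic) (ϕ : G ≃* G) (y : G) :
    ϕ y ∈ A ↔ y ∈ A := by
  have h := Subgroup.characteristic_iff_comap_eq.mp hA ϕ
  constructor
  · intro hy
    rw [← h]
    exact hy
  · intro hy
    rw [← h] at hy
    exact hy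

/-- Recognising an extraspecial subgroup. -/
theorem isExtraspecial_of_data' {p : ℕ} [hp : Fact p.Prime] (E : Subgroup G) (hEp : IsPGroup p E)
    (z : G) (hzE : z ∈ E) (hzo : orderOf z = p)
    (hcomm : ∀ a ∈ E, ∀ b ∈ E, ∃ k : ℕ, a * b = z ^ k * b * a)
    (hpow : ∀ a ∈ E, a ^ p ∈ zpowers z)
    (hcen : ∀ c ∈ E, (∀ d ∈ E, c * d = d * c) → c ∈ zpowers z)
    (hzc : ∀ a ∈ E, a * z = z * a)
    (hna : ∃ a ∈ E, ∃ b ∈ E, a * b ≠ b * a) : Cfsg.IsExtraspecial p ↥E := by
  set z' : E := ⟨z, hzE⟩ with hz'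
  set Zs : Subgroup E := zpowers z' with hZs
  have hmemZs : ∀ c : E, c ∈ Zs ↔ (c : G) ∈ zpowers z := by
    intro c
    rw [hZs, Subgroup.mem_zpowers_iff, Subgroup.mem_zpowers_iff]
    constructor
    · rintro ⟨k, hk⟩
      exact ⟨k, by rw [← hk]; simp [hz']⟩
    · rintro ⟨k, hk⟩
      exact ⟨k, Subtype.ext (by simp [hz', hk])⟩
  have hcardZs : Nat.card Zs = p := by
    rw [hZs, Nat.card_zpowers, ← hzo]
    exact Subgroup.orderOf_mk z hzE
  have hcenter : Subgroup.center E = Zs := by
    ext c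
    rw [hmemZs, Subgroup.mem_center_iff]
    constructor
    · intro h
      apply hcen c c.2
      intro d hd
      have h1 := h ⟨d, hd⟩
      have h2 := congrArg Subtype.val h1
      simpa using h2.symm
    · intro h g
      obtain ⟨k, hk⟩ := Subgroup.mem_zpowers_iff.mp h
      apply Subtype.ext
      simp only [Subgroup.coe_mul]
      rw [← hk]
      exact (Commute.zpow_right (show Commute (g : G) z from hzc g g.2) k).eq
  have hcommle : commutator E ≤ Zs := by
    rw [commutator_eq_closure, Subgroup.closure_le]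
    rintro _ ⟨a, b, rfl⟩
    rw [SetLike.mem_coe, hmemZs]
    obtain ⟨k, hk⟩ := hcomm a a.2 b b.2
    have : ((⁅a, b⁆ : E) : G) = z ^ k := by
      simp only [commutatorElement_def, Subgroup.coe_mul, Subgroup.coe_inv]
      rw [hk]
      group
    rw [this]
    exact Subgroup.pow_mem _ (Subgroup.mem_zpowers z) k
  have hcommne : commutator E ≠ ⊥ := by
    obtain ⟨a, ha, b, hb, hab⟩ := hna
    intro h
    have hmem : ⁅(⟨a, ha⟩ : E), ⟨b, hb⟩⁆ ∈ commutator E := by
      rw [_root_.commutator_def]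
      exact Subgroup.commutator_mem_commutator (Subgroup.mem_top _) (Subgroup.mem_top _)
    rw [h, Subgroup.mem_bot, commutatorElement_eq_one_iff_mul_comm] at hmem
    exact hab (congrArg Subtype.val hmem)
  have hcommeq : commutator E = Zs := by
    apply Subgroup.eq_of_le_of_card_ge hcommle
    rw [hcardZs]
    have hdvd : Nat.card (commutator E) ∣ p := by
      rw [← hcardZs]
      exact Subgroup.card_dvd_of_le hcommle
    rcases (Nat.dvd_prime hp.out).mp hdvd with h1 | h1
    · exfalso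
      exact hcommne (Subgroup.card_eq_one.mp h1)
    · exact h1.ge
  refine ⟨⟨hEp, ?_, ?_⟩, ?_⟩
  · rw [hcenter]
    apply le_antisymm
    · apply Cfsg.Agent.Lib.helper3.frattini_le_of_pow_mem_of_commutator_le (p := p) Zs
      · intro x
        rw [hmemZs]
        simpa using hpow x x.2
      · exact hcommle
    · rw [← hcommeq]
      exact Cfsg.Agent.Lib.helper3.commutator_le_frattini hEp
  · rw [hcenter, hcommeq]
  · rw [hcenter, hcardZs]

/-- A finite cyclic group has at most one subgroup of order `p`. -/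
theorem mem_zpowers_of_cyclic {B : Type*} [Group B] [Finite B] [IsCyclic B] {p : ℕ} (hp : p.Prime)
    {z w : B} (hzo : orderOf z = p) (hwp : w ^ p = 1) : w ∈ zpowers z := by
  classical
  have := Fintype.ofFinite B
  by_contra hw
  have h1 := IsCyclic.card_pow_eq_one_le (α := B) hp.pos
  have h2 : insert w ((zpowers z : Set B).toFinset) ⊆
      Finset.univ.filter (fun a : B => a ^ p = 1) := by
    intro a ha
    rw [Finset.mem_insert] at ha
    simp only [Finset.mem_filter, Finset.mem_univ, true_and]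
    rcases ha with rfl | ha
    · exact hwp
    · rw [Set.mem_toFinset] at ha
      obtain ⟨k, rfl⟩ := Subgroup.mem_zpowers_iff.mp ha
      rw [← zpow_natCast, ← zpow_mul, mul_comm, zpow_mul, zpow_natCast, ← hzo,
        pow_orderOf_eq_one, one_zpow]
  have h3 := Finset.card_le_card h2
  rw [Finset.card_insert_of_notMem (by simpa using hw)] at h3
  have h4 : ((zpowers z : Set B).toFinset).card = p := by
    rw [Set.toFinset_card, ← Nat.card_eq_fintype_card]
    exact (Nat.card_zpowers z).trans hzo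
  omega

theorem mem_zpowers_of_cyclic_sub (B : Subgroup G) (hB : IsCyclic B) {p : ℕ} (hp : p.Prime)
    {z w : G} (hz : z ∈ B) (hzo : orderOf z = p) (hw : w ∈ B) (hwp : w ^ p = 1) :
    w ∈ zpowers z := by
  have h := mem_zpowers_of_cyclic (B := B) hp (z := ⟨z, hz⟩) (w := ⟨w, hw⟩)
    (by rw [Subgroup.orderOf_mk]; exact hzo) (Subtype.ext (by simpa using hwp))
  obtain ⟨k, hk⟩ := Subgroup.mem_zpowers_iff.mp h
  exact Subgroup.mem_zpowers_iff.mpr ⟨k, by simpa using congrArg Subtype.val hk⟩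

/-- A normal subgroup not inside `A` contains an element outside `A` which is central of order
`p` modulo `A`. -/
theorem exists_lift {p : ℕ} [Fact p.Prime] (hG : IsPGroup p G) (A N : Subgroup G) [hA : A.Normal]
    [hN : N.Normal] (hNA : ¬ N ≤ A) :
    ∃ q ∈ N, q ∉ A ∧ q ^ p ∈ A ∧ ∀ g : G, g * q * g⁻¹ * q⁻¹ ∈ A := by
  have hQ : IsPGroup p (G ⧸ A) := hG.to_quotient A
  have hNn : (N.map (QuotientGroup.mk' A)).Normal :=
    Subgroup.Normal.map hN _ (QuotientGroup.mk'_surjective A)
  have hne : N.map (QuotientGroup.mk' A) ≠ ⊥ := by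
    intro h
    apply hNA
    rw [Subgroup.map_eq_bot_iff, QuotientGroup.ker_mk'] at h
    exact h
  obtain ⟨zb, hzN, hzc, hz1, hzp⟩ :=
    Cfsg.Agent.Lib.helper3.exists_central_of_normal_ne_bot hQ _ hne
  obtain ⟨q, hqN, rfl⟩ := Subgroup.mem_map.mp hzN
  refine ⟨q, hqN, ?_, ?_, ?_⟩
  · intro hqA
    apply hz1
    exact (QuotientGroup.eq_one_iff q).mpr hqA
  · have : ((q ^ p : G) : G ⧸ A) = 1 := hzp
    exact (QuotientGroup.eq_one_iff _).mp this
  · intro g
    apply (QuotientGroup.eq_one_iff _).mp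
    have hc := Subgroup.mem_center_iff.mp hzc (g : G ⧸ A)
    change (g : G ⧸ A) * (q : G ⧸ A) = (q : G ⧸ A) * (g : G ⧸ A) at hc
    simp only [QuotientGroup.mk_mul, QuotientGroup.mk_inv]
    rw [hc]
    group

end extra

section crit

variable {G : Type*} [Group G]

/-- The subgroup `C` with `C / A = Ω₁(Z(G / A)) ∩ C_G(A) / A`. -/
def critC (p : ℕ) (A : Subgroup G) [hA : A.Normal] : Subgroup G where
  carrier := {x | x ∈ centralizer (A : Set G) ∧ x ^ p ∈ A ∧ ∀ g : G, g * x * g⁻¹ * x⁻¹ ∈ A}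
  one_mem' := ⟨one_mem _, by simp [one_mem], fun g => by simp [one_mem]⟩
  mul_mem' := by
    rintro x y ⟨hx1, hx2, hx3⟩ ⟨hy1, hy2, hy3⟩
    refine ⟨mul_mem hx1 hy1, ?_, ?_⟩
    · have hc : y⁻¹ * x⁻¹ * y * x ∈ A := by
        have h1 : x⁻¹ * (y * x * y⁻¹ * x⁻¹) * x⁻¹⁻¹ ∈ A := hA.conj_mem _ (hx3 y) x⁻¹
        have h2 := hA.conj_mem _ h1 y⁻¹
        have e : y⁻¹ * (x⁻¹ * (y * x * y⁻¹ * x⁻¹) * x⁻¹⁻¹) * y⁻¹⁻¹ = y⁻¹ * x⁻¹ * y * x := by
          group
        rwa [e] at h2
      have hcx : (y⁻¹ * x⁻¹ * y * x) * x = x * (y⁻¹ * x⁻¹ * y * x) :=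
        Subgroup.mem_centralizer_iff.mp hx1 _ hc
      have hcy : (y⁻¹ * x⁻¹ * y * x) * y = y * (y⁻¹ * x⁻¹ * y * x) :=
        Subgroup.mem_centralizer_iff.mp hy1 _ hc
      rw [Cfsg.Agent.Lib.helper39.mul_pow_class2 x y _ (by group) hcx hcy p]
      exact A.mul_mem (A.mul_mem hx2 hy2) (A.pow_mem hc _)
    · intro g
      have h1 := hA.conj_mem _ (hy3 g) x
      have e : g * (x * y) * g⁻¹ * (x * y)⁻¹ =
          (g * x * g⁻¹ * x⁻¹) * (x * (g * y * g⁻¹ * y⁻¹) * x⁻¹) := by group
      rw [e]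
      exact A.mul_mem (hx3 g) h1
  inv_mem' := by
    rintro x ⟨hx1, hx2, hx3⟩
    refine ⟨inv_mem hx1, by rw [inv_pow]; exact A.inv_mem hx2, fun g => ?_⟩
    have h1 := hA.conj_mem _ (A.inv_mem (hx3 g)) x⁻¹
    have e : x⁻¹ * (g * x * g⁻¹ * x⁻¹)⁻¹ * x⁻¹⁻¹ = g * x⁻¹ * g⁻¹ * x⁻¹⁻¹ := by group
    rwa [e] at h1

theorem mem_critC {p : ℕ} {A : Subgroup G} [hA : A.Normal] {x : G} :
    x ∈ critC p A ↔ x ∈ centralizer (A : Set G) ∧ x ^ p ∈ A ∧ ∀ g : G, g * x * g⁻¹ * x⁻¹ ∈ A :=
  Iff.rfl

theorem critC_characteristic [Finite G] (p : ℕ) (A : Subgroup G) [hA : A.Characteristic] :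
    (critC p A).Characteristic := by
  rw [Subgroup.characteristic_iff_le_comap]
  intro ϕ x hx
  obtain ⟨hx1, hx2, hx3⟩ := hx
  show ϕ x ∈ critC p A
  refine ⟨?_, ?_, ?_⟩
  · rw [Subgroup.mem_centralizer_iff]
    intro a ha
    have ha' : ϕ.symm a ∈ A := by
      rw [← char_mem_iff hA ϕ]
      simpa using ha
    have h1 := Subgroup.mem_centralizer_iff.mp hx1 _ ha'
    have h2 := congrArg ϕ h1
    simpa using h2
  · rw [← map_pow]
    exact (char_mem_iff hA ϕ _).mpr hx2
  · intro g
    have h1 := hx3 (ϕ.symm g)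
    have h2 := (char_mem_iff hA ϕ _).mpr h1
    simpa using h2

end crit

end Cfsg.Agent.Lib.helper59.SympA
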