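import Mathlib
import Cfsg.Agent.Lib.helper59.NormalAbelianCyclic
import Cfsg.Agent.Lib.helper59.SympA
import Cfsg.Agent.Lib.helper3.PGroupFrattini

/-!
# `2`-groups of automorphisms of abelian groups of odd order: tools (helper59)

For a finite `2`-group `X` acting on an abelian group `N` of odd order via `φ : X →* MulAut N`,
and a subgroup `L` containing all squares and the kernel of the action, we bound `L.index` by
`bd (Nat.card N)`, where `bd 3 = 2` and `bd n = (n - 1) / 2` otherwise.  This file contains the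
arithmetic of `bd`, restriction and quotient actions, and the reduction step.
-/

set_option autoImplicit false
set_option linter.unusedSectionVars false
set_option linter.unusedVariables false
set_option linter.style.haveILetI false

namespace Cfsg.Agent.Lib.helper59.FratA

open Subgroup

universe u

/-- The bound function. -/
def bd (n : ℕ) : ℕ := if n = 3 then 2 else (n - 1) / 2

theorem bd_mul {a b : ℕ} (ha : Odd a) (hb : Odd b) (ha3 : 3 ≤ a) (hb3 : 3 ≤ b) :
    bd a * bd b ≤ bd (a * b) := by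
  obtain ⟨s, rfl⟩ := ha
  obtain ⟨t, rfl⟩ := hb
  have hs1 : 1 ≤ s := by omega
  have ht1 : 1 ≤ t := by omega
  have hab : (2 * s + 1) * (2 * t + 1) ≠ 3 := by nlinarith
  have e : ((2 * s + 1) * (2 * t + 1) - 1) / 2 = 2 * s * t + s + t := by
    have h1 : (2 * s + 1) * (2 * t + 1) = 2 * (2 * s * t + s + t) + 1 := by ring
    rw [h1, Nat.add_sub_cancel, Nat.mul_div_cancel_left _ (by norm_num : 0 < 2)]
  have h3 : (2 * s + 1 - 1) / 2 = s := by omega
  have h4 : (2 * t + 1 - 1) / 2 = t := by omega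
  unfold bd
  rw [if_neg hab, e, h3, h4]
  by_cases h1 : 2 * s + 1 = 3
  · have hs : s = 1 := by omega
    subst hs
    by_cases h2 : 2 * t + 1 = 3
    · have ht : t = 1 := by omega
      subst ht
      norm_num
    · rw [if_pos h1, if_neg h2]
      omega
  · rw [if_neg h1]
    by_cases h2 : 2 * t + 1 = 3
    · have ht : t = 1 := by omega
      subst ht
      rw [if_pos h2]
      omega
    · rw [if_neg h2]
      nlinarith [Nat.zero_le (s * t)]

theorem bd_sq {q : ℕ} (hq : Odd q) (hq5 : 5 ≤ q) : 2 * (bd q * bd q) ≤ bd (q * q) := by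
  obtain ⟨s, rfl⟩ := hq
  have hs : 2 ≤ s := by omega
  have hab : (2 * s + 1) * (2 * s + 1) ≠ 3 := by nlinarith
  have e : ((2 * s + 1) * (2 * s + 1) - 1) / 2 = 2 * s * s + s + s := by
    have h1 : (2 * s + 1) * (2 * s + 1) = 2 * (2 * s * s + s + s) + 1 := by ring
    rw [h1, Nat.add_sub_cancel, Nat.mul_div_cancel_left _ (by norm_num : 0 < 2)]
  have h3 : (2 * s + 1 - 1) / 2 = s := by omega
  unfold bd
  rw [if_neg hab, e, if_neg (by omega), h3]
  nlinarith [Nat.zero_le (s * s)]

theorem two_le_bd {n : ℕ} (hn : Odd n) (h3 : 3 ≤ n) : 2 ≤ bd n := by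
  obtain ⟨s, rfl⟩ := hn
  unfold bd
  split_ifs with h
  · exact le_rfl
  · omega

theorem four_le_bd {n : ℕ} (hn : Odd n) (h9 : 9 ≤ n) : 4 ≤ bd n := by
  obtain ⟨s, rfl⟩ := hn
  unfold bd
  rw [if_neg (by omega)]
  omega

theorem bd_nine : bd 9 = 4 := by decide

theorem bd_three : bd 3 = 2 := by decide

theorem bd_le {n : ℕ} (h3 : 3 ≤ n) : bd n ≤ n - 1 := by
  unfold bd
  split_ifs with h
  · omega
  · exact Nat.div_le_self _ _

section sq

variable {X : Type*} [Group X]

theorem conj_mem_of_sq_mem (L : Subgroup X) (hL : ∀ x : X, x ^ 2 ∈ L) (h l : X) (hl : l ∈ L) :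
    h * l * h⁻¹ ∈ L := by
  have e : h * l * h⁻¹ = (h * l) ^ 2 * l⁻¹ * (h⁻¹) ^ 2 := by rw [pow_two, pow_two]; group
  rw [e]
  exact L.mul_mem (L.mul_mem (hL _) (L.inv_mem hl)) (hL _)

theorem normal_of_sq_mem (L : Subgroup X) (hL : ∀ x : X, x ^ 2 ∈ L) : L.Normal :=
  ⟨fun l hl h => conj_mem_of_sq_mem L hL h l hl⟩

theorem comm_mem_of_sq_mem (L : Subgroup X) (hL : ∀ x : X, x ^ 2 ∈ L) (a b : X) :
    a * b * a⁻¹ * b⁻¹ ∈ L := by
  have e : a * b * a⁻¹ * b⁻¹ = (a * b) ^ 2 * (b⁻¹ * a⁻¹ * b) ^ 2 * (b⁻¹) ^ 2 := by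
    rw [pow_two, pow_two, pow_two]; group
  rw [e]
  exact L.mul_mem (L.mul_mem (hL _) (hL _)) (hL _)

theorem index_le_two_of_cover (L : Subgroup X) (t : X) (h : ∀ y : X, y ∈ L ∨ t⁻¹ * y ∈ L) :
    L.index ≤ 2 := by
  by_cases ht : t ∈ L
  · have hL : L = ⊤ := by
      rw [eq_top_iff]
      intro y _
      rcases h y with h1 | h1
      · exact h1
      · have h2 := L.mul_mem ht h1
        rwa [mul_inv_cancel_left] at h2
    rw [hL, index_top]
    norm_num
  · have h2 : L.index = 2 := by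
      rw [index_eq_two_iff']
      refine ⟨t⁻¹, fun b => ?_⟩
      by_cases hb : b ∈ L
      · refine Or.inr ⟨hb, fun h1 => ht ?_⟩
        have h3 := L.mul_mem h1 (L.inv_mem hb)
        rw [mul_inv_cancel_right] at h3
        exact (L.inv_mem_iff).mp h3
      · exact Or.inl ⟨(h b).resolve_left hb, hb⟩
    omega

theorem index_le_two_of_isCyclic [hc : IsCyclic X] (L : Subgroup X) (hL : ∀ x : X, x ^ 2 ∈ L) :
    L.index ≤ 2 := by
  obtain ⟨g, hg⟩ := hc.exists_generator
  apply index_le_two_of_cover L g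
  intro y
  obtain ⟨k, rfl⟩ := Subgroup.mem_zpowers_iff.mp (hg y)
  rcases Int.even_or_odd' k with ⟨m, rfl | rfl⟩
  · left
    have e : g ^ (2 * m) = (g ^ 2) ^ m := by rw [zpow_mul, zpow_ofNat]
    rw [e]
    exact L.zpow_mem (hL g) m
  · right
    have e : g⁻¹ * g ^ (2 * m + 1) = (g ^ 2) ^ m := by
      rw [← zpow_neg_one, ← zpow_add, show (-1 : ℤ) + (2 * m + 1) = 2 * m by ring, zpow_mul,
        zpow_ofNat]
    rw [e]
    exact L.zpow_mem (hL g) m

end sq

section act

variable {N : Type u} [CommGroup N] [Finite N]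

/-- An automorphism of `2`-power order of an abelian group of odd order which is trivial on a
subgroup and on the quotient is trivial. -/
theorem aut_eq_one_of_trivial (hodd : Odd (Nat.card N)) (α : MulAut N) (N₁ : Subgroup N) (j : ℕ)
    (hα : α ^ 2 ^ j = 1) (h1 : ∀ a ∈ N₁, α a = a) (h2 : ∀ n : N, α n * n⁻¹ ∈ N₁) : α = 1 := by
  ext n
  rw [MulAut.one_apply]
  set c := α n * n⁻¹ with hc
  have hαn : α n = n * c := by rw [hc]; simp [mul_comm]
  have hpow : ∀ i : ℕ, (α ^ i) n = n * c ^ i := by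
    intro i
    induction i with
    | zero => simp
    | succ i ih =>
      rw [pow_succ, MulAut.mul_apply, hαn, map_mul, ih]
      have h3 : (α ^ i) c = c := by
        have : ∀ i : ℕ, (α ^ i) c = c := by
          intro i
          induction i with
          | zero => simp
          | succ i ih => rw [pow_succ, MulAut.mul_apply, h1 c (h2 n), ih]
        exact this i
      rw [h3, pow_succ, mul_assoc]
  have h3 := hpow (2 ^ j)
  rw [hα, MulAut.one_apply] at h3
  have h4 : c ^ 2 ^ j = 1 := by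
    have : n * c ^ 2 ^ j = n * 1 := by rw [mul_one]; exact h3.symm
    exact mul_left_cancel this
  have h5 : orderOf c ∣ 2 ^ j := orderOf_dvd_of_pow_eq_one h4
  have h6 : orderOf c ∣ Nat.card N := orderOf_dvd_natCard c
  have h7 : Nat.Coprime (2 ^ j) (Nat.card N) :=
    Nat.Coprime.pow_left j (Nat.coprime_two_left.mpr hodd)
  have h8 := Nat.dvd_gcd h5 h6
  rw [h7] at h8
  have h9 : c = 1 := orderOf_eq_one_iff.mp (Nat.dvd_one.mp h8)
  rw [hαn, h9, mul_one]

/-- The restriction of an action to an invariant subgroup. -/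
def resHom {X : Type*} [Group X] (φ : X →* MulAut N) (N₁ : Subgroup N)
    (h : ∀ x : X, ∀ a ∈ N₁, φ x a ∈ N₁) : X →* MulAut ↥N₁ where
  toFun x :=
    { toFun := fun a => ⟨φ x a, h x a a.2⟩
      invFun := fun a => ⟨φ x⁻¹ a, h x⁻¹ a a.2⟩
      left_inv := fun a => Subtype.ext (by simp)
      right_inv := fun a => Subtype.ext (by simp)
      map_mul' := fun a b => Subtype.ext (by simp) }
  map_one' := by ext a; simp
  map_mul' x y := by ext a; simp

omit [Finite N] in
@[simp]
theorem resHom_apply {X : Type*} [Group X] (φ : X →* MulAut N) (N₁ : Subgroup N)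
    (h : ∀ x : X, ∀ a ∈ N₁, φ x a ∈ N₁) (x : X) (a : N₁) :
    ((resHom φ N₁ h x) a : N) = φ x a := rfl

/-- The induced action on the quotient by an invariant subgroup. -/
def quotHom {X : Type*} [Group X] (φ : X →* MulAut N) (N₁ : Subgroup N)
    (h : ∀ x : X, ∀ a ∈ N₁, φ x a ∈ N₁) : X →* MulAut (N ⧸ N₁) where
  toFun x :=
    { toFun := QuotientGroup.map N₁ N₁ (φ x).toMonoidHom (fun a ha => h x a ha)
      invFun := QuotientGroup.map N₁ N₁ (φ x⁻¹).toMonoidHom (fun a ha => h x⁻¹ a ha)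
      left_inv := fun q => by
        induction q using QuotientGroup.induction_on with
        | H n => simp
      right_inv := fun q => by
        induction q using QuotientGroup.induction_on with
        | H n => simp
      map_mul' := fun a b => map_mul _ a b }
  map_one' := by
    ext q
    induction q using QuotientGroup.induction_on with
    | H n => simp
  map_mul' x y := by
    ext q
    induction q using QuotientGroup.induction_on with
    | H n => simp

omit [Finite N] in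
@[simp]
theorem quotHom_apply_mk {X : Type*} [Group X] (φ : X →* MulAut N) (N₁ : Subgroup N)
    (h : ∀ x : X, ∀ a ∈ N₁, φ x a ∈ N₁) (x : X) (n : N) :
    (quotHom φ N₁ h x) (n : N ⧸ N₁) = ((φ x n : N) : N ⧸ N₁) := rfl

end act

section red

/-- The bound statement for groups of a given order. -/
def Bound (n : ℕ) : Prop :=
  ∀ (N : Type u) [CommGroup N] [Finite N], Nat.card N = n →
    ∀ (X : Type u) [Group X] [Finite X], IsPGroup 2 X → ∀ (φ : X →* MulAut N) (L : Subgroup X),
      (∀ x : X, x ^ 2 ∈ L) → φ.ker ≤ L → L.index ≤ bd n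

theorem index_eq_relIndex_mul {X : Type*} [Group X] (L K : Subgroup X) (hL : L.Normal) :
    L.index = L.relIndex K * (L ⊔ K).index := by
  rw [← Subgroup.relIndex_sup_left K L, Subgroup.relIndex_mul_index le_sup_left]

theorem index_le_relIndex_mul {X : Type*} [Group X] [Finite X] (L M : Subgroup X) :
    L.index ≤ L.relIndex M * M.index := by
  have h1 : (L ⊓ M).relIndex M * M.index = (L ⊓ M).index :=
    Subgroup.relIndex_mul_index inf_le_right
  rw [Subgroup.inf_relIndex_right] at h1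
  rw [h1]
  exact Nat.le_of_dvd (Nat.pos_of_ne_zero Subgroup.index_ne_zero_of_finite)
    (Subgroup.index_dvd_of_le inf_le_left)

theorem red {N : Type u} [CommGroup N] [Finite N] (hodd : Odd (Nat.card N))
    {X : Type u} [Group X] [Finite X] (hX : IsPGroup 2 X) (φ : X →* MulAut N) (L : Subgroup X)
    (hL : ∀ x : X, x ^ 2 ∈ L) (hker : φ.ker ≤ L) (N₁ : Subgroup N)
    (h : ∀ x : X, ∀ a ∈ N₁, φ x a ∈ N₁) (h1 : Bound.{u} (Nat.card N₁))
    (h2 : Bound.{u} (Nat.card (N ⧸ N₁))) :
    (L ⊔ (resHom φ N₁ h).ker).index ≤ bd (Nat.card N₁) ∧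
      L.relIndex (resHom φ N₁ h).ker ≤ bd (Nat.card (N ⧸ N₁)) := by
  refine ⟨?_, ?_⟩
  · exact h1 ↥N₁ rfl X hX (resHom φ N₁ h) (L ⊔ (resHom φ N₁ h).ker)
      (fun x => Subgroup.mem_sup_left (hL x)) le_sup_right
  · set K := (resHom φ N₁ h).ker with hK
    have h3 := h2 (N ⧸ N₁) rfl ↥K (hX.to_subgroup K) ((quotHom φ N₁ h).comp K.subtype)
      (L.subgroupOf K) (fun x => by
        rw [Subgroup.mem_subgroupOf]
        have := hL (x : X)
        simpa using this) (by
        intro k hk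
        rw [Subgroup.mem_subgroupOf]
        apply hker
        rw [MonoidHom.mem_ker]
        obtain ⟨j, hj⟩ := hX (k : X)
        have hkK : (resHom φ N₁ h) (k : X) = 1 := MonoidHom.mem_ker.mp k.2
        apply aut_eq_one_of_trivial hodd (φ (k : X)) N₁ j
        · rw [← map_pow, hj, map_one]
        · intro a ha
          have := congrArg (fun f : MulAut ↥N₁ => ((f ⟨a, ha⟩ : ↥N₁) : N)) hkK
          simpa using this
        · intro n
          rw [MonoidHom.mem_ker] at hk
          have h5 := congrArg (fun f : MulAut (N ⧸ N₁) => f (n : N ⧸ N₁)) hk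
          simp only [MonoidHom.comp_apply, Subgroup.subtype_apply, quotHom_apply_mk,
            MulAut.one_apply] at h5
          have h6 := QuotientGroup.eq.mp h5.symm
          rwa [mul_comm] at h6)
    exact h3

theorem red_ih {n : ℕ} (ih : ∀ m < n, Odd m → 1 < m → Bound.{u} m)
    {N : Type u} [CommGroup N] [Finite N] (hcard : Nat.card N = n) (hodd : Odd n)
    {X : Type u} [Group X] [Finite X] (hX : IsPGroup 2 X) (φ : X →* MulAut N) (L : Subgroup X)
    (hL : ∀ x : X, x ^ 2 ∈ L) (hker : φ.ker ≤ L) (N₁ : Subgroup N)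
    (h : ∀ x : X, ∀ a ∈ N₁, φ x a ∈ N₁) (hbot : N₁ ≠ ⊥) (htop : N₁ ≠ ⊤) :
    (L ⊔ (resHom φ N₁ h).ker).index ≤ bd (Nat.card N₁) ∧
      L.relIndex (resHom φ N₁ h).ker ≤ bd (Nat.card (N ⧸ N₁)) ∧
      Nat.card N₁ * Nat.card (N ⧸ N₁) = n ∧ Odd (Nat.card N₁) ∧ Odd (Nat.card (N ⧸ N₁)) ∧
      3 ≤ Nat.card N₁ ∧ 3 ≤ Nat.card (N ⧸ N₁) := by
  have hmul : Nat.card N₁ * Nat.card (N ⧸ N₁) = n := by
    rw [← hcard, Subgroup.card_eq_card_quotient_mul_card_subgroup N₁, mul_comm]
  have ho : Odd (Nat.card N₁) ∧ Odd (Nat.card (N ⧸ N₁)) := by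
    rw [← hmul] at hodd
    exact Nat.odd_mul.mp hodd
  have ha1 : Nat.card N₁ ≠ 1 := fun h1 => hbot ((Subgroup.eq_bot_iff_card N₁).mpr h1)
  have hb1 : Nat.card (N ⧸ N₁) ≠ 1 := fun h1 => htop (Subgroup.index_eq_one.mp h1)
  have ha0 : 0 < Nat.card N₁ := Nat.card_pos
  have hb0 : 0 < Nat.card (N ⧸ N₁) := Nat.card_pos
  have ha3 : 3 ≤ Nat.card N₁ := by
    obtain ⟨s, hs⟩ := ho.1
    omega
  have hb3 : 3 ≤ Nat.card (N ⧸ N₁) := by
    obtain ⟨s, hs⟩ := ho.2
    omega
  have halt : Nat.card N₁ < n := by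
    rw [← hmul]; nlinarith
  have hblt : Nat.card (N ⧸ N₁) < n := by
    rw [← hmul]; nlinarith
  have hoddN : Odd (Nat.card N) := hcard ▸ hodd
  obtain ⟨r1, r2⟩ := red hoddN hX φ L hL hker N₁ h (ih _ halt ho.1 (by omega))
    (ih _ hblt ho.2 (by omega))
  exact ⟨r1, r2, hmul, ho.1, ho.2, ha3, hb3⟩

theorem card_mulAut_of_card_three {T : Type*} [Group T] [Finite T] (h : Nat.card T = 3) :
    Nat.card (MulAut T) = 2 := by
  haveI : Fact (Nat.Prime 3) := ⟨Nat.prime_three⟩
  haveI : IsCyclic T := isCyclic_of_prime_card h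
  rw [IsCyclic.card_mulAut, h]
  decide

theorem aut_eq_of_card_three {T : Type*} [Group T] [Finite T] (h : Nat.card T = 3)
    (α β : MulAut T) (hα : α ≠ 1) (hβ : β ≠ 1) : α = β := by
  have h2 := (Nat.card_eq_two_iff' (1 : MulAut T)).mp (card_mulAut_of_card_three h)
  exact h2.unique hα hβ

end red

end Cfsg.Agent.Lib.helper59.FratA
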