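import Mathlib
import Cfsg.Agent.Lib.helper59.FratA
import Cfsg.Agent.Lib.helper59.TwoGroups

/-!
# `2`-groups of automorphisms of abelian groups of odd order: the bound (helper59)

If a `2`-group `P` acts faithfully on an abelian group `N` of odd order `n > 1`, then
`|P : Φ(P)| ≤ bd n ≤ n - 1`.  The proof is by induction on `n`, with three cases:
an invariant subgroup (reducible), a system of two blocks (imprimitive), and the case where every
normal abelian subgroup of the image is cyclic.
-/

set_option autoImplicit false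
set_option linter.unusedSectionVars false
set_option linter.unusedVariables false
set_option linter.style.haveILetI false

namespace Cfsg.Agent.Lib.helper59.FratA

open Subgroup

universe u

section caseI

variable {N : Type u} [CommGroup N] [Finite N] {X : Type u} [Group X] [Finite X]

/-- Stabiliser of the subgroup `A`. -/
def stab (hX : IsPGroup 2 X) (φ : X →* MulAut N) (A : Subgroup N) : Subgroup X where
  carrier := {x | ∀ a ∈ A, φ x a ∈ A}
  mul_mem' := by
    intro x y hx hy a ha
    rw [map_mul, MulAut.mul_apply]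
    exact hx _ (hy a ha)
  one_mem' := by
    intro a ha
    simpa using ha
  inv_mem' := by
    intro x hx a ha
    obtain ⟨j, hj⟩ := hX x
    have e : x⁻¹ = x ^ (2 ^ j - 1) := by
      apply inv_eq_of_mul_eq_one_right
      rw [← pow_succ', Nat.sub_add_cancel Nat.one_le_two_pow, hj]
    rw [e]
    have : ∀ i : ℕ, ∀ a ∈ A, φ (x ^ i) a ∈ A := by
      intro i
      induction i with
      | zero => intro a ha; simpa using ha
      | succ i ih =>
        intro a ha
        rw [pow_succ, map_mul, MulAut.mul_apply]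
        exact ih _ (hx a ha)
    exact this _ a ha

theorem caseI {n : ℕ} (ih : ∀ m < n, Odd m → 1 < m → Bound.{u} m)
    (hcard : Nat.card N = n) (hodd : Odd n)
    (hX : IsPGroup 2 X) (φ : X →* MulAut N) (L : Subgroup X)
    (hL : ∀ x : X, x ^ 2 ∈ L) (hker : φ.ker ≤ L)
    (hirr : ∀ N₁ : Subgroup N, (∀ x : X, ∀ a ∈ N₁, φ x a ∈ N₁) → N₁ = ⊥ ∨ N₁ = ⊤)
    (A B : Subgroup N) (hA : A ≠ ⊥) (hB : B ≠ ⊥) (hAB : A ⊓ B = ⊥) (hsup : A ⊔ B = ⊤)
    (hdich : ∀ x : X, ((∀ a ∈ A, φ x a ∈ A) ∧ (∀ b ∈ B, φ x b ∈ B)) ∨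
        ((∀ a ∈ A, φ x a ∈ B) ∧ (∀ b ∈ B, φ x b ∈ A))) :
    L.index ≤ bd n := by
  set M := stab hX φ A with hM
  have hmemM : ∀ x : X, x ∈ M ↔ ∀ a ∈ A, φ x a ∈ A := fun x => Iff.rfl
  have hAB1 : ∀ a ∈ A, a ∈ B → a = 1 := by
    intro a ha hb
    have : a ∈ A ⊓ B := ⟨ha, hb⟩
    rw [hAB] at this
    exact Subgroup.mem_bot.mp this
  obtain ⟨a₀, ha₀, ha₀1⟩ : ∃ a ∈ A, a ≠ 1 := by
    by_contra hcon
    push Not at hcon
    exact hA ((Subgroup.eq_bot_iff_forall A).mpr hcon)
  have hMB : ∀ x ∈ M, ∀ b ∈ B, φ x b ∈ B := by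
    intro x hx
    rcases hdich x with h1 | h1
    · exact h1.2
    · exfalso
      have h2 := hAB1 _ (hx a₀ ha₀) (h1.1 a₀ ha₀)
      exact ha₀1 ((MulEquiv.map_eq_one_iff (φ x)).mp h2)
  have hswap : ∀ x, x ∉ M → (∀ a ∈ A, φ x a ∈ B) ∧ (∀ b ∈ B, φ x b ∈ A) := by
    intro x hx
    rcases hdich x with h1 | h1
    · exact absurd h1.1 hx
    · exact h1
  have hAtop : A ≠ ⊤ := by
    intro h
    apply hB
    rw [← hAB, h, top_inf_eq]
  have hMtop : M ≠ ⊤ := by
    intro h
    rcases hirr A (fun x => (hmemM x).mp (h ▸ Subgroup.mem_top x)) with h1 | h1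
    · exact hA h1
    · exact hAtop h1
  obtain ⟨g, hg⟩ : ∃ g, g ∉ M := by
    by_contra hcon
    push Not at hcon
    exact hMtop ((Subgroup.eq_top_iff' M).mpr hcon)
  have hginv : g⁻¹ ∉ M := fun h => hg ((M.inv_mem_iff).mp h)
  have hMidx : M.index ≤ 2 := by
    apply index_le_two_of_cover M g
    intro y
    by_cases hy : y ∈ M
    · exact Or.inl hy
    · right
      intro a ha
      rw [map_mul, MulAut.mul_apply]
      exact (hswap _ hginv).2 _ ((hswap y hy).1 a ha)
  have hcAB : Nat.card A = Nat.card B := by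
    apply le_antisymm
    · exact Nat.card_le_card_of_injective (fun a : A => (⟨φ g a, (hswap g hg).1 a a.2⟩ : B))
        (fun a a' h => by
          have := congrArg Subtype.val h
          exact Subtype.ext ((φ g).injective this))
    · exact Nat.card_le_card_of_injective (fun b : B => (⟨φ g b, (hswap g hg).2 b b.2⟩ : A))
        (fun a a' h => by
          have := congrArg Subtype.val h
          exact Subtype.ext ((φ g).injective this))
  have hcq : Nat.card (N ⧸ A) = Nat.card B := by
    have h1 : A.relIndex (A ⊔ B) = A.relIndex B := Subgroup.relIndex_sup_left B A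
    rw [hsup, Subgroup.relIndex_top_right, ← Subgroup.inf_relIndex_right, hAB,
      Subgroup.relIndex_bot_left] at h1
    exact h1
  have hinvM : ∀ x : ↥M, ∀ a ∈ A, (φ.comp M.subtype) x a ∈ A := fun x a ha => x.2 a ha
  have hL' : ∀ x : ↥M, x ^ 2 ∈ L.subgroupOf M := by
    intro x
    rw [Subgroup.mem_subgroupOf]
    have := hL (x : X)
    simpa using this
  have hker' : (φ.comp M.subtype).ker ≤ L.subgroupOf M := by
    intro x hx
    rw [Subgroup.mem_subgroupOf]
    apply hker
    rw [MonoidHom.mem_ker] at hx ⊢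
    exact hx
  obtain ⟨r1, r2, hmul, ho1, ho2, h31, h32⟩ := red_ih ih hcard hodd (hX.to_subgroup M)
    (φ.comp M.subtype) (L.subgroupOf M) hL' hker' A hinvM hA hAtop
  rw [hcq, ← hcAB] at r2 hmul
  set K := (resHom (φ.comp M.subtype) A hinvM).ker with hK
  have hLn' : (L.subgroupOf M).Normal := normal_of_sq_mem _ hL'
  have hidx' : (L.subgroupOf M).index =
      (L.subgroupOf M).relIndex K * (L.subgroupOf M ⊔ K).index :=
    index_eq_relIndex_mul _ K hLn'
  have hidx : L.index ≤ (L.subgroupOf M).index * 2 := by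
    have := index_le_relIndex_mul L M
    calc L.index ≤ L.relIndex M * M.index := this
      _ ≤ (L.subgroupOf M).index * 2 := Nat.mul_le_mul le_rfl hMidx
  by_cases hq3 : Nat.card A = 3
  · rw [hq3] at r1 r2 hmul
    rw [bd_three] at r1 r2
    have h2 : (L.subgroupOf M).index ≤ 2 := by
      by_cases hKL : K ≤ L.subgroupOf M
      · have e1 : (L.subgroupOf M).relIndex K = 1 := Subgroup.relIndex_eq_one.mpr hKL
        rw [hidx', e1, one_mul]
        exact r1
      · obtain ⟨k, hkK, hkL⟩ := SetLike.not_le_iff_exists.mp hKL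
        have hkL' : (k : X) ∉ L := fun h => hkL (Subgroup.mem_subgroupOf.mpr h)
        have hkkM : g * (k : X) * g⁻¹ ∈ M := by
          intro a ha
          rw [map_mul, map_mul, MulAut.mul_apply, MulAut.mul_apply]
          exact (hswap g hg).2 _ (hMB _ k.2 _ ((hswap _ hginv).1 a ha))
        set k' : ↥M := ⟨g * (k : X) * g⁻¹, hkkM⟩ with hk'
        have hkA : ∀ a ∈ A, φ (k : X) a = a := by
          intro a ha
          have h5 : resHom (φ.comp M.subtype) A hinvM k = 1 := MonoidHom.mem_ker.mp hkK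
          have := congrArg (fun f : MulAut ↥A => ((f ⟨a, ha⟩ : ↥A) : N)) h5
          simpa using this
        have hk'K : k' ∉ K := by
          intro h5
          have h5' : resHom (φ.comp M.subtype) A hinvM k' = 1 := MonoidHom.mem_ker.mp h5
          have h6 : ∀ a ∈ A, φ (g * (k : X) * g⁻¹) a = a := by
            intro a ha
            have := congrArg (fun f : MulAut ↥A => ((f ⟨a, ha⟩ : ↥A) : N)) h5'
            simp only [resHom_apply, MonoidHom.comp_apply, Subgroup.subtype_apply,
              MulAut.one_apply] at this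
            exact this
          have hkB : ∀ b ∈ B, φ (k : X) b = b := by
            intro b hb
            have h7 := h6 _ ((hswap g hg).2 b hb)
            rw [map_mul, map_mul, MulAut.mul_apply, MulAut.mul_apply] at h7
            have h8 : φ g⁻¹ (φ g b) = b := by
              rw [← MulAut.mul_apply, ← map_mul, inv_mul_cancel, map_one, MulAut.one_apply]
            rw [h8] at h7
            exact (φ g).injective h7
          apply hkL'
          apply hker
          rw [MonoidHom.mem_ker]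
          ext n
          have hn : n ∈ A ⊔ B := by rw [hsup]; exact Subgroup.mem_top n
          obtain ⟨a, ha, b, hb, rfl⟩ := Subgroup.mem_sup.mp hn
          rw [map_mul, hkA a ha, hkB b hb, MulAut.one_apply]
        have hcomm : k' * k⁻¹ ∈ L.subgroupOf M := by
          rw [Subgroup.mem_subgroupOf]
          have := comm_mem_of_sq_mem L hL g (k : X)
          simpa [hk'] using this
        have htop : L.subgroupOf M ⊔ K = ⊤ := by
          rw [eq_top_iff]
          intro m _
          by_cases hmK : m ∈ K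
          · exact Subgroup.mem_sup_right hmK
          · have h7 : resHom (φ.comp M.subtype) A hinvM m =
                resHom (φ.comp M.subtype) A hinvM k' :=
              aut_eq_of_card_three hq3 _ _ (fun h => hmK (MonoidHom.mem_ker.mpr h))
                (fun h => hk'K (MonoidHom.mem_ker.mpr h))
            have h8 : m * k'⁻¹ ∈ K := by
              rw [hK, MonoidHom.mem_ker, map_mul, map_inv, h7, mul_inv_cancel]
            have e : m = (m * k'⁻¹) * ((k' * k⁻¹) * k) := by group
            rw [e]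
            exact Subgroup.mul_mem _ (Subgroup.mem_sup_right h8)
              (Subgroup.mul_mem _ (Subgroup.mem_sup_left hcomm) (Subgroup.mem_sup_right hkK))
        rw [hidx', htop, Subgroup.index_top, mul_one]
        exact r2
    rw [← hmul]
    have : bd (3 * 3) = 4 := bd_nine
    omega
  · have hq5 : 5 ≤ Nat.card A := by
      obtain ⟨s, hs⟩ := ho1
      omega
    have h5 := bd_sq ho1 hq5
    rw [← hmul]
    calc L.index ≤ (L.subgroupOf M).index * 2 := hidx
      _ = (L.subgroupOf M).relIndex K * (L.subgroupOf M ⊔ K).index * 2 := by rw [hidx']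
      _ ≤ bd (Nat.card A) * bd (Nat.card A) * 2 :=
          Nat.mul_le_mul (Nat.mul_le_mul r2 r1) le_rfl
      _ ≤ bd (Nat.card A * Nat.card A) := by linarith

end caseI

section caseP

variable {N : Type u} [CommGroup N] [Finite N]

theorem caseP_cyclic (hodd : Odd (Nat.card N)) (Y : Subgroup (MulAut N)) (hY : IsPGroup 2 ↥Y)
    (hirr : ∀ N₁ : Subgroup N, (∀ y ∈ Y, ∀ a ∈ N₁, y a ∈ N₁) → N₁ = ⊥ ∨ N₁ = ⊤)
    (hprim : ∀ A B : Subgroup N, A ≠ ⊥ → B ≠ ⊥ → A ⊓ B = ⊥ → A ⊔ B = ⊤ →
      (∀ y ∈ Y, ((∀ a ∈ A, y a ∈ A) ∧ (∀ b ∈ B, y b ∈ B)) ∨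
        ((∀ a ∈ A, y a ∈ B) ∧ (∀ b ∈ B, y b ∈ A))) → False)
    (U : Subgroup ↥Y) (hUn : U.Normal) (hUc : ∀ a ∈ U, ∀ b ∈ U, a * b = b * a) :
    IsCyclic ↥U := by
  haveI : Fact (Nat.Prime 2) := ⟨Nat.prime_two⟩
  by_contra hnc
  have hUbot : U ≠ ⊥ := by
    rintro rfl
    exact hnc inferInstance
  obtain ⟨z, hzU, hzc, hz1, hz2⟩ :=
    Cfsg.Agent.Lib.helper3.exists_central_of_normal_ne_bot hY U hUbot
  let Ω : Subgroup ↥Y :=
    { carrier := {u | u ∈ U ∧ u ^ 2 = 1}
      mul_mem' := by
        rintro u v ⟨hu, hu2⟩ ⟨hv, hv2⟩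
        refine ⟨U.mul_mem hu hv, ?_⟩
        have hc := hUc u hu v hv
        have : (u * v) ^ 2 = u ^ 2 * v ^ 2 := by
          rw [pow_two, pow_two, pow_two]
          calc u * v * (u * v) = u * (v * u) * v := by group
            _ = u * (u * v) * v := by rw [hc]
            _ = u * u * (v * v) := by group
        rw [this, hu2, hv2, one_mul]
      one_mem' := ⟨U.one_mem, one_pow 2⟩
      inv_mem' := by
        rintro u ⟨hu, hu2⟩
        exact ⟨U.inv_mem hu, by rw [inv_pow, hu2, inv_one]⟩ }
  have hmemΩ : ∀ u : ↥Y, u ∈ Ω ↔ u ∈ U ∧ u ^ 2 = 1 := fun u => Iff.rfl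
  haveI hΩn : Ω.Normal := by
    refine ⟨fun u hu y => ⟨hUn.conj_mem u hu.1 y, ?_⟩⟩
    rw [conj_pow, hu.2, mul_one, mul_inv_cancel]
  haveI hzn : (zpowers z).Normal := by
    refine ⟨fun u hu y => ?_⟩
    obtain ⟨t, rfl⟩ := Subgroup.mem_zpowers_iff.mp hu
    have h1 : z ^ t ∈ Subgroup.center ↥Y := Subgroup.zpow_mem _ hzc t
    rw [Subgroup.mem_center_iff] at h1
    rw [h1 y, mul_inv_cancel_right]
    exact Subgroup.zpow_mem_zpowers z t
  have hΩz : ¬ Ω ≤ zpowers z := by
    intro hle
    apply hnc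
    have hz' : orderOf z = 2 := orderOf_eq_prime hz2 hz1
    have hUP : UniqueOrderP 2 ↥U := by
      have key : ∀ H : Subgroup ↥U, Nat.card H = 2 → H = zpowers (⟨z, hzU⟩ : ↥U) := by
        intro H hH
        obtain ⟨h, hhH, hh1⟩ : ∃ h ∈ H, h ≠ 1 := by
          by_contra hcon
          push Not at hcon
          have := (Subgroup.eq_bot_iff_forall H).mpr hcon
          rw [this, Subgroup.card_bot] at hH
          omega
        have hh2 : h ^ 2 = 1 := by
          have := pow_card_eq_one' (G := ↥H) (x := ⟨h, hhH⟩)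
          rw [hH] at this
          exact congrArg Subtype.val this
        have hhΩ : (h : ↥Y) ∈ Ω := by
          refine ⟨h.2, ?_⟩
          have := congrArg Subtype.val hh2
          simpa using this
        obtain ⟨t, ht⟩ := Subgroup.mem_zpowers_iff.mp (hle hhΩ)
        have hhz : (h : ↥Y) = z := by
          rcases zpow_of_sq_eq_one hz2 t with h3 | h3
          · rw [h3] at ht
            exact absurd (Subtype.ext ht.symm) hh1
          · rw [h3] at ht
            exact ht.symm
        have hzH : (⟨z, hzU⟩ : ↥U) ∈ H := by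
          have : (⟨z, hzU⟩ : ↥U) = h := Subtype.ext hhz.symm
          rw [this]
          exact hhH
        symm
        apply Subgroup.eq_of_le_of_card_ge
        · rw [Subgroup.zpowers_le]
          exact hzH
        · rw [hH, Nat.card_zpowers]
          have : orderOf (⟨z, hzU⟩ : ↥U) = 2 := by
            rw [← Subgroup.orderOf_coe]
            exact hz'
          rw [this]
      intro H K hH hK
      rw [key H hH, key K hK]
    exact isCyclic_of_comm_of_uniqueOrderP (Nat.card ↥U) ↥U rfl (hY.to_subgroup U) hUP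
      (fun a b => Subtype.ext (hUc a a.2 b b.2))
  obtain ⟨e, heΩ, hez, -, hecomm⟩ :=
    Cfsg.Agent.Lib.helper59.SympA.exists_lift hY (zpowers z) Ω hΩz
  have hζ2 : ∀ n, (z : MulAut N) ((z : MulAut N) n) = n := by
    intro n
    have : (z : MulAut N) ^ 2 = 1 := by rw [← Subgroup.coe_pow, hz2, Subgroup.coe_one]
    rw [← MulAut.mul_apply, ← pow_two, this, MulAut.one_apply]
  have hε2 : ∀ n, (e : MulAut N) ((e : MulAut N) n) = n := by
    intro n
    have : (e : MulAut N) ^ 2 = 1 := by rw [← Subgroup.coe_pow, heΩ.2, Subgroup.coe_one]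
    rw [← MulAut.mul_apply, ← pow_two, this, MulAut.one_apply]
  have hζc : ∀ y ∈ Y, ∀ n, (z : MulAut N) (y n) = y ((z : MulAut N) n) := by
    intro y hy n
    have h1 := Subgroup.mem_center_iff.mp hzc ⟨y, hy⟩
    have h2 : y * (z : MulAut N) = (z : MulAut N) * y := congrArg Subtype.val h1
    have := congrArg (fun f : MulAut N => f n) h2
    simpa using this.symm
  have hζfix : ∀ n, (z : MulAut N) n = n → n = 1 := by
    let F : Subgroup N :=
      { carrier := {n | (z : MulAut N) n = n}
        mul_mem' := by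
          intro a b ha hb
          simp only [Set.mem_ofPred_eq] at *
          rw [map_mul, ha, hb]
        one_mem' := map_one _
        inv_mem' := by
          intro a ha
          simp only [Set.mem_ofPred_eq] at *
          rw [map_inv, ha] }
    have hF : ∀ y ∈ Y, ∀ a ∈ F, y a ∈ F := by
      intro y hy a ha
      show (z : MulAut N) (y a) = y a
      rw [hζc y hy, show (z : MulAut N) a = a from ha]
    rcases hirr F hF with h1 | h1
    · intro n hn
      have : n ∈ F := hn
      rw [h1] at this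
      exact Subgroup.mem_bot.mp this
    · exfalso
      apply hz1
      apply Subtype.ext
      ext n
      have : n ∈ F := by rw [h1]; exact Subgroup.mem_top n
      exact this
  have hζinv : ∀ n, (z : MulAut N) n = n⁻¹ := by
    intro n
    have h1 : (z : MulAut N) (n * (z : MulAut N) n) = n * (z : MulAut N) n := by
      rw [map_mul, hζ2, mul_comm]
    have h2 := hζfix _ h1
    exact eq_inv_of_mul_eq_one_right h2
  have hdich : ∀ y ∈ Y, (∀ n, (e : MulAut N) (y n) = y ((e : MulAut N) n)) ∨
      (∀ n, (e : MulAut N) (y n) = (y ((e : MulAut N) n))⁻¹) := by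
    intro y hy
    have h1 := hecomm ⟨y, hy⟩
    obtain ⟨t, ht⟩ := Subgroup.mem_zpowers_iff.mp h1
    rcases zpow_of_sq_eq_one hz2 t with h3 | h3
    · left
      rw [h3] at ht
      have h4 : (⟨y, hy⟩ : ↥Y) * e = e * ⟨y, hy⟩ := by
        have := ht.symm
        rw [mul_inv_eq_one, mul_inv_eq_iff_eq_mul] at this
        exact this
      have h5 : y * (e : MulAut N) = (e : MulAut N) * y := congrArg Subtype.val h4
      intro n
      have := congrArg (fun f : MulAut N => f n) h5
      simpa using this.symm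
    · right
      rw [h3] at ht
      have h4 : (⟨y, hy⟩ : ↥Y) * e = z * e * ⟨y, hy⟩ := by
        have := ht.symm
        rw [mul_inv_eq_iff_eq_mul, mul_inv_eq_iff_eq_mul] at this
        exact this
      have h5 : y * (e : MulAut N) = (z : MulAut N) * (e : MulAut N) * y :=
        congrArg Subtype.val h4
      intro n
      have := congrArg (fun f : MulAut N => f n) h5
      simp only [MulAut.mul_apply] at this
      rw [this, hζinv, inv_inv]
  let A : Subgroup N :=
    { carrier := {n | (e : MulAut N) n = n}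
      mul_mem' := by
        intro a b ha hb
        simp only [Set.mem_ofPred_eq] at *
        rw [map_mul, ha, hb]
      one_mem' := map_one _
      inv_mem' := by
        intro a ha
        simp only [Set.mem_ofPred_eq] at *
        rw [map_inv, ha] }
  let B : Subgroup N :=
    { carrier := {n | (e : MulAut N) n = n⁻¹}
      mul_mem' := by
        intro a b ha hb
        simp only [Set.mem_ofPred_eq] at *
        rw [map_mul, ha, hb, mul_inv]
      one_mem' := by simp
      inv_mem' := by
        intro a ha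
        simp only [Set.mem_ofPred_eq] at *
        rw [map_inv, ha] }
  have hmemA : ∀ n, n ∈ A ↔ (e : MulAut N) n = n := fun n => Iff.rfl
  have hmemB : ∀ n, n ∈ B ↔ (e : MulAut N) n = n⁻¹ := fun n => Iff.rfl
  have hsq : ∀ n : N, n ^ 2 = 1 → n = 1 := by
    intro n hn
    have h5 : orderOf n ∣ 2 := orderOf_dvd_of_pow_eq_one hn
    have h6 : orderOf n ∣ Nat.card N := orderOf_dvd_natCard n
    have h7 : Nat.Coprime 2 (Nat.card N) := Nat.coprime_two_left.mpr hodd
    have h8 := Nat.dvd_gcd h5 h6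
    rw [h7] at h8
    exact orderOf_eq_one_iff.mp (Nat.dvd_one.mp h8)
  have hA1 : ∀ n, n * (e : MulAut N) n ∈ A := by
    intro n
    rw [hmemA, map_mul, hε2, mul_comm]
  have hB1 : ∀ n, n * ((e : MulAut N) n)⁻¹ ∈ B := by
    intro n
    rw [hmemB, map_mul, map_inv, hε2, mul_inv, inv_inv, mul_comm]
  apply hprim A B
  · intro hAbot
    apply hez
    have : e = z := by
      apply Subtype.ext
      ext n
      have h1 := hA1 n
      rw [hAbot, Subgroup.mem_bot] at h1
      rw [hζinv]
      exact eq_inv_of_mul_eq_one_right h1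
    rw [this]
    exact Subgroup.mem_zpowers z
  · intro hBbot
    apply hez
    have : e = 1 := by
      apply Subtype.ext
      ext n
      have h1 := hB1 n
      rw [hBbot, Subgroup.mem_bot] at h1
      have := mul_inv_eq_one.mp h1
      exact this.symm
    rw [this]
    exact Subgroup.one_mem _
  · rw [eq_bot_iff]
    rintro n ⟨hnA, hnB⟩
    rw [Subgroup.mem_bot]
    apply hsq
    have h1 : (e : MulAut N) n = n := hnA
    have h2 : (e : MulAut N) n = n⁻¹ := hnB
    rw [h1] at h2
    rw [pow_two]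
    nth_rewrite 2 [h2]
    exact mul_inv_cancel n
  · rw [eq_top_iff]
    intro n _
    have h3 : n ^ 2 ∈ A ⊔ B := by
      have e1 : n ^ 2 = (n * (e : MulAut N) n) * (n * ((e : MulAut N) n)⁻¹) := by
        rw [pow_two, mul_mul_mul_comm, mul_inv_cancel, mul_one]
      rw [e1]
      exact Subgroup.mul_mem _ (Subgroup.mem_sup_left (hA1 n)) (Subgroup.mem_sup_right (hB1 n))
    obtain ⟨s, hs⟩ := hodd
    have h4 : n = (n ^ 2) ^ (s + 1) := by
      rw [← pow_mul, show 2 * (s + 1) = (2 * s + 1) + 1 by ring, ← hs, pow_succ,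
        pow_card_eq_one', one_mul]
    rw [h4]
    exact Subgroup.pow_mem _ h3 _
  · intro y hy
    rcases hdich y hy with h1 | h1
    · left
      refine ⟨fun a ha => ?_, fun b hb => ?_⟩
      · rw [hmemA] at ha ⊢
        rw [h1, ha]
      · rw [hmemB] at hb ⊢
        rw [h1, hb, map_inv]
    · right
      refine ⟨fun a ha => ?_, fun b hb => ?_⟩
      · rw [hmemA] at ha
        rw [hmemB, h1, ha]
      · rw [hmemB] at hb
        rw [hmemA, h1, hb, map_inv, inv_inv]

theorem index_le_four_of_cyclic {Y : Type*} [Group Y] [Finite Y] (L : Subgroup Y)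
    (hL : ∀ y : Y, y ^ 2 ∈ L) (C : Subgroup Y) (hC : IsCyclic ↥C) (hCi : C.index ≤ 2) :
    L.index ≤ 4 := by
  have h1 := index_le_relIndex_mul L C
  have h2 : L.relIndex C ≤ 2 := by
    apply index_le_two_of_isCyclic (L.subgroupOf C)
    intro x
    rw [Subgroup.mem_subgroupOf]
    have := hL (x : Y)
    simpa using this
  calc L.index ≤ L.relIndex C * C.index := h1
    _ ≤ 2 * 2 := Nat.mul_le_mul h2 hCi

theorem caseP {n : ℕ} (hcard : Nat.card N = n) (hodd : Odd n) (h1 : 1 < n)
    {X : Type u} [Group X] [Finite X] (hX : IsPGroup 2 X) (φ : X →* MulAut N) (L : Subgroup X)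
    (hL : ∀ x : X, x ^ 2 ∈ L) (hker : φ.ker ≤ L)
    (hirr : ∀ N₁ : Subgroup N, (∀ x : X, ∀ a ∈ N₁, φ x a ∈ N₁) → N₁ = ⊥ ∨ N₁ = ⊤)
    (hprim : ∀ A B : Subgroup N, A ≠ ⊥ → B ≠ ⊥ → A ⊓ B = ⊥ → A ⊔ B = ⊤ →
      (∀ x : X, ((∀ a ∈ A, φ x a ∈ A) ∧ (∀ b ∈ B, φ x b ∈ B)) ∨
        ((∀ a ∈ A, φ x a ∈ B) ∧ (∀ b ∈ B, φ x b ∈ A))) → False) :
    L.index ≤ bd n := by
  have hY : IsPGroup 2 ↥φ.range :=
    IsPGroup.of_surjective hX φ.rangeRestrict φ.rangeRestrict_surjective
  set LY : Subgroup ↥φ.range := L.map φ.rangeRestrict with hLY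
  have hidx : LY.index = L.index :=
    Subgroup.index_map_eq L φ.rangeRestrict_surjective
      (by rw [MonoidHom.ker_rangeRestrict]; exact hker)
  have hLY2 : ∀ y : ↥φ.range, y ^ 2 ∈ LY := by
    intro y
    obtain ⟨x, rfl⟩ := φ.rangeRestrict_surjective y
    rw [← map_pow]
    exact Subgroup.mem_map_of_mem _ (hL x)
  have hoddN : Odd (Nat.card N) := hcard ▸ hodd
  have hn := caseP_cyclic hoddN φ.range hY
    (fun N₁ h => hirr N₁ (fun x a ha => h (φ x) ⟨x, rfl⟩ a ha))
    (fun A B hA hB hAB hsup h => hprim A B hA hB hAB hsup (fun x => h (φ x) ⟨x, rfl⟩))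
  rw [← hidx]
  have h3 : 3 ≤ n := by
    obtain ⟨s, hs⟩ := hodd
    omega
  by_cases hcyc : IsCyclic ↥φ.range
  · exact le_trans (index_le_two_of_isCyclic LY hLY2) (two_le_bd hodd h3)
  · obtain ⟨m, a, b, ha, hcardY, -⟩ := rel_of_normal_abelian_cyclic hY hn hcyc
    have hCi : (zpowers a).index ≤ 2 := by
      have h5 := Subgroup.index_mul_card (zpowers a)
      rw [Nat.card_zpowers, ha, hcardY, pow_succ 2 (m + 2)] at h5
      have hpos : 0 < 2 ^ (m + 2) := by positivity
      have : (zpowers a).index = 2 := by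
        rw [mul_comm] at h5
        exact Nat.eq_of_mul_eq_mul_left hpos h5
      omega
    have h4 : LY.index ≤ 4 := index_le_four_of_cyclic LY hLY2 (zpowers a) inferInstance hCi
    by_cases h9 : 9 ≤ n
    · exact le_trans h4 (four_le_bd hodd h9)
    · exfalso
      apply hcyc
      have hp : n.Prime := by
        obtain ⟨s, hs⟩ := hodd
        have : n = 3 ∨ n = 5 ∨ n = 7 := by omega
        rcases this with rfl | rfl | rfl <;> norm_num
      haveI : Fact n.Prime := ⟨hp⟩
      haveI : IsCyclic N := isCyclic_of_prime_card hcard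
      have hcomm : ∀ α β : MulAut N, α * β = β * α := by
        intro α β
        apply (IsCyclic.mulAutMulEquiv N).injective
        rw [map_mul, map_mul, mul_comm]
      haveI htop := hn ⊤ inferInstance (fun a _ b _ => Subtype.ext (hcomm _ _))
      exact isCyclic_of_surjective (Subgroup.topEquiv : (⊤ : Subgroup ↥φ.range) ≃* ↥φ.range)
        (Subgroup.topEquiv.surjective)

end caseP

/-- The bound for all odd orders. -/
theorem key : ∀ n : ℕ, Odd n → 1 < n → Bound.{u} n := by
  intro n
  induction n using Nat.strong_induction_on with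
  | _ n ih =>
    intro hodd h1 N _ _ hcard X _ _ hX φ L hL hker
    by_cases hR : ∃ N₁ : Subgroup N, (∀ x : X, ∀ a ∈ N₁, φ x a ∈ N₁) ∧ N₁ ≠ ⊥ ∧ N₁ ≠ ⊤
    · obtain ⟨N₁, hinv, hbot, htop⟩ := hR
      obtain ⟨r1, r2, hmul, ho1, ho2, h31, h32⟩ :=
        red_ih ih hcard hodd hX φ L hL hker N₁ hinv hbot htop
      rw [index_eq_relIndex_mul L (resHom φ N₁ hinv).ker (normal_of_sq_mem L hL), ← hmul]
      calc L.relIndex (resHom φ N₁ hinv).ker * (L ⊔ (resHom φ N₁ hinv).ker).index
          ≤ bd (Nat.card (N ⧸ N₁)) * bd (Nat.card N₁) := Nat.mul_le_mul r2 r1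
        _ ≤ bd (Nat.card N₁ * Nat.card (N ⧸ N₁)) := by
            rw [mul_comm]
            exact bd_mul ho1 ho2 h31 h32
    · have hirr : ∀ N₁ : Subgroup N, (∀ x : X, ∀ a ∈ N₁, φ x a ∈ N₁) → N₁ = ⊥ ∨ N₁ = ⊤ := by
        intro N₁ h
        by_contra hcon
        push Not at hcon
        exact hR ⟨N₁, h, hcon.1, hcon.2⟩
      by_cases hI : ∃ A B : Subgroup N, A ≠ ⊥ ∧ B ≠ ⊥ ∧ A ⊓ B = ⊥ ∧ A ⊔ B = ⊤ ∧
          ∀ x : X, ((∀ a ∈ A, φ x a ∈ A) ∧ (∀ b ∈ B, φ x b ∈ B)) ∨
            ((∀ a ∈ A, φ x a ∈ B) ∧ (∀ b ∈ B, φ x b ∈ A))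
      · obtain ⟨A, B, hA, hB, hAB, hsup, hdich⟩ := hI
        exact caseI ih hcard hodd hX φ L hL hker hirr A B hA hB hAB hsup hdich
      · exact caseP hcard hodd h1 hX φ L hL hker hirr
          (fun A B hA hB hAB hsup h => hI ⟨A, B, hA, hB, hAB, hsup, h⟩)

/-- The Frattini quotient of a `2`-group acting faithfully and irreducibly on an abelian group
`N` of odd order has order at most `|N| - 1`. -/
theorem frattini_index_le {G : Type u} [Group G] [Finite G] (N P : Subgroup G) (hN : N.Normal)
    (hNab : IsMulCommutative ↥N) (hNodd : Odd (Nat.card ↥N)) (hP : IsPGroup 2 ↥P)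
    (hdisj : N ⊓ P = ⊥) (hprod : N ⊔ P = ⊤)
    (hmin : N ≠ ⊥ ∧ ∀ M : Subgroup G, M.Normal → M ≠ ⊥ → N ≤ M) :
    (frattini ↥P).index ≤ Nat.card ↥N - 1 := by
  haveI : Fact (Nat.Prime 2) := ⟨Nat.prime_two⟩
  letI : CommGroup ↥N :=
    { (inferInstance : Group ↥N) with mul_comm := fun a b => mul_comm' a b }
  have hN1 : Nat.card ↥N ≠ 1 := fun h => hmin.1 ((Subgroup.eq_bot_iff_card N).mpr h)
  have h3 : 3 ≤ Nat.card ↥N := by
    have : 0 < Nat.card ↥N := Nat.card_pos
    obtain ⟨s, hs⟩ := hNodd
    omega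
  set C : Subgroup G := P ⊓ Subgroup.centralizer (N : Set G) with hC
  have hconj : ∀ g : G, (g ∈ N ∨ g ∈ P) → ∀ c ∈ C, g * c * g⁻¹ ∈ C := by
    intro g hg c hc
    rcases hg with hg | hg
    · have h1 : g * c = c * g := Subgroup.mem_centralizer_iff.mp hc.2 g hg
      rw [h1, mul_inv_cancel_right]
      exact hc
    · refine ⟨P.mul_mem (P.mul_mem hg hc.1) (P.inv_mem hg), ?_⟩
      exact (Subgroup.normal_centralizer (H := N)).conj_mem c hc.2 g
  have hnorm : ∀ g : G, (g ∈ N ∨ g ∈ P) → g ∈ Subgroup.normalizer (C : Set G) := by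
    intro g hg
    rw [Subgroup.mem_normalizer_iff]
    intro c
    constructor
    · exact hconj g hg c
    · intro h
      have hg' : g⁻¹ ∈ N ∨ g⁻¹ ∈ P := by
        rcases hg with hg | hg
        · exact Or.inl (N.inv_mem hg)
        · exact Or.inr (P.inv_mem hg)
      have := hconj g⁻¹ hg' _ h
      have e : g⁻¹ * (g * c * g⁻¹) * g⁻¹⁻¹ = c := by group
      rwa [e] at this
  have hCn : C.Normal := by
    rw [← Subgroup.normalizer_eq_top_iff, eq_top_iff, ← hprod, sup_le_iff]
    exact ⟨fun g hg => hnorm g (Or.inl hg), fun g hg => hnorm g (Or.inr hg)⟩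
  have hCbot : C = ⊥ := by
    by_contra hne
    have h1 : N ≤ C := hmin.2 C hCn hne
    apply hmin.1
    rw [eq_bot_iff, ← hdisj]
    exact le_inf le_rfl (h1.trans inf_le_left)
  let φ : ↥P →* MulAut ↥N := (MulAut.conjNormal (H := N)).comp P.subtype
  have hker : φ.ker ≤ frattini ↥P := by
    intro x hx
    rw [MonoidHom.mem_ker] at hx
    have hxC : (x : G) ∈ C := by
      refine ⟨x.2, ?_⟩
      show (x : G) ∈ Subgroup.centralizer (N : Set G)
      rw [Subgroup.mem_centralizer_iff]
      intro n hn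
      have h5 := congrArg (fun f : MulAut ↥N => ((f ⟨n, hn⟩ : ↥N) : G)) hx
      simp only [φ, MonoidHom.comp_apply, Subgroup.subtype_apply, MulAut.conjNormal_apply,
        MulAut.one_apply] at h5
      calc n * (x : G) = ((x : G) * n * (x : G)⁻¹) * (x : G) := by rw [h5]
        _ = (x : G) * n := by group
    rw [hCbot, Subgroup.mem_bot] at hxC
    have : x = 1 := Subtype.ext hxC
    rw [this]
    exact Subgroup.one_mem _
  have := key (Nat.card ↥N) hNodd (by omega) ↥N rfl ↥P hP φ (frattini ↥P)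
    (fun x => Cfsg.Agent.Lib.helper3.pow_prime_mem_frattini hP x) hker
  exact le_trans this (bd_le h3)

end Cfsg.Agent.Lib.helper59.FratA
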