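import Mathlib
import Cfsg.Agent.Lib.helper1.Coprime

set_option autoImplicit false

namespace Cfsg.Agent.Lib.helper59

open scoped commutatorElement
open Pointwise

/-- Frobenius sum lemma.  `X` and `R` are subgroups of a group `K` acting on an abelian group `V`
of order prime to `|X|`; `R` normalises `X` and every nonidentity element of `R` is
fixed-point-free on `X`.  If `V = [V, X]` (in the form of an induction principle) and every
`R`-fixed point of `V` is `X`-fixed, then `V = 1`. -/
theorem frob_abelian {K V : Type*} [Group K] [Group V] [Finite V]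
    (hcomm : ∀ a b : V, a * b = b * a) (φ : K →* MulAut V)
    (X R : Subgroup K) [Finite X] [Finite R]
    (hRX : ∀ ρ ∈ R, ∀ x ∈ X, ρ * x * ρ⁻¹ ∈ X)
    (hcop : (Nat.card X).Coprime (Nat.card V))
    (hfree : ∀ ρ ∈ R, ρ ≠ 1 → ∀ x ∈ X, ρ * x = x * ρ → x = 1)
    (hVX : ∀ S : Subgroup V, (∀ x ∈ X, ∀ u : V, φ x u * u⁻¹ ∈ S) → ∀ v : V, v ∈ S)
    (hRfix : ∀ v : V, (∀ ρ ∈ R, φ ρ v = v) → ∀ x ∈ X, φ x v = v) :
    ∀ v : V, v = 1 := by
  classical
  let _ : CommGroup V := { (inferInstance : Group V) with mul_comm := hcomm }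
  have : Fintype X := Fintype.ofFinite X
  have : Fintype R := Fintype.ofFinite R
  -- the norm over `X` is trivial
  have hNXmul : ∀ a b : V, (∏ x : X, φ (x : K) (a * b)) = (∏ x : X, φ (x : K) a) * ∏ x : X, φ (x : K) b := by
    intro a b
    rw [← Finset.prod_mul_distrib]
    exact Finset.prod_congr rfl (fun x _ => map_mul _ _ _)
  have hNXinv : ∀ a : V, (∏ x : X, φ (x : K) a⁻¹) = (∏ x : X, φ (x : K) a)⁻¹ := by
    intro a
    rw [← Finset.prod_inv_distrib]
    exact Finset.prod_congr rfl (fun x _ => map_inv _ _)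
  have hNXone : (∏ x : X, φ (x : K) (1 : V)) = 1 := by
    exact Finset.prod_eq_one (fun x _ => map_one _)
  have hNX : ∀ v : V, (∏ x : X, φ (x : K) v) = 1 := by
    intro v
    let S : Subgroup V :=
      { carrier := {v | (∏ x : X, φ (x : K) v) = 1}
        one_mem' := hNXone
        mul_mem' := by
          intro a b ha hb
          simp only [Set.mem_ofPred_eq] at ha hb ⊢
          rw [hNXmul, ha, hb, mul_one]
        inv_mem' := by
          intro a ha
          simp only [Set.mem_ofPred_eq] at ha ⊢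
          rw [hNXinv, ha, inv_one] }
    have hS : ∀ x ∈ X, ∀ u : V, φ x u * u⁻¹ ∈ S := by
      intro x₀ hx₀ u
      show (∏ x : X, φ (x : K) (φ x₀ u * u⁻¹)) = 1
      rw [hNXmul, hNXinv]
      have : (∏ x : X, φ (x : K) (φ x₀ u)) = ∏ x : X, φ (x : K) u := by
        have e := Fintype.prod_equiv (Equiv.mulRight (⟨x₀, hx₀⟩ : X))
          (fun x : X => φ (x : K) (φ x₀ u)) (fun x : X => φ (x : K) u) (by
            intro x
            simp [map_mul])
        exact e
      rw [this, mul_inv_cancel]
    exact hVX S hS v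
  -- the norm over `R` is fixed by `R`, hence by `X`
  have hNRfix : ∀ w : V, ∀ x ∈ X, φ x (∏ ρ : R, φ (ρ : K) w) = ∏ ρ : R, φ (ρ : K) w := by
    intro w
    apply hRfix
    intro ρ₀ hρ₀
    rw [map_prod]
    exact Fintype.prod_equiv (Equiv.mulLeft (⟨ρ₀, hρ₀⟩ : R))
      (fun ρ : R => φ ρ₀ (φ (ρ : K) w)) (fun ρ : R => φ (ρ : K) w) (by
        intro ρ
        simp [map_mul])
  intro v
  -- the double product
  have h1 : (∏ y : X, ∏ ρ : R, φ ((y : K) * ρ * (y : K)⁻¹) v) = 1 := by
    have e1 : ∀ y : X, (∏ ρ : R, φ ((y : K) * ρ * (y : K)⁻¹) v)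
        = ∏ ρ : R, φ (ρ : K) (φ ((y⁻¹ : X) : K) v) := by
      intro y
      have : (∏ ρ : R, φ ((y : K) * ρ * (y : K)⁻¹) v)
          = φ (y : K) (∏ ρ : R, φ (ρ : K) (φ ((y⁻¹ : X) : K) v)) := by
        rw [map_prod]
        refine Finset.prod_congr rfl (fun ρ _ => ?_)
        simp [map_mul]
      rw [this]
      exact hNRfix _ y y.2
    rw [Finset.prod_congr rfl (fun y _ => e1 y), Finset.prod_comm]
    have e2 : ∀ ρ : R, (∏ y : X, φ (ρ : K) (φ ((y⁻¹ : X) : K) v)) = 1 := by
      intro ρ
      rw [← map_prod]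
      have : (∏ y : X, φ ((y⁻¹ : X) : K) v) = ∏ y : X, φ (y : K) v :=
        Fintype.prod_equiv (Equiv.inv X) (fun y : X => φ ((y⁻¹ : X) : K) v)
          (fun y : X => φ (y : K) v) (by intro y; simp)
      rw [this, hNX v, map_one]
    exact Finset.prod_eq_one (fun ρ _ => e2 ρ)
  have h2 : (∏ y : X, ∏ ρ : R, φ ((y : K) * ρ * (y : K)⁻¹) v) = v ^ Fintype.card X := by
    rw [Finset.prod_comm]
    rw [Fintype.prod_eq_single (1 : R)]
    · simp
    · intro ρ hρ
      have hρ1 : (ρ : K) ≠ 1 := fun h => hρ (Subtype.ext h)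
      -- the bijection `y ↦ y ρ y⁻¹ ρ⁻¹` of `X`
      have hmem : ∀ y : X, (y : K) * ρ * (y : K)⁻¹ * (ρ : K)⁻¹ ∈ X := by
        intro y
        have := X.mul_mem y.2 (hRX ρ ρ.2 _ (X.inv_mem y.2))
        simpa [mul_assoc] using this
      let f : X → X := fun y => ⟨(y : K) * ρ * (y : K)⁻¹ * (ρ : K)⁻¹, hmem y⟩
      have hf : Function.Injective f := by
        intro y z hyz
        have h : (y : K) * ρ * (y : K)⁻¹ * (ρ : K)⁻¹ = (z : K) * ρ * (z : K)⁻¹ * (ρ : K)⁻¹ :=
          congrArg Subtype.val hyz
        have h' : (y : K) * ρ * (y : K)⁻¹ = (z : K) * ρ * (z : K)⁻¹ := mul_right_cancel h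
        have hcomm' : (ρ : K) * ((z : K)⁻¹ * y) = ((z : K)⁻¹ * y) * ρ := by
          have : (z : K)⁻¹ * ((y : K) * ρ * (y : K)⁻¹) * y = (z : K)⁻¹ * ((z : K) * ρ * (z : K)⁻¹) * y := by
            rw [h']
          simpa [mul_assoc] using this.symm
        have := hfree ρ ρ.2 hρ1 _ (X.mul_mem (X.inv_mem z.2) y.2) hcomm'
        apply Subtype.ext
        have h3 : (z : K) * ((z : K)⁻¹ * y) = z * 1 := by rw [this]
        simpa using h3
      have hfb : Function.Bijective f := Finite.injective_iff_bijective.mp hf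
      have e3 : (∏ y : X, φ ((y : K) * ρ * (y : K)⁻¹) v) = ∏ x : X, φ (x : K) (φ (ρ : K) v) := by
        refine Fintype.prod_bijective f hfb _ _ ?_
        intro y
        show φ ((y : K) * ρ * (y : K)⁻¹) v = φ ((y : K) * ρ * (y : K)⁻¹ * (ρ : K)⁻¹) (φ (ρ : K) v)
        rw [← MulAut.mul_apply, ← map_mul]
        simp [mul_assoc]
      rw [e3]
      exact hNX _
  have h3 : v ^ Nat.card X = 1 := by
    rw [Nat.card_eq_fintype_card, ← h2, h1]
  have h4 : orderOf v ∣ Nat.card X := orderOf_dvd_of_pow_eq_one h3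
  have h5 : orderOf v ∣ Nat.card V := orderOf_dvd_natCard v
  have h6 : orderOf v = 1 := Nat.eq_one_of_dvd_coprimes hcop h4 h5
  exact orderOf_eq_one_iff.mp h6

/-- The action of the normaliser of `T` on the abelianisation of `T`. -/
noncomputable def abAct {G : Type*} [Group G] (T : Subgroup G) :
    ↥(Subgroup.normalizer (T : Set G)) →* MulAut (Abelianization T) where
  toFun g := (Cfsg.Agent.Lib.helper1.conjEquivOfMemNormalizer T g g.2).abelianizationCongr
  map_one' := by
    apply MulEquiv.ext
    intro v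
    obtain ⟨t, rfl⟩ := QuotientGroup.mk_surjective v
    show Abelianization.of _ = Abelianization.of t
    congr 1
    apply Subtype.ext
    simp [Cfsg.Agent.Lib.helper1.coe_conjEquivOfMemNormalizer]
  map_mul' := by
    intro g h
    apply MulEquiv.ext
    intro v
    obtain ⟨t, rfl⟩ := QuotientGroup.mk_surjective v
    show Abelianization.of _ = Abelianization.of _
    congr 1
    apply Subtype.ext
    simp [Cfsg.Agent.Lib.helper1.coe_conjEquivOfMemNormalizer, mul_assoc]

theorem abAct_of {G : Type*} [Group G] (T : Subgroup G)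
    (g : ↥(Subgroup.normalizer (T : Set G))) (t : T) :
    abAct T g (Abelianization.of t)
      = Abelianization.of (Cfsg.Agent.Lib.helper1.conjEquivOfMemNormalizer T g g.2 t) := rfl

theorem normalizer_le_normalizer_commutator {G : Type*} [Group G] (T : Subgroup G) :
    Subgroup.normalizer (T : Set G) ≤ Subgroup.normalizer ((⁅T, T⁆ : Subgroup G) : Set G) := by
  have h := Cfsg.Agent.Lib.helper1.normalizer_le_normalizer_map_of_characteristic T (commutator T)
  rwa [Subgroup.map_subtype_commutator] at h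

/-- The final configuration: `T = [T, X]` and `C_T(R) ≤ C_T(X)` force `T = 1`. -/
theorem frob_final {G : Type*} [Group G] [Finite G] (p : ℕ) [Fact p.Prime]
    (T X R : Subgroup G) (hT : IsPGroup p T)
    (hXT : X ≤ Subgroup.normalizer (T : Set G)) (hRT : R ≤ Subgroup.normalizer (T : Set G))
    (hRX : R ≤ Subgroup.normalizer (X : Set G))
    (hXp : (Nat.card X).Coprime p) (hR : (Nat.card R).Prime) (hRp : Nat.card R ≠ p)
    (hfree : ∀ x ∈ X, (∀ ρ ∈ R, ρ * x = x * ρ) → x = 1)
    (hgen : T ≤ ⁅T, X⁆)
    (hRfix : ∀ z ∈ T, (∀ ρ ∈ R, ρ * z = z * ρ) → ∀ x ∈ X, x * z = z * x) :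
    T = ⊥ := by
  by_contra hne
  have hnt : Nontrivial T := (Subgroup.nontrivial_iff_ne_bot T).mpr hne
  have hnil : Group.IsNilpotent T := hT.isNilpotent
  have hlt : commutator T < ⊤ := Group.IsSolvable.commutator_lt_top_of_nontrivial T
  obtain ⟨n, hn⟩ := IsPGroup.iff_card.mp hT
  set N : Subgroup G := Subgroup.normalizer (T : Set G) with hN
  have key : ∀ v : Abelianization T, v = 1 := by
    refine frob_abelian (K := N) (V := Abelianization T) (fun a b => mul_comm a b) (abAct T)
      (X.subgroupOf N) (R.subgroupOf N) ?_ ?_ ?_ ?_ ?_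
    · -- R normalises X
      intro ρ hρ x hx
      rw [Subgroup.mem_subgroupOf] at hρ hx ⊢
      have := (Subgroup.mem_normalizer_iff.mp (hRX hρ) x).mp hx
      simpa using this
    · -- coprimality
      have h1 : Nat.card (X.subgroupOf N) = Nat.card X :=
        Nat.card_congr (Subgroup.subgroupOfEquivOfLe hXT).toEquiv
      have h2 : Nat.card (Abelianization T) ∣ Nat.card T :=
        Subgroup.card_quotient_dvd_card (commutator T)
      rw [h1]
      rw [hn] at h2
      exact Nat.Coprime.coprime_dvd_right h2 (Nat.Coprime.pow_right n hXp)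
    · -- fixed-point-freeness
      intro ρ hρ hρ1 x hx hcomm
      rw [Subgroup.mem_subgroupOf] at hρ hx
      have hρ1' : (⟨(ρ : G), hρ⟩ : R) ≠ 1 := by
        intro h
        apply hρ1
        apply Subtype.ext
        exact congrArg (Subtype.val : R → G) h
      have : Fact (Nat.card R).Prime := ⟨hR⟩
      have hz := zpowers_eq_top_of_prime_card (G := R) rfl hρ1'
      have hc : (ρ : G) * (x : G) = (x : G) * (ρ : G) := congrArg Subtype.val hcomm
      have hx1 : (x : G) = 1 := by
        apply hfree _ hx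
        intro σ hσ
        have hσ' : (⟨σ, hσ⟩ : R) ∈ Subgroup.zpowers (⟨(ρ : G), hρ⟩ : R) := by
          rw [hz]; exact Subgroup.mem_top _
        obtain ⟨k, hk⟩ := Subgroup.mem_zpowers_iff.mp hσ'
        have hk' : (ρ : G) ^ k = σ := by
          have := congrArg Subtype.val hk
          simpa using this
        rw [← hk']
        have hcm : Commute (ρ : G) (x : G) := hc
        exact (hcm.zpow_left k).eq
      exact Subtype.ext hx1
    · -- V = [V, X]
      intro S hS v
      obtain ⟨t, rfl⟩ := QuotientGroup.mk_surjective v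
      have hcl : ∀ g ∈ ⁅T, X⁆, ∃ h : g ∈ T, Abelianization.of (⟨g, h⟩ : T) ∈ S := by
        intro g hg
        rw [Subgroup.commutator_def] at hg
        induction hg using Subgroup.closure_induction with
        | mem g hg =>
          obtain ⟨t, ht, x, hx, rfl⟩ := hg
          have hxN : x ∈ N := hXT hx
          have hx' : (⟨x, hxN⟩ : N) ∈ X.subgroupOf N := by
            rw [Subgroup.mem_subgroupOf]; exact hx
          have h1 := hS ⟨x, hxN⟩ hx' (Abelianization.of (⟨t⁻¹, T.inv_mem ht⟩ : T))
          have hmem : ⁅t, x⁆ ∈ T := by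
            have := (Subgroup.mem_normalizer_iff.mp hxN t⁻¹).mp (T.inv_mem ht)
            have h2 := T.mul_mem ht this
            rw [commutatorElement_def]
            simpa [mul_assoc] using h2
          refine ⟨hmem, ?_⟩
          have e : (⟨⁅t, x⁆, hmem⟩ : T)
              = (⟨t, ht⟩ : T) * Cfsg.Agent.Lib.helper1.conjEquivOfMemNormalizer T x hxN
                  ⟨t⁻¹, T.inv_mem ht⟩ := by
            apply Subtype.ext
            simp [Cfsg.Agent.Lib.helper1.coe_conjEquivOfMemNormalizer, commutatorElement_def,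
              mul_assoc]
          have e2 : (Abelianization.of (⟨t⁻¹, T.inv_mem ht⟩ : T))⁻¹
              = Abelianization.of (⟨t, ht⟩ : T) := by
            rw [← map_inv]
            congr 1
            apply Subtype.ext
            simp
          rw [e, map_mul, mul_comm]
          rw [abAct_of, e2] at h1
          exact h1
        | one => exact ⟨T.one_mem, by
            have : (⟨1, T.one_mem⟩ : T) = 1 := rfl
            rw [this, map_one]; exact S.one_mem⟩
        | mul a b _ _ iha ihb =>
          obtain ⟨ha, ha'⟩ := iha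
          obtain ⟨hb, hb'⟩ := ihb
          refine ⟨T.mul_mem ha hb, ?_⟩
          have : (⟨a * b, T.mul_mem ha hb⟩ : T) = ⟨a, ha⟩ * ⟨b, hb⟩ := rfl
          rw [this, map_mul]
          exact S.mul_mem ha' hb'
        | inv a _ iha =>
          obtain ⟨ha, ha'⟩ := iha
          refine ⟨T.inv_mem ha, ?_⟩
          have : (⟨a⁻¹, T.inv_mem ha⟩ : T) = (⟨a, ha⟩ : T)⁻¹ := rfl
          rw [this, map_inv]
          exact S.inv_mem ha'
      obtain ⟨h, h'⟩ := hcl t (hgen t.2)
      exact h'
    · -- R-fixed points are X-fixed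
      intro v hv x hx
      obtain ⟨t, rfl⟩ := QuotientGroup.mk_surjective v
      rw [Subgroup.mem_subgroupOf] at hx
      have hg : ∀ a ∈ R, a * (t : G) * a⁻¹ * (t : G)⁻¹ ∈ ⁅T, T⁆ := by
        intro ρ hρ
        have hρN : ρ ∈ N := hRT hρ
        have h1 := hv ⟨ρ, hρN⟩ (by rw [Subgroup.mem_subgroupOf]; exact hρ)
        have h2 : Abelianization.of
            (Cfsg.Agent.Lib.helper1.conjEquivOfMemNormalizer T ρ hρN t * t⁻¹) = 1 := by
          rw [map_mul, map_inv]
          exact mul_inv_eq_one.mpr h1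
        have h3 : Cfsg.Agent.Lib.helper1.conjEquivOfMemNormalizer T ρ hρN t * t⁻¹
            ∈ commutator T := by
          rw [← Abelianization.ker_of]
          exact MonoidHom.mem_ker.mpr h2
        have h4 := Subgroup.mem_map_of_mem T.subtype h3
        rw [Subgroup.map_subtype_commutator] at h4
        simpa [Cfsg.Agent.Lib.helper1.coe_conjEquivOfMemNormalizer] using h4
      have hle : ⁅T, T⁆ ≤ T := Subgroup.commutator_le_self T
      have hcop : (Nat.card R).Coprime (Nat.card (⁅T, T⁆ : Subgroup G)) := by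
        have h1 : Nat.card (⁅T, T⁆ : Subgroup G) ∣ p ^ n := hn ▸ Subgroup.card_dvd_of_le hle
        have h2 : (Nat.card R).Coprime p :=
          (Nat.coprime_primes hR (Fact.out : p.Prime)).mpr hRp
        exact Nat.Coprime.coprime_dvd_right h1 (Nat.Coprime.pow_right n h2)
      have hsolvT : Group.IsSolvable T := inferInstance
      have hsolv : Group.IsSolvable R ∨ Group.IsSolvable (⁅T, T⁆ : Subgroup G) :=
        Or.inr (Cfsg.Agent.Lib.helper1.isSolvable_of_le hle hsolvT)
      obtain ⟨c, hc, hct⟩ := Cfsg.Agent.Lib.helper1.coset_fixed R ⁅T, T⁆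
        (hRT.trans (normalizer_le_normalizer_commutator T)) hcop hsolv (t : G) hg
      have hcT : c ∈ T := by
        have := T.mul_mem (hle hct) t.2
        simpa using this
      have hxc : (x : G) * c = c * (x : G) :=
        hRfix c hcT (fun ρ hρ => (Subgroup.mem_centralizer_iff.mp hc) ρ hρ) x hx
      have hof : Abelianization.of t = Abelianization.of (⟨c, hcT⟩ : T) := by
        have h5 : (⟨c, hcT⟩ : T) * t⁻¹ ∈ commutator T := by
          rw [← Subgroup.map_subtype_commutator] at hct
          obtain ⟨y, hy, hy'⟩ := hct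
          have : y = (⟨c, hcT⟩ : T) * t⁻¹ := Subtype.ext (by simpa using hy')
          rw [← this]; exact hy
        rw [← Abelianization.ker_of] at h5
        have h6 := MonoidHom.mem_ker.mp h5
        rw [map_mul, map_inv] at h6
        exact (mul_inv_eq_one.mp h6).symm
      show abAct T x (Abelianization.of t) = Abelianization.of t
      rw [hof, abAct_of]
      congr 1
      apply Subtype.ext
      rw [Cfsg.Agent.Lib.helper1.coe_conjEquivOfMemNormalizer]
      show (x : G) * c * (x : G)⁻¹ = c
      rw [hxc, mul_inv_cancel_right]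
  have htop : commutator T = ⊤ := by
    rw [eq_top_iff]
    intro t _
    rw [← Abelianization.ker_of]
    exact MonoidHom.mem_ker.mpr (key _)
  exact absurd htop hlt.ne

/-- If `c = b a b⁻¹ a⁻¹` commutes with `a` and `b`, then `b ^ n * a = c ^ n * a * b ^ n`. -/
theorem pow_mul_of_comm_commutator {G : Type*} [Group G] (a b c : G)
    (hcb : Commute c b) (hc : b * a = c * a * b) (n : ℕ) :
    b ^ n * a = c ^ n * a * b ^ n := by
  induction n with
  | zero => simp
  | succ n ih =>
    have h1 : b ^ (n + 1) * a = b ^ n * (c * a * b) := by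
      rw [pow_succ, mul_assoc, hc]
    have h2 : Commute (b ^ n) c := (hcb.symm.pow_left n)
    calc b ^ (n + 1) * a = b ^ n * (c * a * b) := h1
      _ = (b ^ n * c) * a * b := by simp only [mul_assoc]
      _ = (c * b ^ n) * a * b := by rw [h2.eq]
      _ = c * (b ^ n * a) * b := by simp only [mul_assoc]
      _ = c * (c ^ n * a * b ^ n) * b := by rw [ih]
      _ = c ^ (n + 1) * a * b ^ (n + 1) := by
        rw [pow_succ' c n, pow_succ b n]; simp only [mul_assoc]

/-- If `c = b a b⁻¹ a⁻¹` commutes with `a` and `b`, then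
`(a * b) ^ n = a ^ n * b ^ n * c ^ (n.choose 2)`. -/
theorem mul_pow_of_comm_commutator {G : Type*} [Group G] (a b c : G) (hca : Commute c a)
    (hcb : Commute c b) (hc : b * a = c * a * b) (n : ℕ) :
    (a * b) ^ n = a ^ n * b ^ n * c ^ (n.choose 2) := by
  induction n with
  | zero => simp
  | succ n ih =>
    have h1 := pow_mul_of_comm_commutator a b c hcb hc n
    have hcn : Commute (c ^ (n.choose 2)) a := hca.pow_left _
    have hcn' : Commute (c ^ n) a := hca.pow_left _
    have hcb' : Commute (c ^ (n.choose 2)) b := hcb.pow_left _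
    have hcbn : Commute (c ^ n) (b ^ (n + 1)) := (hcb.pow_left n).pow_right _
    have e : (n + 1).choose 2 = n + n.choose 2 := by
      rw [Nat.choose_succ_succ, Nat.choose_one_right]
    calc (a * b) ^ (n + 1) = (a * b) ^ n * (a * b) := pow_succ _ _
      _ = a ^ n * b ^ n * c ^ (n.choose 2) * (a * b) := by rw [ih]
      _ = a ^ n * b ^ n * (c ^ (n.choose 2) * a) * b := by simp only [mul_assoc]
      _ = a ^ n * b ^ n * (a * c ^ (n.choose 2)) * b := by rw [hcn.eq]
      _ = a ^ n * (b ^ n * a) * (c ^ (n.choose 2) * b) := by simp only [mul_assoc]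
      _ = a ^ n * (c ^ n * a * b ^ n) * (b * c ^ (n.choose 2)) := by rw [h1, hcb'.eq]
      _ = a ^ n * (c ^ n * a) * (b ^ n * b) * c ^ (n.choose 2) := by simp only [mul_assoc]
      _ = a ^ n * (a * c ^ n) * b ^ (n + 1) * c ^ (n.choose 2) := by rw [hcn'.eq, ← pow_succ]
      _ = a ^ n * a * (c ^ n * b ^ (n + 1)) * c ^ (n.choose 2) := by simp only [mul_assoc]
      _ = a ^ (n + 1) * (b ^ (n + 1) * c ^ n) * c ^ (n.choose 2) := by rw [hcbn.eq, ← pow_succ]
      _ = a ^ (n + 1) * b ^ (n + 1) * c ^ ((n + 1).choose 2) := by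
        rw [e, pow_add c]; simp only [mul_assoc]

/-- `p`-th powers are multiplicative on elements whose commutator is central and whose `p`-th
powers commute, `p` an odd prime. -/
theorem mul_pow_prime_of_comm_commutator {G : Type*} [Group G] (p : ℕ) [Fact p.Prime]
    (hp : p ≠ 2) (a b : G) (hca : Commute (b * a * b⁻¹ * a⁻¹) a)
    (hcb : Commute (b * a * b⁻¹ * a⁻¹) b) (hpa : Commute (b ^ p) a) :
    (a * b) ^ p = a ^ p * b ^ p := by
  set c := b * a * b⁻¹ * a⁻¹ with hc
  have hcab : b * a = c * a * b := by rw [hc]; group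
  have h1 := pow_mul_of_comm_commutator a b c hcb hcab p
  have hcp : c ^ p = 1 := by
    rw [hpa.eq] at h1
    have : 1 * (a * b ^ p) = c ^ p * (a * b ^ p) := by rw [one_mul, ← mul_assoc]; exact h1
    exact (mul_right_cancel this).symm
  have h2lt : 2 < p := lt_of_le_of_ne (Fact.out : p.Prime).two_le (Ne.symm hp)
  have hdvd : p ∣ p.choose 2 := (Fact.out : p.Prime).dvd_choose_self (by norm_num) h2lt
  obtain ⟨k, hk⟩ := hdvd
  rw [mul_pow_of_comm_commutator a b c hca hcb hcab p, hk, pow_mul, hcp, one_pow, mul_one]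

/-- If `x` commutes with `⁅t, x⁆` and the orders of `x` and `⁅t, x⁆` are coprime, then
`⁅t, x⁆ = 1`. -/
theorem commutator_eq_one_of_commute {G : Type*} [Group G] (t x : G)
    (hd : Commute x ⁅t, x⁆) (hcop : (orderOf x).Coprime (orderOf ⁅t, x⁆)) : ⁅t, x⁆ = 1 := by
  set d := ⁅t, x⁆ with hdd
  have h1 : x * t⁻¹ = t⁻¹ * d * x := by rw [hdd, commutatorElement_def]; group
  have h2 : ∀ k : ℕ, x ^ k * t⁻¹ = t⁻¹ * d ^ k * x ^ k := by
    intro k
    induction k with
    | zero => simp
    | succ k ih =>
      have hdk : Commute x (d ^ k) := hd.pow_right k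
      calc x ^ (k + 1) * t⁻¹ = x * (x ^ k * t⁻¹) := by rw [pow_succ', mul_assoc]
        _ = x * (t⁻¹ * d ^ k * x ^ k) := by rw [ih]
        _ = (x * t⁻¹) * d ^ k * x ^ k := by simp only [mul_assoc]
        _ = t⁻¹ * d * (x * d ^ k) * x ^ k := by rw [h1]; simp only [mul_assoc]
        _ = t⁻¹ * d * (d ^ k * x) * x ^ k := by rw [hdk.eq]
        _ = t⁻¹ * d ^ (k + 1) * x ^ (k + 1) := by
          rw [pow_succ' d k, pow_succ' x k]; simp only [mul_assoc]
  have h3 := h2 (orderOf x)
  rw [pow_orderOf_eq_one, one_mul, mul_one] at h3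
  have h4 : d ^ orderOf x = 1 := by
    have : t⁻¹ * 1 = t⁻¹ * d ^ orderOf x := by rw [mul_one]; exact h3
    exact (mul_left_cancel this).symm
  have h5 : orderOf d ∣ orderOf x := orderOf_dvd_of_pow_eq_one h4
  have h6 : orderOf d = 1 := Nat.eq_one_of_dvd_coprimes hcop.symm (dvd_refl _) h5
  exact orderOf_eq_one_iff.mp h6

/-- `R` normalises `⁅T, X⁆` if it normalises `T` and `X`. -/
theorem le_normalizer_commutator_of_le {G : Type*} [Group G] {T X R : Subgroup G}
    (hRT : R ≤ Subgroup.normalizer (T : Set G)) (hRX : R ≤ Subgroup.normalizer (X : Set G)) :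
    R ≤ Subgroup.normalizer ((⁅T, X⁆ : Subgroup G) : Set G) := by
  intro b hb
  apply Cfsg.Agent.Lib.helper1.mem_normalizer_of_conj_smul_eq
  have h1 : MulAut.conj b • T = T := Cfsg.Agent.Lib.helper1.conj_smul_eq_of_mem_normalizer (hRT hb)
  have h2 : MulAut.conj b • X = X := Cfsg.Agent.Lib.helper1.conj_smul_eq_of_mem_normalizer (hRX hb)
  have h3 := Subgroup.map_commutator T X (MulAut.conj b).toMonoidHom
  calc MulAut.conj b • ⁅T, X⁆ = ⁅MulAut.conj b • T, MulAut.conj b • X⁆ := h3
    _ = ⁅T, X⁆ := by rw [h1, h2]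

/-- **Frobenius centralising lemma** (Bender–Glauberman style).  `p` odd, `T` a `p`-subgroup,
`X` and `R` subgroups normalising `T`, `R` of prime order `≠ p` normalising the `p'`-group `X`
with `C_X(R) = 1`.  If `X` centralises every element of order dividing `p` of `C_T(R)`, then
`X` centralises `T`. -/
theorem frob_centralize {G : Type*} [Group G] [Finite G] (p : ℕ) [Fact p.Prime] (hp : p ≠ 2)
    (T X R : Subgroup G) (hT : IsPGroup p T)
    (hXT : X ≤ Subgroup.normalizer (T : Set G)) (hRT : R ≤ Subgroup.normalizer (T : Set G))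
    (hRX : R ≤ Subgroup.normalizer (X : Set G))
    (hXp : (Nat.card X).Coprime p) (hR : (Nat.card R).Prime) (hRp : Nat.card R ≠ p)
    (hfree : ∀ x ∈ X, (∀ ρ ∈ R, ρ * x = x * ρ) → x = 1)
    (hcent : ∀ z ∈ T, z ^ p = 1 → (∀ ρ ∈ R, ρ * z = z * ρ) → ∀ x ∈ X, x * z = z * x) :
    ∀ x ∈ X, ∀ t ∈ T, x * t = t * x := by
  have main : ∀ n : ℕ, ∀ T : Subgroup G, Nat.card T = n → IsPGroup p T →
      X ≤ Subgroup.normalizer (T : Set G) → R ≤ Subgroup.normalizer (T : Set G) →
      (∀ z ∈ T, z ^ p = 1 → (∀ ρ ∈ R, ρ * z = z * ρ) → ∀ x ∈ X, x * z = z * x) →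
      ∀ x ∈ X, ∀ t ∈ T, x * t = t * x := by
    intro n
    induction n using Nat.strong_induction_on with
    | _ n ih =>
    intro T hTn hT hXT hRT hcent
    -- consequence of the induction hypothesis for proper invariant subgroups
    have IH : ∀ S : Subgroup G, S ≤ T → S ≠ T → X ≤ Subgroup.normalizer (S : Set G) →
        R ≤ Subgroup.normalizer (S : Set G) → ∀ x ∈ X, ∀ s ∈ S, x * s = s * x := by
      intro S hST hne hXS hRS
      have hlt : Nat.card S < n := by
        by_contra hge
        rw [not_lt, ← hTn] at hge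
        exact hne (Subgroup.eq_of_le_of_card_ge hST hge)
      exact ih (Nat.card S) hlt S rfl (hT.to_le hST) hXS hRS
        (fun z hz => hcent z (hST hz))
    have hST : ⁅T, X⁆ ≤ T := Cfsg.Agent.Lib.helper1.commutator_le_of_le_normalizer hXT
    by_cases hgen : ⁅T, X⁆ = T
    · -- the critical case `T = [T, X]`
      by_cases hbot : T = ⊥
      · intro x _ t ht
        rw [hbot, Subgroup.mem_bot] at ht
        rw [ht, mul_one, one_mul]
      exfalso
      have hnt : Nontrivial T := (Subgroup.nontrivial_iff_ne_bot T).mpr hbot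
      have hnil : Group.IsNilpotent T := hT.isNilpotent
      have hlt : commutator T < ⊤ := Group.IsSolvable.commutator_lt_top_of_nontrivial T
      have hTT : ⁅T, T⁆ ≤ T := Subgroup.commutator_le_self T
      have hTTne : ⁅T, T⁆ ≠ T := by
        intro h
        rw [← Subgroup.map_subtype_commutator] at h
        have h2 : (⊤ : Subgroup T).map T.subtype = T := by
          rw [← MonoidHom.range_eq_map, Subgroup.range_subtype]
        have h3 : (commutator T).map T.subtype = (⊤ : Subgroup T).map T.subtype := by rw [h, h2]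
        exact hlt.ne (Subgroup.map_injective T.subtype_injective h3)
      -- (a) `X` centralises `T'`
      have ha : ∀ x ∈ X, ∀ s ∈ ⁅T, T⁆, x * s = s * x :=
        IH ⁅T, T⁆ hTT hTTne (hXT.trans (normalizer_le_normalizer_commutator T))
          (hRT.trans (normalizer_le_normalizer_commutator T))
      -- the subgroup generated by `p`-th powers
      set U : Subgroup G := Subgroup.closure {z | ∃ t ∈ T, z = t ^ p} with hU
      have hUT : U ≤ T := by
        rw [hU, Subgroup.closure_le]
        rintro z ⟨t, ht, rfl⟩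
        exact T.pow_mem ht p
      have hNU : Subgroup.normalizer (T : Set G) ≤ Subgroup.normalizer (U : Set G) := by
        rw [hU, Subgroup.le_normalizer_closure_iff]
        rintro g hg z ⟨t, ht, rfl⟩
        apply Subgroup.subset_closure
        refine ⟨g * t * g⁻¹, (Subgroup.mem_normalizer_iff.mp hg t).mp ht, ?_⟩
        rw [conj_pow]
      have hUne : U ≠ T := by
        obtain ⟨m, hm⟩ := IsPGroup.iff_card.mp hT
        have hm0 : m ≠ 0 := by
          intro h0
          rw [h0, pow_zero] at hm
          exact hbot ((Subgroup.card_eq_one).mp hm)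
        obtain ⟨M, hM⟩ := Sylow.exists_subgroup_card_pow_prime (G := T) p (n := m - 1)
          (by rw [hm]; exact pow_dvd_pow p (Nat.sub_le m 1))
        have hidx : M.index = p := by
          have h1 := M.card_mul_index
          rw [hM, hm] at h1
          have h2 : p ^ m = p ^ (m - 1) * p := by
            rw [← pow_succ, Nat.sub_add_cancel (Nat.one_le_iff_ne_zero.mpr hm0)]
          rw [h2] at h1
          exact Nat.eq_of_mul_eq_mul_left (pow_pos (Fact.out : p.Prime).pos _) h1
        have hMn : M.Normal := by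
          apply Subgroup.normal_of_index_eq_minFac_card
          rw [hidx, hm, Nat.pow_minFac hm0, (Fact.out : p.Prime).minFac_eq]
        have hUM : U ≤ M.map T.subtype := by
          rw [hU, Subgroup.closure_le]
          rintro z ⟨t, ht, rfl⟩
          have h1 := M.pow_index_mem (⟨t, ht⟩ : T)
          rw [hidx] at h1
          exact ⟨_, h1, rfl⟩
        intro h
        have h1 : Nat.card T ≤ Nat.card (M.map T.subtype) :=
          Subgroup.card_le_of_le ((le_of_eq h.symm).trans hUM)
        rw [Subgroup.card_map_of_injective T.subtype_injective, hM, hm] at h1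
        have h2 : p ^ (m - 1) < p ^ m :=
          Nat.pow_lt_pow_right (Fact.out : p.Prime).one_lt (Nat.sub_lt (Nat.pos_of_ne_zero hm0) one_pos)
        omega
      -- (b) `X` centralises `U`
      have hb : ∀ x ∈ X, ∀ s ∈ U, x * s = s * x :=
        IH U hUT hUne (hXT.trans hNU) (hRT.trans hNU)
      have haC : ⁅T, T⁆ ≤ Subgroup.centralizer (X : Set G) := by
        intro s hs
        rw [Subgroup.mem_centralizer_iff]
        intro x hx
        exact ha x hx s hs
      have hbC : U ≤ Subgroup.centralizer (X : Set G) := by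
        intro s hs
        rw [Subgroup.mem_centralizer_iff]
        intro x hx
        exact hb x hx s hs
      -- (c) `T'` is central in `T`
      have hc : ⁅T, ⁅T, T⁆⁆ = ⊥ := by
        have h1 : ⁅⁅X, ⁅T, T⁆⁆, T⁆ = ⊥ := by
          have : ⁅X, ⁅T, T⁆⁆ = ⊥ := by
            rw [Subgroup.commutator_comm, Subgroup.commutator_eq_bot_iff_le_centralizer]
            exact haC
          rw [this, Subgroup.commutator_bot_left]
        have h2 : ⁅⁅⁅T, T⁆, T⁆, X⁆ = ⊥ := by
          rw [Subgroup.commutator_eq_bot_iff_le_centralizer]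
          exact (Subgroup.commutator_mono hTT le_rfl).trans haC
        have h3 := Subgroup.commutator_commutator_eq_bot_of_rotate h1 h2
        rwa [hgen] at h3
      -- (d) `U` is central in `T`
      have hd : ⁅T, U⁆ = ⊥ := by
        have h1 : ⁅⁅X, U⁆, T⁆ = ⊥ := by
          have : ⁅X, U⁆ = ⊥ := by
            rw [Subgroup.commutator_comm, Subgroup.commutator_eq_bot_iff_le_centralizer]
            exact hbC
          rw [this, Subgroup.commutator_bot_left]
        have h2 : ⁅⁅U, T⁆, X⁆ = ⊥ := by
          rw [Subgroup.commutator_eq_bot_iff_le_centralizer]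
          exact (Subgroup.commutator_mono hUT le_rfl).trans haC
        have h3 := Subgroup.commutator_commutator_eq_bot_of_rotate h1 h2
        rwa [hgen] at h3
      have hcC : T ≤ Subgroup.centralizer ((⁅T, T⁆ : Subgroup G) : Set G) :=
        Subgroup.commutator_eq_bot_iff_le_centralizer.mp hc
      have hdC : T ≤ Subgroup.centralizer (U : Set G) :=
        Subgroup.commutator_eq_bot_iff_le_centralizer.mp hd
      -- `p`-th powers are multiplicative on `T`
      have hpow : ∀ a ∈ T, ∀ b ∈ T, (a * b) ^ p = a ^ p * b ^ p := by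
        intro a ha' b hb'
        have hcm : b * a * b⁻¹ * a⁻¹ ∈ ⁅T, T⁆ := by
          have := Subgroup.commutator_mem_commutator hb' ha'
          rwa [commutatorElement_def] at this
        have h1 : Commute (b * a * b⁻¹ * a⁻¹) a :=
          (Subgroup.mem_centralizer_iff.mp (hcC ha')) _ hcm
        have h2 : Commute (b * a * b⁻¹ * a⁻¹) b :=
          (Subgroup.mem_centralizer_iff.mp (hcC hb')) _ hcm
        have h3 : Commute (b ^ p) a :=
          (Subgroup.mem_centralizer_iff.mp (hdC ha')) _
            (Subgroup.subset_closure ⟨b, hb', rfl⟩)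
        exact mul_pow_prime_of_comm_commutator p hp a b h1 h2 h3
      -- `T` has exponent `p`
      let E : Subgroup G :=
        { carrier := {t | t ∈ T ∧ t ^ p = 1}
          one_mem' := ⟨T.one_mem, one_pow p⟩
          mul_mem' := by
            rintro a b ⟨ha1, ha2⟩ ⟨hb1, hb2⟩
            exact ⟨T.mul_mem ha1 hb1, by rw [hpow a ha1 b hb1, ha2, hb2, mul_one]⟩
          inv_mem' := by
            rintro a ⟨ha1, ha2⟩
            exact ⟨T.inv_mem ha1, by rw [inv_pow, ha2, inv_one]⟩ }
      have hE : ⁅T, X⁆ ≤ E := by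
        rw [Subgroup.commutator_le]
        intro t ht x hx
        have hxt : x * t⁻¹ * x⁻¹ ∈ T :=
          (Subgroup.mem_normalizer_iff.mp (hXT hx) t⁻¹).mp (T.inv_mem ht)
        have e : ⁅t, x⁆ = t * (x * t⁻¹ * x⁻¹) := by
          rw [commutatorElement_def]; simp only [mul_assoc]
        refine ⟨by rw [e]; exact T.mul_mem ht hxt, ?_⟩
        rw [e, hpow t ht _ hxt, conj_pow, inv_pow]
        have h1 : x * (t ^ p)⁻¹ = (t ^ p)⁻¹ * x :=
          hb x hx _ (U.inv_mem (Subgroup.subset_closure ⟨t, ht, rfl⟩))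
        rw [h1, mul_assoc, mul_inv_cancel, mul_one, mul_inv_cancel]
      have hexp : ∀ z ∈ T, z ^ p = 1 := by
        intro z hz
        have hz' : z ∈ ⁅T, X⁆ := by rw [hgen]; exact hz
        have : z ∈ E := hE hz'
        exact this.2
      exact hbot (frob_final p T X R hT hXT hRT hRX hXp hR hRp hfree hgen.ge
        (fun z hz => hcent z hz (hexp z hz)))
    · -- `[T, X] < T`: `X` centralises `[T, X]`, hence `T`
      have h1 : ∀ x ∈ X, ∀ s ∈ ⁅T, X⁆, x * s = s * x :=
        IH ⁅T, X⁆ hST hgen (Cfsg.Agent.Lib.helper1.right_le_normalizer_commutator hXT)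
          (le_normalizer_commutator_of_le hRT hRX)
      intro x hx t ht
      have hmem : ⁅t, x⁆ ∈ ⁅T, X⁆ := Subgroup.commutator_mem_commutator ht hx
      have hcomm : Commute x ⁅t, x⁆ := h1 x hx _ hmem
      have hox : orderOf x ∣ Nat.card X := by
        have := orderOf_dvd_natCard (⟨x, hx⟩ : X)
        rwa [Subgroup.orderOf_mk] at this
      obtain ⟨k, hk⟩ := (IsPGroup.iff_orderOf.mp hT) (⟨⁅t, x⁆, hST hmem⟩ : T)
      rw [Subgroup.orderOf_mk] at hk
      have hcop : (orderOf x).Coprime (orderOf ⁅t, x⁆) := by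
        rw [hk]
        exact Nat.Coprime.pow_right k (Nat.Coprime.coprime_dvd_left hox hXp)
      have h2 := commutator_eq_one_of_commute t x hcomm hcop
      rw [commutatorElement_eq_one_iff_commute] at h2
      exact h2.symm.eq
  exact main (Nat.card T) T rfl hT hXT hRT hcent

end Cfsg.Agent.Lib.helper59
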