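import Mathlib
import Cfsg.Agent.Lib.helper3.SL23

set_option autoImplicit false

/-!
# Recognising `GL(2,3)` by generators and relations (diagonal-subgroup trick of helper3's `SL23`)
-/

namespace Cfsg.Agent.Lib.helper59.GL23Rec

open Cfsg.Agent.Lib.helper3

/-- the image of `sl23A` in `GL(2,3)` -/
def gA : GL (Fin 2) (ZMod 3) := Matrix.SpecialLinearGroup.toGL sl23A

/-- the image of `sl23B` in `GL(2,3)` -/
def gB : GL (Fin 2) (ZMod 3) := Matrix.SpecialLinearGroup.toGL sl23B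

/-- the image of `sl23C` in `GL(2,3)` -/
def gC : GL (Fin 2) (ZMod 3) := Matrix.SpecialLinearGroup.toGL sl23C

/-- a reflection in `GL(2,3)` -/
def gT : GL (Fin 2) (ZMod 3) := ⟨!![1, 0; 0, 2], !![1, 0; 0, 2], by decide, by decide⟩

theorem gT_sq : gT ^ 2 = 1 := by
  apply Units.ext
  rw [Units.val_pow_eq_pow_val]
  show (!![1, 0; 0, 2] : Matrix (Fin 2) (Fin 2) (ZMod 3)) ^ 2 = 1
  decide

theorem gT_inv : gT⁻¹ = gT := by
  rw [inv_eq_iff_mul_eq_one, ← pow_two, gT_sq]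

theorem gT_gA : gT * gA * gT⁻¹ = gA⁻¹ := by
  rw [gT_inv, eq_inv_iff_mul_eq_one]
  apply Units.ext
  show (!![1, 0; 0, 2] : Matrix (Fin 2) (Fin 2) (ZMod 3)) * !![0, 1; 2, 0] * !![1, 0; 0, 2] *
    !![0, 1; 2, 0] = 1
  decide

theorem gT_gC : gT * gC * gT⁻¹ = gC⁻¹ := by
  rw [gT_inv, eq_inv_iff_mul_eq_one]
  apply Units.ext
  show (!![1, 0; 0, 2] : Matrix (Fin 2) (Fin 2) (ZMod 3)) * !![1, 1; 0, 1] * !![1, 0; 0, 2] *
    !![1, 1; 0, 1] = 1
  decide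

theorem card_gl23 : Nat.card (GL (Fin 2) (ZMod 3)) = 48 := by
  rw [Matrix.card_GL_field]
  simp [Fin.prod_univ_two, ZMod.card]

theorem gl23_gen (g : GL (Fin 2) (ZMod 3)) :
    ∃ s : SL23, ∃ l : ℕ, g = Matrix.SpecialLinearGroup.toGL s * gT ^ l := by
  have hdet : (g : Matrix (Fin 2) (Fin 2) (ZMod 3)).det ≠ 0 := by
    intro h
    have h1 := congrArg Matrix.det g.val_inv
    rw [Matrix.det_mul, h, zero_mul, Matrix.det_one] at h1
    exact zero_ne_one h1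
  have hcases : (g : Matrix (Fin 2) (Fin 2) (ZMod 3)).det = 1 ∨
      (g : Matrix (Fin 2) (Fin 2) (ZMod 3)).det = 2 := by
    generalize (g : Matrix (Fin 2) (Fin 2) (ZMod 3)).det = d at hdet
    revert d; decide
  rcases hcases with h | h
  · refine ⟨⟨g.val, h⟩, 0, ?_⟩
    rw [pow_zero, mul_one]
    exact Units.ext rfl
  · have hT : (gT : Matrix (Fin 2) (Fin 2) (ZMod 3)).det = 2 := by
      show (!![1, 0; 0, 2] : Matrix (Fin 2) (Fin 2) (ZMod 3)).det = 2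
      decide
    refine ⟨⟨g.val * gT.val, by rw [Matrix.det_mul, h, hT]; decide⟩, 1, ?_⟩
    rw [pow_one]
    have h1 : Matrix.SpecialLinearGroup.toGL
        (⟨g.val * gT.val, by rw [Matrix.det_mul, h, hT]; decide⟩ : SL23) = g * gT :=
      Units.ext rfl
    rw [h1, mul_assoc, ← pow_two, gT_sq, mul_one]

/-- A group of order `48` generated by `a, b, c, t` subject to the relations of `GL(2,3)` is
isomorphic to `GL(2,3)`. -/
theorem gl23_of_rel {X : Type*} [Group X] [Finite X] (hX : Nat.card X = 48) (a b c t : X)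
    (ha : a ^ 4 = 1) (hb : b ^ 2 = a ^ 2) (hba : b * a * b⁻¹ = a⁻¹) (hca : c * a * c⁻¹ = b)
    (hcb : c * b * c⁻¹ = b * a) (hc : c ^ 3 = 1) (ht : t ^ 2 = 1) (hta : t * a * t⁻¹ = a⁻¹)
    (htc : t * c * t⁻¹ = c⁻¹) (hgen : Subgroup.closure {a, b, c, t} = ⊤) :
    Nonempty (X ≃* GL (Fin 2) (ZMod 3)) := by
  obtain ⟨hA, hB, hBA, hCB, hC⟩ := sl23_rel
  have hCA : sl23C * sl23A * sl23C⁻¹ = sl23B := rfl
  have gA4 : gA ^ 4 = 1 := by
    show Matrix.SpecialLinearGroup.toGL sl23A ^ 4 = 1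
    rw [← map_pow, hA, map_one]
  have gB2 : gB ^ 2 = gA ^ 2 := by
    show Matrix.SpecialLinearGroup.toGL sl23B ^ 2 = Matrix.SpecialLinearGroup.toGL sl23A ^ 2
    rw [← map_pow, ← map_pow, hB]
  have gBA : gB * gA * gB⁻¹ = gA⁻¹ := by
    show Matrix.SpecialLinearGroup.toGL sl23B * Matrix.SpecialLinearGroup.toGL sl23A *
      (Matrix.SpecialLinearGroup.toGL sl23B)⁻¹ = (Matrix.SpecialLinearGroup.toGL sl23A)⁻¹
    rw [← map_inv, ← map_mul, ← map_mul, hBA, map_inv]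
  have gCA : gC * gA * gC⁻¹ = gB := by
    show Matrix.SpecialLinearGroup.toGL sl23C * Matrix.SpecialLinearGroup.toGL sl23A *
      (Matrix.SpecialLinearGroup.toGL sl23C)⁻¹ = Matrix.SpecialLinearGroup.toGL sl23B
    rw [← map_inv, ← map_mul, ← map_mul, hCA]
  have gCB : gC * gB * gC⁻¹ = gB * gA := by
    show Matrix.SpecialLinearGroup.toGL sl23C * Matrix.SpecialLinearGroup.toGL sl23B *
      (Matrix.SpecialLinearGroup.toGL sl23C)⁻¹ =
      Matrix.SpecialLinearGroup.toGL sl23B * Matrix.SpecialLinearGroup.toGL sl23A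
    rw [← map_inv, ← map_mul, ← map_mul, hCB, map_mul]
  have gC3 : gC ^ 3 = 1 := by
    show Matrix.SpecialLinearGroup.toGL sl23C ^ 3 = 1
    rw [← map_pow, hC, map_one]
  let x : X × GL (Fin 2) (ZMod 3) := (a, gA)
  let y : X × GL (Fin 2) (ZMod 3) := (b, gB)
  let z : X × GL (Fin 2) (ZMod 3) := (c, gC)
  let w : X × GL (Fin 2) (ZMod 3) := (t, gT)
  have hx4 : x ^ 4 = 1 := Prod.ext ha gA4
  have hy2 : y ^ 2 = x ^ 2 := Prod.ext hb gB2
  have hyx : y * x * y⁻¹ = x⁻¹ := Prod.ext hba gBA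
  have hzx : z * x * z⁻¹ = y := Prod.ext hca gCA
  have hzy : z * y * z⁻¹ = y * x := Prod.ext hcb gCB
  have hz3 : z ^ 3 = 1 := Prod.ext hc gC3
  have hw2 : w ^ 2 = 1 := Prod.ext ht gT_sq
  have hwx : w * x * w⁻¹ = x⁻¹ := Prod.ext hta gT_gA
  have hwz : w * z * w⁻¹ = z⁻¹ := Prod.ext htc gT_gC
  let K₁ : Subgroup (X × GL (Fin 2) (ZMod 3)) := Subgroup.zpowers x
  let K₂ : Subgroup (X × GL (Fin 2) (ZMod 3)) := K₁ ⊔ Subgroup.zpowers y
  let K₃ : Subgroup (X × GL (Fin 2) (ZMod 3)) := K₂ ⊔ Subgroup.zpowers z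
  let D : Subgroup (X × GL (Fin 2) (ZMod 3)) := K₃ ⊔ Subgroup.zpowers w
  have hK₁ : Nat.card K₁ ≤ 4 := by
    show Nat.card (Subgroup.zpowers x) ≤ 4
    rw [Nat.card_zpowers]
    exact Nat.le_of_dvd (by norm_num) (orderOf_dvd_of_pow_eq_one hx4)
  have hK₂ : Nat.card K₂ ≤ 8 := by
    have h1 : ∀ k ∈ K₁, y * k * y⁻¹ ∈ K₁ := by
      intro k hk
      obtain ⟨i, rfl⟩ := Subgroup.mem_zpowers_iff.mp hk
      rw [← conj_zpow, hyx]
      exact Subgroup.zpow_mem _ (Subgroup.inv_mem _ (Subgroup.mem_zpowers x)) i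
    have h2 : y ^ 2 ∈ K₁ := by
      rw [hy2]; exact Subgroup.pow_mem _ (Subgroup.mem_zpowers x) 2
    have h3 : Nat.card K₂ ≤ 2 * Nat.card K₁ :=
      card_sup_zpowers_le K₁ y (p := 2) (by norm_num) h1 h2
    omega
  have hxK₂ : x ∈ K₂ := (le_sup_left : K₁ ≤ K₂) (Subgroup.mem_zpowers x)
  have hyK₂ : y ∈ K₂ := (le_sup_right : Subgroup.zpowers y ≤ K₂) (Subgroup.mem_zpowers y)
  have hK₃ : Nat.card K₃ ≤ 24 := by
    have h1 : ∀ k ∈ K₂, z * k * z⁻¹ ∈ K₂ := by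
      have hle : K₂ ≤ K₂.comap (MulAut.conj z).toMonoidHom := by
        refine sup_le ?_ ?_
        · rw [Subgroup.zpowers_le, Subgroup.mem_comap]
          show z * x * z⁻¹ ∈ K₂
          rw [hzx]; exact hyK₂
        · rw [Subgroup.zpowers_le, Subgroup.mem_comap]
          show z * y * z⁻¹ ∈ K₂
          rw [hzy]; exact K₂.mul_mem hyK₂ hxK₂
      intro k hk
      exact hle hk
    have h2 : z ^ 3 ∈ K₂ := by rw [hz3]; exact K₂.one_mem
    have h3 : Nat.card K₃ ≤ 3 * Nat.card K₂ :=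
      card_sup_zpowers_le K₂ z (p := 3) (by norm_num) h1 h2
    omega
  have hxK₃ : x ∈ K₃ := (le_sup_left : K₂ ≤ K₃) hxK₂
  have hyK₃ : y ∈ K₃ := (le_sup_left : K₂ ≤ K₃) hyK₂
  have hzK₃ : z ∈ K₃ := (le_sup_right : Subgroup.zpowers z ≤ K₃) (Subgroup.mem_zpowers z)
  have hD : Nat.card D ≤ 48 := by
    have h1 : ∀ k ∈ K₃, w * k * w⁻¹ ∈ K₃ := by
      have hle : K₃ ≤ K₃.comap (MulAut.conj w).toMonoidHom := by
        refine sup_le (sup_le ?_ ?_) ?_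
        · rw [Subgroup.zpowers_le, Subgroup.mem_comap]
          show w * x * w⁻¹ ∈ K₃
          rw [hwx]; exact K₃.inv_mem hxK₃
        · rw [Subgroup.zpowers_le, Subgroup.mem_comap]
          show w * y * w⁻¹ ∈ K₃
          have h : w * y * w⁻¹ = (w * z * w⁻¹) * (w * x * w⁻¹) * (w * z * w⁻¹)⁻¹ := by
            rw [← hzx]; group
          rw [h, hwx, hwz]
          exact K₃.mul_mem (K₃.mul_mem (K₃.inv_mem hzK₃) (K₃.inv_mem hxK₃))
            (K₃.inv_mem (K₃.inv_mem hzK₃))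
        · rw [Subgroup.zpowers_le, Subgroup.mem_comap]
          show w * z * w⁻¹ ∈ K₃
          rw [hwz]; exact K₃.inv_mem hzK₃
      intro k hk
      exact hle hk
    have h2 : w ^ 2 ∈ K₃ := by rw [hw2]; exact K₃.one_mem
    have h3 : Nat.card D ≤ 2 * Nat.card K₃ :=
      card_sup_zpowers_le K₃ w (p := 2) (by norm_num) h1 h2
    omega
  have hxD : x ∈ D := (le_sup_left : K₃ ≤ D) hxK₃
  have hyD : y ∈ D := (le_sup_left : K₃ ≤ D) hyK₃
  have hzD : z ∈ D := (le_sup_left : K₃ ≤ D) hzK₃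
  have hwD : w ∈ D := (le_sup_right : Subgroup.zpowers w ≤ D) (Subgroup.mem_zpowers w)
  let φ₁ : D →* X := (MonoidHom.fst X (GL (Fin 2) (ZMod 3))).comp D.subtype
  let φ₂ : D →* GL (Fin 2) (ZMod 3) := (MonoidHom.snd X (GL (Fin 2) (ZMod 3))).comp D.subtype
  have hs₁ : Function.Surjective φ₁ := by
    rw [← MonoidHom.range_eq_top, eq_top_iff, ← hgen, Subgroup.closure_le]
    rintro g (rfl | rfl | rfl | rfl)
    · exact ⟨⟨x, hxD⟩, rfl⟩
    · exact ⟨⟨y, hyD⟩, rfl⟩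
    · exact ⟨⟨z, hzD⟩, rfl⟩
    · exact ⟨⟨w, hwD⟩, rfl⟩
  have hs₂ : Function.Surjective φ₂ := by
    intro g
    obtain ⟨s, l, rfl⟩ := gl23_gen g
    obtain ⟨i, j, k, rfl⟩ := sl23_gen s
    exact ⟨⟨x ^ (i : ℕ) * y ^ (j : ℕ) * z ^ (k : ℕ) * w ^ l,
      D.mul_mem (D.mul_mem (D.mul_mem (D.pow_mem hxD _) (D.pow_mem hyD _)) (D.pow_mem hzD _))
        (D.pow_mem hwD _)⟩, by
        show gA ^ (i : ℕ) * gB ^ (j : ℕ) * gC ^ (k : ℕ) * gT ^ l = _
        rw [map_mul, map_mul, map_pow, map_pow, map_pow]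
        rfl⟩
  have hbij₁ : Function.Bijective φ₁ :=
    hs₁.bijective_of_nat_card_le (by rw [hX]; exact hD)
  have hbij₂ : Function.Bijective φ₂ :=
    hs₂.bijective_of_nat_card_le (by rw [card_gl23]; exact hD)
  exact ⟨(MulEquiv.ofBijective φ₁ hbij₁).symm.trans (MulEquiv.ofBijective φ₂ hbij₂)⟩

end Cfsg.Agent.Lib.helper59.GL23Rec
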