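import Mathlib

/-!
# S3928, piece BF (racing copy): Brauer–Fowler count for an involutory automorphism
-/

set_option autoImplicit false

namespace Cfsg.Agent.Lib.helper86.IV

open Finset

/-- BF (racing copy; verbatim statement of `iv_bf`). -/
theorem helper59_iv_bf {N : Type*} [Group N] [Finite N] (α : MulAut N) (h2 : ∀ g, α (α g) = g)
    (hne : ∃ g, α g ≠ g) :
    ∃ g : N, g ≠ 1 ∧ (Subgroup.centralizer {g}).index ≤ 2 * (Nat.card {c : N // α c = c}) ^ 2 := by
  classical
  haveI : Fintype N := Fintype.ofFinite N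
  -- the fixed subgroup
  let Fx : Subgroup N :=
    { carrier := {x | α x = x}
      mul_mem' := fun {a b} ha hb => by
        simp only [Set.mem_setOf_eq] at ha hb ⊢
        rw [map_mul, ha, hb]
      one_mem' := by simp
      inv_mem' := fun {a} ha => by
        simp only [Set.mem_setOf_eq] at ha ⊢
        rw [map_inv, ha] }
  have hmemFx : ∀ x : N, x ∈ Fx ↔ α x = x := fun x => Iff.rfl
  have hc : Nat.card {c : N // α c = c} = Nat.card Fx := rfl
  rw [hc]
  set c := Nat.card Fx with hcdef
  have hcF : c = (Finset.univ : Finset Fx).card := by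
    rw [hcdef, Nat.card_eq_fintype_card, Finset.card_univ]
  have hidx : 2 ≤ Fx.index := by
    have h1 : Fx.index ≠ 1 := by
      intro h
      rw [Subgroup.index_eq_one] at h
      obtain ⟨g, hg⟩ := hne
      have : g ∈ Fx := h ▸ Subgroup.mem_top g
      exact hg this
    have h0 : Fx.index ≠ 0 := Subgroup.index_ne_zero_of_finite
    omega
  have hN : Nat.card N = c * Fx.index := (Subgroup.card_mul_index Fx).symm
  have hNF : Nat.card N = (Finset.univ : Finset N).card := by
    rw [Nat.card_eq_fintype_card, Finset.card_univ]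
  by_contra hcon
  push_neg at hcon
  let κ : N → N := fun g => g * (α g)⁻¹
  let K : Finset N := Finset.univ.image κ
  have hκ : ∀ a g₀ : N, κ a = κ g₀ ↔ g₀⁻¹ * a ∈ Fx := by
    intro a g₀
    rw [hmemFx, map_mul, map_inv]
    constructor
    · intro h
      have h' : a * (α a)⁻¹ = g₀ * (α g₀)⁻¹ := h
      calc (α g₀)⁻¹ * α a = g₀⁻¹ * (g₀ * (α g₀)⁻¹) * α a := by group
        _ = g₀⁻¹ * (a * (α a)⁻¹) * α a := by rw [h']
        _ = g₀⁻¹ * a := by group
    · intro h
      show a * (α a)⁻¹ = g₀ * (α g₀)⁻¹
      calc a * (α a)⁻¹ = g₀ * (g₀⁻¹ * a) * (α a)⁻¹ := by group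
        _ = g₀ * ((α g₀)⁻¹ * α a) * (α a)⁻¹ := by rw [h]
        _ = g₀ * (α g₀)⁻¹ := by group
  -- fibres of κ have `c` elements
  have hfib : ∀ b ∈ K, (Finset.univ.filter (fun a => κ a = b)).card = c := by
    intro b hb
    obtain ⟨g₀, -, rfl⟩ := Finset.mem_image.1 hb
    have : Finset.univ.filter (fun a => κ a = κ g₀) =
        (Finset.univ : Finset Fx).image (fun x : Fx => g₀ * (x : N)) := by
      ext a
      simp only [Finset.mem_filter, Finset.mem_univ, true_and, Finset.mem_image]
      rw [hκ]
      constructor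
      · intro h
        exact ⟨⟨g₀⁻¹ * a, h⟩, by simp⟩
      · rintro ⟨x, rfl⟩
        simpa using x.2
    rw [this, Finset.card_image_of_injective, hcF]
    intro x y hxy
    exact Subtype.ext (mul_left_cancel hxy)
  have hK : K.card * c = Nat.card N := by
    rw [hNF, Finset.card_eq_sum_card_image κ Finset.univ, Finset.sum_congr rfl hfib,
      Finset.sum_const, smul_eq_mul]
  have hKinv : ∀ k ∈ K, α k = k⁻¹ := by
    intro k hk
    obtain ⟨g, -, rfl⟩ := Finset.mem_image.1 hk
    show α (g * (α g)⁻¹) = (g * (α g)⁻¹)⁻¹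
    rw [map_mul, map_inv, h2, mul_inv_rev, inv_inv]
  -- the pair count
  let Fc : N → ℕ := fun g => (K.filter (fun k => g * k ∈ K)).card
  have hsum : ∑ g : N, Fc g = K.card * K.card := by
    have h1 : ∀ g : N, Fc g = ∑ k ∈ K, if g * k ∈ K then 1 else 0 := by
      intro g
      exact Finset.card_filter _ _
    simp only [h1]
    rw [Finset.sum_comm]
    have h3 : ∀ k ∈ K, (∑ g : N, if g * k ∈ K then 1 else 0) = K.card := by
      intro k _
      rw [← Finset.card_filter]
      have : Finset.univ.filter (fun g : N => g * k ∈ K) = K.image (fun x => x * k⁻¹) := by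
        ext g
        simp only [Finset.mem_filter, Finset.mem_univ, true_and, Finset.mem_image]
        constructor
        · intro h
          exact ⟨g * k, h, by group⟩
        · rintro ⟨x, hx, rfl⟩
          simpa using hx
      rw [this, Finset.card_image_of_injective]
      intro x y hxy
      exact mul_right_cancel hxy
    rw [Finset.sum_congr rfl h3, Finset.sum_const, smul_eq_mul]
  have hF1 : Fc 1 = K.card := by
    show (K.filter (fun k => 1 * k ∈ K)).card = K.card
    congr 1
    ext k
    simp
  -- bound of the fibre by the centralizer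
  have hbound : ∀ g : N, Fc g ≤ Nat.card (Subgroup.centralizer ({g} : Set N)) := by
    intro g
    by_cases hemp : K.filter (fun k => g * k ∈ K) = ∅
    · show (K.filter (fun k => g * k ∈ K)).card ≤ _
      rw [hemp]
      simp
    · obtain ⟨k', hk'⟩ := Finset.nonempty_iff_ne_empty.2 hemp
      rw [Finset.mem_filter] at hk'
      have key : ∀ k ∈ K, g * k ∈ K → α g = k⁻¹ * g⁻¹ * k := by
        intro k hk hgk
        have e1 := hKinv k hk
        have e2 := hKinv (g * k) hgk
        rw [map_mul, e1, mul_inv_rev] at e2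
        calc α g = α g * k⁻¹ * k := by group
          _ = k⁻¹ * g⁻¹ * k := by rw [e2]
      have hk'g := key k' hk'.1 hk'.2
      have hcardC : Nat.card (Subgroup.centralizer ({g} : Set N)) =
          (Finset.univ.filter (fun x : N => x ∈ Subgroup.centralizer ({g} : Set N))).card := by
        rw [Nat.card_eq_fintype_card, Fintype.card_subtype]
      rw [hcardC]
      refine Finset.card_le_card_of_injOn (fun k => k * k'⁻¹) ?_ ?_
      · intro k hk
        have hk1 : k ∈ K ∧ g * k ∈ K := by simpa using hk
        have hkg := key k hk1.1 hk1.2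
        simp only [Finset.coe_filter, Finset.mem_univ, true_and, Set.mem_setOf_eq]
        rw [Subgroup.mem_centralizer_iff]
        intro h hh
        rw [Set.mem_singleton_iff] at hh
        subst hh
        have e : k⁻¹ * h⁻¹ * k = k'⁻¹ * h⁻¹ * k' := hkg.symm.trans hk'g
        have e3 : h⁻¹ * (k * k'⁻¹) = (k * k'⁻¹) * h⁻¹ := by
          calc h⁻¹ * (k * k'⁻¹) = k * (k⁻¹ * h⁻¹ * k) * k'⁻¹ := by group
            _ = k * (k'⁻¹ * h⁻¹ * k') * k'⁻¹ := by rw [e]
            _ = (k * k'⁻¹) * h⁻¹ := by group
        calc h * (k * k'⁻¹) = h * ((k * k'⁻¹) * h⁻¹) * h := by group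
          _ = h * (h⁻¹ * (k * k'⁻¹)) * h := by rw [e3]
          _ = k * k'⁻¹ * h := by group
      · intro x _ y _ hxy
        exact mul_right_cancel hxy
  -- each nontrivial element contributes little
  have hsmall : ∀ g : N, g ≠ 1 → Fc g * (2 * c ^ 2) ≤ Nat.card N - 1 := by
    intro g hg
    have h1 := hcon g hg
    have h3 := Subgroup.card_mul_index (Subgroup.centralizer ({g} : Set N))
    have h4 := hbound g
    have hpos : 0 < Nat.card (Subgroup.centralizer ({g} : Set N)) := Nat.card_pos
    have h5 : Nat.card (Subgroup.centralizer ({g} : Set N)) * (2 * c ^ 2) <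
        Nat.card (Subgroup.centralizer ({g} : Set N)) *
          (Subgroup.centralizer ({g} : Set N)).index :=
      Nat.mul_lt_mul_of_pos_left h1 hpos
    rw [h3] at h5
    have h6 : Fc g * (2 * c ^ 2) ≤
        Nat.card (Subgroup.centralizer ({g} : Set N)) * (2 * c ^ 2) :=
      Nat.mul_le_mul_right _ h4
    omega
  -- sum up
  have htot : K.card * K.card * (2 * c ^ 2) ≤
      K.card * (2 * c ^ 2) + (Nat.card N - 1) * (Nat.card N - 1) := by
    rw [← hsum, Finset.sum_mul, ← Finset.add_sum_erase Finset.univ _ (Finset.mem_univ (1 : N)),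
      hF1]
    refine Nat.add_le_add_left ?_ _
    calc ∑ g ∈ Finset.univ.erase (1 : N), Fc g * (2 * c ^ 2)
        ≤ ∑ _g ∈ Finset.univ.erase (1 : N), (Nat.card N - 1) := by
          refine Finset.sum_le_sum fun g hg => ?_
          exact hsmall g (Finset.ne_of_mem_erase hg)
      _ = (Nat.card N - 1) * (Nat.card N - 1) := by
          rw [Finset.sum_const, Finset.card_erase_of_mem (Finset.mem_univ _), ← hNF, smul_eq_mul]
  -- arithmetic contradiction
  have hn1 : 1 ≤ Nat.card N := Nat.card_pos
  have h2c : 2 * c ≤ Nat.card N := by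
    rw [hN]
    calc 2 * c = c * 2 := by ring
      _ ≤ c * Fx.index := Nat.mul_le_mul_left _ hidx
  set n := Nat.card N with hn
  set k := K.card with hk
  have e1 : k * k * (2 * c ^ 2) = 2 * n * n := by
    rw [← hK]; ring
  have e2 : k * (2 * c ^ 2) = n * (2 * c) := by
    rw [← hK]; ring
  rw [e1, e2] at htot
  have e3 : n * (2 * c) ≤ n * n := Nat.mul_le_mul_left _ h2c
  obtain ⟨m, hm⟩ : ∃ m, n = m + 1 := ⟨n - 1, by omega⟩
  rw [hm] at htot e3
  simp only [Nat.add_sub_cancel] at htot
  nlinarith

end Cfsg.Agent.Lib.helper86.IV
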