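import Mathlib
import Cfsg.Agent.S3224
import Cfsg.Agent.S3225
import Cfsg.Agent.Lib.helper4.KleinGT
import Cfsg.Agent.Lib.helper11.SmallSimple

/-!
# A Klein four-group that is a normal Sylow `2`-subgroup of an involution centralizer (helper59)

Group-theoretic part of the characterization of `A₅`: if `G` is simple, `x` an involution and
`S₀ ≤ C_G(x)` a Klein four-group, normal of odd index in `C_G(x)`, then `S₀` is a Sylow
`2`-subgroup of `G`, `C_G(x) = C_G(S₀)` and `|N_G(S₀)| = 3 |C_G(S₀)|`.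
-/

set_option autoImplicit false
set_option linter.unusedSectionVars false
set_option linter.style.haveILetI false
set_option linter.unusedVariables false

namespace Cfsg.Agent.Lib.helper59.KA5

variable {G : Type*} [Group G] [Finite G]

/-- `2`-elements lie in every normal subgroup of odd index. -/
theorem mem_of_normal_of_odd_index (N : Subgroup G) [N.Normal] (hodd : ¬ 2 ∣ N.index) (y : G)
    (k : ℕ) (hy : y ^ (2 ^ k) = 1) : y ∈ N := by
  have h1 : y ^ N.index ∈ N := Subgroup.pow_index_mem N y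
  have hcop : N.index.Coprime (orderOf y) := by
    have hdvd : orderOf y ∣ 2 ^ k := orderOf_dvd_of_pow_eq_one hy
    have h2 : Nat.Coprime 2 N.index := (Nat.Prime.coprime_iff_not_dvd Nat.prime_two).mpr hodd
    exact Nat.Coprime.coprime_dvd_right hdvd (Nat.Coprime.pow_right k h2.symm)
  obtain ⟨m, hm⟩ := exists_pow_eq_self_of_coprime hcop
  rw [← hm]
  exact pow_mem h1 m

theorem card_mul_relIndex_of_le {H K : Subgroup G} (hle : H ≤ K) :
    Nat.card H * H.relIndex K = Nat.card K := by
  have h1 := Subgroup.card_mul_index (H.subgroupOf K)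
  rw [Nat.card_congr (Subgroup.subgroupOfEquivOfLe hle).toEquiv] at h1
  exact h1

/-- The setting: an involution `x`, a Klein four-group `S₀ ≤ C_G(x)` which is normal of odd
index in `C_G(x)`. -/
structure Setting (x : G) (S₀ : Subgroup G) : Prop where
  hx : orderOf x = 2
  hle : S₀ ≤ Subgroup.centralizer ({x} : Set G)
  hK : IsKleinFour ↥S₀
  hodd : ¬ 2 ∣ S₀.relIndex (Subgroup.centralizer ({x} : Set G))
  hn : (S₀.subgroupOf (Subgroup.centralizer ({x} : Set G))).Normal

namespace Setting

variable {x : G} {S₀ : Subgroup G} (h : Setting x S₀)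
include h

theorem two_elt_mem {y : G} (hy : y ∈ Subgroup.centralizer ({x} : Set G)) (k : ℕ)
    (hyk : y ^ (2 ^ k) = 1) : y ∈ S₀ := by
  haveI := h.hn
  have h1 := mem_of_normal_of_odd_index (S₀.subgroupOf (Subgroup.centralizer ({x} : Set G)))
    h.hodd ⟨y, hy⟩ k (by ext; simpa using hyk)
  exact Subgroup.mem_subgroupOf.mp h1

theorem x_mem_cent : x ∈ Subgroup.centralizer ({x} : Set G) := by
  rw [Subgroup.mem_centralizer_iff]
  intro y hy
  rw [Set.mem_singleton_iff] at hy
  rw [hy]

theorem x_mem : x ∈ S₀ := by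
  refine h.two_elt_mem h.x_mem_cent 1 ?_
  rw [pow_one, ← h.hx]
  exact pow_orderOf_eq_one x

theorem card_S₀ : Nat.card S₀ = 4 := h.hK.card_four

theorem sq_eq_one {s : G} (hs : s ∈ S₀) : s * s = 1 := by
  haveI := h.hK
  have h1 : (⟨s, hs⟩ : S₀) * ⟨s, hs⟩ = 1 := IsKleinFour.mul_self _
  exact congrArg Subtype.val h1

theorem comm {s t : G} (hs : s ∈ S₀) (ht : t ∈ S₀) : s * t = t * s := by
  haveI := h.hK
  haveI : IsMulCommutative ↥S₀ := IsKleinFour.isMulCommutative
  have h1 : (⟨s, hs⟩ : S₀) * ⟨t, ht⟩ = ⟨t, ht⟩ * ⟨s, hs⟩ := mul_comm' _ _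
  exact congrArg Subtype.val h1

theorem isPGroup : IsPGroup 2 ↥S₀ := by
  haveI : Fact (Nat.Prime 2) := ⟨Nat.prime_two⟩
  exact IsPGroup.of_card (n := 2) (by rw [h.card_S₀]; norm_num)

theorem four_dvd_card : 4 ∣ Nat.card G := by
  rw [← h.card_S₀]
  exact Subgroup.card_subgroup_dvd_card S₀

theorem no_index_two [IsSimpleGroup G] (H : Subgroup G) : H.index ≠ 2 := by
  intro hH
  have h4 := h.four_dvd_card
  haveI := Subgroup.normal_of_index_eq_two hH
  rcases Subgroup.Normal.eq_bot_or_eq_top (inferInstance : H.Normal) with h0 | h0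
  · rw [h0, Subgroup.index_bot] at hH
    omega
  · rw [h0, Subgroup.index_top] at hH
    omega

/-- A cyclic subgroup of index `2` of a Sylow `2`-subgroup containing `S₀` has order at most
`2` (Thompson transfer). -/
theorem sq_of_cyclic_index_two [IsSimpleGroup G] (S : Sylow 2 G) (hS : S₀ ≤ S) (a : G)
    (ha : a ∈ (S : Subgroup G)) (hcard : Nat.card (S : Subgroup G) = 2 * orderOf a) :
    a * a = 1 := by
  have h4 := h.four_dvd_card
  have hev : Even (Nat.card G) := by
    rw [even_iff_two_dvd]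
    omega
  have hMS : Subgroup.zpowers a ≤ (S : Subgroup G) := (Subgroup.zpowers_le).mpr ha
  have hM : (Subgroup.zpowers a).relIndex (S : Subgroup G) = 2 := by
    have h1 := card_mul_relIndex_of_le hMS
    rw [Nat.card_zpowers, hcard] at h1
    have h2 : 0 < orderOf a := orderOf_pos a
    have h3 : orderOf a * (Subgroup.zpowers a).relIndex (S : Subgroup G) = orderOf a * 2 := by
      rw [h1]
      ring
    exact Nat.eq_of_mul_eq_mul_left h2 h3
  obtain ⟨g, hg⟩ := Cfsg.Agent.S3225.result hev h.no_index_two S (Subgroup.zpowers a) hMS hM 1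
    le_rfl (fun y hy hyM => by
      have hy1 : y ≠ 1 := by
        rintro rfl
        exact hyM (one_mem _)
      have h1 : orderOf y ≠ 1 := fun h1 => hy1 (orderOf_eq_one_iff.mp h1)
      have h2 : 0 < orderOf y := orderOf_pos y
      simp only [Nat.sub_self, pow_zero]
      omega) x (hS h.x_mem) (by rw [h.hx]; norm_num)
  have hc : a * (g * x * g⁻¹) = (g * x * g⁻¹) * a := by
    obtain ⟨k, hk⟩ := Subgroup.mem_zpowers_iff.mp hg
    rw [← hk]
    exact ((Commute.refl a).zpow_right k).eq
  have hb : g⁻¹ * a * g ∈ Subgroup.centralizer ({x} : Set G) := by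
    rw [Subgroup.mem_centralizer_iff]
    intro y hy
    rw [Set.mem_singleton_iff] at hy
    subst hy
    have e1 : y * (g⁻¹ * a * g) = g⁻¹ * ((g * y * g⁻¹) * a) * g := by group
    have e2 : g⁻¹ * a * g * y = g⁻¹ * (a * (g * y * g⁻¹)) * g := by group
    rw [e1, e2, hc]
  obtain ⟨k, hk⟩ := S.isPGroup' ⟨a, ha⟩
  have hk' : a ^ (2 ^ k) = 1 := by
    have := congrArg Subtype.val hk
    simpa using this
  have hbS : g⁻¹ * a * g ∈ S₀ := h.two_elt_mem hb k (by
    have e1 : (g⁻¹ * a * g) ^ (2 ^ k) = g⁻¹ * a ^ (2 ^ k) * g := by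
      have := conj_pow (a := g⁻¹) (b := a) (i := 2 ^ k)
      simpa using this
    rw [e1, hk']
    group)
  have h1 := h.sq_eq_one hbS
  have e3 : a * a = g * ((g⁻¹ * a * g) * (g⁻¹ * a * g)) * g⁻¹ := by group
  rw [e3, h1]
  group

/-- `S₀` is a Sylow `2`-subgroup of `G`. -/
theorem card_sylow [IsSimpleGroup G] (S : Sylow 2 G) (hS : S₀ ≤ S) :
    Nat.card (S : Subgroup G) = 4 := by
  have hxS : x ∈ (S : Subgroup G) := hS h.x_mem
  have h4 : 4 ∣ Nat.card (S : Subgroup G) := by
    rw [← h.card_S₀]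
    exact Subgroup.card_dvd_of_le hS
  have hpos : 0 < Nat.card (S : Subgroup G) := Nat.card_pos
  have key : ∀ a : G, a ∈ (S : Subgroup G) → Nat.card (S : Subgroup G) = 2 * orderOf a →
      Nat.card (S : Subgroup G) = 4 := by
    intro a ha hc
    have h1 := h.sq_of_cyclic_index_two S hS a ha hc
    have h2 : orderOf a ∣ 2 := orderOf_dvd_of_pow_eq_one (by rw [pow_two]; exact h1)
    have h3 : orderOf a ≤ 2 := Nat.le_of_dvd (by norm_num) h2
    obtain ⟨c, hc'⟩ := h4
    omega
  have hx' : orderOf (⟨x, hxS⟩ : (S : Subgroup G)) = 2 := by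
    rw [Subgroup.orderOf_mk]
    exact h.hx
  have hC : Nat.card ↥(Subgroup.centralizer
      ({(⟨x, hxS⟩ : (S : Subgroup G))} : Set (S : Subgroup G))) = 4 := by
    rw [← h.card_S₀]
    refine Nat.card_congr ⟨fun z => ⟨(z.1 : G), ?_⟩, fun s => ⟨⟨s.1, hS s.2⟩, ?_⟩,
      fun z => rfl, fun s => rfl⟩
    · obtain ⟨k, hk⟩ := S.isPGroup' z.1
      refine h.two_elt_mem ?_ k ?_
      · rw [Subgroup.mem_centralizer_iff]
        intro y hy
        rw [Set.mem_singleton_iff] at hy
        subst hy
        have := Subgroup.mem_centralizer_iff.mp z.2 ⟨y, hxS⟩ (Set.mem_singleton _)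
        exact congrArg Subtype.val this
      · have := congrArg Subtype.val hk
        simpa using this
    · rw [Subgroup.mem_centralizer_iff]
      intro y hy
      rw [Set.mem_singleton_iff] at hy
      subst hy
      apply Subtype.ext
      have := Subgroup.mem_centralizer_iff.mp (h.hle s.2) x (Set.mem_singleton _)
      exact this
  rcases Cfsg.Agent.S3224.result S.isPGroup' ⟨x, hxS⟩ hx' hC with
    ⟨n, ⟨e⟩⟩ | ⟨n, hn3, hc, x₁, y₁, hx₁, hy₁, hrel⟩ | h4'
  · refine key (e.symm (DihedralGroup.r 1) : (S : Subgroup G)) (SetLike.coe_mem _) ?_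
    rw [Subgroup.orderOf_coe, ← MulEquiv.orderOf_eq e, MulEquiv.apply_symm_apply,
      DihedralGroup.orderOf_r_one, Nat.card_congr e.toEquiv, DihedralGroup.nat_card]
  · refine key (x₁ : G) (SetLike.coe_mem _) ?_
    rw [Subgroup.orderOf_coe, hx₁, hc, pow_succ]
    ring
  · exact h4'

/-- There is a Sylow `2`-subgroup equal to `S₀`. -/
theorem exists_sylow [IsSimpleGroup G] : ∃ S : Sylow 2 G, (S : Subgroup G) = S₀ := by
  haveI : Fact (Nat.Prime 2) := ⟨Nat.prime_two⟩
  obtain ⟨S, hS⟩ := h.isPGroup.exists_le_sylow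
  refine ⟨S, (Subgroup.eq_of_le_of_card_ge hS ?_).symm⟩
  rw [h.card_sylow S hS, h.card_S₀]

theorem card_eq (S : Sylow 2 G) (hS : (S : Subgroup G) = S₀) :
    Nat.card G = 4 * (S : Subgroup G).index := by
  rw [← Subgroup.card_mul_index (S : Subgroup G), hS, h.card_S₀]

theorem x_ne_one : x ≠ 1 := by
  intro e
  have := h.hx
  rw [e, orderOf_one] at this
  omega

theorem no_normal_compl [IsSimpleGroup G] (S : Sylow 2 G) (hS : (S : Subgroup G) = S₀) :
    ¬ ∃ N : Subgroup G, N.Normal ∧ Nat.card N = (S : Subgroup G).index := by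
  rintro ⟨N, hN, hcard⟩
  have hG := h.card_eq S hS
  rcases hN.eq_bot_or_eq_top with h0 | h0
  · rw [h0, Subgroup.card_bot] at hcard
    rw [← hcard] at hG
    have htop : S₀ = ⊤ := Subgroup.eq_top_of_card_eq _ (by rw [h.card_S₀, hG])
    have hnorm : (Subgroup.zpowers x).Normal := by
      constructor
      intro n hn g
      have hg : g ∈ S₀ := htop ▸ Subgroup.mem_top g
      have hn' : n ∈ S₀ := htop ▸ Subgroup.mem_top n
      have : g * n * g⁻¹ = n := by
        rw [h.comm hg hn']
        group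
      rw [this]
      exact hn
    rcases hnorm.eq_bot_or_eq_top with h1 | h1
    · exact h.x_ne_one (Subgroup.zpowers_eq_bot.mp h1)
    · have : Nat.card (Subgroup.zpowers x) = Nat.card G := by rw [h1, Subgroup.card_top]
      rw [Nat.card_zpowers, h.hx, hG] at this
      omega
  · rw [h0, Subgroup.card_top] at hcard
    rw [hcard] at hG
    have : (S : Subgroup G).index ≠ 0 := Subgroup.index_ne_zero_of_finite
    omega

theorem conj_mem {c s : G} (hc : c ∈ Subgroup.centralizer ({x} : Set G)) (hs : s ∈ S₀) :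
    c * s * c⁻¹ ∈ S₀ := by
  have h1 := h.hn.conj_mem ⟨s, h.hle hs⟩ (Subgroup.mem_subgroupOf.mpr hs) ⟨c, hc⟩
  exact Subgroup.mem_subgroupOf.mp h1

theorem conj_x {c : G} (hc : c ∈ Subgroup.centralizer ({x} : Set G)) : c * x * c⁻¹ = x := by
  have := Subgroup.mem_centralizer_iff.mp hc x (Set.mem_singleton _)
  rw [← this]
  group

theorem cent_comm {c s : G} (hc : c ∈ Subgroup.centralizer ({x} : Set G)) (hs : s ∈ S₀) :
    c * s * c⁻¹ = s := by
  by_contra hne
  have hcx : c * x * c⁻¹ = x := h.conj_x hc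
  have hs1 : s ≠ 1 := by
    rintro rfl
    apply hne
    group
  have hsx : s ≠ x := by
    rintro rfl
    exact hne hcx
  obtain ⟨s', hs'⟩ : ∃ s' : G, s' = c * s * c⁻¹ := ⟨_, rfl⟩
  rw [← hs'] at hne
  have hs'S : s' ∈ S₀ := hs' ▸ h.conj_mem hc hs
  have hback : s = c⁻¹ * s' * c := by
    rw [hs']
    group
  have hs'1 : s' ≠ 1 := by
    intro e
    apply hs1
    rw [hback, e]
    group
  have hs'x : s' ≠ x := by
    intro e
    apply hsx
    rw [hback, e]
    have e2 : c⁻¹ * x * c = c⁻¹ * (c * x * c⁻¹) * c := by rw [hcx]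
    rw [e2]
    group
  haveI := h.hK
  have key : (⟨s', hs'S⟩ : S₀) = ⟨x, h.x_mem⟩ * ⟨s, hs⟩ :=
    IsKleinFour.eq_mul_of_ne_all (x := ⟨x, h.x_mem⟩) (y := ⟨s, hs⟩) (z := ⟨s', hs'S⟩)
      (fun e => h.x_ne_one (congrArg Subtype.val e)) (fun e => hs1 (congrArg Subtype.val e))
      (fun e => hsx (congrArg Subtype.val e).symm) (fun e => hs'1 (congrArg Subtype.val e))
      (fun e => hs'x (congrArg Subtype.val e)) (fun e => hne (congrArg Subtype.val e))
  have key' : s' = x * s := congrArg Subtype.val key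
  have h2 : Commute (c * c) s := by
    have e1 : c * s' * c⁻¹ = s := by
      have e3 : c * (x * s) * c⁻¹ = (c * x * c⁻¹) * (c * s * c⁻¹) := by group
      rw [key', e3, hcx, ← hs', key', ← mul_assoc, h.sq_eq_one h.x_mem, one_mul]
    have e4 : c * c * s = (c * s' * c⁻¹) * (c * c) := by
      rw [hs']
      group
    show c * c * s = s * (c * c)
    rw [e4, e1]
  obtain ⟨i, hi⟩ : ∃ i, S₀.relIndex (Subgroup.centralizer ({x} : Set G)) = 2 * i + 1 :=
    ⟨S₀.relIndex (Subgroup.centralizer ({x} : Set G)) / 2, by have := h.hodd; omega⟩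
  have hpow : c ^ (2 * i + 1) ∈ S₀ := by
    haveI := h.hn
    have h1 := Subgroup.pow_index_mem (S₀.subgroupOf (Subgroup.centralizer ({x} : Set G)))
      ⟨c, hc⟩
    rw [← hi]
    exact Subgroup.mem_subgroupOf.mp h1
  have hcomm1 : Commute (c ^ (2 * i + 1)) s := h.comm hpow hs
  have hcomm2 : Commute ((c * c) ^ i) s := h2.pow_left i
  have e : c ^ (2 * i + 1) = (c * c) ^ i * c := by rw [pow_succ, pow_mul, pow_two]
  rw [e] at hcomm1
  have hC : Commute (((c * c) ^ i)⁻¹ * ((c * c) ^ i * c)) s := hcomm2.inv_left.mul_left hcomm1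
  rw [inv_mul_cancel_left] at hC
  apply hne
  rw [hs', hC.eq]
  group

/-- `C_G(x) = C_G(S₀)`. -/
theorem cent_eq : Subgroup.centralizer ({x} : Set G) = Subgroup.centralizer (S₀ : Set G) := by
  apply le_antisymm
  · intro c hc
    rw [Subgroup.mem_centralizer_iff]
    intro s hs
    have h1 := h.cent_comm hc hs
    calc s * c = (c * s * c⁻¹) * c := by rw [h1]
      _ = c * s := by group
  · exact Subgroup.centralizer_le (Set.singleton_subset_iff.mpr h.x_mem)

/-- `|N_G(S₀)| = 3 |C_G(x)|`. -/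
theorem card_normalizer (S : Sylow 2 G) (hS : (S : Subgroup G) = S₀)
    (hone : ∀ s t : G, orderOf s = 2 → orderOf t = 2 → IsConj s t) :
    Nat.card (Subgroup.normalizer (S₀ : Set G)) =
      3 * Nat.card (Subgroup.centralizer ({x} : Set G)) := by
  classical
  letI act : MulAction ↥(Subgroup.normalizer (S₀ : Set G)) ↥S₀ :=
    { smul := fun n s => ⟨(n : G) * s * (n : G)⁻¹,
        (Subgroup.mem_normalizer_iff.mp n.2 s).mp s.2⟩
      one_smul := fun s => by
        apply Subtype.ext
        show ((1 : ↥(Subgroup.normalizer (S₀ : Set G))) : G) * s * _⁻¹ = s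
        simp
      mul_smul := fun a b s => by
        apply Subtype.ext
        show ((a * b : ↥(Subgroup.normalizer (S₀ : Set G))) : G) * s * _⁻¹ =
          (a : G) * ((b : G) * s * (b : G)⁻¹) * (a : G)⁻¹
        simp [mul_assoc] }
  have hsmul : ∀ (n : ↥(Subgroup.normalizer (S₀ : Set G))) (s : ↥S₀),
      ((n • s : ↥S₀) : G) = (n : G) * s * (n : G)⁻¹ := fun n s => rfl
  obtain ⟨x', hx'⟩ : ∃ x' : ↥S₀, (x' : G) = x := ⟨⟨x, h.x_mem⟩, rfl⟩
  have h1 := MulAction.index_stabilizer ↥(Subgroup.normalizer (S₀ : Set G)) x'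
  have h2 := Subgroup.card_mul_index (MulAction.stabilizer ↥(Subgroup.normalizer (S₀ : Set G)) x')
  have h3 : Nat.card (MulAction.stabilizer ↥(Subgroup.normalizer (S₀ : Set G)) x') =
      Nat.card (Subgroup.centralizer ({x} : Set G)) := by
    refine Nat.card_congr ⟨fun n => ⟨(n.1 : G), ?_⟩, fun c => ⟨⟨c.1, ?_⟩, ?_⟩,
      fun n => rfl, fun c => rfl⟩
    · have h5 := n.2
      rw [MulAction.mem_stabilizer_iff] at h5
      have e := congrArg Subtype.val h5
      rw [hsmul, hx'] at e
      rw [Subgroup.mem_centralizer_iff]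
      intro y hy
      rw [Set.mem_singleton_iff] at hy
      subst hy
      calc y * (n.1 : G) = ((n.1 : G) * y * (n.1 : G)⁻¹) * (n.1 : G) := by rw [e]
        _ = (n.1 : G) * y := by group
    · have h5 : c.1 ∈ Subgroup.centralizer (S₀ : Set G) := h.cent_eq ▸ c.2
      exact Subgroup.centralizer_le_normalizer _ h5
    · rw [MulAction.mem_stabilizer_iff]
      apply Subtype.ext
      rw [hsmul, hx']
      exact h.conj_x c.2
  have h4 : (MulAction.orbit ↥(Subgroup.normalizer (S₀ : Set G)) x').ncard = 3 := by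
    have h5 : MulAction.orbit ↥(Subgroup.normalizer (S₀ : Set G)) x' = ({1} : Set ↥S₀)ᶜ := by
      ext s
      simp only [Set.mem_compl_iff, Set.mem_singleton_iff]
      constructor
      · rintro ⟨n, rfl⟩ e
        have e' := congrArg Subtype.val e
        simp only [] at e'
        rw [hsmul, hx'] at e'
        apply h.x_ne_one
        have e2 : x = (n : G)⁻¹ * ((n : G) * x * (n : G)⁻¹) * (n : G) := by group
        rw [e2, e']
        simp
      · intro hs1
        have hs2 : orderOf (s : G) = 2 := by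
          refine orderOf_eq_prime ?_ ?_
          · rw [pow_two]
            exact h.sq_eq_one s.2
          · intro e
            exact hs1 (Subtype.ext e)
        obtain ⟨g, hg⟩ := isConj_iff.mp (hone (s : G) x hs2 h.hx)
        haveI : Fact (Nat.Prime 2) := ⟨Nat.prime_two⟩
        haveI hcomm : IsMulCommutative ↥S :=
          ⟨⟨fun a b => Subtype.ext (h.comm (hS ▸ a.2) (hS ▸ b.2))⟩⟩
        have hsg : g⁻¹ * x * g = s := by
          rw [← hg]
          group
        have hxS : x ∈ (S : Subgroup G) := hS ▸ h.x_mem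
        have hsS : (s : G) ∈ (S : Subgroup G) := hS ▸ s.2
        obtain ⟨n, hn, hn'⟩ := S.conj_eq_normalizer_conj_of_mem x g hxS
          (by rw [hsg]; exact hsS)
        have hn2 : n ∈ Subgroup.normalizer (S₀ : Set G) := by
          rw [← hS]
          exact hn
        refine ⟨⟨n⁻¹, inv_mem hn2⟩, ?_⟩
        apply Subtype.ext
        rw [hsmul, hx']
        simp only [inv_inv]
        rw [← hn', hsg]
    rw [h5, Set.ncard_compl, Set.ncard_singleton, h.card_S₀]
  rw [h4] at h1
  rw [h1, h3] at h2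
  rw [← h2]
  ring

end Setting

/-- A simple group acts faithfully on the cosets of a proper subgroup. -/
theorem toPermHom_injective_of_ne_top [IsSimpleGroup G] (N : Subgroup G) (hN : N ≠ ⊤) :
    Function.Injective (MulAction.toPermHom G (G ⧸ N)) := by
  rw [← MonoidHom.ker_eq_bot_iff, ← Subgroup.normalCore_eq_ker]
  rcases (Subgroup.normalCore_normal N).eq_bot_or_eq_top with h0 | h0
  · exact h0
  · exact absurd (top_le_iff.mp (h0 ▸ Subgroup.normalCore_le N)) hN

theorem card_dvd_factorial_index [IsSimpleGroup G] (N : Subgroup G) (hN : N ≠ ⊤) :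
    Nat.card G ∣ (N.index).factorial := by
  have hinj := toPermHom_injective_of_ne_top N hN
  have h1 : Nat.card G = Nat.card (MulAction.toPermHom G (G ⧸ N)).range :=
    Nat.card_congr (MonoidHom.ofInjective hinj).toEquiv
  rw [h1, Subgroup.index_eq_card, ← Nat.card_perm]
  exact Subgroup.card_subgroup_dvd_card _

/-- A non-cyclic simple group with a subgroup of index `5` and order divisible by `60` is `A₅`. -/
theorem iso_A5_of_index_five [IsSimpleGroup G] (hG : ¬ IsCyclic G) (N : Subgroup G)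
    (hN : N.index = 5) (h60 : 60 ∣ Nat.card G) : Nonempty (G ≃* alternatingGroup (Fin 5)) := by
  have hNt : N ≠ ⊤ := by
    rintro rfl
    rw [Subgroup.index_top] at hN
    omega
  have hinj := toPermHom_injective_of_ne_top N hNt
  have hc : Nat.card (G ⧸ N) = 5 := by
    rw [← Subgroup.index_eq_card]
    exact hN
  let e : (G ⧸ N) ≃ Fin 5 := Finite.equivFinOfCardEq hc
  let ψ : G →* Equiv.Perm (Fin 5) :=
    (e.permCongrHom : Equiv.Perm (G ⧸ N) →* Equiv.Perm (Fin 5)).comp
      (MulAction.toPermHom G (G ⧸ N))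
  have hψ : Function.Injective ψ := fun a b hab => hinj (e.permCongrHom.injective hab)
  have hA : Nat.card (alternatingGroup (Fin 5)) = 60 := by
    rw [nat_card_alternatingGroup]
    simp [Nat.factorial]
  have hle : Nat.card G ≤ 60 := by
    have hmem := Cfsg.Agent.Lib.helper11.mem_alternatingGroup_of_injective hG ψ hψ
    let θ : G →* alternatingGroup (Fin 5) := ψ.codRestrict _ hmem
    have hθ : Function.Injective θ := fun a b hab => hψ (congrArg Subtype.val hab)
    rw [← hA]
    exact Nat.card_le_card_of_injective θ hθ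
  have hcard : Nat.card G = 60 := by
    obtain ⟨k, hk⟩ := h60
    have : 0 < Nat.card G := Nat.card_pos
    omega
  exact Cfsg.Agent.Lib.helper11.nonempty_mulEquiv_alternatingGroup_five hcard

theorem not_cyclic [IsSimpleGroup G] {x : G} {S₀ : Subgroup G} (h : Setting x S₀) :
    ¬ IsCyclic G := by
  intro hc
  have hp := Cfsg.Agent.Lib.helper11.prime_card_of_simple_of_isCyclic hc
  have h4 := h.four_dvd_card
  have h2 : 2 ∣ Nat.card G := dvd_trans (by norm_num) h4
  have h3 := (Nat.prime_dvd_prime_iff_eq Nat.prime_two hp).mp h2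
  omega

/-- If the normalizer of `S₀` has index at most `5`, then `G ≅ A₅`. -/
theorem iso_A5_of_index_le [IsSimpleGroup G] {x : G} {S₀ : Subgroup G} (h : Setting x S₀)
    (S : Sylow 2 G) (hS : (S : Subgroup G) = S₀)
    (hone : ∀ s t : G, orderOf s = 2 → orderOf t = 2 → IsConj s t)
    (hm : (Subgroup.normalizer (S₀ : Set G)).index ≤ 5) :
    Nonempty (G ≃* alternatingGroup (Fin 5)) := by
  haveI : Fact (Nat.Prime 2) := ⟨Nat.prime_two⟩
  have h4 := h.four_dvd_card
  have hnc := h.no_normal_compl S hS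
  have hcard := h.card_eq S hS
  have hodd : ¬ 2 ∣ (S : Subgroup G).index := S.not_dvd_index
  have hdvd : (Subgroup.normalizer (S₀ : Set G)).index ∣ (S : Subgroup G).index := by
    rw [hS]
    exact Subgroup.index_dvd_of_le Subgroup.le_normalizer
  have hmodd : ¬ 2 ∣ (Subgroup.normalizer (S₀ : Set G)).index := fun h2 => hodd (dvd_trans h2 hdvd)
  have hNt : Subgroup.normalizer (S₀ : Set G) ≠ ⊤ := by
    intro htop
    have hnorm : S₀.Normal := Subgroup.normalizer_eq_top_iff.mp htop
    rcases hnorm.eq_bot_or_eq_top with h0 | h0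
    · have := h.card_S₀
      rw [h0, Subgroup.card_bot] at this
      omega
    · apply hnc
      refine ⟨⊥, Subgroup.normal_bot, ?_⟩
      rw [Subgroup.card_bot, hS, h0, Subgroup.index_top]
  have hm1 : (Subgroup.normalizer (S₀ : Set G)).index ≠ 1 := fun h1 =>
    hNt (Subgroup.index_eq_one.mp h1)
  have hm3 : (Subgroup.normalizer (S₀ : Set G)).index ≠ 3 := by
    intro h3
    have h5 := card_dvd_factorial_index _ hNt
    rw [h3] at h5
    have h6 : (4 : ℕ) ∣ Nat.factorial 3 := dvd_trans h4 h5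
    norm_num [Nat.factorial] at h6
  have hm0 : (Subgroup.normalizer (S₀ : Set G)).index ≠ 0 := Subgroup.index_ne_zero_of_finite
  have hm5 : (Subgroup.normalizer (S₀ : Set G)).index = 5 := by omega
  have hN := h.card_normalizer S hS hone
  have hmul := Subgroup.card_mul_index (Subgroup.normalizer (S₀ : Set G))
  rw [hm5, hN] at hmul
  refine iso_A5_of_index_five (not_cyclic h) _ hm5 ?_
  omega

end Cfsg.Agent.Lib.helper59.KA5
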