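import Mathlib

/-!
# Arithmetic for the Brauer order formula: the index of the normalizer is at most `5` (helper59)

With principal `2`-block degrees `1, x₂, x₃, x₄`, `1 + x₂ + ε x₃ - x₄ = 0`, `x₃ ≡ ε`,
`x₄ ≡ -1 (mod 4)`, the number `α = x₂ x₃ x₄ / ((x₂ + 1)(x₃ + ε)(x₄ - 1))` is at most `15/8`.
-/

set_option autoImplicit false

namespace Cfsg.Agent.Lib.helper59.KA5

theorem alpha_le (x₂ x₃ x₄ : ℕ) (ε : ℤ) (hε : ε = 1 ∨ ε = -1) (h2 : 2 ≤ x₂) (h3 : 2 ≤ x₃)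
    (h4 : 2 ≤ x₄) (hd3 : (4 : ℤ) ∣ (x₃ : ℤ) - ε) (hd4 : (4 : ℤ) ∣ (x₄ : ℤ) + 1)
    (hrel : (1 : ℤ) + x₂ + ε * x₃ - x₄ = 0) :
    0 < ((x₂ : ℤ) + 1) * (x₃ + ε) * (x₄ - 1) ∧
      8 * ((x₂ : ℤ) * x₃ * x₄) ≤ 15 * (((x₂ : ℤ) + 1) * (x₃ + ε) * (x₄ - 1)) := by
  obtain ⟨a, ha⟩ : ∃ a : ℤ, a = x₂ := ⟨_, rfl⟩
  obtain ⟨b, hb⟩ : ∃ b : ℤ, b = x₃ := ⟨_, rfl⟩
  obtain ⟨c, hc⟩ : ∃ c : ℤ, c = x₄ := ⟨_, rfl⟩
  have ha2 : 2 ≤ a := by rw [ha]; exact_mod_cast h2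
  have hb2 : 2 ≤ b := by rw [hb]; exact_mod_cast h3
  have hc2 : 2 ≤ c := by rw [hc]; exact_mod_cast h4
  rw [← ha, ← hb, ← hc] at hrel ⊢
  rw [← hb] at hd3
  rw [← hc] at hd4
  rcases hε with rfl | rfl
  · have hc' : c = 1 + a + b := by linarith
    subst hc'
    have e : (a + 1) * (b + 1) * (1 + a + b - 1) =
        a * b * (1 + a + b) + (a * a + a * b + b * b + (a + b)) := by ring
    have h5 : 0 ≤ a * b := mul_nonneg (by linarith) (by linarith)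
    have h6 : 0 ≤ a * a := mul_nonneg (by linarith) (by linarith)
    have h7 : 0 ≤ b * b := mul_nonneg (by linarith) (by linarith)
    have h8 : 0 ≤ a * b * (1 + a + b) := mul_nonneg h5 (by linarith)
    rw [e]
    constructor
    · linarith
    · linarith
  · have ha' : a = b + c - 1 := by linarith
    subst ha'
    obtain ⟨k, hk⟩ := hd3
    obtain ⟨l, hl⟩ := hd4
    have hb3 : 3 ≤ b := by omega
    have hc3 : 3 ≤ c := by omega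
    obtain ⟨s, hs⟩ : ∃ s : ℤ, b = 3 + s := ⟨b - 3, by ring⟩
    obtain ⟨t, ht⟩ : ∃ t : ℤ, c = 3 + t := ⟨c - 3, by ring⟩
    have hs0 : 0 ≤ s := by linarith
    have ht0 : 0 ≤ t := by linarith
    subst hs ht
    have hst : 0 ≤ s * t := mul_nonneg hs0 ht0
    constructor
    · have h5 : 0 < (3 + s + (3 + t) - 1 + 1) * (3 + s + -1) := mul_pos (by linarith) (by linarith)
      exact mul_pos h5 (by linarith)
    · have e : 15 * ((3 + s + (3 + t) - 1 + 1) * (3 + s + -1) * (3 + t - 1)) -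
          8 * ((3 + s + (3 + t) - 1) * (3 + s) * (3 + t)) =
          48 * (s + t) + 6 * ((s + t) * (s + t)) + 50 * (s * t) + 7 * ((s + t) * (s * t)) := by
        ring
      have h5 : 0 ≤ (s + t) * (s + t) := mul_nonneg (by linarith) (by linarith)
      have h6 : 0 ≤ (s + t) * (s * t) := mul_nonneg (by linarith) hst
      linarith

/-- The index `m` of the normalizer is at most `5`. -/
theorem arith_index (n c m x₂ x₃ x₄ : ℕ) (ε₁ ε₂ ε₃ : ℤ) (h1 : ε₁ = 1)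
    (hε : ε₂ = 1 ∨ ε₂ = -1) (h3' : ε₃ = -1) (h2 : 2 ≤ x₂) (h3 : 2 ≤ x₃) (h4 : 2 ≤ x₄)
    (hd3 : (4 : ℤ) ∣ (x₃ : ℤ) - ε₂) (hd4 : (4 : ℤ) ∣ (x₄ : ℤ) + 1)
    (hrel : (1 : ℤ) + x₂ + ε₂ * x₃ - x₄ = 0) (hc : 0 < c) (hn : n = 3 * c * m)
    (hform : (n : ℚ) = 8 * (((x₂ : ℚ) * x₃ * x₄) /
      ((x₂ + ε₁) * (x₃ + ε₂) * (x₄ + ε₃))) * (c : ℚ) ^ 3 / (c : ℚ) ^ 2) : m ≤ 5 := by
  subst h1 h3'
  obtain ⟨hD0, hD2⟩ := alpha_le x₂ x₃ x₄ ε₂ hε h2 h3 h4 hd3 hd4 hrel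
  obtain ⟨D, hD⟩ : ∃ D : ℚ, D = ((x₂ : ℚ) + 1) * (x₃ + ε₂) * (x₄ - 1) := ⟨_, rfl⟩
  obtain ⟨X, hX⟩ : ∃ X : ℚ, X = (x₂ : ℚ) * x₃ * x₄ := ⟨_, rfl⟩
  have hDpos : 0 < D := by
    rw [hD]
    exact_mod_cast hD0
  have hDle : 8 * X ≤ 15 * D := by
    rw [hD, hX]
    exact_mod_cast hD2
  have hcQ : (0 : ℚ) < c := by exact_mod_cast hc
  have e0 : ((x₂ : ℚ) + ((1 : ℤ) : ℚ)) * (x₃ + ε₂) * (x₄ + ((-1 : ℤ) : ℚ)) = D := by
    rw [hD]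
    push_cast
    ring
  have e1 : (n : ℚ) * D = 8 * X * c := by
    rw [hform, e0, ← hX]
    field_simp
  have hnQ : (n : ℚ) = 3 * c * m := by
    rw [hn]
    push_cast
    ring
  rw [hnQ] at e1
  have e2 : (c : ℚ) * (3 * m * D) = c * (8 * X) := by linarith
  have e3 : 3 * (m : ℚ) * D = 8 * X := mul_left_cancel₀ (ne_of_gt hcQ) e2
  have e4 : (m : ℚ) * D ≤ 5 * D := by linarith
  have e5 : (m : ℚ) ≤ 5 := le_of_mul_le_mul_right e4 hDpos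
  exact_mod_cast e5

end Cfsg.Agent.Lib.helper59.KA5
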