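import Mathlib
import Cfsg.Agent.S3919
import Cfsg.Agent.Lib.helper3.SylowLemmas
import Cfsg.Agent.Lib.helper59.MaxClass2

set_option autoImplicit false

/-!
# Growing `2`-groups of maximal class by index `2`

* `maxclass_alpha`: a group of order `2 ^ (N + 4)` containing `a` of order `2 ^ (N + 2)`,
  `b` not centralizing `a` with `b ^ 2 ∈ ⟨a⟩`, and `s` with `s ^ 2 ∈ ⟨a⟩ \ ⟨a ^ 2⟩` is dihedral,
  generalized quaternion or semidihedral (relations on `s` and `b` or `b * s`).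
* `maxclass_step`: if `M` of index `2` in `G` is dihedral, generalized quaternion or
  semidihedral and no quotient of `G` has an elementary abelian subgroup of order `8`, then
  `G` is again dihedral, generalized quaternion or semidihedral.
* `MaxRel K`, `maxrel_step`, `maxrel_of_nonabelian_eight`, `maxrel_top`: the same for subgroups
  of an ambient group of sectional `2`-rank at most `2`.
-/

namespace Cfsg.Agent.Lib.helper59

open Subgroup

universe u

theorem maxclass_alpha {G : Type*} [Group G] [Finite G] (N : ℕ) (hG : Nat.card G = 2 ^ (N + 4))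
    (a b s : G) (ha : orderOf a = 2 ^ (N + 2)) (hne : b * a * b⁻¹ ≠ a)
    (hb2 : b ^ 2 ∈ zpowers a) (hs2 : s ^ 2 ∈ zpowers a) (hs2' : s ^ 2 ∉ zpowers (a ^ 2)) :
    ∃ a' b' : G, orderOf a' = 2 ^ (N + 3) ∧ b' ∉ zpowers a' ∧
      ((b' ^ 2 = 1 ∧ b' * a' * b'⁻¹ = a'⁻¹) ∨
        (b' ^ 2 = a' ^ (2 ^ (N + 2)) ∧ b' * a' * b'⁻¹ = a'⁻¹) ∨
        (b' ^ 2 = 1 ∧ b' * a' * b'⁻¹ = a' ^ (2 ^ (N + 2) - 1))) := by
  have : Fact (Nat.Prime 2) := ⟨Nat.prime_two⟩
  have hapow : a ^ (2 ^ (N + 2)) = 1 := by rw [← ha]; exact pow_orderOf_eq_one a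
  have hapowZ : a ^ ((2 : ℤ) ^ (N + 2)) = 1 := by
    have e : ((2 : ℤ) ^ (N + 2)) = ((2 ^ (N + 2) : ℕ) : ℤ) := by push_cast; ring
    rw [e, zpow_natCast]; exact hapow
  obtain ⟨j, hj⟩ := mem_zpowers_iff.mp hs2
  have hjodd : ¬ (2 : ℤ) ∣ j := by
    rintro ⟨t, rfl⟩
    apply hs2'
    rw [← hj, zpow_mul, zpow_ofNat]
    exact zpow_mem (mem_zpowers _) t
  have hcop : IsCoprime j ((2 : ℤ) ^ (N + 2)) := by
    apply IsCoprime.pow_right
    rcases Int.even_or_odd' j with ⟨t, rfl | rfl⟩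
    · exact absurd ⟨t, rfl⟩ hjodd
    · exact ⟨1, -t, by ring⟩
  obtain ⟨u, v, huv⟩ := hcop
  have hau : a = s ^ (2 * u) := by
    have h1 : a ^ (u * j + v * (2 : ℤ) ^ (N + 2)) = a := by rw [huv, zpow_one]
    rw [zpow_add, mul_comm u j, zpow_mul, hj] at h1
    have h2 : a ^ (v * (2 : ℤ) ^ (N + 2)) = 1 := by
      rw [mul_comm, zpow_mul, hapowZ, one_zpow]
    rw [h2, mul_one] at h1
    rw [zpow_mul, zpow_ofNat]; exact h1.symm
  obtain ⟨z, hz⟩ : ∃ z : G, z = a ^ (2 ^ (N + 1)) := ⟨_, rfl⟩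
  have hz2 : z ^ 2 = 1 := by rw [hz, ← pow_mul, ← pow_succ]; exact hapow
  have hz1 : z ≠ 1 := by
    rw [hz]
    apply pow_ne_one_of_lt_orderOf (by positivity)
    rw [ha]; exact Nat.pow_lt_pow_right (by norm_num) (by omega)
  have hzo : orderOf z = 2 := orderOf_eq_prime hz2 hz1
  have hos : orderOf s = 2 ^ (N + 2 + 1) := by
    apply orderOf_eq_prime_pow
    · have h1 : s ^ (2 ^ (N + 2)) = z ^ j := by
        have e : s ^ (2 ^ (N + 2)) = (s ^ 2) ^ (2 ^ (N + 1)) := by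
          rw [← pow_mul]; congr 1; ring
        rw [e, ← hj, hz, ← zpow_natCast, ← zpow_natCast, ← zpow_mul, ← zpow_mul, mul_comm]
      rw [h1]
      intro h
      have h2 := orderOf_dvd_iff_zpow_eq_one.mpr h
      rw [hzo] at h2
      exact hjodd (by exact_mod_cast h2)
    · have e : s ^ (2 ^ (N + 2 + 1)) = (s ^ 2) ^ (2 ^ (N + 2)) := by
        rw [← pow_mul]; congr 1; ring
      rw [e, ← hj, ← zpow_natCast, ← zpow_mul, mul_comm, zpow_mul, zpow_natCast, hapow, one_zpow]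
  have haS : a ∈ zpowers s := by rw [hau]; exact zpow_mem (mem_zpowers s) _
  have hidx : (zpowers s).index = 2 := by
    have h1 := Subgroup.card_mul_index (zpowers s)
    rw [Nat.card_zpowers, hos, hG] at h1
    have h3 : (2 : ℕ) ^ (N + 4) = 2 ^ (N + 2 + 1) * 2 := by ring
    rw [h3] at h1
    exact Nat.eq_of_mul_eq_mul_left (by positivity) h1
  have hSn : (zpowers s).Normal := Subgroup.normal_of_index_eq_two hidx
  have hbS : b ∉ zpowers s := by
    intro hcon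
    apply hne
    obtain ⟨i, rfl⟩ := mem_zpowers_iff.mp hcon
    rw [hau, ← zpow_add, ← zpow_neg, ← zpow_add]
    congr 1; ring
  have hconj : b * s * b⁻¹ ∈ zpowers s := hSn.conj_mem s (mem_zpowers s) b
  have hb2S : b ^ 2 ∈ zpowers s := (zpowers_le.mpr haS) hb2
  have hcomm : b ^ 2 * s = s * b ^ 2 := by
    have := comm_zpow_of_mem_zpowers hb2S 1
    rwa [zpow_one] at this
  rcases conj_cyclic_two_pow (N + 2) s b hos hconj hcomm with h | h | h | h
  · exfalso; apply hne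
    rw [hau, ← conj_zpow, h]
  · exfalso; apply hne
    rw [hau, ← conj_zpow, h, ← zpow_natCast, ← zpow_mul]
    apply orderOf_dvd_sub_iff_zpow_eq_zpow.mp
    rw [hos]; push_cast
    exact ⟨u, by ring⟩
  · rcases sq_of_inverts (k := 2 ^ (N + 2)) (by rw [hos]; ring) hb2S h with h5 | h5
    · exact ⟨s, b, hos, hbS, Or.inl ⟨h5, h⟩⟩
    · exact ⟨s, b, hos, hbS, Or.inr (Or.inl ⟨h5, h⟩)⟩
  · rcases sq_eq_one_of_semidihedral (N := N) hos hb2S h with h5 | h5
    · exact ⟨s, b, hos, hbS, Or.inr (Or.inr ⟨h5, h⟩)⟩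
    · refine ⟨s, b * s, hos, ?_, Or.inr (Or.inr ⟨h5, ?_⟩)⟩
      · intro hcon; apply hbS
        have : b = (b * s) * s⁻¹ := by group
        rw [this]; exact mul_mem hcon (inv_mem (mem_zpowers s))
      · rw [← h]; group

theorem maxclass_step {G : Type*} [Group G] [Finite G] (M : Subgroup G) (hMi : M.index = 2)
    (N : ℕ) (a b : G) (haM : a ∈ M) (hbM : b ∈ M) (ha : orderOf a = 2 ^ (N + 2))
    (hM : Nat.card M = 2 ^ (N + 3)) (hb : b ∉ zpowers a)
    (hrel : (b ^ 2 = 1 ∧ b * a * b⁻¹ = a⁻¹) ∨ (b ^ 2 = a ^ (2 ^ (N + 1)) ∧ b * a * b⁻¹ = a⁻¹) ∨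
        (1 ≤ N ∧ b ^ 2 = 1 ∧ b * a * b⁻¹ = a ^ (2 ^ (N + 1) - 1)))
    (hrank : ∀ (Z : Subgroup G) [Z.Normal] (A : Subgroup (G ⧸ Z)), IsMulCommutative A →
      (∀ x ∈ A, x ^ 2 = 1) → Nat.card A ≤ 2 ^ 2) :
    ∃ a' b' : G, orderOf a' = 2 ^ (N + 3) ∧ b' ∉ zpowers a' ∧
      ((b' ^ 2 = 1 ∧ b' * a' * b'⁻¹ = a'⁻¹) ∨
        (b' ^ 2 = a' ^ (2 ^ (N + 2)) ∧ b' * a' * b'⁻¹ = a'⁻¹) ∨
        (b' ^ 2 = 1 ∧ b' * a' * b'⁻¹ = a' ^ (2 ^ (N + 2) - 1))) := by
  have : Fact (Nat.Prime 2) := ⟨Nat.prime_two⟩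
  have hMn : M.Normal := Subgroup.normal_of_index_eq_two hMi
  have hG : Nat.card G = 2 ^ (N + 4) := by
    have := Subgroup.card_mul_index M
    rw [hMi, hM] at this; rw [← this]; ring
  have hapow : a ^ (2 ^ (N + 2)) = 1 := by rw [← ha]; exact pow_orderOf_eq_one a
  obtain ⟨z, hz⟩ : ∃ z : G, z = a ^ (2 ^ (N + 1)) := ⟨_, rfl⟩
  have hz2 : z ^ 2 = 1 := by rw [hz, ← pow_mul, ← pow_succ]; exact hapow
  have hz1 : z ≠ 1 := by
    rw [hz]
    apply pow_ne_one_of_lt_orderOf (by positivity)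
    rw [ha]; exact Nat.pow_lt_pow_right (by norm_num) (by omega)
  have hAM : zpowers a ≤ M := zpowers_le.mpr haM
  -- the relations in uniform shape
  obtain ⟨ε, hε, h4, hbsq, hsq0⟩ : ∃ ε : ℤ, b * a * b⁻¹ = a ^ ε ∧ (4 : ℤ) ∣ ε + 1 ∧
      (∀ i : ℤ, (a ^ i * b) ^ 2 = 1 ∨ (a ^ i * b) ^ 2 = z) ∧
      (N = 0 → ∀ i : ℤ, (a ^ i * b) ^ 2 = b ^ 2) := by
    have hsqgen : ∀ (ε : ℤ), b * a * b⁻¹ = a ^ ε →
        ∀ i : ℤ, (a ^ i * b) ^ 2 = a ^ ((1 + ε) * i) * b ^ 2 := by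
      intro ε hε i
      have h1 : b * a ^ i * b⁻¹ = a ^ (ε * i) := conj_zpow_of_conj_eq hε i
      calc (a ^ i * b) ^ 2 = a ^ i * (b * a ^ i * b⁻¹) * b ^ 2 := by
            rw [pow_two, pow_two]; group
        _ = a ^ ((1 + ε) * i) * b ^ 2 := by rw [h1, ← zpow_add]; congr 2; ring
    rcases hrel with ⟨hb2, hinv⟩ | ⟨hb2, hinv⟩ | ⟨hN1, hb2, hsd⟩
    · have hε : b * a * b⁻¹ = a ^ (-1 : ℤ) := by rw [hinv, zpow_neg_one]
      refine ⟨-1, hε, by norm_num, fun i => ?_, fun _ i => ?_⟩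
      · left; rw [hsqgen _ hε i, hb2]; simp
      · rw [hsqgen _ hε i]; simp
    · have hε : b * a * b⁻¹ = a ^ (-1 : ℤ) := by rw [hinv, zpow_neg_one]
      refine ⟨-1, hε, by norm_num, fun i => ?_, fun _ i => ?_⟩
      · right; rw [hsqgen _ hε i, hb2, hz]; simp
      · rw [hsqgen _ hε i]; simp
    · have hε : b * a * b⁻¹ = a ^ ((2 : ℤ) ^ (N + 1) - 1) := by
        rw [hsd, ← zpow_natCast]; congr 1
        have : 1 ≤ 2 ^ (N + 1) := Nat.one_le_two_pow
        push_cast [this]; ring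
      refine ⟨2 ^ (N + 1) - 1, hε, ?_, fun i => ?_, fun h0 => by omega⟩
      · obtain ⟨N', rfl⟩ : ∃ N', N = N' + 1 := ⟨N - 1, by omega⟩
        exact ⟨2 ^ N', by ring⟩
      · rw [hsqgen _ hε i, hb2, mul_one]
        have h1 : a ^ ((1 + ((2 : ℤ) ^ (N + 1) - 1)) * i) = z ^ i := by
          rw [hz, ← zpow_natCast, ← zpow_mul]; congr 1; push_cast; ring
        rw [h1]
        exact zpow_of_sq_eq_one hz2 i
  have hne : b * a * b⁻¹ ≠ a := by
    intro h
    rw [hε] at h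
    have h1 : a ^ (ε - 1) = 1 := by rw [zpow_sub, h, zpow_one, mul_inv_cancel]
    rw [← orderOf_dvd_iff_zpow_eq_one, ha] at h1
    have h2 : (4 : ℤ) ∣ ε - 1 := dvd_trans ⟨2 ^ N, by push_cast; ring⟩ h1
    have h3 := dvd_sub h4 h2
    have e : ε + 1 - (ε - 1) = 2 := by ring
    rw [e] at h3
    omega
  have hb2A : b ^ 2 ∈ zpowers a := by
    have := hbsq 0
    rw [zpow_zero, one_mul] at this
    rcases this with h | h
    · rw [h]; exact one_mem _
    · rw [h, hz]; exact pow_mem (mem_zpowers a) _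
  -- elements of M
  have hidxA : ((zpowers a).subgroupOf M).index = 2 := by
    have h1 := Cfsg.Agent.Lib.helper3.card_mul_relIndex_of_le hAM
    rw [Nat.card_zpowers, ha, hM] at h1
    have e : (2 : ℕ) ^ (N + 3) = 2 ^ (N + 2) * 2 := by ring
    rw [e] at h1
    exact Nat.eq_of_mul_eq_mul_left (by positivity) h1
  have hform : ∀ x ∈ M, x ∉ zpowers a → ∃ i : ℤ, x = a ^ i * b := by
    intro x hx hxA
    have h1 := Subgroup.mul_mem_iff_of_index_two hidxA (a := (⟨x, hx⟩ : M))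
      (b := (⟨b⁻¹, inv_mem hbM⟩ : M))
    rw [Subgroup.mem_subgroupOf, Subgroup.mem_subgroupOf, Subgroup.mem_subgroupOf] at h1
    have h2 : x * b⁻¹ ∈ zpowers a := by
      apply h1.mpr
      constructor
      · intro h; exact absurd h hxA
      · intro h; exact absurd ((inv_mem_iff (x := b)).mp h) hb
    obtain ⟨i, hi⟩ := mem_zpowers_iff.mp h2
    exact ⟨i, by rw [hi]; group⟩
  -- squares of elements of M
  have hzZ : z ∈ zpowers (a ^ 2) := by
    rw [hz]
    have : a ^ (2 ^ (N + 1)) = (a ^ 2) ^ (2 ^ N) := by rw [← pow_mul]; congr 1; ring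
    rw [this]; exact pow_mem (mem_zpowers _) _
  have hsqM : ∀ x ∈ M, x ^ 2 ∈ zpowers (a ^ 2) := by
    intro x hx
    by_cases hxA : x ∈ zpowers a
    · obtain ⟨i, rfl⟩ := mem_zpowers_iff.mp hxA
      have : (a ^ i) ^ 2 = (a ^ 2) ^ i := by
        rw [← zpow_natCast (a ^ i) 2, ← zpow_mul, ← zpow_natCast a 2, ← zpow_mul, mul_comm]
      rw [this]; exact zpow_mem (mem_zpowers _) i
    · obtain ⟨i, rfl⟩ := hform x hx hxA
      rcases hbsq i with h | h
      · rw [h]; exact one_mem _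
      · rw [h]; exact hzZ
  -- ⟨a²⟩ is normal
  have hZn : (zpowers (a ^ 2)).Normal := by
    constructor
    intro x hx g
    obtain ⟨i, rfl⟩ := mem_zpowers_iff.mp hx
    have h1 : g * (a ^ 2) ^ i * g⁻¹ = ((g * a * g⁻¹) ^ 2) ^ i := by
      rw [← conj_zpow, ← conj_pow]
    rw [h1]
    exact zpow_mem (hsqM _ (hMn.conj_mem a haM g)) i
  -- an element whose square is outside ⟨a²⟩
  obtain ⟨s, hs⟩ : ∃ s : G, s ^ 2 ∉ zpowers (a ^ 2) := by
    by_contra hcon
    push Not at hcon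
    have hexp : ∀ q : G ⧸ zpowers (a ^ 2), q ^ 2 = 1 := by
      intro q
      obtain ⟨g, rfl⟩ := QuotientGroup.mk_surjective q
      rw [← QuotientGroup.mk_pow]
      exact (QuotientGroup.eq_one_iff _).mpr (hcon g)
    have hcommQ : ∀ x y : G ⧸ zpowers (a ^ 2), x * y = y * x := by
      intro x y
      have e1 : x⁻¹ = x := by rw [inv_eq_iff_mul_eq_one, ← pow_two]; exact hexp x
      have e2 : y⁻¹ = y := by rw [inv_eq_iff_mul_eq_one, ← pow_two]; exact hexp y
      have e3 : (x * y)⁻¹ = x * y := by rw [inv_eq_iff_mul_eq_one, ← pow_two]; exact hexp _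
      calc x * y = (x * y)⁻¹ := e3.symm
        _ = y⁻¹ * x⁻¹ := mul_inv_rev _ _
        _ = y * x := by rw [e1, e2]
    have h1 := hrank (zpowers (a ^ 2)) ⊤
      ⟨⟨fun x y => Subtype.ext (hcommQ x.1 y.1)⟩⟩ (fun q _ => hexp q)
    rw [Subgroup.card_top] at h1
    have h2 := Subgroup.card_eq_card_quotient_mul_card_subgroup (zpowers (a ^ 2))
    have ho : orderOf (a ^ 2) = 2 ^ (N + 1) := by
      rw [orderOf_pow_of_dvd (by norm_num) (by rw [ha]; exact dvd_pow_self 2 (by omega)), ha,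
        pow_succ]
      exact Nat.mul_div_cancel _ (by norm_num)
    rw [hG, Nat.card_zpowers, ho] at h2
    have e : (2 : ℕ) ^ (N + 4) = 8 * 2 ^ (N + 1) := by ring
    rw [e] at h2
    have h3 := Nat.eq_of_mul_eq_mul_right (by positivity) h2
    omega
  have hs2M : s ^ 2 ∈ M := Subgroup.sq_mem_of_index_two hMi s
  by_cases hsA : s ^ 2 ∈ zpowers a
  · exact maxclass_alpha N hG a b s ha hne hb2A hsA hs
  · obtain ⟨i, hi⟩ := hform _ hs2M hsA
    have hr2 : (s ^ 2) ^ 2 = 1 ∨ (s ^ 2) ^ 2 = z := by rw [hi]; exact hbsq i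
    have hract : (s ^ 2) * a * (s ^ 2)⁻¹ = a ^ ε := by
      rw [hi]
      calc a ^ i * b * a * (a ^ i * b)⁻¹ = a ^ i * (b * a * b⁻¹) * (a ^ i)⁻¹ := by group
        _ = a ^ i * a ^ ε * (a ^ i)⁻¹ := by rw [hε]
        _ = a ^ ε := by rw [← zpow_add, ← zpow_neg, ← zpow_add]; congr 1; ring
    by_cases hsa : s * a * s⁻¹ ∈ zpowers a
    · exfalso
      obtain ⟨k, hk⟩ := mem_zpowers_iff.mp hsa
      have e1 : s ^ 2 * a * (s ^ 2)⁻¹ = a ^ (k * k) := by
        calc s ^ 2 * a * (s ^ 2)⁻¹ = s * (s * a * s⁻¹) * s⁻¹ := by rw [pow_two]; group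
          _ = s * a ^ k * s⁻¹ := by rw [hk]
          _ = (s * a * s⁻¹) ^ k := by rw [conj_zpow]
          _ = (a ^ k) ^ k := by rw [hk]
          _ = a ^ (k * k) := by rw [zpow_mul]
      rw [hract] at e1
      have e2 : a ^ (k * k - ε) = 1 := by rw [zpow_sub, ← e1, mul_inv_cancel]
      rw [← orderOf_dvd_iff_zpow_eq_one, ha] at e2
      have e3 : (4 : ℤ) ∣ k * k - ε := dvd_trans ⟨2 ^ N, by push_cast; ring⟩ e2
      have e4 : (4 : ℤ) ∣ k * k + 1 := by
        have := dvd_add e3 h4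
        have e : k * k - ε + (ε + 1) = k * k + 1 := by ring
        rwa [e] at this
      rcases Int.even_or_odd' k with ⟨t, rfl | rfl⟩
      · have : (2 * t) * (2 * t) + 1 = 4 * (t * t) + 1 := by ring
        rw [this] at e4; omega
      · have : (2 * t + 1) * (2 * t + 1) + 1 = 4 * (t * t + t) + 2 := by ring
        rw [this] at e4; omega
    · -- then N = 0 and M is the quaternion group of order 8
      have hsaM : s * a * s⁻¹ ∈ M := hMn.conj_mem a haM s
      obtain ⟨i', hi'⟩ := hform _ hsaM hsa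
      have ha2 : a ^ 2 ≠ 1 := by
        apply pow_ne_one_of_lt_orderOf (by norm_num)
        rw [ha]
        calc 2 < 2 ^ 2 := by norm_num
          _ ≤ 2 ^ (N + 2) := Nat.pow_le_pow_right (by norm_num) (by omega)
      have hc2 : (s * a * s⁻¹) ^ 2 = z := by
        rcases (hi' ▸ hbsq i' : (s * a * s⁻¹) ^ 2 = 1 ∨ (s * a * s⁻¹) ^ 2 = z) with h | h
        · exfalso
          apply ha2
          rw [conj_pow] at h
          calc a ^ 2 = s⁻¹ * (s * a ^ 2 * s⁻¹) * s := by group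
            _ = 1 := by rw [h]; group
        · exact h
      have ha4 : a ^ 4 = 1 := by
        have h1 : (s * a * s⁻¹) ^ 4 = 1 := by
          have : (s * a * s⁻¹) ^ 4 = ((s * a * s⁻¹) ^ 2) ^ 2 := by rw [← pow_mul]
          rw [this, hc2, hz2]
        rw [conj_pow] at h1
        calc a ^ 4 = s⁻¹ * (s * a ^ 4 * s⁻¹) * s := by group
          _ = 1 := by rw [h1]; group
      have hN0 : N = 0 := by
        have h1 := orderOf_dvd_of_pow_eq_one ha4
        rw [ha] at h1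
        have h2 : 2 ^ (N + 2) ≤ 4 := Nat.le_of_dvd (by norm_num) h1
        by_contra hN
        have h3 : 2 ^ 3 ≤ 2 ^ (N + 2) := Nat.pow_le_pow_right (by norm_num) (by omega)
        omega
      subst hN0
      have hb2z : b ^ 2 = z := by
        rw [← hsq0 rfl i', ← hi']; exact hc2
      have hrz : (s ^ 2) ^ 2 = z := by
        rw [hi, hsq0 rfl i]; exact hb2z
      have hza : z = a ^ 2 := by rw [hz]; norm_num
      have hor : orderOf (s ^ 2) = 2 ^ (0 + 2) := by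
        apply orderOf_eq_prime_pow
        · rw [pow_one, hrz]; exact hz1
        · have : (s ^ 2) ^ 2 ^ (1 + 1) = ((s ^ 2) ^ 2) ^ 2 := by
            rw [show (2 : ℕ) ^ (1 + 1) = 2 * 2 by norm_num, pow_mul]
          rw [this, hrz, hz2]
      refine maxclass_alpha 0 hG (s ^ 2) a s hor ?_ ?_ (mem_zpowers _) ?_
      · intro h
        apply hne
        rw [hε, ← hract]
        have hc : a * s ^ 2 = s ^ 2 * a := by
          calc a * s ^ 2 = (a * s ^ 2 * a⁻¹) * a := by group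
            _ = s ^ 2 * a := by rw [h]
        rw [← hc, mul_inv_cancel_right]
      · rw [← hza, ← hrz]; exact pow_mem (mem_zpowers _) _
      · rw [hrz]
        intro hcon
        obtain ⟨t, ht⟩ := mem_zpowers_iff.mp hcon
        rcases zpow_of_sq_eq_one hz2 t with h | h
        · rw [h] at ht
          rw [← ht, one_pow] at hrz
          exact hz1 hrz.symm
        · rw [h] at ht
          rw [← ht, hz2] at hrz
          exact hz1 hrz.symm

section ambient

variable {S : Type*} [Group S]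

/-- The subgroup `K` is dihedral, generalized quaternion or semidihedral, by generators and
relations. -/
def MaxRel (K : Subgroup S) : Prop :=
  ∃ (N : ℕ) (a b : S), a ∈ K ∧ b ∈ K ∧ orderOf a = 2 ^ (N + 2) ∧ Nat.card K = 2 ^ (N + 3) ∧
    b ∉ zpowers a ∧
    ((b ^ 2 = 1 ∧ b * a * b⁻¹ = a⁻¹) ∨ (b ^ 2 = a ^ (2 ^ (N + 1)) ∧ b * a * b⁻¹ = a⁻¹) ∨
      (1 ≤ N ∧ b ^ 2 = 1 ∧ b * a * b⁻¹ = a ^ (2 ^ (N + 1) - 1)))

theorem maxrel_step [Finite S]
    (hr : ∀ (H : Subgroup S) (Z : Subgroup H) [Z.Normal] (A : Subgroup (H ⧸ Z)),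
      IsMulCommutative A → (∀ x ∈ A, x ^ 2 = 1) → Nat.card A ≤ 2 ^ 2)
    (K K₁ : Subgroup S) (hle : K ≤ K₁) (hcard : Nat.card K₁ = 2 * Nat.card K)
    (hK : MaxRel K) : MaxRel K₁ := by
  obtain ⟨N, a, b, haK, hbK, ha, hKc, hb, hrel⟩ := hK
  have hidx : (K.subgroupOf K₁).index = 2 := by
    have h1 := Cfsg.Agent.Lib.helper3.card_mul_relIndex_of_le hle
    rw [hcard] at h1
    have hpos : 0 < Nat.card K := Nat.card_pos
    have h2 : Nat.card K * K.relIndex K₁ = Nat.card K * 2 := by rw [h1]; ring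
    exact Nat.eq_of_mul_eq_mul_left hpos h2
  have hMc : Nat.card (K.subgroupOf K₁) = 2 ^ (N + 3) := by
    rw [Nat.card_congr (Subgroup.subgroupOfEquivOfLe hle).toEquiv, hKc]
  have hcoe_pow : ∀ (x : K₁) (n : ℕ), ((x ^ n : K₁) : S) = (x : S) ^ n := fun x n => rfl
  have hmk : ∀ (x y : K₁), (x : S) = (y : S) → x = y := fun x y h => Subtype.ext h
  obtain ⟨a', b', ha', hb', hrel'⟩ := maxclass_step (K.subgroupOf K₁) hidx N
    (⟨a, hle haK⟩ : K₁) ⟨b, hle hbK⟩ (by rw [Subgroup.mem_subgroupOf]; exact haK)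
    (by rw [Subgroup.mem_subgroupOf]; exact hbK)
    (by rw [← Subgroup.orderOf_coe]; exact ha) hMc
    (by
      intro hcon
      obtain ⟨i, hi⟩ := mem_zpowers_iff.mp hcon
      apply hb
      rw [mem_zpowers_iff]
      refine ⟨i, ?_⟩
      have := congrArg Subtype.val hi
      simpa using this)
    (by
      rcases hrel with ⟨h1, h2⟩ | ⟨h1, h2⟩ | ⟨h0, h1, h2⟩
      · exact Or.inl ⟨Subtype.ext (by simpa using h1), Subtype.ext (by simpa using h2)⟩
      · exact Or.inr (Or.inl ⟨Subtype.ext (by simpa using h1), Subtype.ext (by simpa using h2)⟩)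
      · exact Or.inr (Or.inr ⟨h0, Subtype.ext (by simpa using h1),
          Subtype.ext (by simpa using h2)⟩))
    (fun Z _ A hA hA2 => hr K₁ Z A hA hA2)
  refine ⟨N + 1, (a' : S), (b' : S), a'.2, b'.2, by rw [Subgroup.orderOf_coe]; exact ha',
    by rw [hcard, hKc]; ring, ?_, ?_⟩
  · intro hcon
    obtain ⟨i, hi⟩ := mem_zpowers_iff.mp hcon
    apply hb'
    rw [mem_zpowers_iff]
    exact ⟨i, Subtype.ext (by simpa using hi)⟩
  · rcases hrel' with ⟨h1, h2⟩ | ⟨h1, h2⟩ | ⟨h1, h2⟩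
    · refine Or.inl ⟨?_, ?_⟩
      · have := congrArg Subtype.val h1; simpa using this
      · have := congrArg Subtype.val h2; simpa using this
    · refine Or.inr (Or.inl ⟨?_, ?_⟩)
      · have := congrArg Subtype.val h1; simpa using this
      · have := congrArg Subtype.val h2; simpa using this
    · refine Or.inr (Or.inr ⟨by omega, ?_, ?_⟩)
      · have := congrArg Subtype.val h1; simpa using this
      · have := congrArg Subtype.val h2; simpa using this

theorem maxrel_of_nonabelian_eight [Finite S] (T : Subgroup S) (hT : Nat.card T = 8)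
    (hna : ∃ x y : T, x * y ≠ y * x) : MaxRel T := by
  have hT' : Nat.card T = 2 ^ (0 + 3) := by rw [hT]; norm_num
  have hP : IsPGroup 2 T := IsPGroup.of_card hT'
  have hnc : ¬ IsMulCommutative T := by
    intro h
    obtain ⟨x, y, hxy⟩ := hna
    exact hxy (h.is_comm.comm x y)
  obtain ⟨hi1, hi2⟩ := Cfsg.Agent.S3919.index_commutator_ne hP hnc
  have h2 := Subgroup.card_mul_index (commutator T)
  rw [hT] at h2
  have hidx : (commutator T).index = 4 := by
    have hdvd : (commutator T).index ∣ 2 ^ 3 := by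
      rw [show (2 : ℕ) ^ 3 = 8 by norm_num]; exact Dvd.intro_left _ h2
    obtain ⟨k, hk, hk2⟩ := (Nat.dvd_prime_pow Nat.prime_two).mp hdvd
    rw [hk2] at hi1 hi2 h2 ⊢
    interval_cases k
    · exact absurd rfl hi1
    · exact absurd rfl hi2
    · rfl
    · exfalso
      have hc1 : Nat.card (commutator T) = 1 := by omega
      have hbot : commutator T = ⊥ := Subgroup.card_eq_one.mp hc1
      obtain ⟨x, y, hxy⟩ := hna
      apply hxy
      have h3 := Cfsg.Agent.S0115.comm_mem_commutator x y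
      rw [hbot, Subgroup.mem_bot] at h3
      exact commutatorElement_eq_one_iff_mul_comm.mp h3
  obtain ⟨a, b, ha, hb, hrel⟩ := taussky_rel 0 hT' hidx
  refine ⟨0, (a : S), (b : S), a.2, b.2, by rw [Subgroup.orderOf_coe]; exact ha, hT', ?_, ?_⟩
  · intro hcon
    obtain ⟨i, hi⟩ := mem_zpowers_iff.mp hcon
    apply hb
    rw [mem_zpowers_iff]
    exact ⟨i, Subtype.ext (by simpa using hi)⟩
  · rcases hrel with ⟨h1, h2⟩ | ⟨h1, h2⟩ | ⟨h0, h1, h2⟩
    · refine Or.inl ⟨?_, ?_⟩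
      · have := congrArg Subtype.val h1; simpa using this
      · have := congrArg Subtype.val h2; simpa using this
    · refine Or.inr (Or.inl ⟨?_, ?_⟩)
      · have := congrArg Subtype.val h1; simpa using this
      · have := congrArg Subtype.val h2; simpa using this
    · omega

theorem maxrel_top [Finite S]
    (hr : ∀ (H : Subgroup S) (Z : Subgroup H) [Z.Normal] (A : Subgroup (H ⧸ Z)),
      IsMulCommutative A → (∀ x ∈ A, x ^ 2 = 1) → Nat.card A ≤ 2 ^ 2) :
    ∀ (d : ℕ) (K : Subgroup S), Nat.card S = Nat.card K * 2 ^ d → MaxRel K →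
      MaxRel (⊤ : Subgroup S) := by
  have : Fact (Nat.Prime 2) := ⟨Nat.prime_two⟩
  intro d
  induction d with
  | zero =>
    intro K hc hK
    have hKt : K = ⊤ := Subgroup.eq_top_of_card_eq K (by rw [hc]; simp)
    rwa [hKt] at hK
  | succ d ih =>
    intro K hc hK
    obtain ⟨N, a, b, haK, hbK, ha, hKc, hb, hrel⟩ := hK
    have hdvd : 2 ^ (N + 3 + 1) ∣ Nat.card S := by
      rw [hc, hKc]; exact ⟨2 ^ d, by ring⟩
    obtain ⟨K₁, hK₁c, hle⟩ := Sylow.exists_subgroup_card_pow_succ hdvd hKc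
    apply ih K₁ (by rw [hc, hK₁c, hKc]; ring)
    exact maxrel_step hr K K₁ hle (by rw [hK₁c, hKc]; ring)
      ⟨N, a, b, haK, hbK, ha, hKc, hb, hrel⟩

end ambient

end Cfsg.Agent.Lib.helper59
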