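import Mathlib

/-!
# A minimal idempotent of augmentation one (piece P3 of the S4427 plan)
-/

set_option autoImplicit false

namespace Cfsg.Agent.Lib.helper59

open Polynomial

theorem exists_min_idem {R B : Type*} [CommRing R] [IsDomain R] [IsLocalRing R] [Ring B]
    [Algebra R B] [Module.Free R B] [Module.Finite R B]
    (hsplit : ∀ f : R[X], f.Monic → ∃ f₁ f₂ : R[X], f = f₁ * f₂ ∧ IsCoprime f₁ f₂ ∧
      IsUnit (f₂.coeff 0) ∧ ∀ r : R, IsUnit r → f.IsRoot r → f₂.IsRoot r)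
    (ε : B →ₐ[R] R) (μ : B → ℕ)
    (hμ : ∀ ι κ : B, ι * ι = ι → κ * κ = κ → ι * κ = κ → κ * ι = κ →
      μ κ ≤ μ ι ∧ (μ κ = μ ι → κ = ι)) :
    ∃ ι : B, ι * ι = ι ∧ ε ι = 1 ∧ ∀ z : B, ι * z = z → z * ι = z → IsUnit (ε z) →
      ∃ w : B, ι * w = w ∧ w * ι = w ∧ z * w = ι := by
  classical
  -- choose ι with minimal μ
  have hex : ∃ n : ℕ, ∃ ι : B, ι * ι = ι ∧ ε ι = 1 ∧ μ ι = n :=
    ⟨μ 1, 1, by simp, by simp, rfl⟩
  obtain ⟨ι, hι, hει, hμι⟩ := Nat.find_spec hex
  have hmin : ∀ κ : B, κ * κ = κ → ε κ = 1 → μ ι ≤ μ κ := by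
    intro κ hκ hεκ
    rw [hμι]
    exact Nat.find_min' hex ⟨κ, hκ, hεκ, rfl⟩
  refine ⟨ι, hι, hει, ?_⟩
  intro z hιz hzι hεz
  -- the characteristic polynomial of left multiplication by z
  set f : R[X] := (Algebra.lmul R B z).charpoly with hf
  have hfm : f.Monic := LinearMap.charpoly_monic _
  have hfz : aeval z f = 0 := by
    have h1 : aeval (Algebra.lmul R B z) f = 0 := LinearMap.aeval_self_charpoly _
    rw [aeval_algHom_apply] at h1
    exact Algebra.lmul_injective (R := R) (A := B) (by rw [h1, map_zero])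
  obtain ⟨f₁, f₂, hff, hcop, hc0, hroot⟩ := hsplit f hfm
  obtain ⟨a, b, hab⟩ := hcop
  -- ε z is a unit root of f, hence of f₂
  have hεroot : f.IsRoot (ε z) := by
    have h2 : ε (aeval z f) = 0 := by rw [hfz, map_zero]
    rw [← aeval_algHom_apply] at h2
    rw [IsRoot, ← coe_aeval_eq_eval]
    exact h2
  have hf₂root : f₂.IsRoot (ε z) := hroot _ hεz hεroot
  -- the idempotent κ
  set κ : B := aeval z (a * f₁) with hκdef
  have hκ1 : κ + aeval z (b * f₂) = 1 := by
    rw [hκdef, ← map_add, hab, map_one]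
  have hκκ : κ * κ = κ := by
    have h3 : κ * aeval z (b * f₂) = 0 := by
      rw [hκdef, ← map_mul]
      have : a * f₁ * (b * f₂) = a * b * f := by rw [hff]; ring
      rw [this, map_mul, hfz, mul_zero]
    have h4 : κ * (κ + aeval z (b * f₂)) = κ := by rw [hκ1, mul_one]
    rw [mul_add, h3, add_zero] at h4
    exact h4
  have hεκ : ε κ = 1 := by
    have h5 : ε (aeval z (b * f₂)) = 0 := by
      rw [← aeval_algHom_apply, map_mul]
      have : aeval (ε z) f₂ = 0 := by
        rw [coe_aeval_eq_eval]; exact hf₂root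
      rw [this, mul_zero]
    have h6 : ε (κ + aeval z (b * f₂)) = 1 := by rw [hκ1, map_one]
    rw [map_add, h5, add_zero] at h6
    exact h6
  -- ι commutes with polynomials in z
  have hcz : Commute ι z := by
    show ι * z = z * ι
    rw [hιz, hzι]
  have hcomm : ∀ p : R[X], ι * aeval z p = aeval z p * ι := by
    intro p
    rw [aeval_eq_sum_range, Finset.mul_sum, Finset.sum_mul]
    refine Finset.sum_congr rfl fun i _ => ?_
    rw [mul_smul_comm, smul_mul_assoc, (hcz.pow_right i).eq]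
  -- ι * κ = ι by minimality
  have hικ : ι * κ = ι := by
    have hcκ : ι * κ = κ * ι := hcomm _
    have h7 : (ι * κ) * (ι * κ) = ι * κ := by
      calc (ι * κ) * (ι * κ) = ι * (κ * ι) * κ := by simp only [mul_assoc]
        _ = ι * (ι * κ) * κ := by rw [hcκ]
        _ = (ι * ι) * (κ * κ) := by simp only [mul_assoc]
        _ = ι * κ := by rw [hι, hκκ]
    have h8 : ε (ι * κ) = 1 := by rw [map_mul, hει, hεκ, mul_one]
    have h9 : ι * (ι * κ) = ι * κ := by rw [← mul_assoc, hι]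
    have h10 : (ι * κ) * ι = ι * κ := by rw [mul_assoc, ← hcκ, ← mul_assoc, hι]
    obtain ⟨hle, heq⟩ := hμ ι (ι * κ) hι h7 h9 h10
    exact heq (le_antisymm hle (hmin _ h7 h8))
  -- aeval z f₂ * ι = 0
  have hf₂ι : aeval z f₂ * ι = 0 := by
    have h11 : aeval z f₂ * κ = 0 := by
      rw [hκdef, ← map_mul]
      have : f₂ * (a * f₁) = a * f := by rw [hff]; ring
      rw [this, map_mul, hfz, mul_zero]
    calc aeval z f₂ * ι = aeval z f₂ * (ι * κ) := by rw [hικ]
      _ = aeval z f₂ * (κ * ι) := by rw [hcomm (a * f₁)]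
      _ = (aeval z f₂ * κ) * ι := by rw [mul_assoc]
      _ = 0 := by rw [h11, zero_mul]
  -- decompose f₂ = divX f₂ * X + C c₀
  obtain ⟨c, hc⟩ := hc0
  set h : B := aeval z (divX f₂) with hhdef
  have hf₂z : aeval z f₂ = h * z + (c : R) • (1 : B) := by
    conv_lhs => rw [← divX_mul_X_add f₂]
    rw [map_add, map_mul, aeval_X, aeval_C, Algebra.algebraMap_eq_smul_one, hc]
  have hhz : h * z = z * h := by
    have h12 : h * z = aeval z (divX f₂ * X) := by rw [map_mul, aeval_X]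
    have h13 : z * h = aeval z (X * divX f₂) := by rw [map_mul, aeval_X]
    rw [h12, h13, mul_comm]
  have hkey : h * z + (c : R) • ι = 0 := by
    have h14 : (h * z + (c : R) • (1 : B)) * ι = 0 := by rw [← hf₂z]; exact hf₂ι
    rw [add_mul, mul_assoc, hzι, smul_mul_assoc, one_mul] at h14
    exact h14
  have hhz' : h * z = -((c : R) • ι) := eq_neg_of_add_eq_zero_left hkey
  have hzw : z * ((-((c⁻¹ : Rˣ) : R)) • h) = ι := by
    rw [mul_smul_comm, ← hhz, hhz', smul_neg, neg_smul, neg_neg, smul_smul]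
    rw [← Units.val_mul, inv_mul_cancel, Units.val_one, one_smul]
  refine ⟨ι * ((-((c⁻¹ : Rˣ) : R)) • h) * ι, ?_, ?_, ?_⟩
  · rw [← mul_assoc, ← mul_assoc, hι]
  · rw [mul_assoc, hι]
  · rw [← mul_assoc, ← mul_assoc, hzι, hzw, hι]

end Cfsg.Agent.Lib.helper59
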