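import Mathlib

set_option autoImplicit false

/-!
Monomial `2 × 2` maps over a field: `dg a b : (x, y) ↦ (a x, b y)` and
`ad a b : (x, y) ↦ (b y, a x)` for units `a b`, with their multiplication table, and the
"chain step" lemma for automorphisms of odd order of a `2`-group.
-/

namespace Cfsg.Agent.Lib.helper59.Mono

section basic
variable {F : Type*} [Field F]

/-- The diagonal map `(x, y) ↦ (a x, b y)`. -/
def dg (a b : Fˣ) : (Fin 2 → F) ≃ₗ[F] (Fin 2 → F) where
  toFun v := ![(a : F) * v 0, (b : F) * v 1]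
  invFun v := ![((a⁻¹ : Fˣ) : F) * v 0, ((b⁻¹ : Fˣ) : F) * v 1]
  map_add' v w := by ext i; fin_cases i <;> simp [mul_add]
  map_smul' c v := by ext i; fin_cases i <;> simp [mul_left_comm]
  left_inv v := by ext i; fin_cases i <;> simp
  right_inv v := by ext i; fin_cases i <;> simp

/-- The antidiagonal map `(x, y) ↦ (b y, a x)`. -/
def ad (a b : Fˣ) : (Fin 2 → F) ≃ₗ[F] (Fin 2 → F) where
  toFun v := ![(b : F) * v 1, (a : F) * v 0]
  invFun v := ![((a⁻¹ : Fˣ) : F) * v 1, ((b⁻¹ : Fˣ) : F) * v 0]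
  map_add' v w := by ext i; fin_cases i <;> simp [mul_add]
  map_smul' c v := by ext i; fin_cases i <;> simp [mul_left_comm]
  left_inv v := by ext i; fin_cases i <;> simp
  right_inv v := by ext i; fin_cases i <;> simp

theorem dg_apply (a b : Fˣ) (v : Fin 2 → F) : dg a b v = ![(a : F) * v 0, (b : F) * v 1] := rfl

theorem ad_apply (a b : Fˣ) (v : Fin 2 → F) : ad a b v = ![(b : F) * v 1, (a : F) * v 0] := rfl

theorem dg_mul_dg (a b c d : Fˣ) : dg a b * dg c d = dg (a * c) (b * d) := by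
  ext v i; fin_cases i <;> simp [dg_apply, LinearEquiv.mul_apply, mul_assoc]

theorem dg_mul_ad (a b c d : Fˣ) : dg a b * ad c d = ad (b * c) (a * d) := by
  ext v i; fin_cases i <;> simp [dg_apply, ad_apply, LinearEquiv.mul_apply, mul_assoc]

theorem ad_mul_dg (a b c d : Fˣ) : ad a b * dg c d = ad (a * c) (b * d) := by
  ext v i; fin_cases i <;> simp [dg_apply, ad_apply, LinearEquiv.mul_apply, mul_assoc]

theorem ad_mul_ad (a b c d : Fˣ) : ad a b * ad c d = dg (b * c) (a * d) := by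
  ext v i; fin_cases i <;> simp [dg_apply, ad_apply, LinearEquiv.mul_apply, mul_assoc]

theorem dg_one_one : dg (1 : Fˣ) 1 = 1 := by
  ext v i; fin_cases i <;> simp [dg_apply]

theorem dg_inv (a b : Fˣ) : (dg a b)⁻¹ = dg a⁻¹ b⁻¹ := by
  rw [inv_eq_iff_mul_eq_one, dg_mul_dg]; simp [dg_one_one]

theorem ad_inv (a b : Fˣ) : (ad a b)⁻¹ = ad b⁻¹ a⁻¹ := by
  rw [inv_eq_iff_mul_eq_one, ad_mul_ad]; simp [dg_one_one]

theorem dg_pow (a b : Fˣ) (n : ℕ) : dg a b ^ n = dg (a ^ n) (b ^ n) := by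
  induction n with
  | zero => simp [dg_one_one]
  | succ n ih => rw [pow_succ, ih, dg_mul_dg, pow_succ, pow_succ]

theorem ad_sq (a b : Fˣ) : ad a b ^ 2 = dg (b * a) (a * b) := by
  rw [pow_two, ad_mul_ad]

theorem dg_inj {a b c d : Fˣ} : dg a b = dg c d ↔ a = c ∧ b = d := by
  constructor
  · intro h
    have h1 := congrArg (fun f : (Fin 2 → F) ≃ₗ[F] (Fin 2 → F) => f ![1, 0] 0) h
    have h2 := congrArg (fun f : (Fin 2 → F) ≃ₗ[F] (Fin 2 → F) => f ![0, 1] 1) h
    simp [dg_apply] at h1 h2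
    exact ⟨Units.ext h1, Units.ext h2⟩
  · rintro ⟨rfl, rfl⟩; rfl

theorem ad_inj {a b c d : Fˣ} : ad a b = ad c d ↔ a = c ∧ b = d := by
  constructor
  · intro h
    have h1 := congrArg (fun f : (Fin 2 → F) ≃ₗ[F] (Fin 2 → F) => f ![1, 0] 1) h
    have h2 := congrArg (fun f : (Fin 2 → F) ≃ₗ[F] (Fin 2 → F) => f ![0, 1] 0) h
    simp [ad_apply] at h1 h2
    exact ⟨Units.ext h1, Units.ext h2⟩
  · rintro ⟨rfl, rfl⟩; rfl

theorem dg_ne_ad (a b c d : Fˣ) : dg a b ≠ ad c d := by
  intro h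
  have h1 := congrArg (fun f : (Fin 2 → F) ≃ₗ[F] (Fin 2 → F) => f ![1, 0] 0) h
  simp [dg_apply, ad_apply] at h1

theorem dg_eq_one {a b : Fˣ} : dg a b = 1 ↔ a = 1 ∧ b = 1 := by
  rw [← dg_one_one, dg_inj]

theorem ad_ne_one (a b : Fˣ) : ad a b ≠ 1 := by
  rw [← dg_one_one]; exact fun h => dg_ne_ad _ _ _ _ h.symm

end basic

/-- **Chain step.** Let `α` be an automorphism of odd order of a `2`-group. If `α` maps the set
`M` into itself, fixes `N` pointwise, and any two elements of `M` outside `N` differ by an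
element of `N`, then `α` fixes `M` pointwise. -/
theorem chain_step {G : Type*} [Group G] (α : MulAut G) (o : ℕ) (ho : Odd o) (hα : α ^ o = 1)
    (K : ℕ) (hK : ∀ y : G, y ^ 2 ^ K = 1) (N M : Set G)
    (hM : ∀ x ∈ M, α x ∈ M) (hN : ∀ x ∈ N, α x = x)
    (hMN : ∀ x ∈ M, ∀ y ∈ M, x ∉ N → y ∉ N → x⁻¹ * y ∈ N) :
    ∀ x ∈ M, α x = x := by
  intro x hx
  by_cases hxN : x ∈ N
  · exact hN x hxN
  have h1 : α x ∉ N := by
    intro h
    have h2 := hN _ h
    have h3 : α x = x := α.injective h2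
    rw [h3] at h
    exact hxN h
  have hy := hMN x hx (α x) (hM x hx) hxN h1
  set y := x⁻¹ * α x with hy_def
  have hαy : α y = y := hN y hy
  have hpow : ∀ j : ℕ, (α ^ j) x = x * y ^ j := by
    intro j
    induction j with
    | zero => simp
    | succ j ih =>
      have hax : α x = x * y := by rw [hy_def]; group
      rw [pow_succ', MulAut.mul_apply, ih, map_mul, map_pow, hαy, pow_succ', hax, mul_assoc]
  have h2 := hpow o
  rw [hα] at h2
  have h3 : y ^ o = 1 := by
    have : x * y ^ o = x * 1 := by rw [mul_one]; exact h2.symm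
    exact mul_left_cancel this
  have h4 : orderOf y ∣ o := orderOf_dvd_of_pow_eq_one h3
  have h5 : orderOf y ∣ 2 ^ K := orderOf_dvd_of_pow_eq_one (hK y)
  have h6 : orderOf y = 1 := by
    have hcop : Nat.Coprime o (2 ^ K) := (Nat.Coprime.pow_right K (Nat.coprime_two_right.mpr ho))
    exact Nat.eq_one_of_dvd_coprimes hcop h4 h5
  have h7 : y = 1 := orderOf_eq_one_iff.mp h6
  rw [hy_def] at h7
  have : α x = x := by
    have := congrArg (fun t => x * t) h7
    simpa using this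
  exact this

/-- A finite group all of whose automorphisms of odd order are trivial has an automorphism
group that is a `2`-group. -/
theorem isPGroup_two_mulAut {G : Type*} [Group G] [Finite G]
    (h : ∀ (α : MulAut G) (o : ℕ), Odd o → α ^ o = 1 → α = 1) : IsPGroup 2 (MulAut G) := by
  intro α
  have hfin : orderOf α ≠ 0 := (orderOf_pos α).ne'
  obtain ⟨k, o, ho, hko⟩ := Nat.exists_eq_two_pow_mul_odd hfin
  refine ⟨k, ?_⟩
  apply h (α ^ 2 ^ k) o ho
  rw [← pow_mul, ← hko, pow_orderOf_eq_one]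

end Cfsg.Agent.Lib.helper59.Mono
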