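import Cfsg.Agent.Lib.helper59.Mono

set_option autoImplicit false

/-!
The monomial group `T = {dg a b, ad a b : a b = ± 1}` over `ZMod q`, `q = 2 ^ m + 1` prime:
every automorphism of odd order is trivial when `q ≠ 5`.
-/

namespace Cfsg.Agent.Lib.helper59.Mono

section sets
variable (G : Type*) [Group G]

/-- elements commuting with all squares -/
def Dset : Set G := {x | ∀ y : G, Commute x (y ^ 2)}
/-- elements of `Dset` killed by `N` -/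
def Eset (N : ℕ) : Set G := {x | x ∈ Dset G ∧ x ^ N = 1}
/-- squares of elements of `Dset` -/
def Sq : Set G := {x | ∃ y ∈ Dset G, x = y ^ 2}
/-- elements of `Sq` killed by `2 ^ k` -/
def Cset (k : ℕ) : Set G := {x | x ∈ Sq G ∧ x ^ 2 ^ k = 1}
/-- all squares -/
def Zs : Set G := {x | ∃ y : G, x = y ^ 2}
/-- elements commuting with all elements whose square is not one -/
def Cs : Set G := {x | ∀ y : G, y ^ 2 ≠ 1 → Commute x y}

variable {G}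

theorem Dset_map (α : MulAut G) {x : G} (hx : x ∈ Dset G) : α x ∈ Dset G := by
  intro y
  have h := (hx (α⁻¹ y)).map α
  rwa [map_pow, MulAut.apply_inv_self] at h

theorem Eset_map (α : MulAut G) (N : ℕ) {x : G} (hx : x ∈ Eset G N) : α x ∈ Eset G N :=
  ⟨Dset_map α hx.1, by rw [← map_pow, hx.2, map_one]⟩

theorem Sq_map (α : MulAut G) {x : G} (hx : x ∈ Sq G) : α x ∈ Sq G := by
  obtain ⟨y, hy, rfl⟩ := hx
  exact ⟨α y, Dset_map α hy, map_pow α y 2⟩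

theorem Cset_map (α : MulAut G) (k : ℕ) {x : G} (hx : x ∈ Cset G k) : α x ∈ Cset G k :=
  ⟨Sq_map α hx.1, by rw [← map_pow, hx.2, map_one]⟩

theorem Zs_map (α : MulAut G) {x : G} (hx : x ∈ Zs G) : α x ∈ Zs G := by
  obtain ⟨y, rfl⟩ := hx
  exact ⟨α y, map_pow α y 2⟩

theorem Cs_map (α : MulAut G) {x : G} (hx : x ∈ Cs G) : α x ∈ Cs G := by
  intro y hy
  have h1 : (α⁻¹ y) ^ 2 ≠ 1 := by
    intro h
    apply hy
    have := congrArg α h
    rwa [map_pow, MulAut.apply_inv_self, map_one] at this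
  have h := (hx (α⁻¹ y) h1).map α
  rwa [MulAut.apply_inv_self] at h

end sets

section mono
variable {F : Type*} [Field F]

/-- `T` is the group of monomial maps `dg a b`, `ad a b` with `a b = ± 1`. -/
def IsMono (T : Subgroup ((Fin 2 → F) ≃ₗ[F] (Fin 2 → F))) : Prop :=
  ∀ f, f ∈ T ↔ ∃ a b : Fˣ, (a * b = 1 ∨ a * b = -1) ∧ (f = dg a b ∨ f = ad a b)

variable {T : Subgroup ((Fin 2 → F) ≃ₗ[F] (Fin 2 → F))}

theorem IsMono.nf (hT : IsMono T) (x : T) : ∃ a b : Fˣ, (a * b = 1 ∨ a * b = -1) ∧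
    ((x : (Fin 2 → F) ≃ₗ[F] (Fin 2 → F)) = dg a b ∨
      (x : (Fin 2 → F) ≃ₗ[F] (Fin 2 → F)) = ad a b) :=
  (hT x).1 x.2

theorem IsMono.mkD (hT : IsMono T) (a b : Fˣ) (h : a * b = 1 ∨ a * b = -1) :
    ∃ x : T, (x : (Fin 2 → F) ≃ₗ[F] (Fin 2 → F)) = dg a b :=
  ⟨⟨dg a b, (hT _).2 ⟨a, b, h, Or.inl rfl⟩⟩, rfl⟩

theorem IsMono.mkA (hT : IsMono T) (a b : Fˣ) (h : a * b = 1 ∨ a * b = -1) :
    ∃ x : T, (x : (Fin 2 → F) ≃ₗ[F] (Fin 2 → F)) = ad a b :=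
  ⟨⟨ad a b, (hT _).2 ⟨a, b, h, Or.inr rfl⟩⟩, rfl⟩

theorem IsMono.sq_nf (hT : IsMono T) (y : T) :
    ∃ e f : Fˣ, ((y ^ 2 : T) : (Fin 2 → F) ≃ₗ[F] (Fin 2 → F)) = dg e f := by
  obtain ⟨a, b, -, h | h⟩ := hT.nf y
  · exact ⟨a ^ 2, b ^ 2, by rw [Subgroup.coe_pow, h, dg_pow]⟩
  · exact ⟨b * a, a * b, by rw [Subgroup.coe_pow, h, ad_sq]⟩

/-- diagonal elements lie in `Dset`. -/
theorem IsMono.dg_mem_Dset (hT : IsMono T) {x : T} {a b : Fˣ}
    (hx : (x : (Fin 2 → F) ≃ₗ[F] (Fin 2 → F)) = dg a b) : x ∈ Dset T := by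
  intro y
  obtain ⟨e, f, hy⟩ := hT.sq_nf y
  show x * y ^ 2 = y ^ 2 * x
  apply Subtype.ext
  rw [Subgroup.coe_mul, Subgroup.coe_mul, hx, hy, dg_mul_dg, dg_mul_dg, mul_comm a e,
    mul_comm b f]

theorem units_sq_eq_one {z : Fˣ} (h : z ^ 2 = 1) : z = 1 ∨ z = -1 := by
  have h1 : (z : F) ^ 2 = 1 := by rw [← Units.val_pow_eq_pow_val, h]; rfl
  rcases sq_eq_one_iff.mp h1 with h2 | h2
  · left; exact Units.ext h2
  · right; exact Units.ext (by rw [h2]; simp)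

end mono

section zmod
variable {q m : ℕ} [Fact q.Prime]
  {T : Subgroup ((Fin 2 → ZMod q) ≃ₗ[ZMod q] (Fin 2 → ZMod q))}

theorem units_pow (hq : q = 2 ^ m + 1) (a : (ZMod q)ˣ) : a ^ 2 ^ m = 1 := by
  have := ZMod.units_pow_card_sub_one_eq_one q a
  rwa [show q - 1 = 2 ^ m by rw [hq]; simp] at this

theorem neg_one_ne_one_units (hq : q = 2 ^ m + 1) (hm : 1 ≤ m) : (-1 : (ZMod q)ˣ) ≠ 1 := by
  intro h
  have h1 : ((-1 : (ZMod q)ˣ) : ZMod q) = 1 := by rw [h]; rfl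
  have h2 : ((2 : ℕ) : ZMod q) = 0 := by
    have : (-1 : ZMod q) = 1 := by simpa using h1
    have h3 : (1 : ZMod q) + 1 = 0 := by
      nth_rewrite 1 [← this]; ring
    push_cast; rw [← h3]; ring
  rw [ZMod.natCast_eq_zero_iff] at h2
  have h3 := Nat.le_of_dvd (by norm_num) h2
  have h4 : 2 ^ 1 ≤ 2 ^ m := Nat.pow_le_pow_right (by norm_num) hm
  omega

theorem exists_gen (hq : q = 2 ^ m + 1) :
    ∃ g : (ZMod q)ˣ, (∀ x, x ∈ Subgroup.zpowers g) ∧ orderOf g = 2 ^ m := by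
  obtain ⟨g, hg⟩ := IsCyclic.exists_generator (α := (ZMod q)ˣ)
  refine ⟨g, hg, ?_⟩
  rw [orderOf_eq_card_of_forall_mem_zpowers hg, Nat.card_eq_fintype_card, ZMod.card_units, hq]
  simp

theorem exists_pow_four_ne (hq : q = 2 ^ m + 1) (hm : 3 ≤ m) : ∃ g : (ZMod q)ˣ, g ^ 4 ≠ 1 := by
  obtain ⟨g, -, hg⟩ := exists_gen hq
  refine ⟨g, fun h => ?_⟩
  have h1 := orderOf_dvd_of_pow_eq_one h
  rw [hg] at h1
  have h2 : 2 ^ 3 ∣ 2 ^ m := pow_dvd_pow 2 hm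
  have := Nat.le_of_dvd (by norm_num) (h2.trans h1)
  omega

theorem exists_sqrt (hq : q = 2 ^ m + 1) (hm : 1 ≤ m) {a : (ZMod q)ˣ}
    (ha : a ^ 2 ^ (m - 1) = 1) : ∃ e : (ZMod q)ˣ, a = e * e := by
  obtain ⟨g, hgen, hg⟩ := exists_gen hq
  obtain ⟨j, rfl⟩ := Subgroup.mem_zpowers_iff.mp (hgen a)
  have h1 : g ^ (j * ((2 ^ (m - 1) : ℕ) : ℤ)) = 1 := by rw [zpow_mul, zpow_natCast]; exact ha
  have h2 := orderOf_dvd_iff_zpow_eq_one.mpr h1
  rw [hg] at h2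
  have h3 : (2 ^ m : ℕ) = 2 * 2 ^ (m - 1) := by rw [← pow_succ']; congr 1; omega
  rw [h3] at h2
  push_cast at h2
  have h4 : (2 : ℤ) ∣ j := by
    have hpos : (2 ^ (m - 1) : ℤ) ≠ 0 := by positivity
    exact Int.dvd_of_mul_dvd_mul_right hpos h2
  obtain ⟨i, rfl⟩ := h4
  exact ⟨g ^ i, by rw [← zpow_add]; congr 1; ring⟩

theorem IsMono.pow_eq_one (hT : IsMono T) (hq : q = 2 ^ m + 1) (y : T) :
    y ^ 2 ^ (m + 2) = 1 := by
  obtain ⟨e, f, hy⟩ := hT.sq_nf y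
  apply Subtype.ext
  rw [show 2 ^ (m + 2) = 2 * 2 ^ (m + 1) by ring, pow_mul, Subgroup.coe_pow, hy, dg_pow,
    Subgroup.coe_one, dg_eq_one]
  constructor <;> rw [pow_succ, pow_mul, units_pow hq, one_pow]

/-! ### The case `3 ≤ m` -/

theorem IsMono.ad_not_mem_Dset (hT : IsMono T) (hq : q = 2 ^ m + 1) (hm : 3 ≤ m) {x : T}
    {a b : (ZMod q)ˣ}
    (hx : (x : (Fin 2 → ZMod q) ≃ₗ[ZMod q] (Fin 2 → ZMod q)) = ad a b) : x ∉ Dset T := by
  intro h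
  obtain ⟨g, hg⟩ := exists_pow_four_ne hq hm
  obtain ⟨y, hy⟩ := hT.mkD g g⁻¹ (Or.inl (mul_inv_cancel g))
  have h0 : x * y ^ 2 = y ^ 2 * x := h y
  have h1 := congrArg Subtype.val h0
  rw [Subgroup.coe_mul, Subgroup.coe_mul, Subgroup.coe_pow, hx, hy, dg_pow, ad_mul_dg,
    dg_mul_ad, ad_inj] at h1
  apply hg
  have h2 := h1.1
  have h3 : g ^ 2 = g⁻¹ ^ 2 := by rw [mul_comm] at h2; exact mul_right_cancel h2
  have h4 : g ^ 4 = g ^ 2 * g ^ 2 := by rw [← pow_add]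
  rw [h4]
  nth_rewrite 2 [h3]
  rw [← mul_pow, mul_inv_cancel, one_pow]

theorem IsMono.nf_of_mem_Dset (hT : IsMono T) (hq : q = 2 ^ m + 1) (hm : 3 ≤ m) {x : T}
    (hx : x ∈ Dset T) : ∃ a b : (ZMod q)ˣ, (a * b = 1 ∨ a * b = -1) ∧
      (x : (Fin 2 → ZMod q) ≃ₗ[ZMod q] (Fin 2 → ZMod q)) = dg a b := by
  obtain ⟨a, b, hab, h | h⟩ := hT.nf x
  · exact ⟨a, b, hab, h⟩
  · exact absurd hx (hT.ad_not_mem_Dset hq hm h)

theorem IsMono.step_T_D (hT : IsMono T) (x y : T)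
    (hx : x ∉ Dset T) (hy : y ∉ Dset T) : x⁻¹ * y ∈ Dset T := by
  obtain ⟨a, b, -, h | h⟩ := hT.nf x
  · exact absurd (hT.dg_mem_Dset h) hx
  obtain ⟨c, d, -, h' | h'⟩ := hT.nf y
  · exact absurd (hT.dg_mem_Dset h') hy
  exact hT.dg_mem_Dset (a := a⁻¹ * c) (b := b⁻¹ * d)
    (by rw [Subgroup.coe_mul, Subgroup.coe_inv, h, h', ad_inv, ad_mul_ad])

theorem IsMono.step_D_E (hT : IsMono T) (hq : q = 2 ^ m + 1) (hm : 3 ≤ m) (x y : T)
    (hx : x ∈ Dset T) (hy : y ∈ Dset T) (hx' : x ∉ Eset T (2 ^ (m - 1)))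
    (hy' : y ∉ Eset T (2 ^ (m - 1))) : x⁻¹ * y ∈ Eset T (2 ^ (m - 1)) := by
  have hne := neg_one_ne_one_units hq (by omega : 1 ≤ m)
  have key : ∀ (z : T) (a b : (ZMod q)ˣ), (a * b = 1 ∨ a * b = -1) →
      (z : (Fin 2 → ZMod q) ≃ₗ[ZMod q] (Fin 2 → ZMod q)) = dg a b → z ∈ Dset T →
      z ∉ Eset T (2 ^ (m - 1)) → a ^ 2 ^ (m - 1) = -1 ∧ b ^ 2 ^ (m - 1) = -1 := by
    intro z a b hab hz hzD hzE
    have hN : (a * b) ^ 2 ^ (m - 1) = 1 := by
      have : 2 ^ (m - 1) = 2 * 2 ^ (m - 2) := by rw [← pow_succ']; congr 1; omega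
      rcases hab with h | h <;> rw [h, this, pow_mul] <;> simp
    have hA : (a ^ 2 ^ (m - 1)) ^ 2 = 1 := by
      rw [← pow_mul, ← pow_succ, show m - 1 + 1 = m by omega]; exact units_pow hq a
    have hB : (b ^ 2 ^ (m - 1)) ^ 2 = 1 := by
      rw [← pow_mul, ← pow_succ, show m - 1 + 1 = m by omega]; exact units_pow hq b
    have hne' : ¬ (a ^ 2 ^ (m - 1) = 1 ∧ b ^ 2 ^ (m - 1) = 1) := by
      intro h1
      apply hzE
      refine ⟨hzD, Subtype.ext ?_⟩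
      rw [Subgroup.coe_pow, hz, dg_pow, Subgroup.coe_one, dg_eq_one]; exact h1
    rw [mul_pow] at hN
    rcases units_sq_eq_one hA with h1 | h1 <;> rcases units_sq_eq_one hB with h2 | h2
    · exact absurd ⟨h1, h2⟩ hne'
    · rw [h1, h2] at hN; exact absurd (by simpa using hN) hne
    · rw [h1, h2] at hN; exact absurd (by simpa using hN) hne
    · exact ⟨h1, h2⟩
  obtain ⟨a, b, hab, h⟩ := hT.nf_of_mem_Dset hq hm hx
  obtain ⟨c, d, hcd, h'⟩ := hT.nf_of_mem_Dset hq hm hy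
  obtain ⟨hA, hB⟩ := key x a b hab h hx hx'
  obtain ⟨hC, hD⟩ := key y c d hcd h' hy hy'
  have hz : ((x⁻¹ * y : T) : (Fin 2 → ZMod q) ≃ₗ[ZMod q] (Fin 2 → ZMod q)) =
      dg (a⁻¹ * c) (b⁻¹ * d) := by
    rw [Subgroup.coe_mul, Subgroup.coe_inv, h, h', dg_inv, dg_mul_dg]
  refine ⟨hT.dg_mem_Dset hz, Subtype.ext ?_⟩
  rw [Subgroup.coe_pow, hz, dg_pow, Subgroup.coe_one, dg_eq_one, mul_pow, mul_pow, inv_pow,
    inv_pow, hA, hB, hC, hD]
  simp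

theorem IsMono.step_E_Sq (hT : IsMono T) (hq : q = 2 ^ m + 1) (hm : 3 ≤ m) (x y : T)
    (hx : x ∈ Eset T (2 ^ (m - 1))) (hy : y ∈ Eset T (2 ^ (m - 1))) (hx' : x ∉ Sq T)
    (hy' : y ∉ Sq T) : x⁻¹ * y ∈ Sq T := by
  have key : ∀ z : T, z ∈ Eset T (2 ^ (m - 1)) → z ∉ Sq T → ∃ e : (ZMod q)ˣ,
      (z : (Fin 2 → ZMod q) ≃ₗ[ZMod q] (Fin 2 → ZMod q)) = dg (e * e) (-(e * e)⁻¹) := by
    intro z hz hz'
    obtain ⟨a, b, hab, h⟩ := hT.nf_of_mem_Dset hq hm hz.1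
    have h1 := congrArg Subtype.val hz.2
    rw [Subgroup.coe_pow, h, dg_pow, Subgroup.coe_one, dg_eq_one] at h1
    obtain ⟨e, rfl⟩ := exists_sqrt hq (by omega) h1.1
    refine ⟨e, ?_⟩
    rcases hab with hab | hab
    · exfalso; apply hz'
      obtain ⟨w, hw⟩ := hT.mkD e e⁻¹ (Or.inl (mul_inv_cancel e))
      refine ⟨w, hT.dg_mem_Dset hw, Subtype.ext ?_⟩
      have hb : b = (e * e)⁻¹ := eq_inv_of_mul_eq_one_right hab
      rw [Subgroup.coe_pow, hw, dg_pow, h, dg_inj]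
      exact ⟨(pow_two e).symm, by rw [hb, inv_pow, pow_two]⟩
    · have hb : b = -(e * e)⁻¹ := by
        have h2 : e * e * (-b) = 1 := by rw [mul_neg, hab, neg_neg]
        have h3 := eq_inv_of_mul_eq_one_right h2
        rw [← h3, neg_neg]
      rw [h, hb]
  obtain ⟨e, he⟩ := key x hx hx'
  obtain ⟨f, hf⟩ := key y hy hy'
  obtain ⟨w, hw⟩ := hT.mkD (e⁻¹ * f) (e * f⁻¹)
    (Or.inl (by rw [mul_comm e⁻¹ f, mul_assoc, ← mul_assoc e⁻¹, inv_mul_cancel, one_mul,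
      mul_inv_cancel]))
  refine ⟨w, hT.dg_mem_Dset hw, Subtype.ext ?_⟩
  rw [Subgroup.coe_mul, Subgroup.coe_inv, he, hf, dg_inv, dg_mul_dg, Subgroup.coe_pow, hw,
    dg_pow, dg_inj]
  constructor
  · rw [mul_pow, inv_pow, pow_two, pow_two]
  · rw [inv_neg, neg_mul_neg, inv_inv, mul_pow, inv_pow, pow_two, pow_two]

theorem IsMono.step_C (hT : IsMono T) (hq : q = 2 ^ m + 1) (hm : 3 ≤ m) (k : ℕ) (x y : T)
    (hx : x ∈ Cset T (k + 1)) (hy : y ∈ Cset T (k + 1)) (hx' : x ∉ Cset T k)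
    (hy' : y ∉ Cset T k) : x⁻¹ * y ∈ Cset T k := by
  have hne := neg_one_ne_one_units hq (by omega : 1 ≤ m)
  have key : ∀ z : T, z ∈ Cset T (k + 1) → z ∉ Cset T k → ∃ (u : T) (a b : (ZMod q)ˣ),
      u ∈ Dset T ∧ (u : (Fin 2 → ZMod q) ≃ₗ[ZMod q] (Fin 2 → ZMod q)) = dg a b ∧
      z = u ^ 2 ∧ (a ^ 2) ^ 2 ^ k = -1 ∧ (b ^ 2) ^ 2 ^ k = -1 := by
    intro z hz hz'
    obtain ⟨⟨u, hu, rfl⟩, hz2⟩ := hz
    obtain ⟨a, b, hab, h⟩ := hT.nf_of_mem_Dset hq hm hu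
    refine ⟨u, a, b, hu, h, rfl, ?_⟩
    have h1 := congrArg Subtype.val hz2
    rw [Subgroup.coe_pow, Subgroup.coe_pow, h, dg_pow, dg_pow, Subgroup.coe_one, dg_eq_one]
      at h1
    have hne' : ¬ ((a ^ 2) ^ 2 ^ k = 1 ∧ (b ^ 2) ^ 2 ^ k = 1) := by
      intro h2
      apply hz'
      refine ⟨⟨u, hu, rfl⟩, Subtype.ext ?_⟩
      rw [Subgroup.coe_pow, Subgroup.coe_pow, h, dg_pow, dg_pow, Subgroup.coe_one, dg_eq_one]
      exact h2
    have hab2 : (a ^ 2) ^ 2 ^ k * (b ^ 2) ^ 2 ^ k = 1 := by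
      rw [← mul_pow, ← mul_pow]; rcases hab with h | h <;> rw [h] <;> simp
    have hA : ((a ^ 2) ^ 2 ^ k) ^ 2 = 1 := by rw [← pow_mul, ← pow_succ]; exact h1.1
    have hB : ((b ^ 2) ^ 2 ^ k) ^ 2 = 1 := by rw [← pow_mul, ← pow_succ]; exact h1.2
    rcases units_sq_eq_one hA with h3 | h3 <;> rcases units_sq_eq_one hB with h4 | h4
    · exact absurd ⟨h3, h4⟩ hne'
    · rw [h3, h4] at hab2; exact absurd (by simpa using hab2) hne
    · rw [h3, h4] at hab2; exact absurd (by simpa using hab2) hne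
    · exact ⟨h3, h4⟩
  obtain ⟨u, a, b, hu, hua, rfl, hA, hB⟩ := key x hx hx'
  obtain ⟨v, c, d, hv, hvc, rfl, hC, hD⟩ := key y hy hy'
  have hw : ((u⁻¹ * v : T) : (Fin 2 → ZMod q) ≃ₗ[ZMod q] (Fin 2 → ZMod q)) =
      dg (a⁻¹ * c) (b⁻¹ * d) := by
    rw [Subgroup.coe_mul, Subgroup.coe_inv, hua, hvc, dg_inv, dg_mul_dg]
  have hprod : (u ^ 2)⁻¹ * v ^ 2 = (u⁻¹ * v) ^ 2 := by
    apply Subtype.ext
    rw [Subgroup.coe_mul, Subgroup.coe_inv, Subgroup.coe_pow, Subgroup.coe_pow,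
      Subgroup.coe_pow, hw, hua, hvc, dg_pow, dg_pow, dg_inv, dg_mul_dg, dg_pow, dg_inj]
    constructor <;> rw [mul_pow, inv_pow]
  refine ⟨⟨u⁻¹ * v, hT.dg_mem_Dset hw, hprod⟩, Subtype.ext ?_⟩
  rw [hprod, Subgroup.coe_pow, Subgroup.coe_pow, hw, dg_pow, dg_pow, Subgroup.coe_one,
    dg_eq_one]
  simp only [mul_pow, inv_pow, hA, hB, hC, hD]
  simp

theorem IsMono.Sq_subset (hT : IsMono T) (hq : q = 2 ^ m + 1) (hm : 3 ≤ m) {x : T}
    (hx : x ∈ Sq T) : x ∈ Cset T (m - 1) := by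
  refine ⟨hx, ?_⟩
  obtain ⟨u, hu, rfl⟩ := hx
  obtain ⟨a, b, hab, h⟩ := hT.nf_of_mem_Dset hq hm hu
  apply Subtype.ext
  rw [← pow_mul, ← pow_succ', show m - 1 + 1 = m by omega, Subgroup.coe_pow, h, dg_pow,
    Subgroup.coe_one, dg_eq_one]
  exact ⟨units_pow hq a, units_pow hq b⟩

theorem IsMono.aut_trivial_of_three_le (hT : IsMono T) (hq : q = 2 ^ m + 1) (hm : 3 ≤ m)
    (α : MulAut T) (o : ℕ) (ho : Odd o) (hα : α ^ o = 1) : α = 1 := by
  have hK := hT.pow_eq_one hq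
  have hC : ∀ k, ∀ x ∈ Cset T k, α x = x := by
    intro k
    induction k with
    | zero =>
      intro x hx
      have : x = 1 := by simpa using hx.2
      rw [this, map_one]
    | succ k ih =>
      exact chain_step α o ho hα (m + 2) hK (Cset T k) (Cset T (k + 1))
        (fun x hx => Cset_map α _ hx) ih
        (fun x hx y hy hx' hy' => hT.step_C hq hm k x y hx hy hx' hy')
  have hS : ∀ x ∈ Sq T, α x = x := fun x hx => hC (m - 1) x (hT.Sq_subset hq hm hx)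
  have hE : ∀ x ∈ Eset T (2 ^ (m - 1)), α x = x :=
    chain_step α o ho hα (m + 2) hK (Sq T) (Eset T (2 ^ (m - 1)))
      (fun x hx => Eset_map α _ hx) hS
      (fun x hx y hy hx' hy' => hT.step_E_Sq hq hm x y hx hy hx' hy')
  have hD : ∀ x ∈ Dset T, α x = x :=
    chain_step α o ho hα (m + 2) hK _ (Dset T) (fun x hx => Dset_map α hx) hE
      (fun x hx y hy hx' hy' => hT.step_D_E hq hm x y hx hy hx' hy')
  have hU : ∀ x ∈ (Set.univ : Set T), α x = x :=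
    chain_step α o ho hα (m + 2) hK _ Set.univ (fun x _ => Set.mem_univ _) hD
      (fun x _ y _ hx' hy' => hT.step_T_D x y hx' hy')
  exact MulEquiv.ext fun x => hU x (Set.mem_univ x)

/-! ### The case `q = 3` -/

theorem units_three (hq : q = 2 ^ 1 + 1) (u : (ZMod q)ˣ) : u = 1 ∨ u = -1 :=
  units_sq_eq_one (by simpa using units_pow hq u)

theorem units_three_sq (hq : q = 2 ^ 1 + 1) (u : (ZMod q)ˣ) : u ^ 2 = 1 := by
  simpa using units_pow hq u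

theorem units_three_inv (hq : q = 2 ^ 1 + 1) (u : (ZMod q)ˣ) : u⁻¹ = u := by
  have h := units_three_sq hq u
  rw [pow_two] at h
  exact (eq_inv_of_mul_eq_one_right h).symm

theorem units_three_snd (hq : q = 2 ^ 1 + 1) (a b : (ZMod q)ˣ) (hab : a * b = 1 ∨ a * b = -1) :
    b = a ∨ b = -a := by
  have h1 : b = a⁻¹ * (a * b) := by rw [← mul_assoc, inv_mul_cancel, one_mul]
  rw [units_three_inv hq a] at h1
  rcases hab with h | h
  · left; rw [h1, h, mul_one]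
  · right; rw [h1, h, mul_neg, mul_one]

theorem IsMono.mem_Cs (hT : IsMono T) (hq : q = 2 ^ 1 + 1) {x : T} {a : (ZMod q)ˣ}
    (hx : (x : (Fin 2 → ZMod q) ≃ₗ[ZMod q] (Fin 2 → ZMod q)) = dg a a ∨
      (x : (Fin 2 → ZMod q) ≃ₗ[ZMod q] (Fin 2 → ZMod q)) = ad a (-a)) : x ∈ Cs T := by
  intro y hy
  obtain ⟨c, d, hcd, h | h⟩ := hT.nf y
  · exfalso; apply hy; apply Subtype.ext
    rw [Subgroup.coe_pow, h, dg_pow, Subgroup.coe_one, dg_eq_one]
    exact ⟨units_three_sq hq c, units_three_sq hq d⟩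
  · have hd : d = -c := by
      rcases units_three_snd hq c d hcd with rfl | rfl
      · exfalso; apply hy; apply Subtype.ext
        rw [Subgroup.coe_pow, h, ad_sq, Subgroup.coe_one, dg_eq_one, ← pow_two]
        exact ⟨units_three_sq hq d, units_three_sq hq d⟩
      · rfl
    subst hd
    show x * y = y * x
    apply Subtype.ext
    rcases hx with hx | hx
    · rw [Subgroup.coe_mul, Subgroup.coe_mul, hx, h, dg_mul_ad, ad_mul_dg, ad_inj]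
      exact ⟨mul_comm _ _, by rw [mul_neg, neg_mul, mul_comm]⟩
    · rw [Subgroup.coe_mul, Subgroup.coe_mul, hx, h, ad_mul_ad, ad_mul_ad, dg_inj]
      exact ⟨by rw [neg_mul, neg_mul, mul_comm], by rw [mul_neg, mul_neg, mul_comm]⟩

theorem IsMono.not_mem_Cs (hT : IsMono T) (hq : q = 2 ^ 1 + 1) {x : T} {a : (ZMod q)ˣ}
    (hx : (x : (Fin 2 → ZMod q) ≃ₗ[ZMod q] (Fin 2 → ZMod q)) = dg a (-a) ∨
      (x : (Fin 2 → ZMod q) ≃ₗ[ZMod q] (Fin 2 → ZMod q)) = ad a a) : x ∉ Cs T := by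
  intro h
  have hne := neg_one_ne_one_units hq (le_refl 1)
  have hna : -a ≠ a := by
    intro h1
    apply hne
    have h2 : (-1 : (ZMod q)ˣ) * a = 1 * a := by rw [neg_mul, one_mul]; exact h1
    exact mul_right_cancel h2
  obtain ⟨y, hy⟩ := hT.mkA 1 (-1) (Or.inr (one_mul _))
  have hy2 : y ^ 2 ≠ 1 := by
    intro h2
    have h3 := congrArg Subtype.val h2
    rw [Subgroup.coe_pow, hy, ad_sq, Subgroup.coe_one, dg_eq_one] at h3
    exact hne (by simpa using h3.1)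
  have h0 : x * y = y * x := h y hy2
  have h1 := congrArg Subtype.val h0
  rcases hx with hx | hx
  · rw [Subgroup.coe_mul, Subgroup.coe_mul, hx, hy, dg_mul_ad, ad_mul_dg, ad_inj] at h1
    exact hna (by simpa using h1.1)
  · rw [Subgroup.coe_mul, Subgroup.coe_mul, hx, hy, ad_mul_ad, ad_mul_ad, dg_inj] at h1
    exact hna (by simpa using h1.1.symm)

theorem IsMono.mem_Zs (hT : IsMono T) (hq : q = 2 ^ 1 + 1) {x : T} {a : (ZMod q)ˣ}
    (hx : (x : (Fin 2 → ZMod q) ≃ₗ[ZMod q] (Fin 2 → ZMod q)) = dg a a) : x ∈ Zs T := by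
  rcases units_three hq a with rfl | rfl
  · refine ⟨1, Subtype.ext ?_⟩
    rw [hx, dg_one_one]; simp
  · obtain ⟨y, hy⟩ := hT.mkA 1 (-1) (Or.inr (one_mul _))
    refine ⟨y, Subtype.ext ?_⟩
    rw [hx, Subgroup.coe_pow, hy, ad_sq, mul_one, one_mul]

theorem IsMono.step3_T_C (hT : IsMono T) (hq : q = 2 ^ 1 + 1) (x y : T) (hx : x ∉ Cs T)
    (hy : y ∉ Cs T) : x⁻¹ * y ∈ Cs T := by
  have key : ∀ z : T, z ∉ Cs T → ∃ a : (ZMod q)ˣ,
      (z : (Fin 2 → ZMod q) ≃ₗ[ZMod q] (Fin 2 → ZMod q)) = dg a (-a) ∨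
      (z : (Fin 2 → ZMod q) ≃ₗ[ZMod q] (Fin 2 → ZMod q)) = ad a a := by
    intro z hz
    obtain ⟨a, b, hab, h | h⟩ := hT.nf z
    · rcases units_three_snd hq a b hab with rfl | rfl
      · exact absurd (hT.mem_Cs hq (Or.inl h)) hz
      · exact ⟨a, Or.inl h⟩
    · rcases units_three_snd hq a b hab with rfl | rfl
      · exact ⟨b, Or.inr h⟩
      · exact absurd (hT.mem_Cs hq (Or.inr h)) hz
  obtain ⟨a, ha | ha⟩ := key x hx <;> obtain ⟨c, hc | hc⟩ := key y hy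
  · apply hT.mem_Cs hq (a := a⁻¹ * c); left
    rw [Subgroup.coe_mul, Subgroup.coe_inv, ha, hc, dg_inv, dg_mul_dg, inv_neg, neg_mul_neg]
  · apply hT.mem_Cs hq (a := -(a⁻¹ * c)); right
    rw [Subgroup.coe_mul, Subgroup.coe_inv, ha, hc, dg_inv, dg_mul_ad, inv_neg, neg_mul, neg_neg]
  · apply hT.mem_Cs hq (a := a⁻¹ * c); right
    rw [Subgroup.coe_mul, Subgroup.coe_inv, ha, hc, ad_inv, ad_mul_dg, mul_neg]
  · apply hT.mem_Cs hq (a := a⁻¹ * c); left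
    rw [Subgroup.coe_mul, Subgroup.coe_inv, ha, hc, ad_inv, ad_mul_ad]

theorem IsMono.step3_C_Z (hT : IsMono T) (hq : q = 2 ^ 1 + 1) (x y : T) (hx : x ∈ Cs T)
    (hy : y ∈ Cs T) (hx' : x ∉ Zs T) (hy' : y ∉ Zs T) : x⁻¹ * y ∈ Zs T := by
  have key : ∀ z : T, z ∈ Cs T → z ∉ Zs T → ∃ a : (ZMod q)ˣ,
      (z : (Fin 2 → ZMod q) ≃ₗ[ZMod q] (Fin 2 → ZMod q)) = ad a (-a) := by
    intro z hz hz'
    obtain ⟨a, b, hab, h | h⟩ := hT.nf z
    · rcases units_three_snd hq a b hab with rfl | rfl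
      · exact absurd (hT.mem_Zs hq h) hz'
      · exact absurd hz (hT.not_mem_Cs hq (Or.inl h))
    · rcases units_three_snd hq a b hab with rfl | rfl
      · exact absurd hz (hT.not_mem_Cs hq (Or.inr h))
      · exact ⟨a, h⟩
  obtain ⟨a, ha⟩ := key x hx hx'
  obtain ⟨c, hc⟩ := key y hy hy'
  apply hT.mem_Zs hq (a := a⁻¹ * c)
  rw [Subgroup.coe_mul, Subgroup.coe_inv, ha, hc, ad_inv, ad_mul_ad, inv_neg, neg_mul_neg]

theorem IsMono.step3_Z_1 (hT : IsMono T) (hq : q = 2 ^ 1 + 1) (x y : T) (hx : x ∈ Zs T)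
    (hy : y ∈ Zs T) (hx' : x ∉ ({1} : Set T)) (hy' : y ∉ ({1} : Set T)) :
    x⁻¹ * y ∈ ({1} : Set T) := by
  have key : ∀ z : T, z ∈ Zs T → z ∉ ({1} : Set T) →
      (z : (Fin 2 → ZMod q) ≃ₗ[ZMod q] (Fin 2 → ZMod q)) = dg (-1) (-1) := by
    rintro z ⟨w, rfl⟩ hz
    obtain ⟨a, b, hab, h | h⟩ := hT.nf w
    · exfalso; apply hz; rw [Set.mem_singleton_iff]; apply Subtype.ext
      rw [Subgroup.coe_pow, h, dg_pow, Subgroup.coe_one, dg_eq_one]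
      exact ⟨units_three_sq hq a, units_three_sq hq b⟩
    · rw [Subgroup.coe_pow, h, ad_sq]
      rcases hab with hab | hab
      · exfalso; apply hz; rw [Set.mem_singleton_iff]; apply Subtype.ext
        rw [Subgroup.coe_pow, h, ad_sq, Subgroup.coe_one, dg_eq_one, mul_comm b a]
        exact ⟨hab, hab⟩
      · rw [mul_comm b a, hab]
  have h1 := key x hx hx'
  have h2 := key y hy hy'
  have : x = y := Subtype.ext (h1.trans h2.symm)
  rw [this]; simp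

theorem IsMono.aut_trivial_three (hT : IsMono T) (hq : q = 2 ^ 1 + 1)
    (α : MulAut T) (o : ℕ) (ho : Odd o) (hα : α ^ o = 1) : α = 1 := by
  have hK := hT.pow_eq_one hq
  have h1 : ∀ x ∈ ({1} : Set T), α x = x := by
    intro x hx; rw [Set.mem_singleton_iff.mp hx, map_one]
  have hZ := chain_step α o ho hα _ hK {1} (Zs T) (fun x hx => Zs_map α hx) h1
    (fun x hx y hy hx' hy' => hT.step3_Z_1 hq x y hx hy hx' hy')
  have hC := chain_step α o ho hα _ hK (Zs T) (Cs T) (fun x hx => Cs_map α hx) hZ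
    (fun x hx y hy hx' hy' => hT.step3_C_Z hq x y hx hy hx' hy')
  have hU := chain_step α o ho hα _ hK (Cs T) Set.univ (fun x _ => Set.mem_univ _) hC
    (fun x _ y _ hx' hy' => hT.step3_T_C hq x y hx' hy')
  exact MulEquiv.ext fun x => hU x (Set.mem_univ x)

/-! ### The case `q = 2` -/

theorem IsMono.aut_trivial_two (hT : IsMono T) (hq : q = 2 ^ 0 + 1)
    (α : MulAut T) (o : ℕ) (ho : Odd o) (hα : α ^ o = 1) : α = 1 := by
  have hK := hT.pow_eq_one hq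
  have hu : ∀ u : (ZMod q)ˣ, u = 1 := fun u => by simpa using units_pow hq u
  have h1 : ∀ x ∈ ({1} : Set T), α x = x := by
    intro x hx; rw [Set.mem_singleton_iff.mp hx, map_one]
  have key : ∀ z : T, z ∉ ({1} : Set T) →
      (z : (Fin 2 → ZMod q) ≃ₗ[ZMod q] (Fin 2 → ZMod q)) = ad 1 1 := by
    intro z hz
    obtain ⟨a, b, -, h | h⟩ := hT.nf z
    · exfalso; apply hz; rw [Set.mem_singleton_iff]; apply Subtype.ext
      rw [h, hu a, hu b, dg_one_one]; rfl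
    · rw [h, hu a, hu b]
  have hU := chain_step α o ho hα _ hK {1} Set.univ (fun x _ => Set.mem_univ _) h1
    (fun x _ y _ hx' hy' => by
      have : x = y := Subtype.ext ((key x hx').trans (key y hy').symm)
      rw [this]; simp)
  exact MulEquiv.ext fun x => hU x (Set.mem_univ x)

/-- Every automorphism of odd order of the monomial group is trivial (`q ≠ 5`). -/
theorem IsMono.aut_trivial (hT : IsMono T) (hq : q = 2 ^ m + 1) (hq5 : q ≠ 5)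
    (α : MulAut T) (o : ℕ) (ho : Odd o) (hα : α ^ o = 1) : α = 1 := by
  obtain rfl | rfl | rfl | hm : m = 0 ∨ m = 1 ∨ m = 2 ∨ 3 ≤ m := by omega
  · exact hT.aut_trivial_two hq α o ho hα
  · exact hT.aut_trivial_three hq α o ho hα
  · exact absurd hq hq5
  · exact hT.aut_trivial_of_three_le hq hm α o ho hα

end zmod

end Cfsg.Agent.Lib.helper59.Mono
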