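import Mathlib
import Cfsg.Agent.Lib.helper68.HallPet
import Cfsg.Agent.Lib.helper19.PearlEE6

/-!
S5239 split (architect helper79): piece FRAT (`p3_frat`), racing copy by helper59 under the prefixed
name `h59_p3_frat` (statement verbatim from `tools/S5239_Skel.lean.txt`).
-/

set_option autoImplicit false
open Cfsg

namespace Cfsg.Agent.Lib.helper79.P3

open Cfsg.Agent.Lib.helper68

/-- FRAT (S/M). `P_2` is contained in the Frattini subgroup: a subgroup covering `G / P_2` is everything. -/
theorem h59_p3_frat {G : Type*} [Group G] [Finite G] (n : ℕ) (hn : 3 ≤ n) (hG : Nat.card G = 3 ^ n)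
    (H : Subgroup G) (h : H ⊔ gam G 2 = ⊤) : H = ⊤ := by
  have : Fact (Nat.Prime 3) := ⟨Nat.prime_three⟩
  have hP : IsPGroup 3 G := IsPGroup.of_card hG
  have e : gam G 2 = commutator G := by
    unfold gam
    exact Subgroup.top_lowerCentralSeries_one
  rw [e] at h
  exact Cfsg.Agent.Lib.helper91.PearlEnd.sup_commutator_top 3 hP H h

end Cfsg.Agent.Lib.helper79.P3
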