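import Mathlib

/-!
S5239 split (architect helper79): pieces NA (`p3_nonab`) and ZC (`p3_center_card`), racing copies by
helper59 under the prefixed names `h59_p3_nonab`, `h59_p3_center_card` (statements verbatim from
`tools/S5239_Skel.lean.txt`; Mathlib only).
-/

set_option autoImplicit false

namespace Cfsg.Agent.Lib.helper79.P3

theorem h59_centralizer_top_of_comm {G : Type*} [Group G] (x : G) (h : ∀ g : G, x * g = g * x) :
    Subgroup.centralizer ({x} : Set G) = ⊤ := by
  rw [eq_top_iff]
  intro g _
  rw [Subgroup.mem_centralizer_iff]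
  intro y hy
  rw [Set.mem_singleton_iff] at hy
  subst hy
  exact h g

/-- NA (S). `G` is not abelian. -/
theorem h59_p3_nonab {G : Type*} [Group G] [Finite G] (n : ℕ) (hn : 3 ≤ n) (hG : Nat.card G = 3 ^ n) (x : G)
    (hC : Nat.card (Subgroup.centralizer ({x} : Set G)) = 3 ^ 2) : ∃ a b : G, a * b ≠ b * a := by
  by_contra hcon
  have hall : ∀ a b : G, a * b = b * a := by
    intro a b
    by_contra hab
    exact hcon ⟨a, b, hab⟩
  have htop := h59_centralizer_top_of_comm x (fun g => hall x g)
  rw [htop, Subgroup.card_top, hG] at hC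
  have h27 : 3 ^ 3 ≤ 3 ^ n := Nat.pow_le_pow_right (by norm_num) hn
  norm_num at hC h27
  omega

/-- ZC (S). The centre has order 3. -/
theorem h59_p3_center_card {G : Type*} [Group G] [Finite G] (n : ℕ) (hn : 3 ≤ n) (hG : Nat.card G = 3 ^ n) (x : G)
    (hC : Nat.card (Subgroup.centralizer ({x} : Set G)) = 3 ^ 2) : Nat.card (Subgroup.center G) = 3 := by
  have : Fact (Nat.Prime 3) := ⟨Nat.prime_three⟩
  have hP : IsPGroup 3 G := IsPGroup.of_card hG
  have hle : Subgroup.center G ≤ Subgroup.centralizer ({x} : Set G) := Subgroup.center_le_centralizer _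
  have hdvd : Nat.card (Subgroup.center G) ∣ 3 ^ 2 := hC ▸ Subgroup.card_dvd_of_le hle
  have : Nontrivial G := by
    apply (Finite.one_lt_card_iff_nontrivial).mp
    rw [hG]
    exact Nat.one_lt_pow (by omega) (by norm_num)
  have hnt : Nontrivial (Subgroup.center G) := hP.center_nontrivial
  have h1 : 1 < Nat.card (Subgroup.center G) := Finite.one_lt_card
  obtain ⟨k, hk, hk'⟩ := (Nat.dvd_prime_pow Nat.prime_three).mp hdvd
  have hne9 : Nat.card (Subgroup.center G) ≠ 9 := by
    intro h9
    have heq : Subgroup.center G = Subgroup.centralizer ({x} : Set G) :=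
      Subgroup.eq_of_le_of_card_ge hle (by rw [hC, h9]; norm_num)
    have hx : x ∈ Subgroup.center G := by
      rw [heq, Subgroup.mem_centralizer_iff]
      intro y hy
      rw [Set.mem_singleton_iff] at hy
      subst hy
      rfl
    have htop := h59_centralizer_top_of_comm x (fun g => (Subgroup.mem_center_iff.mp hx g).symm)
    rw [htop, Subgroup.card_top, hG] at hC
    have h27 : 3 ^ 3 ≤ 3 ^ n := Nat.pow_le_pow_right (by norm_num) hn
    norm_num at hC h27
    omega
  have hk2 : k = 1 := by
    interval_cases k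
    · rw [hk'] at h1
      norm_num at h1
    · rfl
    · exact absurd (by rw [hk']; norm_num) hne9
  rw [hk', hk2]
  norm_num

end Cfsg.Agent.Lib.helper79.P3
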