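import Mathlib
import Cfsg.Agent.Lib.helper68.HallPet
import Cfsg.Agent.Lib.helper79.PearlX
import Cfsg.Agent.Lib.helper59.P3ZCNA
import Cfsg.Agent.Lib.helper59.P3FRAT

/-!
S5239 split, sub-split NONUNIF (helper68): piece NUA (`p3_nu_a`), racing copy by helper59 under the
prefixed name `h59_p3_nu_a` (statement verbatim from `tools/S5239NU_Skel.lean.txt`).
-/

set_option autoImplicit false

namespace Cfsg.Agent.Lib.helper79.P3

open Cfsg.Agent.Lib.helper68

theorem h59_card_mul_relIndex {G : Type*} [Group G] [Finite G] (H K : Subgroup G) (hHK : H ≤ K) :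
    Nat.card H * H.relIndex K = Nat.card K := by
  have h1 := Subgroup.relIndex_mul_index hHK
  have h2 := Subgroup.card_mul_index H
  have h3 := Subgroup.card_mul_index K
  have hpos : 0 < K.index := Nat.pos_of_ne_zero Subgroup.index_ne_zero_of_finite
  apply Nat.eq_of_mul_eq_mul_right hpos
  rw [mul_assoc, h1, h2, h3]

/-- NUA (M/L). Some `u ∈ P_2 ∖ P_(n-1)` commutes with `h`. -/
theorem h59_p3_nu_a {G : Type*} [Group G] [Finite G] (n : ℕ) (hn : 4 ≤ n) (hG : Nat.card G = 3 ^ n) (x : G)
    (hx : x ^ 3 = 1) (hC : Nat.card (Subgroup.centralizer ({x} : Set G)) = 3 ^ 2) (h : G) (hh : h ∉ gam G 2)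
    (hCh : Nat.card (Subgroup.centralizer ({h} : Set G)) ≠ 3 ^ 2) :
    ∃ u ∈ gam G 2, u ∉ gam G (n - 1) ∧ com u h = 1 := by
  have : Fact (Nat.Prime 3) := ⟨Nat.prime_three⟩
  have hP : IsPGroup 3 G := IsPGroup.of_card hG
  have hZ3 : Nat.card (Subgroup.center G) = 3 := h59_p3_center_card n (by omega) hG x hC
  have hcardn1 : Nat.card (gam G (n - 1)) = 3 := by
    have h1 := h79_px_card 3 n hG x hC (by omega) (n - 1) (by omega) (by omega)
    rw [h1]
    have e : n - (n - 1) = 1 := by omega
    rw [e]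
    norm_num
  have hcardn : Nat.card (gam G n) = 1 := by
    have h1 := h79_px_card 3 n hG x hC (by omega) n (by omega) le_rfl
    rw [h1]
    simp
  have hbot : gam G n = ⊥ := Subgroup.eq_bot_of_card_eq _ hcardn
  have hcen : gam G (n - 1) ≤ Subgroup.center G := by
    intro g hg
    rw [Subgroup.mem_center_iff]
    intro y
    have hy1 : y ∈ gam G 1 := by simp [gam]
    have h1 := com_mem hg hy1
    have e : n - 1 + 1 = n := by omega
    rw [e, hbot, Subgroup.mem_bot] at h1
    unfold com at h1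
    calc y * g = y * g * (g⁻¹ * y⁻¹ * g * y) := by rw [h1, mul_one]
      _ = g * y := by group
  have hceq : gam G (n - 1) = Subgroup.center G :=
    Subgroup.eq_of_le_of_card_ge hcen (by rw [hZ3, hcardn1])
  have hcen2 : Subgroup.center G ≤ gam G 2 := by
    rw [← hceq]
    exact gam_antitone (by omega)
  have hhC : h ∈ Subgroup.centralizer ({h} : Set G) := by
    rw [Subgroup.mem_centralizer_iff]
    intro y hy
    rw [Set.mem_singleton_iff] at hy
    subst hy
    rfl
  have hZC : Subgroup.center G ≤ Subgroup.centralizer ({h} : Set G) := Subgroup.center_le_centralizer _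
  have hnotcen : h ∉ Subgroup.center G := fun hc => hh (hcen2 hc)
  obtain ⟨c, hc⟩ := (hP.to_subgroup (Subgroup.centralizer ({h} : Set G))).exists_card_eq
  have hc3 : 3 ≤ c := by
    have hdvd : Nat.card (Subgroup.center G) ∣ Nat.card (Subgroup.centralizer ({h} : Set G)) :=
      Subgroup.card_dvd_of_le hZC
    rw [hZ3, hc] at hdvd
    have hc2 : c ≠ 2 := by
      intro h2
      rw [h2] at hc
      exact hCh hc
    have hc0 : c ≠ 0 := by
      intro h0
      rw [h0] at hdvd
      norm_num at hdvd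
    have hc1 : c ≠ 1 := by
      intro h1
      rw [h1, pow_one] at hc
      have heq : Subgroup.center G = Subgroup.centralizer ({h} : Set G) :=
        Subgroup.eq_of_le_of_card_ge hZC (by rw [hc, hZ3])
      exact hnotcen (heq ▸ hhC)
    omega
  have hC27 : 27 ≤ Nat.card (Subgroup.centralizer ({h} : Set G)) := by
    rw [hc]
    calc 27 = 3 ^ 3 := by norm_num
      _ ≤ 3 ^ c := Nat.pow_le_pow_right (by norm_num) hc3
  have hidx : (gam G 2).index = 3 ^ 2 := h79_px_index 3 n hG x hC (by omega) 2 le_rfl (by omega)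
  have hdvd : (gam G 2).relIndex (Subgroup.centralizer ({h} : Set G)) ∣ 3 ^ 2 := by
    have h1 := Subgroup.relIndex_dvd_index_of_normal (H := gam G 2)
      (K := Subgroup.centralizer ({h} : Set G))
    rw [hidx] at h1
    exact h1
  have hne9 : (gam G 2).relIndex (Subgroup.centralizer ({h} : Set G)) ≠ 9 := by
    intro h9
    have h1 : (gam G 2).relIndex (Subgroup.centralizer ({h} : Set G) ⊔ gam G 2) = 9 := by
      rw [Subgroup.relIndex_sup_right, h9]
    have h2 := Subgroup.relIndex_mul_index
      (le_sup_right : gam G 2 ≤ Subgroup.centralizer ({h} : Set G) ⊔ gam G 2)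
    rw [h1, hidx] at h2
    have h3 : (Subgroup.centralizer ({h} : Set G) ⊔ gam G 2).index = 1 := by
      have h9' : 9 * (Subgroup.centralizer ({h} : Set G) ⊔ gam G 2).index = 9 * 1 := by
        rw [h2]
        norm_num
      exact Nat.eq_of_mul_eq_mul_left (by norm_num) h9'
    have htop : Subgroup.centralizer ({h} : Set G) ⊔ gam G 2 = ⊤ := Subgroup.index_eq_one.mp h3
    have hCtop : Subgroup.centralizer ({h} : Set G) = ⊤ := h59_p3_frat n (by omega) hG _ htop
    apply hnotcen
    rw [Subgroup.mem_center_iff]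
    intro g
    have hg : g ∈ Subgroup.centralizer ({h} : Set G) := by
      rw [hCtop]
      exact Subgroup.mem_top g
    rw [Subgroup.mem_centralizer_iff] at hg
    exact (hg h rfl).symm
  have hle3 : (gam G 2).relIndex (Subgroup.centralizer ({h} : Set G)) ≤ 3 := by
    obtain ⟨k, hk, hk'⟩ := (Nat.dvd_prime_pow Nat.prime_three).mp hdvd
    interval_cases k
    · rw [hk']
      norm_num
    · rw [hk']
      norm_num
    · exact absurd (by rw [hk']; norm_num) hne9
  have hD := h59_card_mul_relIndex (gam G 2 ⊓ Subgroup.centralizer ({h} : Set G))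
    (Subgroup.centralizer ({h} : Set G)) inf_le_right
  rw [Subgroup.inf_relIndex_right] at hD
  have hD9 : 9 ≤ Nat.card (gam G 2 ⊓ Subgroup.centralizer ({h} : Set G) : Subgroup G) := by
    by_contra hlt
    have hlt' : Nat.card (gam G 2 ⊓ Subgroup.centralizer ({h} : Set G) : Subgroup G) ≤ 8 := by omega
    have h1 : Nat.card (gam G 2 ⊓ Subgroup.centralizer ({h} : Set G) : Subgroup G) *
        (gam G 2).relIndex (Subgroup.centralizer ({h} : Set G)) ≤ 8 * 3 := Nat.mul_le_mul hlt' hle3
    omega
  have hex : ∃ u ∈ gam G 2 ⊓ Subgroup.centralizer ({h} : Set G), u ∉ gam G (n - 1) := by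
    by_contra hcon
    have hle : gam G 2 ⊓ Subgroup.centralizer ({h} : Set G) ≤ gam G (n - 1) := by
      intro u hu
      by_contra hun
      exact hcon ⟨u, hu, hun⟩
    have h1 := Subgroup.card_le_of_le hle
    omega
  obtain ⟨u, hu, hun⟩ := hex
  obtain ⟨hu2, huC⟩ := Subgroup.mem_inf.mp hu
  refine ⟨u, hu2, hun, ?_⟩
  rw [Subgroup.mem_centralizer_iff] at huC
  have hcomm : h * u = u * h := huC h rfl
  unfold com
  calc u⁻¹ * h⁻¹ * u * h = u⁻¹ * h⁻¹ * (u * h) := by group
    _ = u⁻¹ * h⁻¹ * (h * u) := by rw [hcomm]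
    _ = 1 := by group

end Cfsg.Agent.Lib.helper79.P3
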