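import Mathlib

/-!
S5238E piece E1 (`prim_card`), racing copy by helper59 under the prefixed name `h59_prim_card`
(statement verbatim from `tools/S5238E_Skel.lean.txt`).
-/

set_option autoImplicit false

namespace Cfsg.Agent.Lib.helper91.PearlEnd

/-- E1 (M, pure combinatorics of ℕ). `J ⊆ [2, n-1]` closed under `i ↦ i + (p-1)` (as long as `i + p ≤ n`); the PRIMITIVE
elements (`i < p+1` or `i-(p-1) ∉ J`) are at most `p-1`: `i ↦ i % (p-1)` is injective on them. -/
theorem h59_prim_card (p n : ℕ) (hp : 2 ≤ p) (J J0 : Finset ℕ)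
    (hJ : ∀ i ∈ J, 2 ≤ i ∧ i + 1 ≤ n)
    (hup : ∀ i ∈ J, i + p ≤ n → i + (p - 1) ∈ J)
    (hJ0 : ∀ i ∈ J0, i ∈ J ∧ (i < p + 1 ∨ i - (p - 1) ∉ J)) :
    J0.card ≤ p - 1 := by
  classical
  obtain ⟨q, rfl⟩ : ∃ q, p = q + 1 := ⟨p - 1, by omega⟩
  simp only [Nat.add_sub_cancel] at hup hJ0 ⊢
  have hq : 0 < q := by omega
  have key : ∀ i ∈ J0, ∀ i' ∈ J0, i < i' → i % q = i' % q → False := by
    intro i hi i' hi' hlt hmod
    have hdvd : q ∣ i' - i := (Nat.modEq_iff_dvd' hlt.le).mp hmod
    obtain ⟨k, hk⟩ := hdvd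
    obtain ⟨k', rfl⟩ : ∃ k', k = k' + 1 := by
      rcases k with _ | k'
      · simp at hk; omega
      · exact ⟨k', rfl⟩
    have hk' : i' = i + q * k' + q := by
      rw [Nat.mul_succ] at hk
      omega
    have hin' := (hJ i' (hJ0 i' hi').1).2
    have hchain : ∀ j, j ≤ k' → i + q * j ∈ J := by
      intro j
      induction j with
      | zero => intro _; simpa using (hJ0 i hi).1
      | succ j ih =>
        intro hj
        have h1 := ih (by omega)
        have h3 : q * j + q ≤ q * k' := by
          have := Nat.mul_le_mul_left q hj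
          rw [Nat.mul_succ] at this
          exact this
        have h2 : i + q * j + (q + 1) ≤ n := by omega
        have h5 := hup _ h1 h2
        rw [Nat.mul_succ, ← Nat.add_assoc]
        exact h5
    have hmem := hchain k' le_rfl
    have e : i' - q = i + q * k' := by omega
    rcases (hJ0 i' hi').2 with h | h
    · have := (hJ i (hJ0 i hi).1).1
      omega
    · exact h (e ▸ hmem)
  have hinj : Set.InjOn (fun i => i % q) (J0 : Set ℕ) := by
    intro a ha b hb hab
    rcases Nat.lt_trichotomy a b with h | h | h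
    · exact (key a ha b hb h hab).elim
    · exact h
    · exact (key b hb a ha h hab.symm).elim
  have hc := Finset.card_le_card_of_injOn (fun i => i % q) (s := J0) (t := Finset.range q)
    (fun i _ => Finset.mem_range.mpr (Nat.mod_lt _ hq)) hinj
  simpa using hc

end Cfsg.Agent.Lib.helper91.PearlEnd
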