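import Mathlib

/-!
S5238E piece E2 (`jump_reach`), racing copy by helper59 under the prefixed name `h59_jump_reach`
(statement verbatim from `tools/S5238E_Skel.lean.txt`).
-/

set_option autoImplicit false

namespace Cfsg.Agent.Lib.helper91.PearlEnd

/-- E2 (S/M). Strong induction on `i`: a primitive `i` has a witness by `hK`; otherwise `i ≥ p+1`, `i' = i-(p-1) ∈ J`,
the witness `k` of `i'` gives `k ^ p ∈ P (i'+p-1) = P i`, `k ^ p ∉ P (i'+p) = P (i+1)` by `hpow` (`2 ≤ i'`, `i'+p = i+1 ≤ n`). -/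
theorem h59_jump_reach {G : Type*} [Group G] (p n : ℕ) (hp : 2 ≤ p) (P : ℕ → Subgroup G)
    (hpow : ∀ i, 2 ≤ i → i + p ≤ n → ∀ m ∈ P i, m ∉ P (i + 1) → m ^ p ∈ P (i + p - 1) ∧ m ^ p ∉ P (i + p))
    (J : Finset ℕ) (hJ : ∀ i ∈ J, 2 ≤ i ∧ i + 1 ≤ n) (K : Subgroup G)
    (hK : ∀ i ∈ J, (i < p + 1 ∨ i - (p - 1) ∉ J) → ∃ k ∈ K, k ∈ P i ∧ k ∉ P (i + 1)) :
    ∀ i ∈ J, ∃ k ∈ K, k ∈ P i ∧ k ∉ P (i + 1) := by
  intro i
  induction i using Nat.strong_induction_on with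
  | _ i ih =>
    intro hiJ
    by_cases hprim : i < p + 1 ∨ i - (p - 1) ∉ J
    · exact hK i hiJ hprim
    · rw [not_or, not_lt, not_not] at hprim
      obtain ⟨hge, hmem⟩ := hprim
      have hi' : i - (p - 1) < i := by omega
      obtain ⟨k, hkK, hkP, hkP'⟩ := ih (i - (p - 1)) hi' hmem
      have h2 := (hJ _ hmem).1
      have hin := (hJ i hiJ).2
      have h3 := hpow (i - (p - 1)) h2 (by omega) k hkP hkP'
      have e1 : i - (p - 1) + p - 1 = i := by omega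
      have e2 : i - (p - 1) + p = i + 1 := by omega
      rw [e1, e2] at h3
      exact ⟨k ^ p, K.pow_mem hkK p, h3.1, h3.2⟩

end Cfsg.Agent.Lib.helper91.PearlEnd
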