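import Mathlib
import Cfsg.Agent.Lib.helper59.AutQ8
import Cfsg.Agent.Lib.helper59.GL23Rec

set_option autoImplicit false

/-!
# Finite groups with a self-centralising normal quaternion subgroup of order `8`

Such a group `X` is a `2`-group, or has order `24`, or is `GL(2,3)`, or is the binary octahedral
group (order `48`, centre of order `2`, central quotient `S₄`, a unique involution).
-/

namespace Cfsg.Agent.Lib.helper59.Q8Normal

open QuaternionGroup Cfsg.Agent.Lib.helper59.AutQ8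

section

variable {X : Type*} [Group X] (ι : Q8 →* X) (hι : Function.Injective ι) (Ψ : X →* MulAut Q8)
  (hΨ : ∀ (g : X) (q : Q8), ι (Ψ g q) = g * ι q * g⁻¹)
  (hC : ∀ g : X, (∀ q : Q8, g * ι q = ι q * g) → g ∈ ι.range)

include hι hΨ in
theorem psi_iota (q r : Q8) : Ψ (ι q) r = q * r * q⁻¹ := by
  apply hι
  rw [hΨ, map_mul, map_mul, map_inv]

include hι hΨ hC in
theorem psi_eq_one_iff (g : X) : Ψ g = 1 ↔ g = 1 ∨ g = ι (a 2) := by
  constructor
  · intro h
    have hcomm : ∀ q : Q8, g * ι q = ι q * g := by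
      intro q
      have h1 := hΨ g q
      rw [h, MulAut.one_apply] at h1
      calc g * ι q = g * ι q * g⁻¹ * g := by group
        _ = ι q * g := by rw [← h1]
    obtain ⟨q₀, rfl⟩ := hC g hcomm
    have hq₀ : ∀ r : Q8, q₀ * r = r * q₀ := by
      intro r
      apply hι
      rw [map_mul, map_mul]
      exact hcomm r
    rcases center_q8 q₀ hq₀ with h0 | h0
    · left; rw [h0, map_one]
    · right; rw [h0]
  · rintro (h | h)
    · rw [h, map_one]
    · rw [h]
      apply MulEquiv.ext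
      intro r
      rw [psi_iota ι hι Ψ hΨ, a2_central r, mul_inv_cancel_right, MulAut.one_apply]

include hΨ in
theorem z_central (g : X) : g * ι (a 2) = ι (a 2) * g := by
  have h1 := hΨ g (a 2)
  rw [aut_a2] at h1
  calc g * ι (a 2) = g * ι (a 2) * g⁻¹ * g := by group
    _ = ι (a 2) * g := by rw [← h1]

include hι in
theorem z_ne_one : ι (a 2) ≠ 1 := by
  intro h
  rw [← map_one ι] at h
  exact a2_ne_one (hι h)

theorem z_sq : ι (a 2) ^ 2 = 1 := by
  rw [← map_pow, a2_sq, map_one]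

include hι hΨ hC in
theorem ker_eq_center : Ψ.ker = Subgroup.center X := by
  ext g
  rw [MonoidHom.mem_ker, psi_eq_one_iff ι hι Ψ hΨ hC, Subgroup.mem_center_iff]
  constructor
  · rintro (h | h) x
    · rw [h, mul_one, one_mul]
    · rw [h]; exact z_central ι Ψ hΨ x
  · intro h
    apply (psi_eq_one_iff ι hι Ψ hΨ hC g).mp
    apply MulEquiv.ext
    intro q
    apply hι
    rw [hΨ, MulAut.one_apply, ← h (ι q), mul_inv_cancel_right]

include hι hΨ hC in
theorem card_center : Nat.card (Subgroup.center X) = 2 := by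
  have h1 : Subgroup.center X = Subgroup.zpowers (ι (a 2)) := by
    apply le_antisymm
    · intro g hg
      rw [← ker_eq_center ι hι Ψ hΨ hC, MonoidHom.mem_ker, psi_eq_one_iff ι hι Ψ hΨ hC] at hg
      rcases hg with h | h
      · rw [h]; exact Subgroup.one_mem _
      · rw [h]; exact Subgroup.mem_zpowers _
    · rw [Subgroup.zpowers_le, Subgroup.mem_center_iff]
      exact z_central ι Ψ hΨ
  have : Fact (Nat.Prime 2) := ⟨Nat.prime_two⟩
  rw [h1, Nat.card_zpowers]
  exact orderOf_eq_prime (z_sq ι) (z_ne_one ι hι)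

include hι hΨ hC in
theorem card_eq [Finite X] : Nat.card X = 2 * Nat.card Ψ.range := by
  have h1 := Subgroup.card_mul_index Ψ.ker
  rw [Subgroup.index_ker, ker_eq_center ι hι Ψ hΨ hC, card_center ι hι Ψ hΨ hC] at h1
  exact h1.symm

include hι in
theorem card_range_iota : Nat.card ι.range = 8 := by
  rw [← Nat.card_congr (MonoidHom.ofInjective hι).toEquiv, Nat.card_eq_fintype_card,
    QuaternionGroup.card]

include hΨ in
theorem range_normal : ι.range.Normal :=
  ⟨fun x hx g => by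
    obtain ⟨q, rfl⟩ := hx
    exact ⟨Ψ g q, hΨ g q⟩⟩

include hι hΨ hC in
/-- the recognition of `GL(2,3)` when there is an involution outside the quaternion subgroup -/
theorem gl23_of_involution [Finite X] (hX : Nat.card X = 48) (hsurj : Function.Surjective Ψ)
    (s : X) (hs2 : s ^ 2 = 1) (hsF : s ∉ ι.range) : Nonempty (X ≃* GL (Fin 2) (ZMod 3)) := by
  have hz2 := z_sq ι
  have hz1 := z_ne_one ι hι
  have hker := psi_eq_one_iff ι hι Ψ hΨ hC
  have hσ : Ψ s ^ 2 = 1 := by rw [← map_pow, hs2, map_one]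
  have hout : ∀ q : Q8, ¬ (Ψ s (a 1) = q * a 1 * q⁻¹ ∧ Ψ s (xa 0) = q * xa 0 * q⁻¹) := by
    rintro q ⟨h1, h2⟩
    have h3 : Ψ s = Ψ (ι q) :=
      aut_ext (by rw [h1, psi_iota ι hι Ψ hΨ]) (by rw [h2, psi_iota ι hι Ψ hΨ])
    have h4 : Ψ (s * (ι q)⁻¹) = 1 := by rw [map_mul, map_inv, h3, mul_inv_cancel]
    apply hsF
    rcases (hker _).mp h4 with h | h
    · rw [mul_inv_eq_one] at h
      rw [h]; exact ⟨q, rfl⟩
    · rw [mul_inv_eq_iff_eq_mul] at h
      rw [h, ← map_mul]; exact ⟨_, rfl⟩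
  obtain ⟨β, hβ⟩ := conj_τ (Ψ s) hσ hout
  obtain ⟨g, hg⟩ := hsurj β
  obtain ⟨c₀, hc₀⟩ := hsurj γ
  set t : X := g⁻¹ * s * g with ht_def
  have ht2 : t ^ 2 = 1 := by
    have : t ^ 2 = g⁻¹ * s ^ 2 * g := by rw [ht_def, pow_two, pow_two]; group
    rw [this, hs2]; group
  have hΨt : Ψ t = τ := by
    rw [ht_def, map_mul, map_mul, map_inv, hg, mul_assoc, ← hβ, inv_mul_cancel_left]
  set c : X := c₀ ^ 4 with hc_def
  have hΨc : Ψ c = γ := by
    rw [hc_def, map_pow, hc₀, pow_succ, γ_cube, one_mul]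
  have hc3 : c ^ 3 = 1 := by
    have h1 : Ψ (c₀ ^ 3) = 1 := by rw [map_pow, hc₀, γ_cube]
    have h2 : c ^ 3 = (c₀ ^ 3) ^ 4 := by rw [hc_def, ← pow_mul, ← pow_mul]
    rw [h2]
    rcases (hker _).mp h1 with h | h
    · rw [h, one_pow]
    · rw [h, show (4 : ℕ) = 2 * 2 from rfl, pow_mul, hz2, one_pow]
  have hc1 : c ≠ 1 := by
    intro h
    rw [h, map_one] at hΨc
    exact γ_ne_one hΨc.symm
  have hτinv : τ⁻¹ = τ := by
    rw [inv_eq_iff_mul_eq_one, ← pow_two, τ_sq]
  have htF : t ∉ ι.range := by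
    rintro ⟨q, hq⟩
    apply τ_not_inner q
    rw [← τ_a, ← τ_xa, ← hΨt, ← hq, psi_iota ι hι Ψ hΨ, psi_iota ι hι Ψ hΨ]
    exact ⟨rfl, rfl⟩
  have ha : ι (a 1) ^ 4 = 1 := by
    rw [← map_pow, show (a 1 : Q8) ^ 4 = 1 from by decide, map_one]
  have hb : ι (xa 0) ^ 2 = ι (a 1) ^ 2 := by
    rw [← map_pow, ← map_pow, show (xa 0 : Q8) ^ 2 = a 1 ^ 2 from by decide]
  have hba : ι (xa 0) * ι (a 1) * (ι (xa 0))⁻¹ = (ι (a 1))⁻¹ := by
    rw [← map_inv, ← map_mul, ← map_inv, ← map_mul,
      show (xa 0 : Q8) * a 1 * (xa 0)⁻¹ = (a 1)⁻¹ from by decide]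
  have hca : c * ι (a 1) * c⁻¹ = ι (xa 0) := by
    rw [← hΨ c (a 1), hΨc, γ_a]
  have hcb : c * ι (xa 0) * c⁻¹ = ι (xa 0) * ι (a 1) := by
    rw [← hΨ c (xa 0), hΨc, γ_xa, ← map_mul, show (xa 0 : Q8) * a 1 = xa 1 from by decide]
  have hta : t * ι (a 1) * t⁻¹ = (ι (a 1))⁻¹ := by
    rw [← hΨ t (a 1), hΨt, τ_a, ← map_inv, show (a 1 : Q8)⁻¹ = a 3 from by decide]
  have htc : t * c * t⁻¹ = c⁻¹ := by
    have h1 : Ψ (t * c * t⁻¹ * c) = 1 := by
      rw [map_mul, map_mul, map_mul, map_inv, hΨt, hΨc, hτinv, τ_γ]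
    rcases (hker _).mp h1 with h | h
    · exact eq_inv_of_mul_eq_one_left h
    · exfalso
      have h2 : t * c * t⁻¹ = ι (a 2) * c⁻¹ := eq_mul_inv_of_mul_eq h
      have h3 : (t * c * t⁻¹) ^ 3 = 1 := by rw [conj_pow, hc3, mul_one, mul_inv_cancel]
      have hcomm : Commute (ι (a 2)) c⁻¹ := (z_central ι Ψ hΨ c⁻¹).symm
      rw [h2, hcomm.mul_pow, inv_pow, hc3, inv_one, mul_one, pow_succ, hz2, one_mul] at h3
      exact hz1 h3
  have hgen : Subgroup.closure ({ι (a 1), ι (xa 0), c, t} : Set X) = ⊤ := by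
    set H : Subgroup X := Subgroup.closure ({ι (a 1), ι (xa 0), c, t} : Set X) with hH
    have haH : ι (a 1) ∈ H := Subgroup.subset_closure (by simp)
    have hbH : ι (xa 0) ∈ H := Subgroup.subset_closure (by simp)
    have hcH : c ∈ H := Subgroup.subset_closure (by simp)
    have htH : t ∈ H := Subgroup.subset_closure (by simp)
    have hFH : ι.range ≤ H := by
      rintro _ ⟨q, rfl⟩
      rw [hom_eq_qw ι q]
      rcases q with i | i
      · exact Subgroup.pow_mem _ haH _
      · exact Subgroup.mul_mem _ hbH (Subgroup.pow_mem _ haH _)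
    have h8H : 8 ∣ Nat.card H := by
      rw [← card_range_iota ι hι]; exact Subgroup.card_dvd_of_le hFH
    have : Fact (Nat.Prime 3) := ⟨Nat.prime_three⟩
    have h3H : 3 ∣ Nat.card H := by
      rw [← orderOf_eq_prime hc3 hc1]; exact Subgroup.orderOf_dvd_natCard H hcH
    have hHX : Nat.card H ∣ 48 := by
      rw [← hX]; exact Subgroup.card_subgroup_dvd_card H
    have h24 : 24 ∣ Nat.card H :=
      Nat.Coprime.mul_dvd_of_dvd_of_dvd (by norm_num : Nat.Coprime 8 3) h8H h3H
    obtain ⟨m, hm⟩ := h24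
    have hm2 : m ∣ 2 := by
      rw [hm, show (48 : ℕ) = 24 * 2 from rfl] at hHX
      exact Nat.dvd_of_mul_dvd_mul_left (by norm_num) hHX
    have hm_le : m ≤ 2 := Nat.le_of_dvd (by norm_num) hm2
    have hm_pos : 0 < m := Nat.pos_of_dvd_of_pos hm2 (by norm_num)
    have hm12 : m = 1 ∨ m = 2 := by omega
    rcases hm12 with h | h
    · exfalso
      rw [h] at hm
      apply htF
      have : ι.range.Normal := range_normal ι Ψ hΨ
      have hidx : (ι.range.subgroupOf H).index = 3 := by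
        have h1 := Subgroup.relIndex_mul_index hFH
        have h2 := Subgroup.card_mul_index H
        have h3 := Subgroup.card_mul_index ι.range
        rw [card_range_iota ι hι, hX] at h3
        rw [hm, hX] at h2
        have h4 : H.index = 2 := by omega
        have h5 : ι.range.index = 6 := by omega
        rw [h4, h5] at h1
        show ι.range.relIndex H = 3
        omega
      have h6 := Subgroup.pow_index_mem (ι.range.subgroupOf H) (⟨t, htH⟩ : H)
      rw [hidx, Subgroup.mem_subgroupOf] at h6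
      have h7 : t ^ 3 = t := by rw [pow_succ, ht2, one_mul]
      have h8 : ((⟨t, htH⟩ : H) ^ 3 : H) = (t ^ 3 : X) := rfl
      rw [h8, h7] at h6
      exact h6
    · apply Subgroup.eq_top_of_card_eq
      rw [hm, h, hX]
  exact Cfsg.Agent.Lib.helper59.GL23Rec.gl23_of_rel hX (ι (a 1)) (ι (xa 0)) c t ha hb hba hca hcb hc3
    ht2 hta htc hgen

include hι hΨ hC in
/-- A finite group with a self-centralising normal quaternion subgroup of order `8`. -/
theorem main [Finite X] : IsPGroup 2 X ∨ Nat.card X = 24 ∨ Nonempty (X ≃* GL (Fin 2) (ZMod 3)) ∨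
    (Nat.card X = 48 ∧ Nat.card (Subgroup.center X) = 2 ∧
      Nonempty (X ⧸ Subgroup.center X ≃* Equiv.Perm (Fin 4)) ∧
      ∀ s : X, s ^ 2 = 1 → s = 1 ∨ s = ι (a 2)) := by
  have hr : Nat.card Ψ.range ∣ 24 := by
    rw [← card_mulAut]; exact Subgroup.card_subgroup_dvd_card Ψ.range
  have h8 : 8 ∣ Nat.card X := by
    rw [← card_range_iota ι hι]; exact Subgroup.card_subgroup_dvd_card ι.range
  have hX := card_eq ι hι Ψ hΨ hC
  rw [hX] at h8
  have hr_le : Nat.card Ψ.range ≤ 24 := Nat.le_of_dvd (by norm_num) hr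
  have hcases : Nat.card Ψ.range = 4 ∨ Nat.card Ψ.range = 8 ∨ Nat.card Ψ.range = 12 ∨
      Nat.card Ψ.range = 24 := by
    generalize Nat.card Ψ.range = r at hr h8 hr_le
    interval_cases r <;> omega
  rcases hcases with h | h | h | h
  · left
    rw [h] at hX
    exact IsPGroup.of_card (n := 3) (by rw [hX]; rfl)
  · left
    rw [h] at hX
    exact IsPGroup.of_card (n := 4) (by rw [hX]; rfl)
  · right; left
    rw [hX, h]
  · right; right
    rw [h] at hX
    have hsurj : Function.Surjective Ψ := by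
      rw [← MonoidHom.range_eq_top]
      apply Subgroup.eq_top_of_le_card
      rw [h, card_mulAut]
    by_cases hs : ∃ s : X, s ^ 2 = 1 ∧ s ∉ ι.range
    · left
      obtain ⟨s, hs2, hsF⟩ := hs
      exact gl23_of_involution ι hι Ψ hΨ hC hX hsurj s hs2 hsF
    · right
      push Not at hs
      refine ⟨hX, card_center ι hι Ψ hΨ hC, ?_, ?_⟩
      · obtain ⟨e⟩ := mulAut_q8_equiv_S4
        have : (Subgroup.center X).Normal := inferInstance
        exact ⟨((QuotientGroup.quotientMulEquivOfEq (ker_eq_center ι hι Ψ hΨ hC).symm).trans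
          (QuotientGroup.quotientKerEquivOfSurjective Ψ hsurj)).trans e⟩
      · intro s hs2
        obtain ⟨q, rfl⟩ := hs s hs2
        have hq : q ^ 2 = 1 := hι (by rw [map_pow, hs2, map_one])
        rcases sq_one_q8 q hq with h0 | h0
        · left; rw [h0, map_one]
        · right; rw [h0]

end

end Cfsg.Agent.Lib.helper59.Q8Normal
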