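import Cfsg.Agent.Lib.helper48.LBRefl

/-!
# S2686, piece O-REFL: basic facts on the reflection matrices `refl G v`
-/

set_option autoImplicit false

namespace Cfsg.Agent.Lib.helper59.S2686

open Matrix Cfsg
open Cfsg.Agent.Lib.helper48.LB

variable {F : Type*} [Field F] {ι : Type} [Fintype ι] [DecidableEq ι]

omit [DecidableEq ι] in
theorem refl_aux_symm (G : Matrix ι ι F) (hG : Gᵀ = G) (x y : ι → F) :
    (G *ᵥ x) ⬝ᵥ y = x ⬝ᵥ G *ᵥ y := by
  have h : x ᵥ* G = G *ᵥ x := by rw [← vecMul_transpose, hG]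
  rw [dotProduct_mulVec, h]

theorem refl_aux_ext (A B : Matrix ι ι F)
    (h : ∀ u w : ι → F, u ⬝ᵥ A *ᵥ w = u ⬝ᵥ B *ᵥ w) : A = B := by
  ext i j
  have := h (Pi.single i 1) (Pi.single j 1)
  simpa using this

theorem refl_mul_self (G : Matrix ι ι F) (hG : Gᵀ = G) (v : ι → F) (hv : v ⬝ᵥ G *ᵥ v ≠ 0) :
    refl G v * refl G v = 1 := by
  apply Matrix.mulVec_injective
  funext u
  rw [← Matrix.mulVec_mulVec, Matrix.one_mulVec, refl_mulVec, refl_mulVec]
  have h1 : (G *ᵥ v) ⬝ᵥ v = v ⬝ᵥ G *ᵥ v := dotProduct_comm _ _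
  rw [dotProduct_sub, dotProduct_smul, h1, smul_eq_mul]
  ext i
  simp only [Pi.sub_apply, Pi.smul_apply, smul_eq_mul]
  field_simp
  ring

theorem refl_isometry (G : Matrix ι ι F) (hG : Gᵀ = G) (v : ι → F) (hv : v ⬝ᵥ G *ᵥ v ≠ 0) :
    (refl G v)ᵀ * G * refl G v = G := by
  apply refl_aux_ext
  intro u w
  have e : u ⬝ᵥ ((refl G v)ᵀ * G * refl G v) *ᵥ w
      = (refl G v *ᵥ u) ⬝ᵥ G *ᵥ (refl G v *ᵥ w) := by
    rw [Matrix.mul_assoc, ← Matrix.mulVec_mulVec, ← Matrix.mulVec_mulVec, dotProduct_mulVec,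
      vecMul_transpose]
  rw [e, refl_mulVec, refl_mulVec]
  simp only [Matrix.mulVec_sub, Matrix.mulVec_smul, sub_dotProduct, dotProduct_sub,
    smul_dotProduct, dotProduct_smul, smul_eq_mul]
  have h1 : u ⬝ᵥ G *ᵥ v = (G *ᵥ v) ⬝ᵥ u := dotProduct_comm _ _
  have h2 : v ⬝ᵥ G *ᵥ w = (G *ᵥ v) ⬝ᵥ w := (refl_aux_symm G hG v w).symm
  rw [h1, h2]
  field_simp
  ring

theorem refl_det (G : Matrix ι ι F) (v : ι → F) (hv : v ⬝ᵥ G *ᵥ v ≠ 0) :
    (refl G v).det = -1 := by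
  unfold Cfsg.Agent.Lib.helper48.LB.refl
  have e : (1 : Matrix ι ι F) - (2 / (v ⬝ᵥ G *ᵥ v)) • vecMulVec v (G *ᵥ v)
      = 1 + replicateCol (Fin 1) ((-(2 / (v ⬝ᵥ G *ᵥ v))) • v)
          * replicateRow (Fin 1) (G *ᵥ v) := by
    ext i j
    simp [vecMulVec_apply, Matrix.mul_apply, sub_eq_add_neg]
    ring
  calc ((1 : Matrix ι ι F) - (2 / (v ⬝ᵥ G *ᵥ v)) • vecMulVec v (G *ᵥ v)).det
      = (1 + replicateCol (Fin 1) ((-(2 / (v ⬝ᵥ G *ᵥ v))) • v)
          * replicateRow (Fin 1) (G *ᵥ v)).det := by rw [e]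
    _ = 1 + (G *ᵥ v) ⬝ᵥ ((-(2 / (v ⬝ᵥ G *ᵥ v))) • v) :=
        det_one_add_replicateCol_mul_replicateRow _ _
    _ = -1 := by
        have h1 : (G *ᵥ v) ⬝ᵥ v = v ⬝ᵥ G *ᵥ v := dotProduct_comm _ _
        rw [dotProduct_smul, smul_eq_mul, h1]
        field_simp
        ring

theorem refl_conj (G : Matrix ι ι F) (hG : Gᵀ = G) (h h' : Matrix ι ι F) (hh : h * h' = 1)
    (c : F) (hc : c ≠ 0) (hsim : hᵀ * G * h = c • G) (v : ι → F) :
    h' * refl G v * h = refl G (h' *ᵥ v) := by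
  have hh' : h' * h = 1 := mul_eq_one_comm.mp hh
  have hB : ∀ x y : ι → F, (h *ᵥ x) ⬝ᵥ G *ᵥ (h *ᵥ y) = c * (x ⬝ᵥ G *ᵥ y) := by
    intro x y
    have h0 : x ⬝ᵥ (hᵀ * G * h) *ᵥ y = x ⬝ᵥ (c • G) *ᵥ y := by rw [hsim]
    rw [Matrix.smul_mulVec, dotProduct_smul, smul_eq_mul] at h0
    rw [← h0, Matrix.mul_assoc, ← Matrix.mulVec_mulVec, ← Matrix.mulVec_mulVec,
      dotProduct_mulVec x, vecMul_transpose]
  apply Matrix.mulVec_injective
  funext u
  rw [← Matrix.mulVec_mulVec, ← Matrix.mulVec_mulVec, refl_mulVec, refl_mulVec, Matrix.mulVec_sub,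
    Matrix.mulVec_smul, Matrix.mulVec_mulVec, hh', Matrix.one_mulVec]
  have hv' : h *ᵥ (h' *ᵥ v) = v := by rw [Matrix.mulVec_mulVec, hh, Matrix.one_mulVec]
  have e1 : (G *ᵥ v) ⬝ᵥ (h *ᵥ u) = c * ((G *ᵥ (h' *ᵥ v)) ⬝ᵥ u) := by
    rw [refl_aux_symm G hG, refl_aux_symm G hG, ← hB, hv']
  have e2 : v ⬝ᵥ G *ᵥ v = c * ((h' *ᵥ v) ⬝ᵥ G *ᵥ (h' *ᵥ v)) := by
    rw [← hB, hv']
  rw [e1, e2, mul_left_comm 2 c, mul_div_mul_left _ _ hc]

theorem refl_aux_comm (G : Matrix ι ι F) (hG : Gᵀ = G) (a b : ι → F)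
    (hab : a ⬝ᵥ G *ᵥ b = 0) : refl G a * refl G b = refl G b * refl G a := by
  have h1 : (G *ᵥ a) ⬝ᵥ b = 0 := by rw [refl_aux_symm G hG]; exact hab
  have h2 : (G *ᵥ b) ⬝ᵥ a = 0 := by rw [dotProduct_comm]; exact hab
  apply Matrix.mulVec_injective
  funext u
  rw [← Matrix.mulVec_mulVec, ← Matrix.mulVec_mulVec]
  simp only [refl_mulVec, dotProduct_sub, dotProduct_smul, smul_eq_mul, h1, h2]
  ext i
  simp only [Pi.sub_apply, Pi.smul_apply, smul_eq_mul]
  ring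

theorem refl_perp_sq (G : Matrix ι ι F) (hG : Gᵀ = G) (a b : ι → F) (ha : a ⬝ᵥ G *ᵥ a ≠ 0)
    (hb : b ⬝ᵥ G *ᵥ b ≠ 0) (hab : a ⬝ᵥ G *ᵥ b = 0) :
    (refl G a * refl G b) * (refl G a * refl G b) = 1 := by
  have hc := refl_aux_comm G hG a b hab
  calc refl G a * refl G b * (refl G a * refl G b)
      = refl G a * (refl G b * refl G a) * refl G b := by simp only [Matrix.mul_assoc]
    _ = refl G a * (refl G a * refl G b) * refl G b := by rw [hc]
    _ = (refl G a * refl G a) * (refl G b * refl G b) := by simp only [Matrix.mul_assoc]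
    _ = 1 := by rw [refl_mul_self G hG a ha, refl_mul_self G hG b hb, Matrix.one_mul]

omit [DecidableEq ι] in
theorem refl_aux_exists_perp (h3 : 3 ≤ Fintype.card ι) (x y : ι → F) :
    ∃ u : ι → F, u ≠ 0 ∧ x ⬝ᵥ u = 0 ∧ y ⬝ᵥ u = 0 := by
  let f : (ι → F) →ₗ[F] (Fin 2 → F) :=
    { toFun := fun u => ![x ⬝ᵥ u, y ⬝ᵥ u]
      map_add' := by
        intro u w
        ext i
        fin_cases i <;> simp [dotProduct_add]
      map_smul' := by
        intro c u
        ext i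
        fin_cases i <;> simp [dotProduct_smul] }
  have hlt : Module.finrank F (Fin 2 → F) < Module.finrank F (ι → F) := by
    rw [Module.finrank_fin_fun, Module.finrank_fintype_fun_eq_card]
    omega
  have hker := LinearMap.ker_ne_bot_of_finrank_lt (f := f) hlt
  obtain ⟨u, hu, hu0⟩ := (Submodule.ne_bot_iff _).mp hker
  have hfu : f u = 0 := LinearMap.mem_ker.mp hu
  refine ⟨u, hu0, ?_, ?_⟩
  · have := congrFun hfu 0
    simpa [f] using this
  · have := congrFun hfu 1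
    simpa [f] using this

theorem refl_perp_not_scalar (h2 : (2 : F) ≠ 0) (G : Matrix ι ι F) (hG : Gᵀ = G)
    (h3 : 3 ≤ Fintype.card ι) (a b : ι → F) (ha : a ⬝ᵥ G *ᵥ a ≠ 0) (hb : b ⬝ᵥ G *ᵥ b ≠ 0)
    (hab : a ⬝ᵥ G *ᵥ b = 0) (c : F) : refl G a * refl G b ≠ c • (1 : Matrix ι ι F) := by
  intro h
  obtain ⟨u, hu0, hua, hub⟩ := refl_aux_exists_perp h3 (G *ᵥ a) (G *ᵥ b)
  have hu : (refl G a * refl G b) *ᵥ u = u := by
    rw [← Matrix.mulVec_mulVec, refl_mulVec G b u, hub]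
    simp only [mul_zero, zero_div, zero_smul, sub_zero]
    rw [refl_mulVec, hua]
    simp only [mul_zero, zero_div, zero_smul, sub_zero]
  have h1 : (G *ᵥ b) ⬝ᵥ a = 0 := by rw [dotProduct_comm]; exact hab
  have hA : (refl G a * refl G b) *ᵥ a = -a := by
    rw [← Matrix.mulVec_mulVec, refl_mulVec G b a, h1]
    simp only [mul_zero, zero_div, zero_smul, sub_zero]
    rw [refl_mulVec, dotProduct_comm (G *ᵥ a) a, mul_div_assoc, div_self ha, mul_one]
    ext i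
    simp only [Pi.sub_apply, Pi.smul_apply, smul_eq_mul, Pi.neg_apply]
    ring
  rw [h, Matrix.smul_mulVec, Matrix.one_mulVec] at hu hA
  have hc1 : c = 1 := by
    obtain ⟨i, hi⟩ : ∃ i, u i ≠ 0 := by
      by_contra hne
      push Not at hne
      exact hu0 (funext hne)
    have := congrFun hu i
    simp only [Pi.smul_apply, smul_eq_mul] at this
    exact mul_right_cancel₀ hi (by rw [this, one_mul])
  have ha0 : a ≠ 0 := by
    rintro rfl
    simp at ha
  have hc2 : c = -1 := by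
    obtain ⟨i, hi⟩ : ∃ i, a i ≠ 0 := by
      by_contra hne
      push Not at hne
      exact ha0 (funext hne)
    have := congrFun hA i
    simp only [Pi.smul_apply, smul_eq_mul, Pi.neg_apply] at this
    exact mul_right_cancel₀ hi (by rw [this, neg_one_mul])
  rw [hc1] at hc2
  apply h2
  linear_combination hc2

theorem refl_mul_scalar (h2 : (2 : F) ≠ 0) (G : Matrix ι ι F) (hG : Gᵀ = G)
    (h3 : 3 ≤ Fintype.card ι) (v w : ι → F) (hv : v ⬝ᵥ G *ᵥ v ≠ 0) (hw : w ⬝ᵥ G *ᵥ w ≠ 0)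
    (c : F) (h : refl G w * refl G v = c • (1 : Matrix ι ι F)) : ∃ t : F, w = t • v := by
  have h1 : refl G w = c • refl G v := by
    have h0 : refl G w * refl G v * refl G v = c • (1 : Matrix ι ι F) * refl G v := by rw [h]
    rw [Matrix.mul_assoc, refl_mul_self G hG v hv, Matrix.mul_one, Matrix.smul_mul,
      Matrix.one_mul] at h0
    exact h0
  have h4 : refl G w *ᵥ w = (c • refl G v) *ᵥ w := by rw [h1]
  rw [Matrix.smul_mulVec, refl_mulVec, refl_mulVec, dotProduct_comm (G *ᵥ w) w, mul_div_assoc,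
    div_self hw, mul_one] at h4
  set d := 2 * ((G *ᵥ v) ⬝ᵥ w) / (v ⬝ᵥ G *ᵥ v) with hd
  have h5 : ∀ i, (1 + c) * w i = c * d * v i := by
    intro i
    have := congrFun h4 i
    simp only [Pi.sub_apply, Pi.smul_apply, smul_eq_mul] at this
    linear_combination -this
  by_cases hc : 1 + c = 0
  · exfalso
    have hv0 : v ≠ 0 := by
      rintro rfl
      simp at hv
    obtain ⟨i, hi⟩ : ∃ i, v i ≠ 0 := by
      by_contra hne
      push Not at hne
      exact hv0 (funext hne)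
    have hcm : c = -1 := by linear_combination hc
    have h6 := h5 i
    rw [hc, zero_mul, hcm] at h6
    have hd0 : d = 0 := by
      have : d * v i = 0 := by linear_combination h6
      rcases mul_eq_zero.mp this with h | h
      · exact h
      · exact absurd h hi
    have hvw : (G *ᵥ v) ⬝ᵥ w = 0 := by
      rw [hd] at hd0
      rcases div_eq_zero_iff.mp hd0 with h | h
      · rcases mul_eq_zero.mp h with h | h
        · exact absurd h h2
        · exact h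
      · exact absurd h hv
    have hwv : w ⬝ᵥ G *ᵥ v = 0 := by rw [dotProduct_comm]; exact hvw
    exact refl_perp_not_scalar h2 G hG h3 w v hw hv hwv c h
  · refine ⟨c * d / (1 + c), ?_⟩
    ext i
    simp only [Pi.smul_apply, smul_eq_mul]
    have h6 := h5 i
    field_simp
    linear_combination h6

end Cfsg.Agent.Lib.helper59.S2686
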