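import Mathlib
import Cfsg.Agent.Lib.helper89.S60Defs
import Cfsg.Agent.Lib.helper32.S6eX35

/-!
S6000 piece X5 (`s60_exists_five`), racing copy by helper59 under the prefixed name
`h59_s60_exists_five` (statement verbatim from `tools/S6000_Skel.lean.txt`).
-/

set_option autoImplicit false

namespace Cfsg.Agent.Lib.helper89.S60

open Matrix Cfsg Cfsg.Geo

/-- the block embedding `A ↦ A ⊕ 1 ⊕ 1` of `2 × 2` matrices into `4 × 4` matrices -/
noncomputable def h59Emb4 {F : Type*} [Field F] (A : Matrix (Fin 2) (Fin 2) F) : Matrix (Fin 4) (Fin 4) F :=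
  (Matrix.fromBlocks A 0 0 (1 : Matrix (Fin 2) (Fin 2) F)).submatrix
    (finSumFinEquiv (m := 2) (n := 2)).symm (finSumFinEquiv (m := 2) (n := 2)).symm

theorem h59_emb4_mul {F : Type*} [Field F] (A B : Matrix (Fin 2) (Fin 2) F) :
    h59Emb4 (A * B) = h59Emb4 A * h59Emb4 B := by
  unfold h59Emb4
  rw [Matrix.submatrix_mul_equiv, Matrix.fromBlocks_multiply]
  simp

theorem h59_emb4_one {F : Type*} [Field F] : h59Emb4 (1 : Matrix (Fin 2) (Fin 2) F) = 1 := by
  unfold h59Emb4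
  rw [Matrix.fromBlocks_one, Matrix.submatrix_one_equiv]

theorem h59_emb4_pow {F : Type*} [Field F] (A : Matrix (Fin 2) (Fin 2) F) (n : ℕ) :
    h59Emb4 (A ^ n) = h59Emb4 A ^ n := by
  induction n with
  | zero => rw [pow_zero, pow_zero, h59_emb4_one]
  | succ n ih => rw [pow_succ, pow_succ, h59_emb4_mul, ih]

theorem h59_emb4_trace {F : Type*} [Field F] (A : Matrix (Fin 2) (Fin 2) F) :
    Matrix.trace (h59Emb4 A) = 2 + Matrix.trace A := by
  unfold h59Emb4
  have h1 : Matrix.trace ((Matrix.fromBlocks A 0 0 (1 : Matrix (Fin 2) (Fin 2) F)).submatrix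
      (finSumFinEquiv (m := 2) (n := 2)).symm (finSumFinEquiv (m := 2) (n := 2)).symm) =
      Matrix.trace (Matrix.fromBlocks A 0 0 (1 : Matrix (Fin 2) (Fin 2) F)) := by
    simp only [Matrix.trace, Matrix.diag, Matrix.submatrix_apply]
    exact Equiv.sum_comp (finSumFinEquiv (m := 2) (n := 2)).symm
      (fun j => (Matrix.fromBlocks A 0 0 (1 : Matrix (Fin 2) (Fin 2) F)) j j)
  rw [h1]
  simp only [Matrix.trace, Matrix.diag, Fintype.sum_sum_type, Matrix.fromBlocks_apply₁₁,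
    Matrix.fromBlocks_apply₂₂, Matrix.one_apply_eq, Fin.sum_univ_two]
  ring

theorem h59_emb4_det {F : Type*} [Field F] (A : Matrix (Fin 2) (Fin 2) F) :
    (h59Emb4 A).det = A.det := by
  unfold h59Emb4
  rw [Matrix.det_submatrix_equiv_self, Matrix.det_fromBlocks_zero₁₂, Matrix.det_one, mul_one]

theorem h59_emb4_inj {F : Type*} [Field F] (A B : Matrix (Fin 2) (Fin 2) F)
    (h : h59Emb4 A = h59Emb4 B) : A = B := by
  unfold h59Emb4 at h
  have h' := congrArg (fun M : Matrix (Fin 4) (Fin 4) F =>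
    M.submatrix (finSumFinEquiv (m := 2) (n := 2)) (finSumFinEquiv (m := 2) (n := 2))) h
  simp only [Matrix.submatrix_submatrix, Equiv.symm_comp_self, Matrix.submatrix_id_id] at h'
  exact (Matrix.fromBlocks_inj.mp h').1

theorem h59_emb4_not_scalar {F : Type*} [Field F] (A : Matrix (Fin 2) (Fin 2) F) (hA : A ≠ 1) :
    ∀ z : F, h59Emb4 A ≠ z • (1 : Matrix (Fin 4) (Fin 4) F) := by
  intro z hz
  have h1 := congrFun (congrFun hz (finSumFinEquiv (m := 2) (n := 2) (Sum.inr 0)))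
    (finSumFinEquiv (m := 2) (n := 2) (Sum.inr 0))
  have hz1 : z = 1 := by
    simp only [h59Emb4, Matrix.submatrix_apply, Equiv.symm_apply_apply, Matrix.fromBlocks_apply₂₂,
      Matrix.one_apply_eq, Matrix.smul_apply, smul_eq_mul, mul_one] at h1
    exact h1.symm
  rw [hz1, one_smul, ← h59_emb4_one] at hz
  exact hA (h59_emb4_inj _ _ hz)

/-- X5 (M). -/
theorem h59_s60_exists_five {F : Type*} [Field F] [Fintype F] (h2 : (2 : F) ≠ 0)
    (hdiv : 5 ∣ Fintype.card F ^ 2 - 1) :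
    ∃ x : GL (Fin 4) F, x ∈ specialLinear (Fin 4) F ∧ x ^ 5 = 1 ∧ (∀ z : F, (x : Matrix (Fin 4) (Fin 4) F) ≠ z • (1 : Matrix (Fin 4) (Fin 4) F)) ∧
      ∃ τ : F, τ ^ 2 + τ - 1 = 0 ∧ Matrix.trace (x : Matrix (Fin 4) (Fin 4) F) = 2 + τ ∧
        Matrix.trace ((x⁻¹ : GL (Fin 4) F) : Matrix (Fin 4) (Fin 4) F) = 2 + τ := by
  have : Fact (Nat.Prime 5) := ⟨Nat.prime_five⟩
  obtain ⟨A, hdet, hA5, hA1⟩ := Cfsg.Agent.Lib.helper24.h32_s6_sl2_elt (F := F) 5 hdiv
  have htr := Cfsg.Agent.Lib.helper24.h32_s6_sl2_trace5 h2 A hdet hA5 hA1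
  have hm1 : h59Emb4 A * h59Emb4 (Matrix.adjugate A) = 1 := by
    rw [← h59_emb4_mul, Matrix.mul_adjugate, hdet, one_smul, h59_emb4_one]
  have hm2 : h59Emb4 (Matrix.adjugate A) * h59Emb4 A = 1 := by
    rw [← h59_emb4_mul, Matrix.adjugate_mul, hdet, one_smul, h59_emb4_one]
  refine ⟨⟨h59Emb4 A, h59Emb4 (Matrix.adjugate A), hm1, hm2⟩, ?_, ?_, ?_, Matrix.trace A, htr, ?_, ?_⟩
  · change (Matrix.GeneralLinearGroup.det : GL (Fin 4) F →* Fˣ) _ = 1
    apply Units.ext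
    rw [Matrix.GeneralLinearGroup.val_det_apply]
    change (h59Emb4 A).det = 1
    rw [h59_emb4_det, hdet]
  · apply Units.ext
    rw [Units.val_pow_eq_pow_val]
    change h59Emb4 A ^ 5 = 1
    rw [← h59_emb4_pow, hA5, h59_emb4_one]
  · exact h59_emb4_not_scalar A hA1
  · exact h59_emb4_trace A
  · change Matrix.trace (h59Emb4 (Matrix.adjugate A)) = 2 + Matrix.trace A
    rw [h59_emb4_trace, Cfsg.Agent.Lib.helper24.h32_trace_adj2]

end Cfsg.Agent.Lib.helper89.S60
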