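import Cfsg.Agent.Lib.helper59.SL2
import Mathlib.LinearAlgebra.Matrix.GeneralLinearGroup.Card
import Mathlib.LinearAlgebra.Matrix.GeneralLinearGroup.Defs
import Mathlib.GroupTheory.QuotientGroup.Basic
import Mathlib.GroupTheory.Index

set_option autoImplicit false

namespace Cfsg.Agent.Lib.helper59

open Matrix

section SL2More

variable {F : Type*} [Field F] [Fintype F]

/-- The matrix `[[1,-2],[1,-1]]` in `SL₂(F)`; it squares to `-1`. -/
def sl2W1 (F : Type*) [Field F] : SpecialLinearGroup (Fin 2) F :=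
  ⟨!![1, -2; 1, -1], by simp [det_fin_two]; ring⟩

omit [Fintype F] in
theorem sl2W1_sq : (sl2W1 F) ^ 2 = sl2NegOne F := by
  apply Subtype.ext
  rw [SpecialLinearGroup.coe_pow, pow_two]
  simp only [sl2W1, sl2NegOne, Matrix.mul_fin_two]
  ext i j
  fin_cases i <;> fin_cases j <;> simp <;> ring

omit [Fintype F] in
theorem sl2NegOne_comm (g : SpecialLinearGroup (Fin 2) F) : g * sl2NegOne F = sl2NegOne F * g := by
  apply Subtype.ext
  rw [SpecialLinearGroup.coe_mul, SpecialLinearGroup.coe_mul]
  have hg : g.1 = !![g.1 0 0, g.1 0 1; g.1 1 0, g.1 1 1] := by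
    ext i j; fin_cases i <;> fin_cases j <;> rfl
  rw [hg]
  simp only [sl2NegOne, Matrix.mul_fin_two]
  ext i j
  fin_cases i <;> fin_cases j <;> simp

/-- A matrix of `SL₂(F)` commuting with `sl2W` has the form `[[p,q],[-q,p]]`. -/
theorem sl2_commute_W_entries (g : SpecialLinearGroup (Fin 2) F) (h : g * sl2W F = sl2W F * g) :
    g.1 1 1 = g.1 0 0 ∧ g.1 1 0 = - g.1 0 1 := by
  have h' : g.1 * (sl2W F).1 = (sl2W F).1 * g.1 := by
    have := congrArg Subtype.val h
    rwa [SpecialLinearGroup.coe_mul, SpecialLinearGroup.coe_mul] at this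
  have h00 := congrFun (congrFun h' 0) 0
  have h01 := congrFun (congrFun h' 0) 1
  simp only [Matrix.mul_apply, Fin.sum_univ_two, sl2W, Fin.isValue, Matrix.of_apply,
    Matrix.cons_val', Matrix.cons_val_zero, Matrix.cons_val_one, Matrix.cons_val_fin_one] at h00 h01
  constructor
  · linear_combination h01
  · linear_combination h00

theorem sl2_commute_W_sq (hF : Odd (Fintype.card F)) (s : SpecialLinearGroup (Fin 2) F)
    (hs : s ^ 2 = sl2NegOne F) (h : s * sl2W F = sl2W F * s) : s = sl2W F ∨ s = (sl2W F)⁻¹ := by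
  have h2 := two_ne_zero_of_odd_card hF
  obtain ⟨e1, e2⟩ := sl2_commute_W_entries s h
  have hdet : s.1 0 0 * s.1 1 1 - s.1 0 1 * s.1 1 0 = 1 := by
    have := s.2; rwa [det_fin_two] at this
  have hsq : s.1 * s.1 = (sl2NegOne F).1 := by
    have := congrArg Subtype.val hs
    rw [SpecialLinearGroup.coe_pow, pow_two] at this
    exact this
  have h00 := congrFun (congrFun hsq 0) 0
  simp only [Matrix.mul_apply, Fin.sum_univ_two, sl2NegOne, Fin.isValue, Matrix.of_apply,
    Matrix.cons_val', Matrix.cons_val_zero, Matrix.cons_val_fin_one] at h00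
  rw [e1, e2] at hdet
  rw [e2] at h00
  have hp : s.1 0 0 = 0 := by
    have : 2 * (s.1 0 0 * s.1 0 0) = 0 := by linear_combination hdet + h00
    rcases mul_eq_zero.mp this with h | h
    · exact absurd h h2
    · exact mul_self_eq_zero.mp h
  rw [hp] at hdet
  have hq : s.1 0 1 * s.1 0 1 = 1 := by linear_combination hdet
  have hWinv : ((sl2W F)⁻¹).1 = !![0, 1; -1, 0] := by
    rw [SpecialLinearGroup.coe_inv, sl2W]
    simp [Matrix.adjugate_fin_two]
  rcases mul_self_eq_one_iff.mp hq with h | h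
  · right
    apply Subtype.ext
    rw [hWinv]
    ext i j
    fin_cases i <;> fin_cases j
    · simpa using hp
    · simpa using h
    · simp; rw [e2, h]
    · simp; rw [e1, hp]
  · left
    apply Subtype.ext
    ext i j
    fin_cases i <;> fin_cases j
    · simpa [sl2W] using hp
    · simpa [sl2W] using h
    · simp [sl2W]; rw [e2, h]; simp
    · simp [sl2W]; rw [e1, hp]

omit [Fintype F] in
theorem sl2W_W1_not_comm (h2 : (2 : F) ≠ 0) : sl2W F * sl2W1 F ≠ sl2W1 F * sl2W F := by
  intro h
  have h' := congrArg Subtype.val h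
  rw [SpecialLinearGroup.coe_mul, SpecialLinearGroup.coe_mul] at h'
  have h01 := congrFun (congrFun h' 0) 1
  simp only [sl2W, sl2W1, Matrix.mul_apply, Fin.sum_univ_two,
    Fin.isValue, Matrix.of_apply, Matrix.cons_val', Matrix.cons_val_zero, Matrix.cons_val_one,
    Matrix.cons_val_fin_one] at h01
  apply h2
  linear_combination h01

theorem sl2_centralizer_sq_negOne (hF : Odd (Fintype.card F)) (g : SpecialLinearGroup (Fin 2) F)
    (h : ∀ s : SpecialLinearGroup (Fin 2) F, s ^ 2 = sl2NegOne F → g * s = s * g) :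
    g = 1 ∨ g = sl2NegOne F := by
  have h2 := two_ne_zero_of_odd_card hF
  obtain ⟨e1, e2⟩ := sl2_commute_W_entries g (h _ sl2W_sq)
  have hw1 := h _ sl2W1_sq
  have h' : g.1 * (sl2W1 F).1 = (sl2W1 F).1 * g.1 := by
    have := congrArg Subtype.val hw1
    rwa [SpecialLinearGroup.coe_mul, SpecialLinearGroup.coe_mul] at this
  have h00 := congrFun (congrFun h' 0) 0
  simp only [Matrix.mul_apply, Fin.sum_univ_two, sl2W1, Fin.isValue, Matrix.of_apply,
    Matrix.cons_val', Matrix.cons_val_zero, Matrix.cons_val_one, Matrix.cons_val_fin_one] at h00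
  rw [e2] at h00
  have hq : g.1 0 1 = 0 := by
    linear_combination -h00
  have hdet : g.1 0 0 * g.1 1 1 - g.1 0 1 * g.1 1 0 = 1 := by
    have := g.2; rwa [det_fin_two] at this
  rw [e1, hq] at hdet
  have hp : g.1 0 0 * g.1 0 0 = 1 := by linear_combination hdet
  rcases mul_self_eq_one_iff.mp hp with h | h
  · left
    apply SpecialLinearGroup.ext
    intro i j
    fin_cases i <;> fin_cases j
    · simpa using h
    · simpa using hq
    · simp; rw [e2, hq, neg_zero]
    · simp; rw [e1, h]
  · right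
    apply SpecialLinearGroup.ext
    intro i j
    fin_cases i <;> fin_cases j
    · simpa [sl2NegOne] using h
    · simpa [sl2NegOne] using hq
    · simp [sl2NegOne]; rw [e2, hq, neg_zero]
    · simp [sl2NegOne]; rw [e1, h]

/-- Further facts about a group isomorphic to `SL₂(F)`, `F` of odd order, relative to its
involution `j`: commuting elements of order 4 with square `j` are equal or inverse; an element
commuting with all of them is `1` or `j`; and each of them fails to commute with another one. -/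
theorem sl2_facts_more {L : Type*} [Group L] (e : L ≃* SpecialLinearGroup (Fin 2) F)
    (hF : Odd (Fintype.card F)) (j : L) (hj2 : j ^ 2 = 1) (hj1 : j ≠ 1) :
    (∀ a a' : L, a ^ 2 = j → a' ^ 2 = j → a * a' = a' * a → a' = a ∨ a' = a⁻¹) ∧
      (∀ g : L, (∀ a : L, a ^ 2 = j → g * a = a * g) → g = 1 ∨ g = j) ∧
      (∀ a : L, a ^ 2 = j → ∃ a' : L, a' ^ 2 = j ∧ a * a' ≠ a' * a) := by
  have h2 := two_ne_zero_of_odd_card hF
  have hej : e j = sl2NegOne F := by
    have h1 : (e j) ^ 2 = 1 := by rw [← map_pow, hj2, map_one]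
    rcases sl2_sq_eq_one hF (e j) h1 with h | h
    · exfalso; apply hj1
      apply e.injective; rw [h, map_one]
    · exact h
  -- conjugation preserves the property `s ^ 2 = -1`
  have hconjsq : ∀ (g s : SpecialLinearGroup (Fin 2) F), s ^ 2 = sl2NegOne F →
      (g * s * g⁻¹) ^ 2 = sl2NegOne F := by
    intro g s hs
    rw [conj_pow, hs, sl2NegOne_comm g, mul_assoc, mul_inv_cancel, mul_one]
  refine ⟨?_, ?_, ?_⟩
  · intro a a' ha ha' hc
    have h1 : (e a) ^ 2 = sl2NegOne F := by rw [← map_pow, ha, hej]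
    have h1' : (e a') ^ 2 = sl2NegOne F := by rw [← map_pow, ha', hej]
    obtain ⟨g, hg⟩ := sl2_conj_of_sq_eq_negOne hF (e a) h1
    have hc' : e a * e a' = e a' * e a := by rw [← map_mul, ← map_mul, hc]
    have h3 : (g⁻¹ * e a' * g) ^ 2 = sl2NegOne F := by
      have := hconjsq g⁻¹ (e a') h1'
      rwa [inv_inv] at this
    have h4 : (g⁻¹ * e a' * g) * sl2W F = sl2W F * (g⁻¹ * e a' * g) := by
      have e1 : sl2W F = g⁻¹ * e a * g := by rw [← hg]; group
      rw [e1]
      calc g⁻¹ * e a' * g * (g⁻¹ * e a * g) = g⁻¹ * (e a' * e a) * g := by group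
        _ = g⁻¹ * (e a * e a') * g := by rw [hc']
        _ = g⁻¹ * e a * g * (g⁻¹ * e a' * g) := by group
    rcases sl2_commute_W_sq hF _ h3 h4 with h | h
    · left
      apply e.injective
      rw [← hg, ← h]; group
    · right
      apply e.injective
      rw [map_inv, ← hg]
      have : e a' = g * (g⁻¹ * e a' * g) * g⁻¹ := by group
      rw [this, h]; group
  · intro g hg
    have h1 : ∀ s : SpecialLinearGroup (Fin 2) F, s ^ 2 = sl2NegOne F → e g * s = s * e g := by
      intro s hs
      have h3 : (e.symm s) ^ 2 = j := by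
        apply e.injective
        rw [map_pow, MulEquiv.apply_symm_apply, hs, hej]
      have h4 := hg _ h3
      have h5 := congrArg e h4
      rwa [map_mul, map_mul, MulEquiv.apply_symm_apply] at h5
    rcases sl2_centralizer_sq_negOne hF (e g) h1 with h | h
    · left; apply e.injective; rw [h, map_one]
    · right; apply e.injective; rw [h, hej]
  · intro a ha
    have h1 : (e a) ^ 2 = sl2NegOne F := by rw [← map_pow, ha, hej]
    obtain ⟨g, hg⟩ := sl2_conj_of_sq_eq_negOne hF (e a) h1
    refine ⟨e.symm (g * sl2W1 F * g⁻¹), ?_, ?_⟩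
    · apply e.injective
      rw [map_pow, MulEquiv.apply_symm_apply, hconjsq g _ sl2W1_sq, hej]
    · intro hc
      have h3 : e a * e (e.symm (g * sl2W1 F * g⁻¹)) = e (e.symm (g * sl2W1 F * g⁻¹)) * e a := by
        rw [← map_mul, ← map_mul, hc]
      rw [MulEquiv.apply_symm_apply, ← hg] at h3
      apply sl2W_W1_not_comm h2
      calc sl2W F * sl2W1 F = g⁻¹ * (g * sl2W F * g⁻¹ * (g * sl2W1 F * g⁻¹)) * g := by group
        _ = g⁻¹ * (g * sl2W1 F * g⁻¹ * (g * sl2W F * g⁻¹)) * g := by rw [h3]
        _ = sl2W1 F * sl2W F := by group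

/-- The order of `SL₂(F)`. -/
theorem card_sl2 : Nat.card (SpecialLinearGroup (Fin 2) F) =
    Fintype.card F * (Fintype.card F ^ 2 - 1) := by
  classical
  have hq : 2 ≤ Fintype.card F := Fintype.one_lt_card
  have hsurj : Function.Surjective (GeneralLinearGroup.det : GL (Fin 2) F →* Fˣ) :=
    GeneralLinearGroup.det_surjective
  have h1 : Nat.card (GL (Fin 2) F) =
      Nat.card (GL (Fin 2) F ⧸ (GeneralLinearGroup.det : GL (Fin 2) F →* Fˣ).ker) *
        Nat.card (GeneralLinearGroup.det : GL (Fin 2) F →* Fˣ).ker :=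
    Subgroup.card_eq_card_quotient_mul_card_subgroup _
  have h2 : Nat.card (GL (Fin 2) F ⧸ (GeneralLinearGroup.det : GL (Fin 2) F →* Fˣ).ker) =
      Nat.card Fˣ :=
    Nat.card_congr (QuotientGroup.quotientKerEquivOfSurjective _ hsurj).toEquiv
  have h3 : Nat.card (GeneralLinearGroup.det : GL (Fin 2) F →* Fˣ).ker =
      Nat.card (SpecialLinearGroup (Fin 2) F) := by
    symm
    apply Nat.card_congr
    refine Equiv.ofBijective (fun s => ⟨SpecialLinearGroup.toGL s, ?_⟩) ⟨?_, ?_⟩
    · rw [MonoidHom.mem_ker]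
      exact SpecialLinearGroup.coeToGL_det s
    · intro s s' h
      exact SpecialLinearGroup.toGL_injective (congrArg Subtype.val h)
    · rintro ⟨g, hg⟩
      rw [MonoidHom.mem_ker] at hg
      have hdet : g.1.det = 1 := by
        have := congrArg Units.val hg
        simpa using this
      refine ⟨⟨g.1, hdet⟩, ?_⟩
      apply Subtype.ext
      apply Units.ext
      rfl
  have h4 : Nat.card Fˣ = Fintype.card F - 1 := by
    rw [Nat.card_eq_fintype_card, Fintype.card_units]
  have h5 : Nat.card (GL (Fin 2) F) =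
      (Fintype.card F ^ 2 - 1) * (Fintype.card F ^ 2 - Fintype.card F) := by
    rw [card_GL_field]
    simp [Fin.prod_univ_two]
  rw [h2, h3, h4, h5] at h1
  set q := Fintype.card F with hq'
  set N := Nat.card (SpecialLinearGroup (Fin 2) F) with hN
  have h6 : q ^ 2 - q = q * (q - 1) := by
    rw [Nat.mul_sub, mul_one, pow_two]
  rw [h6] at h1
  have h7 : (q - 1) * (q * (q ^ 2 - 1)) = (q - 1) * N := by
    rw [← h1]; ring
  have h8 : 0 < q - 1 := by omega
  exact (Nat.eq_of_mul_eq_mul_left h8 h7).symm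

/-- `SL₂` over finite fields of different orders are not isomorphic (by order). -/
theorem card_eq_of_sl2_equiv {F₁ : Type*} [Field F₁] [Fintype F₁] {F₂ : Type*} [Field F₂]
    [Fintype F₂] (e : SpecialLinearGroup (Fin 2) F₁ ≃* SpecialLinearGroup (Fin 2) F₂) :
    Fintype.card F₁ = Fintype.card F₂ := by
  have h := Nat.card_congr e.toEquiv
  rw [card_sl2, card_sl2] at h
  have h1 : 2 ≤ Fintype.card F₁ := Fintype.one_lt_card
  have h2 : 2 ≤ Fintype.card F₂ := Fintype.one_lt_card
  set a := Fintype.card F₁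
  set b := Fintype.card F₂
  have mono : ∀ x y : ℕ, 2 ≤ x → x < y → x * (x ^ 2 - 1) < y * (y ^ 2 - 1) := by
    intro x y hx hxy
    have h3 : x ^ 2 < y ^ 2 := Nat.pow_lt_pow_left hxy (by norm_num)
    have h4 : 1 ≤ x ^ 2 := Nat.one_le_pow _ _ (by omega)
    have h5 : x ^ 2 - 1 < y ^ 2 - 1 := by omega
    exact Nat.mul_lt_mul'' hxy h5
  rcases Nat.lt_trichotomy a b with hlt | heq | hgt
  · have := mono a b h1 hlt; omega
  · exact heq
  · have := mono b a h2 hgt; omega

end SL2More

end Cfsg.Agent.Lib.helper59
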