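import Mathlib

/-!
# Elementary facts on `SL₂(F)` over a finite field of odd order (helper59)

For `J` the central involution of `SL₂(F)`:
* `sq_eq_one` : `x² = 1 → x = 1 ∨ x = J`;
* `sqrt_unique` : `l² = J`, `x² = l`, `y² = l` imply `y = x ∨ y = x * J`;
* `conj_of_sq` : any two `l, l'` with `l² = l'² = J` are conjugate;
* `exists_sq` : some `l` has `l² = J`.
-/

set_option autoImplicit false

namespace Cfsg.Agent.Lib.helper59.SLTwo

open Matrix

variable {F : Type*} [Field F]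

theorem sl_ext {x y : SpecialLinearGroup (Fin 2) F} (h00 : x.1 0 0 = y.1 0 0)
    (h01 : x.1 0 1 = y.1 0 1) (h10 : x.1 1 0 = y.1 1 0) (h11 : x.1 1 1 = y.1 1 1) : x = y := by
  apply Subtype.ext
  ext i j
  fin_cases i <;> fin_cases j <;> assumption

theorem det_eq (x : SpecialLinearGroup (Fin 2) F) :
    x.1 0 0 * x.1 1 1 - x.1 0 1 * x.1 1 0 = 1 := by
  have := x.2
  rwa [Matrix.det_fin_two] at this

theorem mul_entries (x y : SpecialLinearGroup (Fin 2) F) :
    (x * y).1 0 0 = x.1 0 0 * y.1 0 0 + x.1 0 1 * y.1 1 0 ∧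
    (x * y).1 0 1 = x.1 0 0 * y.1 0 1 + x.1 0 1 * y.1 1 1 ∧
    (x * y).1 1 0 = x.1 1 0 * y.1 0 0 + x.1 1 1 * y.1 1 0 ∧
    (x * y).1 1 1 = x.1 1 0 * y.1 0 1 + x.1 1 1 * y.1 1 1 := by
  have h : (x * y).1 = x.1 * y.1 := rfl
  rw [h]
  simp [Matrix.mul_apply, Fin.sum_univ_two]

theorem one_entries : (1 : SpecialLinearGroup (Fin 2) F).1 0 0 = 1 ∧
    (1 : SpecialLinearGroup (Fin 2) F).1 0 1 = 0 ∧
    (1 : SpecialLinearGroup (Fin 2) F).1 1 0 = 0 ∧
    (1 : SpecialLinearGroup (Fin 2) F).1 1 1 = 1 := by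
  have h : (1 : SpecialLinearGroup (Fin 2) F).1 = 1 := rfl
  rw [h]
  simp

/-- An element with square one has entries `±1` on the diagonal. -/
theorem sq_one_entries (h2 : (2 : F) ≠ 0) (x : SpecialLinearGroup (Fin 2) F) (hx : x ^ 2 = 1) :
    (x.1 0 0 = 1 ∧ x.1 0 1 = 0 ∧ x.1 1 0 = 0 ∧ x.1 1 1 = 1) ∨
    (x.1 0 0 = -1 ∧ x.1 0 1 = 0 ∧ x.1 1 0 = 0 ∧ x.1 1 1 = -1) := by
  rw [pow_two] at hx
  obtain ⟨m00, m01, m10, m11⟩ := mul_entries x x
  obtain ⟨o00, o01, o10, o11⟩ := one_entries (F := F)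
  rw [hx] at m00 m01 m10 m11
  rw [o00] at m00
  rw [o01] at m01
  rw [o10] at m10
  rw [o11] at m11
  have hd := det_eq x
  set a := x.1 0 0
  set b := x.1 0 1
  set c := x.1 1 0
  set d := x.1 1 1
  have ta : (a + d) * a = 2 := by linear_combination (-1 : F) * m00 + hd
  have td : (a + d) * d = 2 := by linear_combination (-1 : F) * m11 + hd
  have tb : (a + d) * b = 0 := by linear_combination (-1 : F) * m01
  have tc : (a + d) * c = 0 := by linear_combination (-1 : F) * m10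
  have tt : (a + d - 2) * (a + d + 2) = 0 := by linear_combination ta + td
  have t0 : a + d ≠ 0 := by
    intro h
    rw [h, zero_mul] at ta
    exact h2 ta.symm
  have hb : b = 0 := by
    rcases mul_eq_zero.mp tb with h | h
    · exact absurd h t0
    · exact h
  have hc : c = 0 := by
    rcases mul_eq_zero.mp tc with h | h
    · exact absurd h t0
    · exact h
  rcases mul_eq_zero.mp tt with h | h
  · left
    have ht : a + d = 2 := by linear_combination h
    rw [ht] at ta td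
    refine ⟨?_, hb, hc, ?_⟩
    · exact mul_left_cancel₀ h2 (by linear_combination ta)
    · exact mul_left_cancel₀ h2 (by linear_combination td)
  · right
    have ht : a + d = -2 := by linear_combination h
    rw [ht] at ta td
    refine ⟨?_, hb, hc, ?_⟩
    · exact mul_left_cancel₀ h2 (by linear_combination (-1 : F) * ta)
    · exact mul_left_cancel₀ h2 (by linear_combination (-1 : F) * td)

/-- The entries of the central involution. -/
theorem J_entries (h2 : (2 : F) ≠ 0) (J : SpecialLinearGroup (Fin 2) F) (hJ : J ^ 2 = 1)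
    (hJ1 : J ≠ 1) : J.1 0 0 = -1 ∧ J.1 0 1 = 0 ∧ J.1 1 0 = 0 ∧ J.1 1 1 = -1 := by
  rcases sq_one_entries h2 J hJ with h | h
  · exfalso
    apply hJ1
    obtain ⟨o00, o01, o10, o11⟩ := one_entries (F := F)
    exact sl_ext (by rw [h.1, o00]) (by rw [h.2.1, o01]) (by rw [h.2.2.1, o10])
      (by rw [h.2.2.2, o11])
  · exact h

theorem sq_eq_one (h2 : (2 : F) ≠ 0) (J : SpecialLinearGroup (Fin 2) F) (hJ : J ^ 2 = 1)
    (hJ1 : J ≠ 1) (x : SpecialLinearGroup (Fin 2) F) (hx : x ^ 2 = 1) : x = 1 ∨ x = J := by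
  obtain ⟨j00, j01, j10, j11⟩ := J_entries h2 J hJ hJ1
  obtain ⟨o00, o01, o10, o11⟩ := one_entries (F := F)
  rcases sq_one_entries h2 x hx with h | h
  · left
    exact sl_ext (by rw [h.1, o00]) (by rw [h.2.1, o01]) (by rw [h.2.2.1, o10])
      (by rw [h.2.2.2, o11])
  · right
    exact sl_ext (by rw [h.1, j00]) (by rw [h.2.1, j01]) (by rw [h.2.2.1, j10])
      (by rw [h.2.2.2, j11])

/-- An element with square `J` has trace zero and `p² + qr = -1`. -/
theorem sq_J_entries (h2 : (2 : F) ≠ 0) (J : SpecialLinearGroup (Fin 2) F) (hJ : J ^ 2 = 1)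
    (hJ1 : J ≠ 1) (l : SpecialLinearGroup (Fin 2) F) (hl : l ^ 2 = J) :
    l.1 1 1 = - l.1 0 0 ∧ l.1 0 0 * l.1 0 0 + l.1 0 1 * l.1 1 0 = -1 := by
  obtain ⟨j00, j01, j10, j11⟩ := J_entries h2 J hJ hJ1
  rw [pow_two] at hl
  obtain ⟨m00, m01, m10, m11⟩ := mul_entries l l
  rw [hl] at m00 m01 m10 m11
  rw [j00] at m00
  rw [j01] at m01
  rw [j10] at m10
  rw [j11] at m11
  have hd := det_eq l
  set p := l.1 0 0
  set q := l.1 0 1
  set r := l.1 1 0
  set s := l.1 1 1
  have tp : (p + s) * p = 0 := by linear_combination (-1 : F) * m00 + hd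
  have ts : (p + s) * s = 0 := by linear_combination (-1 : F) * m11 + hd
  have tt : (p + s) * (p + s) = 0 := by linear_combination tp + ts
  have t0 : p + s = 0 := by
    rcases mul_eq_zero.mp tt with h | h <;> exact h
  refine ⟨by linear_combination t0, by linear_combination (-1 : F) * m00⟩

theorem sqrt_unique (h2 : (2 : F) ≠ 0) (J : SpecialLinearGroup (Fin 2) F) (hJ : J ^ 2 = 1)
    (hJ1 : J ≠ 1) (l : SpecialLinearGroup (Fin 2) F) (hl : l ^ 2 = J)
    (x y : SpecialLinearGroup (Fin 2) F) (hx : x ^ 2 = l) (hy : y ^ 2 = l) :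
    y = x ∨ y = x * J := by
  obtain ⟨j00, j01, j10, j11⟩ := J_entries h2 J hJ hJ1
  obtain ⟨hs, -⟩ := sq_J_entries h2 J hJ hJ1 l hl
  rw [pow_two] at hx hy
  obtain ⟨x00, x01, x10, x11⟩ := mul_entries x x
  obtain ⟨y00, y01, y10, y11⟩ := mul_entries y y
  obtain ⟨xj00, xj01, xj10, xj11⟩ := mul_entries x J
  rw [j00, j10] at xj00
  rw [j01, j11] at xj01
  rw [j00, j10] at xj10
  rw [j01, j11] at xj11
  rw [hx] at x00 x01 x10 x11
  rw [hy] at y00 y01 y10 y11
  have hdx := det_eq x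
  have hdy := det_eq y
  set p := l.1 0 0
  set q := l.1 0 1
  set r := l.1 1 0
  set s := l.1 1 1
  set a := x.1 0 0
  set b := x.1 0 1
  set c := x.1 1 0
  set d := x.1 1 1
  set a' := y.1 0 0
  set b' := y.1 0 1
  set c' := y.1 1 0
  set d' := y.1 1 1
  have ta : (a + d) * a = 1 + p := by linear_combination (-1 : F) * x00 + hdx
  have tb : (a + d) * b = q := by linear_combination (-1 : F) * x01
  have tc : (a + d) * c = r := by linear_combination (-1 : F) * x10
  have td : (a + d) * d = 1 + s := by linear_combination (-1 : F) * x11 + hdx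
  have ta' : (a' + d') * a' = 1 + p := by linear_combination (-1 : F) * y00 + hdy
  have tb' : (a' + d') * b' = q := by linear_combination (-1 : F) * y01
  have tc' : (a' + d') * c' = r := by linear_combination (-1 : F) * y10
  have td' : (a' + d') * d' = 1 + s := by linear_combination (-1 : F) * y11 + hdy
  have tt : (a + d) * (a + d) = 2 := by linear_combination ta + td + hs
  have tt' : (a' + d') * (a' + d') = 2 := by linear_combination ta' + td' + hs
  have t0 : a + d ≠ 0 := by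
    intro h
    rw [h, zero_mul] at tt
    exact h2 tt.symm
  have hcase : (a' + d' - (a + d)) * (a' + d' + (a + d)) = 0 := by linear_combination tt' - tt
  rcases mul_eq_zero.mp hcase with h | h
  · left
    have ht : a' + d' = a + d := by linear_combination h
    rw [ht] at ta' tb' tc' td'
    exact sl_ext (mul_left_cancel₀ t0 (by rw [ta', ta])) (mul_left_cancel₀ t0 (by rw [tb', tb]))
      (mul_left_cancel₀ t0 (by rw [tc', tc])) (mul_left_cancel₀ t0 (by rw [td', td]))
  · right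
    have ht : a' + d' = -(a + d) := by linear_combination h
    rw [ht] at ta' tb' tc' td'
    refine sl_ext (mul_left_cancel₀ t0 ?_) (mul_left_cancel₀ t0 ?_) (mul_left_cancel₀ t0 ?_)
      (mul_left_cancel₀ t0 ?_)
    · rw [xj00]; linear_combination ta - ta'
    · rw [xj01]; linear_combination tb - tb'
    · rw [xj10]; linear_combination tc - tc'
    · rw [xj11]; linear_combination td - td'

/-- The standard element of order four. -/
def w₀ : SpecialLinearGroup (Fin 2) F :=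
  ⟨!![0, 1; -1, 0], by rw [Matrix.det_fin_two_of]; ring⟩

theorem w₀_entries : (w₀ : SpecialLinearGroup (Fin 2) F).1 0 0 = 0 ∧
    (w₀ : SpecialLinearGroup (Fin 2) F).1 0 1 = 1 ∧
    (w₀ : SpecialLinearGroup (Fin 2) F).1 1 0 = -1 ∧
    (w₀ : SpecialLinearGroup (Fin 2) F).1 1 1 = 0 := by
  refine ⟨rfl, rfl, rfl, rfl⟩

theorem w₀_sq (h2 : (2 : F) ≠ 0) (J : SpecialLinearGroup (Fin 2) F) (hJ : J ^ 2 = 1)
    (hJ1 : J ≠ 1) : (w₀ : SpecialLinearGroup (Fin 2) F) ^ 2 = J := by
  obtain ⟨j00, j01, j10, j11⟩ := J_entries h2 J hJ hJ1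
  obtain ⟨m00, m01, m10, m11⟩ := mul_entries (w₀ : SpecialLinearGroup (Fin 2) F) w₀
  obtain ⟨w00, w01, w10, w11⟩ := w₀_entries (F := F)
  rw [pow_two]
  refine sl_ext ?_ ?_ ?_ ?_
  · rw [m00, j00, w00, w01, w10]; ring
  · rw [m01, j01, w00, w01, w11]; ring
  · rw [m10, j10, w00, w10, w11]; ring
  · rw [m11, j11, w01, w10, w11]; ring

theorem exists_sq (h2 : (2 : F) ≠ 0) (J : SpecialLinearGroup (Fin 2) F) (hJ : J ^ 2 = 1)
    (hJ1 : J ≠ 1) : ∃ l : SpecialLinearGroup (Fin 2) F, l ^ 2 = J :=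
  ⟨w₀, w₀_sq h2 J hJ hJ1⟩

theorem exists_sq_add_sq [Fintype F] (hF : Odd (Fintype.card F)) (x : F) :
    ∃ a b : F, a ^ 2 + b ^ 2 = x := by
  classical
  obtain ⟨a, b, hab⟩ : ∃ a b, (Polynomial.X ^ 2 : Polynomial F).eval a +
      (Polynomial.X ^ 2 - Polynomial.C x : Polynomial F).eval b = 0 :=
    FiniteField.exists_root_sum_quadratic (Polynomial.degree_X_pow 2)
      (Polynomial.degree_X_pow_sub_C (by decide) _) (Nat.odd_iff.mp hF)
  refine ⟨a, b, ?_⟩
  rw [← sub_eq_zero]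
  simpa only [Polynomial.eval_C, Polynomial.eval_X, Polynomial.eval_pow, Polynomial.eval_sub,
    ← add_sub_assoc] using hab

/-- Every element with square `J` is conjugate to `w₀`. -/
theorem conj_w₀ [Fintype F] (hF : Odd (Fintype.card F)) (h2 : (2 : F) ≠ 0)
    (J : SpecialLinearGroup (Fin 2) F) (hJ : J ^ 2 = 1) (hJ1 : J ≠ 1)
    (l : SpecialLinearGroup (Fin 2) F) (hl : l ^ 2 = J) :
    ∃ g : SpecialLinearGroup (Fin 2) F, g * w₀ * g⁻¹ = l := by
  obtain ⟨hs, hpq⟩ := sq_J_entries h2 J hJ hJ1 l hl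
  obtain ⟨w00, w01, w10, w11⟩ := w₀_entries (F := F)
  set p := l.1 0 0 with hp
  set q := l.1 0 1 with hq
  set r := l.1 1 0 with hr
  set s := l.1 1 1 with hs'
  -- find `u v` with `2puv - ru² + qv² = 1`
  have key : ∃ u v : F, u * (p * v - r * u) + (p * u + q * v) * v = 1 := by
    by_cases hq0 : q = 0
    · have hp0 : p ≠ 0 := by
        intro h
        rw [h, hq0] at hpq
        simp at hpq
      refine ⟨1, (1 + r) / (2 * p), ?_⟩
      rw [hq0]
      field_simp
      ring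
    · obtain ⟨A, B, hAB⟩ := exists_sq_add_sq hF q
      refine ⟨B, (A - p * B) / q, ?_⟩
      field_simp
      linear_combination hAB - B ^ 2 * hpq
  obtain ⟨u, v, huv⟩ := key
  let g : SpecialLinearGroup (Fin 2) F :=
    ⟨!![u, -(p * u + q * v); v, p * v - r * u], by
      rw [Matrix.det_fin_two_of]; linear_combination huv⟩
  have g00 : g.1 0 0 = u := rfl
  have g01 : g.1 0 1 = -(p * u + q * v) := rfl
  have g10 : g.1 1 0 = v := rfl
  have g11 : g.1 1 1 = p * v - r * u := rfl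
  refine ⟨g, ?_⟩
  rw [mul_inv_eq_iff_eq_mul]
  obtain ⟨a00, a01, a10, a11⟩ := mul_entries g w₀
  obtain ⟨b00, b01, b10, b11⟩ := mul_entries l g
  refine sl_ext ?_ ?_ ?_ ?_
  · rw [a00, b00, g00, g01, g10, w00, w10]; ring
  · rw [a01, b01, g00, g01, g11, w01, w11, ← hp, ← hq]; linear_combination u * hpq
  · rw [a10, b10, g00, g10, g11, w00, w10, ← hr, ← hs', hs]; ring
  · rw [a11, b11, g01, g10, g11, w01, w11, ← hr, ← hs', hs]; linear_combination v * hpq

theorem conj_of_sq [Fintype F] (hF : Odd (Fintype.card F)) (h2 : (2 : F) ≠ 0)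
    (J : SpecialLinearGroup (Fin 2) F) (hJ : J ^ 2 = 1) (hJ1 : J ≠ 1)
    (l l' : SpecialLinearGroup (Fin 2) F) (hl : l ^ 2 = J) (hl' : l' ^ 2 = J) :
    ∃ g : SpecialLinearGroup (Fin 2) F, g * l * g⁻¹ = l' := by
  obtain ⟨g, hg⟩ := conj_w₀ hF h2 J hJ hJ1 l hl
  obtain ⟨g', hg'⟩ := conj_w₀ hF h2 J hJ hJ1 l' hl'
  refine ⟨g' * g⁻¹, ?_⟩
  rw [← hg, ← hg']
  group

theorem two_ne_zero_of_odd [Fintype F] (hF : Odd (Fintype.card F)) : (2 : F) ≠ 0 := by
  apply Ring.two_ne_zero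
  intro h
  have := FiniteField.even_card_iff_char_two.mp h
  rw [Nat.odd_iff] at hF
  omega

end Cfsg.Agent.Lib.helper59.SLTwo
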