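import Cfsg.Agent.S3335
import Mathlib

/-! Insurance copy of piece G2 of the S0892 split (helper70): `ker_isPGroup_two_of_odd`, under the
prefixed name `h59_ker_isPGroup_two_of_odd` (statement verbatim from `tools/S0892_Skel.lean.txt`). -/

set_option autoImplicit false
open Cfsg Cfsg.Agent.S3335

namespace Cfsg.Agent.Lib.helper70.SM

universe u

/-- The `2`-part of a central subgroup `K`, as a subgroup of `Γ`. -/
def h59_twoPart {Γ : Type u} [Group Γ] (K : Subgroup Γ) (hK : K ≤ Subgroup.center Γ) :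
    Subgroup Γ where
  carrier := {g | g ∈ K ∧ ∃ m : ℕ, g ^ (2 ^ m) = 1}
  one_mem' := ⟨K.one_mem, 0, by simp⟩
  mul_mem' := by
    rintro a b ⟨ha, m, hm⟩ ⟨hb, n, hn⟩
    refine ⟨K.mul_mem ha hb, m + n, ?_⟩
    have hcomm : Commute a b := (Subgroup.mem_center_iff.mp (hK ha) b).symm
    rw [hcomm.mul_pow, pow_add, pow_mul, hm, one_pow, one_mul, mul_comm (2 ^ m) (2 ^ n), pow_mul,
      hn, one_pow]
  inv_mem' := by
    rintro a ⟨ha, m, hm⟩
    exact ⟨K.inv_mem ha, m, by rw [inv_pow, hm, inv_one]⟩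

theorem h59_mem_twoPart {Γ : Type u} [Group Γ] (K : Subgroup Γ) (hK : K ≤ Subgroup.center Γ)
    (g : Γ) : g ∈ h59_twoPart K hK ↔ g ∈ K ∧ ∃ m : ℕ, g ^ (2 ^ m) = 1 := Iff.rfl

theorem h59_twoPart_le {Γ : Type u} [Group Γ] (K : Subgroup Γ) (hK : K ≤ Subgroup.center Γ) :
    h59_twoPart K hK ≤ K := fun _ hg => hg.1

theorem h59_twoPart_normal {Γ : Type u} [Group Γ] (K : Subgroup Γ) (hK : K ≤ Subgroup.center Γ) :
    (h59_twoPart K hK).Normal := by
  constructor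
  intro n hn g
  have hcen : g * n = n * g := (Subgroup.mem_center_iff.mp (hK hn.1) g)
  have h1 : g * n * g⁻¹ = n := by rw [hcen, mul_inv_cancel_right]
  rw [h1]; exact hn

/-- G2 (reduction to a 2-group kernel). -/
theorem h59_ker_isPGroup_two_of_odd {Γ : Type u} [Group Γ] [Finite Γ] {P : Type*} [Group P]
    (hodd : ∀ (Δ : Type u) [Group Δ] [Finite Δ] (ρ : Δ →* P), Function.Surjective ρ →
      ρ.ker ≤ Subgroup.center Δ → ρ.ker ≤ commutator Δ → Odd (Nat.card ρ.ker) → ρ.ker = ⊥)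
    (π : Γ →* P) (hπ : Function.Surjective π)
    (hc : π.ker ≤ Subgroup.center Γ) (hd : π.ker ≤ commutator Γ) : IsPGroup 2 π.ker := by
  classical
  let K₂ : Subgroup Γ := h59_twoPart π.ker hc
  haveI hK₂n : K₂.Normal := h59_twoPart_normal π.ker hc
  have hK₂le : K₂ ≤ π.ker := h59_twoPart_le π.ker hc
  let ρ : Γ ⧸ K₂ →* P := QuotientGroup.lift K₂ π hK₂le
  have hρmk : ∀ g : Γ, ρ (QuotientGroup.mk g) = π g := fun g => rfl
  have hρsurj : Function.Surjective ρ := by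
    intro p
    obtain ⟨g, hg⟩ := hπ p
    exact ⟨QuotientGroup.mk g, by rw [hρmk, hg]⟩
  have hker : ∀ d : Γ ⧸ K₂, d ∈ ρ.ker → ∃ g : Γ, g ∈ π.ker ∧ (QuotientGroup.mk g : Γ ⧸ K₂) = d := by
    intro d hdk
    obtain ⟨g, rfl⟩ := QuotientGroup.mk_surjective d
    refine ⟨g, ?_, rfl⟩
    rw [MonoidHom.mem_ker] at hdk ⊢
    rw [← hρmk]; exact hdk
  have hρc : ρ.ker ≤ Subgroup.center (Γ ⧸ K₂) := by
    intro d hdk
    obtain ⟨g, hg, rfl⟩ := hker d hdk
    rw [Subgroup.mem_center_iff]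
    intro e
    obtain ⟨x, rfl⟩ := QuotientGroup.mk_surjective e
    have hcen : x * g = g * x := Subgroup.mem_center_iff.mp (hc hg) x
    rw [← QuotientGroup.mk_mul, ← QuotientGroup.mk_mul, hcen]
  have hρd : ρ.ker ≤ commutator (Γ ⧸ K₂) := by
    intro d hdk
    obtain ⟨g, hg, rfl⟩ := hker d hdk
    have h1 : (QuotientGroup.mk' K₂) g ∈ Subgroup.map (QuotientGroup.mk' K₂) (commutator Γ) :=
      Subgroup.mem_map_of_mem _ (hd hg)
    rw [commutator_def, Subgroup.map_commutator,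
      Subgroup.map_top_of_surjective _ (QuotientGroup.mk'_surjective K₂)] at h1
    rw [commutator_def]; exact h1
  have hρodd : Odd (Nat.card ρ.ker) := by
    by_contra hne
    have h2 : 2 ∣ Nat.card ρ.ker := by
      rcases Nat.even_or_odd (Nat.card ρ.ker) with h | h
      · exact even_iff_two_dvd.mp h
      · exact absurd h hne
    haveI : Fact (Nat.Prime 2) := ⟨Nat.prime_two⟩
    obtain ⟨d, hd2⟩ := exists_prime_orderOf_dvd_card' 2 h2
    obtain ⟨g, hg, hgd⟩ := hker d.1 d.2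
    have hd1 : (d : Γ ⧸ K₂) ^ 2 = 1 := by
      have h3 : d ^ 2 = 1 := by rw [← hd2]; exact pow_orderOf_eq_one d
      have h4 := congrArg (Subtype.val) h3
      simpa using h4
    have hg2 : g ^ 2 ∈ K₂ := by
      rw [← QuotientGroup.eq_one_iff, QuotientGroup.mk_pow, hgd]; exact hd1
    obtain ⟨m, hm⟩ := hg2.2
    have hgK₂ : g ∈ K₂ := ⟨hg, m + 1, by rw [pow_succ', pow_mul]; exact hm⟩
    have hd0 : (d : Γ ⧸ K₂) = 1 := by
      rw [← hgd]; exact (QuotientGroup.eq_one_iff g).mpr hgK₂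
    have hd00 : d = 1 := Subtype.ext hd0
    rw [hd00, orderOf_one] at hd2
    exact absurd hd2 (by norm_num)
  have hbot : ρ.ker = ⊥ := hodd (Γ ⧸ K₂) ρ hρsurj hρc hρd hρodd
  intro g
  have hgk : (QuotientGroup.mk (g : Γ) : Γ ⧸ K₂) ∈ ρ.ker := by
    rw [MonoidHom.mem_ker, hρmk]; exact g.2
  rw [hbot, Subgroup.mem_bot] at hgk
  have hgK₂ : (g : Γ) ∈ K₂ := (QuotientGroup.eq_one_iff (g : Γ)).mp hgk
  obtain ⟨m, hm⟩ := hgK₂.2
  exact ⟨m, Subtype.ext (by simpa using hm)⟩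

end Cfsg.Agent.Lib.helper70.SM
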