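import Mathlib
import Cfsg.Agent.Lib.helper69.SNDefs
import Cfsg.Agent.Lib.helper59.Basic

/-! Piece E1-B (`sn_sylow2_fusion_noncenter`) of the S4073 split (helper69). -/

set_option autoImplicit false

namespace Cfsg.Agent.Lib.helper59.SNG

open Cfsg.Agent.Lib.helper69.SNG

universe u v

/-- Elements of `H ⊔ K` are products when `K` normalizes `H`. -/
theorem h59_sup_decomp {G : Type u} [Group G] (H K : Subgroup G)
    (hK : K ≤ Subgroup.normalizer (H : Set G)) :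
    ∀ x ∈ H ⊔ K, ∃ a ∈ H, ∃ b ∈ K, x = a * b := by
  let T : Subgroup G :=
    { carrier := {x | ∃ a ∈ H, ∃ b ∈ K, x = a * b}
      one_mem' := ⟨1, H.one_mem, 1, K.one_mem, by simp⟩
      mul_mem' := by
        rintro x y ⟨a, ha, b, hb, rfl⟩ ⟨a', ha', b', hb', rfl⟩
        have h1 : b * a' * b⁻¹ ∈ H := (Subgroup.mem_normalizer_iff.mp (hK hb) a').mp ha'
        exact ⟨a * (b * a' * b⁻¹), H.mul_mem ha h1, b * b', K.mul_mem hb hb', by group⟩
      inv_mem' := by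
        rintro x ⟨a, ha, b, hb, rfl⟩
        have h1 : b⁻¹ * a⁻¹ * b⁻¹⁻¹ ∈ H :=
          (Subgroup.mem_normalizer_iff.mp (hK (K.inv_mem hb)) a⁻¹).mp (H.inv_mem ha)
        exact ⟨b⁻¹ * a⁻¹ * b⁻¹⁻¹, h1, b⁻¹, K.inv_mem hb, by group⟩ }
  have hH : H ≤ T := fun a ha => ⟨a, ha, 1, K.one_mem, by simp⟩
  have hK' : K ≤ T := fun b hb => ⟨1, H.one_mem, b, hb, by simp⟩
  intro x hx
  exact (sup_le hH hK') hx

/-- Membership in a conjugate Sylow subgroup. -/
theorem h59_mem_smul_sylow {G : Type u} [Group G] {p : ℕ} (S : Sylow p G) (g x : G) :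
    x ∈ ((g • S : Sylow p G) : Subgroup G) ↔ g⁻¹ * x * g ∈ (S : Subgroup G) := by
  rw [Sylow.coe_subgroup_smul, Subgroup.mem_pointwise_smul_iff_inv_smul_mem]
  simp [MulAut.smul_def]

/-- **[E1-B]** -/
theorem sn_sylow2_fusion_noncenter {G : Type u} [Group G] [Finite G] [IsSimpleGroup G]
    (hna : ¬ IsMulCommutative G) (h : SN G) (S : Sylow 2 G) (hS : ¬ IsMulCommutative S)
    (hP2N : ∀ (K : Subgroup G), K ≠ ⊤ → ∀ T : Sylow 2 G, (T : Subgroup G) ≤ K →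
      ∃ O : Subgroup G, O ≤ K ∧ K ≤ Subgroup.normalizer (O : Set G) ∧ Odd (Nat.card O) ∧
        O ⊔ (T : Subgroup G) = K)
    (z : G) (hzS : z ∈ S) (hz1 : z ≠ 1)
    (hz : z ∈ Subgroup.centralizer ((S : Subgroup G) : Set G)) (g : G)
    (hgS : g * z * g⁻¹ ∈ S)
    (hM : 2 * Nat.card ↥((S : Subgroup G) ⊓ Subgroup.centralizer ({g * z * g⁻¹} : Set G))
      = Nat.card S) : False := by
  classical
  have : Fact (Nat.Prime 2) := ⟨Nat.prime_two⟩
  -- notation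
  obtain ⟨z', hz'⟩ : ∃ z' : G, z' = g * z * g⁻¹ := ⟨_, rfl⟩
  rw [← hz'] at hgS hM
  have hzc : ∀ s ∈ (S : Subgroup G), s * z = z * s := fun s hs =>
    Subgroup.mem_centralizer_iff.mp hz s hs
  set M₁ : Subgroup G := (S : Subgroup G) ⊓ Subgroup.centralizer ({z'} : Set G) with hM₁
  have hM₁S : M₁ ≤ (S : Subgroup G) := inf_le_left
  have hM₁L : M₁ ≤ Subgroup.centralizer ({z'} : Set G) := inf_le_right
  have hcomm' : ∀ x : G, x ∈ Subgroup.centralizer ({z'} : Set G) ↔ z' * x = x * z' := by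
    intro x
    rw [Subgroup.mem_centralizer_iff]
    constructor
    · intro hx; exact hx z' rfl
    · intro hx y hy; rw [Set.mem_singleton_iff] at hy; rw [hy]; exact hx
  have hzM₁ : z ∈ M₁ := ⟨hzS, (hcomm' z).mpr (hzc z' hgS)⟩
  have hz'M₁ : z' ∈ M₁ := ⟨hgS, (hcomm' z').mpr rfl⟩
  have hM₁pos : 0 < Nat.card M₁ := Nat.card_pos
  -- the conjugate Sylow subgroup `g • S` lies in `C(z')`
  have hT₁L : ((g • S : Sylow 2 G) : Subgroup G) ≤ Subgroup.centralizer ({z'} : Set G) := by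
    intro x hx
    rw [h59_mem_smul_sylow] at hx
    rw [hcomm']
    have h1 := hzc _ hx
    rw [hz']
    calc g * z * g⁻¹ * x = g * (z * (g⁻¹ * x * g)) * g⁻¹ := by group
      _ = g * ((g⁻¹ * x * g) * z) * g⁻¹ := by rw [h1]
      _ = x * (g * z * g⁻¹) := by group
  have hM₁p : IsPGroup 2 M₁ := S.isPGroup'.to_le hM₁S
  obtain ⟨k, hkL, hk⟩ := Cfsg.Agent.Lib.helper59.exists_conj_le_sylow_of_le (g • S : Sylow 2 G)
    hT₁L hM₁L hM₁p
  have hkz : z' * k = k * z' := (hcomm' k).mp hkL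
  -- the second Sylow subgroup `S₂ = (k⁻¹ g) • S ⊇ M₁`, with `z'` central
  set S₂ : Sylow 2 G := (k⁻¹ * g) • S with hS₂
  have hmemS₂ : ∀ x : G, x ∈ (S₂ : Subgroup G) ↔ g⁻¹ * (k * x * k⁻¹) * g ∈ (S : Subgroup G) := by
    intro x
    rw [hS₂, h59_mem_smul_sylow]
    have e : (k⁻¹ * g)⁻¹ * x * (k⁻¹ * g) = g⁻¹ * (k * x * k⁻¹) * g := by group
    rw [e]
  have hM₁S₂ : M₁ ≤ (S₂ : Subgroup G) := by
    intro x hx
    rw [hmemS₂, ← h59_mem_smul_sylow]
    exact hk x hx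
  have hz'S₂ : ∀ y ∈ (S₂ : Subgroup G), y * z' = z' * y := by
    intro y hy
    rw [hmemS₂] at hy
    have h1 := hzc _ hy
    have h2 : k⁻¹ * z' * k = z' := by rw [mul_assoc, hkz, inv_mul_cancel_left]
    have h3 : z' = k⁻¹ * (g * z * g⁻¹) * k := by rw [← hz', h2]
    calc y * z' = y * (k⁻¹ * (g * z * g⁻¹) * k) := by rw [← h3]
      _ = k⁻¹ * g * ((g⁻¹ * (k * y * k⁻¹) * g) * z) * g⁻¹ * k := by group
      _ = k⁻¹ * g * (z * (g⁻¹ * (k * y * k⁻¹) * g)) * g⁻¹ * k := by rw [h1]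
      _ = (k⁻¹ * (g * z * g⁻¹) * k) * y := by group
      _ = z' * y := by rw [← h3]
  -- `M₁` has index two in `S` and in `S₂`, hence both normalize it
  have hcardS₂ : Nat.card (S₂ : Subgroup G) = Nat.card (S : Subgroup G) :=
    (Sylow.card_eq_multiplicity S₂).trans (Sylow.card_eq_multiplicity S).symm
  have hnorm : ∀ T : Subgroup G, M₁ ≤ T → Nat.card T = 2 * Nat.card M₁ →
      T ≤ Subgroup.normalizer (M₁ : Set G) := by
    intro T hT hc
    have h1 : Nat.card (M₁.subgroupOf T) = Nat.card M₁ :=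
      Nat.card_congr (Subgroup.subgroupOfEquivOfLe hT).toEquiv
    have h2 := Subgroup.card_mul_index (M₁.subgroupOf T)
    rw [h1, hc] at h2
    have h3 : (M₁.subgroupOf T).index = 2 := by
      have h4 : Nat.card M₁ * (M₁.subgroupOf T).index = Nat.card M₁ * 2 := by rw [h2]; ring
      exact Nat.eq_of_mul_eq_mul_left hM₁pos h4
    have := Subgroup.normal_of_index_eq_two h3
    exact (Subgroup.normal_subgroupOf_iff_le_normalizer hT).mp inferInstance
  have hSN : (S : Subgroup G) ≤ Subgroup.normalizer (M₁ : Set G) := hnorm _ hM₁S hM.symm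
  have hS₂N : (S₂ : Subgroup G) ≤ Subgroup.normalizer (M₁ : Set G) :=
    hnorm _ hM₁S₂ (by rw [hcardS₂]; exact hM.symm)
  -- the normalizer of `M₁` is proper
  have hNtop : Subgroup.normalizer (M₁ : Set G) ≠ ⊤ := by
    intro htop
    have : M₁.Normal := Subgroup.normalizer_eq_top_iff.mp htop
    rcases Subgroup.Normal.eq_bot_or_eq_top (inferInstance : M₁.Normal) with hb | ht
    · have : z ∈ (⊥ : Subgroup G) := hb ▸ hzM₁
      exact hz1 (Subgroup.mem_bot.mp this)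
    · have h1 : (S : Subgroup G) = ⊤ := top_le_iff.mp (ht ▸ hM₁S)
      have h2 : Nat.card M₁ = Nat.card (S : Subgroup G) := by rw [ht, h1]
      omega
  obtain ⟨O, hON, hNO, hOodd, hOS⟩ := hP2N _ hNtop S hSN
  -- `O` centralizes `M₁`
  have hdisj : O ⊓ M₁ = ⊥ := by
    obtain ⟨n, hn⟩ := IsPGroup.exists_card_eq hM₁p
    have hcop : (Nat.card O).Coprime (Nat.card M₁) := by
      rw [hn]
      exact Nat.Coprime.pow_right n (Nat.Coprime.symm (Nat.coprime_two_left.mpr hOodd))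
    exact (Subgroup.disjoint_of_coprime_natCard hcop).eq_bot
  have hOM₁ : ∀ o ∈ O, ∀ m ∈ M₁, o * m = m * o := by
    intro o ho m hm
    have hmN : m ∈ Subgroup.normalizer (O : Set G) := hNO (hSN (hM₁S hm))
    have hoN : o ∈ Subgroup.normalizer (M₁ : Set G) := hON ho
    have h1 : m * o⁻¹ * m⁻¹ ∈ O := (Subgroup.mem_normalizer_iff.mp hmN o⁻¹).mp (O.inv_mem ho)
    have h2 : o * m * o⁻¹ ∈ M₁ := (Subgroup.mem_normalizer_iff.mp hoN m).mp hm
    have h3 : o * m * o⁻¹ * m⁻¹ ∈ O ⊓ M₁ := by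
      refine ⟨?_, M₁.mul_mem h2 (M₁.inv_mem hm)⟩
      have e : o * m * o⁻¹ * m⁻¹ = o * (m * o⁻¹ * m⁻¹) := by group
      rw [e]; exact O.mul_mem ho h1
    rw [hdisj, Subgroup.mem_bot] at h3
    calc o * m = (o * m * o⁻¹ * m⁻¹) * (m * o) := by group
      _ = m * o := by rw [h3, one_mul]
  -- Sylow conjugacy in the normalizer
  obtain ⟨n, hnN, hn⟩ := Cfsg.Agent.Lib.helper59.exists_conj_le_sylow_of_le S₂ hS₂N hSN
    S.isPGroup'
  have hSO : (S : Subgroup G) ≤ Subgroup.normalizer (O : Set G) := hSN.trans hNO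
  obtain ⟨o, ho, s₀, hs₀, hno⟩ := h59_sup_decomp O (S : Subgroup G) hSO n (hOS ▸ hnN)
  -- `z'` centralizes `S`
  have hoz : o * z' = z' * o := hOM₁ o ho z' hz'M₁
  have hcent : ∀ s ∈ (S : Subgroup G), s * z' = z' * s := by
    intro s hs
    -- apply to `t = s₀⁻¹ s s₀`
    have ht : s₀⁻¹ * s * s₀ ∈ (S : Subgroup G) :=
      (S : Subgroup G).mul_mem ((S : Subgroup G).mul_mem ((S : Subgroup G).inv_mem hs₀) hs) hs₀
    have h1 := hz'S₂ _ (hn _ ht)
    rw [hno] at h1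
    have e1 : o * s₀ * (s₀⁻¹ * s * s₀) * (o * s₀)⁻¹ = o * s * o⁻¹ := by group
    rw [e1] at h1
    -- `o s o⁻¹` commutes with `z'`, and `o` commutes with `z'`
    have hoz' : o⁻¹ * z' = z' * o⁻¹ := by
      calc o⁻¹ * z' = o⁻¹ * (z' * o) * o⁻¹ := by group
        _ = o⁻¹ * (o * z') * o⁻¹ := by rw [hoz]
        _ = z' * o⁻¹ := by group
    calc s * z' = o⁻¹ * ((o * s * o⁻¹) * z') * o * (o⁻¹ * z'⁻¹ * o * z') := by group
      _ = o⁻¹ * (z' * (o * s * o⁻¹)) * o * (o⁻¹ * z'⁻¹ * o * z') := by rw [h1]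
      _ = (o⁻¹ * z') * o * s * (o⁻¹ * z'⁻¹ * o * z') := by group
      _ = (z' * o⁻¹) * o * s * (o⁻¹ * z'⁻¹ * (o * z')) := by rw [hoz']; group
      _ = (z' * o⁻¹) * o * s * (o⁻¹ * z'⁻¹ * (z' * o)) := by rw [hoz]
      _ = z' * s := by group
  -- so `M₁ = S`, contradicting the index
  have hSM₁ : (S : Subgroup G) ≤ M₁ := fun s hs => ⟨hs, (hcomm' s).mpr (hcent s hs).symm⟩
  have hle : Nat.card (S : Subgroup G) ≤ Nat.card M₁ := Subgroup.card_le_of_le hSM₁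
  omega

end Cfsg.Agent.Lib.helper59.SNG
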