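import Mathlib
import Cfsg.Agent.Lib.helper49.SPEDefs

/-! S2333 split, piece CASEH2 (racer copy by helper59): counting in case H. -/

set_option autoImplicit false

namespace Cfsg.Agent.Lib.helper49.SPE

open Matrix

/-- CASEH2 (racer copy, helper59): verbatim Skel statement of `case_h_count`. -/
theorem h59_case_h_count {F : Type*} [Field F] [Fintype F] {n : ℕ} (hn : 2 ≤ n)
    (S : Set ((Fin n → F) → F))
    (hreal : ∀ a b c : F, b ≠ 0 → (a = 0 ∨ ∃ t : F, a * t ^ 2 + b * t + c = 0) →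
      ∀ r s : Fin n → F,
      ∃ Q' ∈ S, Q' (ev F n 0) = a ∧ Q' (ev F n 1) = c ∧ polar Q' (ev F n 0) (ev F n 1) = b ∧
        ∀ j : Fin n, 2 ≤ j.1 →
          polar Q' (ev F n 0) (ev F n j.1) = r j ∧ polar Q' (ev F n 1) (ev F n j.1) = s j) :
    Nat.card {p : F × F × F //
        p.2.1 ≠ 0 ∧ (p.1 = 0 ∨ ∃ t : F, p.1 * t ^ 2 + p.2.1 * t + p.2.2 = 0)} *
      Fintype.card F ^ (n - 2) * Fintype.card F ^ (n - 2) ≤ Nat.card S := by
  classical
  let ext : (Fin (n - 2) → F) → (Fin n → F) := fun r j =>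
    if h : 2 ≤ j.1 then r ⟨j.1 - 2, by have := j.2; omega⟩ else 0
  have hchoose : ∀ x : {p : F × F × F //
        p.2.1 ≠ 0 ∧ (p.1 = 0 ∨ ∃ t : F, p.1 * t ^ 2 + p.2.1 * t + p.2.2 = 0)} ×
        (Fin (n - 2) → F) × (Fin (n - 2) → F),
      ∃ Q' ∈ S, Q' (ev F n 0) = x.1.1.1 ∧ Q' (ev F n 1) = x.1.1.2.2 ∧
        polar Q' (ev F n 0) (ev F n 1) = x.1.1.2.1 ∧
        ∀ j : Fin n, 2 ≤ j.1 →
          polar Q' (ev F n 0) (ev F n j.1) = ext x.2.1 j ∧
          polar Q' (ev F n 1) (ev F n j.1) = ext x.2.2 j := by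
    intro x
    exact hreal x.1.1.1 x.1.1.2.1 x.1.1.2.2 x.1.2.1 x.1.2.2 (ext x.2.1) (ext x.2.2)
  choose Φ hΦS hΦ0 hΦ1 hΦb hΦj using hchoose
  have hinj : Function.Injective (fun x => (⟨Φ x, hΦS x⟩ : S)) := by
    intro x y hxy
    have hQ : Φ x = Φ y := congrArg Subtype.val hxy
    have ha : x.1.1.1 = y.1.1.1 := by rw [← hΦ0 x, ← hΦ0 y, hQ]
    have hc : x.1.1.2.2 = y.1.1.2.2 := by rw [← hΦ1 x, ← hΦ1 y, hQ]
    have hb : x.1.1.2.1 = y.1.1.2.1 := by rw [← hΦb x, ← hΦb y, hQ]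
    have hext : ∀ (r : Fin (n - 2) → F) (k : Fin (n - 2)),
        ext r ⟨k.1 + 2, by have := k.2; omega⟩ = r k := by
      intro r k
      simp only [ext]
      rw [dif_pos (by simp)]
      congr 1
    have hr : x.2.1 = y.2.1 := by
      funext k
      have hk : 2 ≤ (⟨k.1 + 2, by have := k.2; omega⟩ : Fin n).1 := by simp
      have h1 := (hΦj x ⟨k.1 + 2, by have := k.2; omega⟩ hk).1
      have h2 := (hΦj y ⟨k.1 + 2, by have := k.2; omega⟩ hk).1
      rw [hQ] at h1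
      have h3 := h1.symm.trans h2
      rw [hext, hext] at h3
      exact h3
    have hs : x.2.2 = y.2.2 := by
      funext k
      have hk : 2 ≤ (⟨k.1 + 2, by have := k.2; omega⟩ : Fin n).1 := by simp
      have h1 := (hΦj x ⟨k.1 + 2, by have := k.2; omega⟩ hk).2
      have h2 := (hΦj y ⟨k.1 + 2, by have := k.2; omega⟩ hk).2
      rw [hQ] at h1
      have h3 := h1.symm.trans h2
      rw [hext, hext] at h3
      exact h3
    apply Prod.ext
    · apply Subtype.ext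
      apply Prod.ext ha
      exact Prod.ext hb hc
    · exact Prod.ext hr hs
  have hle := Nat.card_le_card_of_injective _ hinj
  have hcard : Nat.card ({p : F × F × F //
        p.2.1 ≠ 0 ∧ (p.1 = 0 ∨ ∃ t : F, p.1 * t ^ 2 + p.2.1 * t + p.2.2 = 0)} ×
        (Fin (n - 2) → F) × (Fin (n - 2) → F)) =
      Nat.card {p : F × F × F //
        p.2.1 ≠ 0 ∧ (p.1 = 0 ∨ ∃ t : F, p.1 * t ^ 2 + p.2.1 * t + p.2.2 = 0)} *
      Fintype.card F ^ (n - 2) * Fintype.card F ^ (n - 2) := by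
    rw [Nat.card_prod, Nat.card_prod, Nat.card_eq_fintype_card (α := Fin (n - 2) → F),
      Fintype.card_fun, Fintype.card_fin, mul_assoc]
  rw [← hcard]
  exact hle

end Cfsg.Agent.Lib.helper49.SPE
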