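import Mathlib
import Cfsg.Prelude.Def_PLocal
import Cfsg.Prelude.Def_Transfer
import Cfsg.Agent.Lib.helper59.SelfCentCyclic

/-!
# `p`-groups with a self-centralizing cyclic normal subgroup, II

The structure `SCC`, the subgroup `M = C_G(U ^ p)` and `Ω₁(M)`.
-/

set_option autoImplicit false
set_option linter.unusedSectionVars false

namespace Cfsg.Agent.Lib.helper59

/-- A cyclic self-centralizing subgroup `U = ⟨u⟩` of order `p ^ n`. -/
structure SCC (p : ℕ) {G : Type*} [Group G] (U : Subgroup G) where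
  u : G
  n : ℕ
  gen : Subgroup.zpowers u = U
  ord : orderOf u = p ^ n
  cent : Subgroup.centralizer (U : Set G) = U

/-- `M = C_G(U ^ p)`. -/
def scM (p : ℕ) {G : Type*} [Group G] (U : Subgroup G) : Subgroup G :=
  Subgroup.centralizer (Cfsg.powerClosure p 1 U : Set G)

theorem sc_relIndex_mul_card_inf {G : Type*} [Group G] (H K : Subgroup G) :
    H.relIndex K * Nat.card (H ⊓ K : Subgroup G) = Nat.card K := by
  have h1 : Nat.card (H.subgroupOf K) = Nat.card (H ⊓ K : Subgroup G) := by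
    rw [← Subgroup.subgroupOf_map_subtype, Subgroup.card_subtype]
  rw [← h1, Subgroup.relIndex, mul_comm]
  exact Subgroup.card_mul_index (H.subgroupOf K)

namespace SCC

variable {p : ℕ} [hp : Fact p.Prime] {G : Type*} [Group G] {U : Subgroup G} [hUn : U.Normal]
  (S : SCC p U)

theorem u_mem : S.u ∈ U := by
  have h : S.u ∈ Subgroup.zpowers S.u := Subgroup.mem_zpowers _
  rw [S.gen] at h
  exact h

theorem mem_iff_exists (g : G) : g ∈ U ↔ ∃ i : ℤ, S.u ^ i = g := by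
  have h : g ∈ Subgroup.zpowers S.u ↔ ∃ i : ℤ, S.u ^ i = g := Subgroup.mem_zpowers_iff
  rw [S.gen] at h
  exact h

theorem exists_conj (g : G) : ∃ k : ℤ, g * S.u * g⁻¹ = S.u ^ k := by
  have h : g * S.u * g⁻¹ ∈ U := hUn.conj_mem _ S.u_mem g
  obtain ⟨k, hk⟩ := (S.mem_iff_exists _).mp h
  exact ⟨k, hk.symm⟩

theorem zpow_eq_one_iff (k : ℤ) : S.u ^ k = 1 ↔ (p : ℤ) ^ S.n ∣ k := by
  rw [← orderOf_dvd_iff_zpow_eq_one, S.ord]
  push_cast
  rfl

theorem mem_iff_comm (g : G) : g ∈ U ↔ g * S.u = S.u * g := by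
  constructor
  · intro h
    obtain ⟨i, rfl⟩ := (S.mem_iff_exists _).mp h
    rw [← zpow_add_one, ← zpow_one_add, add_comm]
  · intro h
    rw [← S.cent, Subgroup.mem_centralizer_iff]
    intro w hw
    obtain ⟨i, rfl⟩ := (S.mem_iff_exists _).mp hw
    have hc : Commute g S.u := h
    exact (hc.zpow_right i).eq.symm

theorem mem_iff_of_conj {g : G} {k : ℤ} (h : g * S.u * g⁻¹ = S.u ^ k) :
    g ∈ U ↔ (p : ℤ) ^ S.n ∣ k - 1 := by
  rw [S.mem_iff_comm, ← S.zpow_eq_one_iff, zpow_sub, zpow_one, ← h]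
  constructor
  · intro h'
    rw [h']
    group
  · intro h'
    have h2 : g * S.u * g⁻¹ = S.u := mul_inv_eq_one.mp h'
    calc g * S.u = (g * S.u * g⁻¹) * g := by group
      _ = S.u * g := by rw [h2]

theorem mem_scM_iff (g : G) : g ∈ scM p U ↔ g * S.u ^ p = S.u ^ p * g := by
  unfold scM
  rw [Subgroup.mem_centralizer_iff]
  constructor
  · intro h
    refine (h (S.u ^ p) ?_).symm
    apply Subgroup.subset_closure
    exact ⟨S.u, S.u_mem, by rw [pow_one]⟩
  · intro h y hy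
    have hle : Cfsg.powerClosure p 1 U ≤ Subgroup.centralizer ({g} : Set G) := by
      unfold Cfsg.powerClosure
      rw [Subgroup.closure_le]
      rintro _ ⟨x, hx, rfl⟩
      obtain ⟨i, rfl⟩ := (S.mem_iff_exists _).mp hx
      rw [SetLike.mem_coe, Subgroup.mem_centralizer_iff]
      intro g' hg'
      rw [Set.mem_singleton_iff] at hg'
      rw [hg', pow_one, ← zpow_natCast, ← zpow_mul, mul_comm, zpow_mul, zpow_natCast]
      have hc : Commute g (S.u ^ p) := h
      exact (hc.zpow_right i).eq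
    have h2 := hle hy
    rw [Subgroup.mem_centralizer_iff] at h2
    exact (h2 g rfl).symm

theorem mem_scM_iff_of_conj {g : G} {k : ℤ} (h : g * S.u * g⁻¹ = S.u ^ k) (hn : 1 ≤ S.n) :
    g ∈ scM p U ↔ (p : ℤ) ^ (S.n - 1) ∣ k - 1 := by
  have h1 : g * S.u ^ p * g⁻¹ = S.u ^ (k * p) := by
    rw [← conj_pow, h, zpow_mul, zpow_natCast]
  have h2 : g * S.u ^ p = S.u ^ p * g ↔ S.u ^ (k * p - p) = 1 := by
    rw [zpow_sub, zpow_natCast, ← h1]
    constructor
    · intro h'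
      rw [h']
      group
    · intro h'
      have h3 := mul_inv_eq_one.mp h'
      calc g * S.u ^ p = (g * S.u ^ p * g⁻¹) * g := by group
        _ = S.u ^ p * g := by rw [h3]
  rw [S.mem_scM_iff, h2, S.zpow_eq_one_iff]
  have h3 : (p : ℤ) ^ S.n = (p : ℤ) ^ (S.n - 1) * p := by
    rw [← pow_succ]
    congr 1
    omega
  have h4 : k * p - p = (k - 1) * p := by ring
  rw [h3, h4]
  have hp0 : (p : ℤ) ≠ 0 := by exact_mod_cast hp.out.ne_zero
  exact mul_dvd_mul_iff_right hp0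

include S in
theorem le_scM : U ≤ scM p U := by
  intro g hg
  obtain ⟨i, rfl⟩ := (S.mem_iff_exists _).mp hg
  rw [S.mem_scM_iff, ← zpow_natCast, ← zpow_add, ← zpow_add, add_comm]

theorem exists_key [Finite G] (hG : IsPGroup p G) (hne : U ≠ ⊤) : ∃ x, x ∉ U ∧ x ^ p ∈ U := by
  classical
  obtain ⟨g, hg⟩ : ∃ g, g ∉ U := by
    by_contra h
    push Not at h
    exact hne (eq_top_iff.mpr fun g _ => h g)
  have hex : ∃ s, g ^ p ^ s ∈ U := by
    obtain ⟨k, hk⟩ := hG g
    exact ⟨k, by rw [hk]; exact U.one_mem⟩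
  have hs0 : Nat.find hex ≠ 0 := by
    intro h0
    have := Nat.find_spec hex
    rw [h0, pow_zero, pow_one] at this
    exact hg this
  refine ⟨g ^ p ^ (Nat.find hex - 1), Nat.find_min hex (by omega), ?_⟩
  rw [← pow_mul, ← pow_succ, show Nat.find hex - 1 + 1 = Nat.find hex by omega]
  exact Nat.find_spec hex

theorem key_action {x : G} {k : ℤ} (hxU : x ∉ U) (hxp : x ^ p ∈ U)
    (h : x * S.u * x⁻¹ = S.u ^ k) : (p : ℤ) ^ S.n ∣ k ^ p - 1 ∧ ¬ (p : ℤ) ^ S.n ∣ k - 1 :=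
  ⟨(S.mem_iff_of_conj (cr_pow_conj h p)).mp hxp, fun h' => hxU ((S.mem_iff_of_conj h).mpr h')⟩

theorem two_le_n [Finite G] (hG : IsPGroup p G) (hne : U ≠ ⊤) : 2 ≤ S.n := by
  obtain ⟨x, hxU, hxp⟩ := exists_key hG hne
  obtain ⟨k, hk⟩ := S.exists_conj x
  obtain ⟨h1, h2⟩ := S.key_action hxU hxp hk
  by_contra hn
  have hn' : S.n = 0 ∨ S.n = 1 := by omega
  rcases hn' with h0 | h0
  · rw [h0, pow_zero] at h2
    exact h2 (one_dvd _)
  · rw [h0, pow_one] at h1 h2
    exact h2 (dvd_sub_one_of_dvd_pow_sub_one h1)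

end SCC

end Cfsg.Agent.Lib.helper59
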