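import Mathlib
import Cfsg.Prelude.Def_PLocal
import Cfsg.Prelude.Def_Transfer
import Cfsg.Agent.Lib.helper59.SelfCentCyclic2

/-!
# `p`-groups with a self-centralizing cyclic normal subgroup, III

If `M = C_G(U ^ p)` is larger than `U` (and `n ≥ 3` when `p = 2`) then `|M : U| = p` and `Ω₁(M)` is
elementary abelian of order `p ^ 2` and characteristic in `G`.
-/

set_option autoImplicit false
set_option linter.unusedSectionVars false

namespace Cfsg.Agent.Lib.helper59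

section Arith

variable {p : ℕ} [hp : Fact p.Prime]

theorem gs_sub_self_dvd {k : ℤ} (h : (p : ℤ) ∣ k - 1) (t : ℕ) : (p : ℤ) ∣ gs k t - t := by
  induction t with
  | zero => simp [gs_zero]
  | succ t ih =>
    have h1 : gs k (t + 1) - ((t + 1 : ℕ) : ℤ) = (gs k t - t) + (k ^ t - 1) := by
      rw [gs_succ]; push_cast; ring
    rw [h1]
    exact dvd_add ih (dvd_pow_sub_one h t)

theorem pow_sub_one_sub_dvd {n : ℕ} (hn : 2 ≤ n) {k : ℤ} (h : (p : ℤ) ^ (n - 1) ∣ k - 1)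
    (t : ℕ) : (p : ℤ) ^ n ∣ k ^ t - 1 - (k - 1) * t := by
  have hk1 : (p : ℤ) ∣ k - 1 := (dvd_pow_self _ (by omega)).trans h
  have h1 : k ^ t - 1 - (k - 1) * t = (k - 1) * (gs k t - t) := by
    rw [← gs_mul_sub]; ring
  rw [h1, show n = n - 1 + 1 by omega, pow_succ]
  exact mul_dvd_mul h (gs_sub_self_dvd hk1 t)

theorem arith_coset {n : ℕ} (hn : 2 ≤ n) {k k' : ℤ} (hk : (p : ℤ) ^ (n - 1) ∣ k - 1)
    (hk' : (p : ℤ) ^ (n - 1) ∣ k' - 1) (hkU : ¬ (p : ℤ) ^ n ∣ k - 1) :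
    ∃ t : ℕ, t < p ∧ (p : ℤ) ^ n ∣ k' * k ^ t - 1 := by
  obtain ⟨j₀, hj₀⟩ := hk
  obtain ⟨j, hj⟩ := hk'
  have hpn : (p : ℤ) ^ n = (p : ℤ) ^ (n - 1) * p := by
    rw [← pow_succ]; congr 1; omega
  have hj₀p : ¬ (p : ℤ) ∣ j₀ := by
    intro h
    apply hkU
    rw [hj₀, hpn]
    exact mul_dvd_mul_left _ h
  have hj₀z : ((j₀ : ℤ) : ZMod p) ≠ 0 := by
    rw [Ne, ZMod.intCast_zmod_eq_zero_iff_dvd]
    exact hj₀p
  let t : ℕ := ((-(j : ZMod p)) * ((j₀ : ZMod p))⁻¹).val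
  have ht : ((t : ℕ) : ZMod p) = (-(j : ZMod p)) * ((j₀ : ZMod p))⁻¹ := ZMod.natCast_zmod_val _
  have hdiv : (p : ℤ) ∣ j + j₀ * t := by
    rw [← ZMod.intCast_zmod_eq_zero_iff_dvd]
    push_cast
    rw [ht]
    field_simp
    ring
  refine ⟨t, ZMod.val_lt _, ?_⟩
  have h1 := pow_sub_one_sub_dvd hn (k := k) ⟨j₀, hj₀⟩ t
  obtain ⟨q, hq⟩ := h1
  obtain ⟨d, hd⟩ := hdiv
  have hpp : (p : ℤ) ^ (n - 1) * (p : ℤ) ^ (n - 1) = (p : ℤ) ^ n * (p : ℤ) ^ (n - 2) := by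
    rw [← pow_add, ← pow_add]; congr 1; omega
  have h2 : k' * k ^ t - 1 =
      k' * (k ^ t - 1 - (k - 1) * t) + (p : ℤ) ^ (n - 1) * (j + j₀ * t)
        + ((p : ℤ) ^ (n - 1) * (p : ℤ) ^ (n - 1)) * (j * j₀ * t) := by
    have e1 : k = 1 + (p : ℤ) ^ (n - 1) * j₀ := by linarith
    have e2 : k' = 1 + (p : ℤ) ^ (n - 1) * j := by linarith
    rw [e2, e1]
    ring
  rw [h2, hq, hd, hpp]
  refine dvd_add (dvd_add ?_ ?_) ?_
  · exact Dvd.intro (k' * q) (by ring)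
  · rw [hpn]
    exact Dvd.intro d (by ring)
  · exact Dvd.intro ((p : ℤ) ^ (n - 2) * (j * j₀ * t)) (by ring)

end Arith

section Normal

variable {G : Type*} [Group G]

theorem closure_normal_of_conj {s : Set G} (h : ∀ g : G, ∀ y ∈ s, g * y * g⁻¹ ∈ s) :
    (Subgroup.closure s).Normal := by
  refine ⟨fun n hn g => ?_⟩
  induction hn using Subgroup.closure_induction with
  | mem x hx => exact Subgroup.subset_closure (h g x hx)
  | one => simp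
  | mul x y _ _ hx hy =>
    have : g * (x * y) * g⁻¹ = (g * x * g⁻¹) * (g * y * g⁻¹) := by group
    rw [this]
    exact Subgroup.mul_mem _ hx hy
  | inv x _ hx =>
    have : g * x⁻¹ * g⁻¹ = (g * x * g⁻¹)⁻¹ := by group
    rw [this]
    exact Subgroup.inv_mem _ hx

end Normal

namespace SCC

variable {p : ℕ} [hp : Fact p.Prime] {G : Type*} [Group G] {U : Subgroup G} [hUn : U.Normal]
  (S : SCC p U)

theorem exists_mul_pow_mem (hn : 2 ≤ S.n) {x : G} (hxM : x ∈ scM p U) (hxU : x ∉ U) {g : G}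
    (hg : g ∈ scM p U) : ∃ t : ℕ, t < p ∧ g * x ^ t ∈ U := by
  obtain ⟨k, hk⟩ := S.exists_conj x
  obtain ⟨k', hk'⟩ := S.exists_conj g
  have h1 := (S.mem_scM_iff_of_conj hk (by omega)).mp hxM
  have h2 := (S.mem_scM_iff_of_conj hk' (by omega)).mp hg
  have h3 : ¬ (p : ℤ) ^ S.n ∣ k - 1 := fun h => hxU ((S.mem_iff_of_conj hk).mpr h)
  obtain ⟨t, ht, hdiv⟩ := arith_coset hn h1 h2 h3
  refine ⟨t, ht, ?_⟩
  exact (S.mem_iff_of_conj (cr_mul hk' (cr_pow_conj hk t))).mpr hdiv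

include S in
theorem scM_normal : (scM p U).Normal := by
  refine ⟨fun y hy g => ?_⟩
  obtain ⟨k, hk⟩ := S.exists_conj g⁻¹
  rw [inv_inv] at hk
  rw [S.mem_scM_iff] at hy ⊢
  have h1 : g⁻¹ * S.u ^ p * g = (S.u ^ p) ^ k := by
    have : g⁻¹ * S.u ^ p * g = (g⁻¹ * S.u * g) ^ p := by
      have := conj_pow (i := p) (a := g⁻¹) (b := S.u)
      rw [inv_inv] at this
      exact this.symm
    rw [this, hk, ← zpow_natCast, ← zpow_natCast, ← zpow_mul, ← zpow_mul, mul_comm]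
  have hc : Commute y (S.u ^ p) := hy
  have h2 : y * (g⁻¹ * S.u ^ p * g) = (g⁻¹ * S.u ^ p * g) * y := by
    rw [h1]
    exact (hc.zpow_right k).eq
  calc g * y * g⁻¹ * S.u ^ p = g * (y * (g⁻¹ * S.u ^ p * g)) * g⁻¹ := by group
    _ = g * ((g⁻¹ * S.u ^ p * g) * y) * g⁻¹ := by rw [h2]
    _ = S.u ^ p * (g * y * g⁻¹) := by group

theorem relIndex_scM [Finite G] (hG : IsPGroup p G) (hn : 2 ≤ S.n) {x : G}
    (hxM : x ∈ scM p U) (hxU : x ∉ U) : U.relIndex (scM p U) = p := by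
  classical
  have hle : U ≤ scM p U := S.le_scM
  have hcard := sc_relIndex_mul_card_inf U (scM p U)
  rw [inf_of_le_left hle] at hcard
  have hne1 : U.relIndex (scM p U) ≠ 1 := by
    intro h
    exact hxU (Subgroup.relIndex_eq_one.mp h hxM)
  obtain ⟨a, ha⟩ := IsPGroup.iff_card.mp (hG.to_subgroup (scM p U))
  have hdvd : U.relIndex (scM p U) ∣ p ^ a := by
    rw [← ha]
    exact Subgroup.relIndex_dvd_card _ _
  obtain ⟨b, -, hb⟩ := (Nat.dvd_prime_pow hp.out).mp hdvd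
  have hb0 : b ≠ 0 := by
    rintro rfl
    exact hne1 (by rw [hb, pow_zero])
  have hge : p ≤ U.relIndex (scM p U) := by
    rw [hb]
    exact Nat.le_self_pow hb0 p
  have hupper : Nat.card (scM p U) ≤ Nat.card U * p := by
    have hex : ∀ g : scM p U, ∃ t : ℕ, t < p ∧ (g : G) * x ^ t ∈ U := fun g =>
      S.exists_mul_pow_mem hn hxM hxU g.2
    choose t ht1 ht2 using hex
    have hinj : Function.Injective
        (fun g : scM p U => ((⟨(g : G) * x ^ t g, ht2 g⟩ : U), (⟨t g, ht1 g⟩ : Fin p))) := by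
      intro g g' h
      simp only [Prod.mk.injEq, Subtype.mk.injEq, Fin.mk.injEq] at h
      obtain ⟨h1, h2⟩ := h
      rw [h2] at h1
      exact Subtype.ext (mul_right_cancel h1)
    have := Nat.card_le_card_of_injective _ hinj
    rwa [Nat.card_prod, Nat.card_eq_fintype_card (α := Fin p), Fintype.card_fin] at this
  have hpos : 0 < Nat.card U := Nat.card_pos
  have hle' : U.relIndex (scM p U) ≤ p := by
    rw [← hcard] at hupper
    have : U.relIndex (scM p U) * Nat.card U ≤ p * Nat.card U := by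
      rw [mul_comm p]; exact hupper
    exact Nat.le_of_mul_le_mul_right this hpos
  exact le_antisymm hle' hge

theorem exists_order_p (hn : 2 ≤ S.n) (hpn : p ≠ 2 ∨ 3 ≤ S.n) {x : G} (hxM : x ∈ scM p U)
    (hxU : x ∉ U) : ∃ y, y ∈ scM p U ∧ y ∉ U ∧ y ^ p = 1 := by
  have hpr : Prime (p : ℤ) := Nat.prime_iff_prime_int.mp hp.out
  obtain ⟨k, hk⟩ := S.exists_conj x
  have h1 := (S.mem_scM_iff_of_conj hk (by omega)).mp hxM
  have h3 : ¬ (p : ℤ) ^ S.n ∣ k - 1 := fun h => hxU ((S.mem_iff_of_conj hk).mpr h)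
  have hpn' : (p : ℤ) ^ S.n = (p : ℤ) ^ (S.n - 1) * p := by
    rw [← pow_succ]; congr 1; omega
  -- `x ^ p ∈ U`
  have hxp : x ^ p ∈ U := by
    rw [S.mem_iff_of_conj (cr_pow_conj hk p)]
    have h4 := pow_sub_one_sub_dvd hn h1 p
    have h5 : (p : ℤ) ^ S.n ∣ (k - 1) * p := by
      rw [hpn']
      exact mul_dvd_mul_right h1 _
    have := dvd_add h4 h5
    simpa using this
  obtain ⟨T, hT⟩ := (S.mem_iff_exists _).mp hxp
  obtain ⟨j₀, hj₀⟩ := h1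
  have hj₀p : ¬ (p : ℤ) ∣ j₀ := by
    intro h
    apply h3
    rw [hj₀, hpn']
    exact mul_dvd_mul_left _ h
  -- `p ∣ T`
  have hTp : (p : ℤ) ∣ T := by
    have h4 : x * S.u ^ T * x⁻¹ = S.u ^ T := by
      rw [hT]; group
    rw [← conj_zpow, hk, ← zpow_mul] at h4
    have h5 : S.u ^ (k * T - T) = 1 := by
      rw [zpow_sub, h4, mul_inv_cancel]
    rw [S.zpow_eq_one_iff] at h5
    have h6 : k * T - T = (p : ℤ) ^ (S.n - 1) * (j₀ * T) := by
      have : k = 1 + (p : ℤ) ^ (S.n - 1) * j₀ := by linarith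
      rw [this]; ring
    rw [h6, hpn'] at h5
    have hp0 : (p : ℤ) ^ (S.n - 1) ≠ 0 := pow_ne_zero _ hpr.ne_zero
    have h7 : (p : ℤ) ∣ j₀ * T := (mul_dvd_mul_iff_left hp0).mp h5
    exact (hpr.dvd_or_dvd h7).resolve_left hj₀p
  obtain ⟨T', hT'⟩ := hTp
  obtain ⟨⟨w, hw⟩, hgs2⟩ := gs_prime_val (k := k) ⟨j₀, hj₀⟩ hn hpn
  have hwp : ¬ (p : ℤ) ∣ w := by
    intro h
    apply hgs2
    rw [hw, pow_two]
    exact mul_dvd_mul_left _ h
  have hcop : IsCoprime w ((p : ℤ) ^ (S.n - 1)) :=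
    ((Prime.coprime_iff_not_dvd hpr).mpr hwp).symm.pow_right
  obtain ⟨α, β, hαβ⟩ := hcop
  refine ⟨S.u ^ (-T' * α) * x, ?_, ?_, ?_⟩
  · exact Subgroup.mul_mem _ (S.le_scM ((S.mem_iff_exists _).mpr ⟨_, rfl⟩)) hxM
  · intro h
    apply hxU
    have h8 : S.u ^ (-T' * α) ∈ U := (S.mem_iff_exists _).mpr ⟨_, rfl⟩
    have := U.mul_mem (U.inv_mem h8) h
    rwa [inv_mul_cancel_left] at this
  · rw [cr_pow hk, ← hT, ← zpow_add, S.zpow_eq_one_iff, hw, hT', hpn']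
    have : -T' * α * ((p : ℤ) * w) + (p : ℤ) * T' =
        (p : ℤ) ^ (S.n - 1) * (p : ℤ) * (T' * β) := by
      have e : β * (p : ℤ) ^ (S.n - 1) = 1 - α * w := by linarith
      calc -T' * α * ((p : ℤ) * w) + (p : ℤ) * T' = (p : ℤ) * T' * (1 - α * w) := by ring
        _ = (p : ℤ) * T' * (β * (p : ℤ) ^ (S.n - 1)) := by rw [e]
        _ = (p : ℤ) ^ (S.n - 1) * (p : ℤ) * (T' * β) := by ring
    rw [this]
    exact dvd_mul_right _ _

theorem pow_dvd_of_pow_eq_one (hn : 2 ≤ S.n) (hpn : p ≠ 2 ∨ 3 ≤ S.n) {y : G}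
    (hyM : y ∈ scM p U) (hyp : y ^ p = 1) {i : ℤ} (h : (S.u ^ i * y) ^ p = 1) :
    (p : ℤ) ^ (S.n - 1) ∣ i := by
  obtain ⟨k, hk⟩ := S.exists_conj y
  have h1 := (S.mem_scM_iff_of_conj hk (by omega)).mp hyM
  rw [cr_pow hk, hyp, mul_one, S.zpow_eq_one_iff] at h
  exact pow_pred_dvd_of_mul_dvd h (gs_prime_val h1 hn hpn).2

theorem zpow_mem_zpowers_of_dvd {i : ℤ} (h : (p : ℤ) ^ (S.n - 1) ∣ i) :
    S.u ^ i ∈ Subgroup.zpowers (S.u ^ p ^ (S.n - 1)) := by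
  obtain ⟨i', rfl⟩ := h
  rw [Subgroup.mem_zpowers_iff]
  refine ⟨i', ?_⟩
  rw [← zpow_natCast, ← zpow_mul]
  push_cast
  rfl

theorem z_pow_p (hn : 1 ≤ S.n) : (S.u ^ p ^ (S.n - 1)) ^ p = 1 := by
  rw [← pow_mul, ← pow_succ, show S.n - 1 + 1 = S.n by omega, ← S.ord]
  exact pow_orderOf_eq_one _

theorem z_ne_one (hn : 1 ≤ S.n) : S.u ^ p ^ (S.n - 1) ≠ 1 := by
  intro h
  have h1 := orderOf_dvd_of_pow_eq_one h
  rw [S.ord] at h1
  have := Nat.le_of_dvd (pow_pos hp.out.pos _) h1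
  have h2 : S.n ≤ S.n - 1 := (Nat.pow_le_pow_iff_right hp.out.one_lt).mp this
  omega

theorem omegaOne_eq (hn : 2 ≤ S.n) (hpn : p ≠ 2 ∨ 3 ≤ S.n) {y₀ : G} (hy₀M : y₀ ∈ scM p U)
    (hy₀U : y₀ ∉ U) (hy₀p : y₀ ^ p = 1) :
    Cfsg.omegaOne p (scM p U) = Subgroup.closure {S.u ^ p ^ (S.n - 1), y₀} := by
  apply le_antisymm
  · unfold Cfsg.omegaOne
    rw [Subgroup.closure_le]
    rintro y ⟨hyM, hyp⟩
    obtain ⟨t, -, ht⟩ := S.exists_mul_pow_mem hn hy₀M hy₀U hyM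
    obtain ⟨i, hi⟩ := (S.mem_iff_exists _).mp ht
    have hy : y = S.u ^ i * (y₀ ^ t)⁻¹ := by rw [hi]; group
    have h1 : (y₀ ^ t)⁻¹ ∈ scM p U := Subgroup.inv_mem _ (Subgroup.pow_mem _ hy₀M t)
    have h2 : ((y₀ ^ t)⁻¹) ^ p = 1 := by
      rw [inv_pow, ← pow_mul, mul_comm, pow_mul, hy₀p, one_pow, inv_one]
    have h3 : (S.u ^ i * (y₀ ^ t)⁻¹) ^ p = 1 := by rw [← hy]; exact hyp
    have h4 := S.pow_dvd_of_pow_eq_one hn hpn h1 h2 h3
    rw [SetLike.mem_coe, hy]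
    apply Subgroup.mul_mem
    · have h5 := S.zpow_mem_zpowers_of_dvd h4
      have h6 : Subgroup.zpowers (S.u ^ p ^ (S.n - 1)) ≤
          Subgroup.closure {S.u ^ p ^ (S.n - 1), y₀} := by
        rw [Subgroup.zpowers_le]
        exact Subgroup.subset_closure (Set.mem_insert _ _)
      exact h6 h5
    · apply Subgroup.inv_mem
      apply Subgroup.pow_mem
      exact Subgroup.subset_closure (Set.mem_insert_of_mem _ rfl)
  · rw [Subgroup.closure_le]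
    rintro y (rfl | hy)
    · apply Subgroup.subset_closure
      exact ⟨S.le_scM (U.pow_mem S.u_mem _), S.z_pow_p (by omega)⟩
    · rw [Set.mem_singleton_iff] at hy
      rw [hy]
      exact Subgroup.subset_closure ⟨hy₀M, hy₀p⟩

end SCC

end Cfsg.Agent.Lib.helper59
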