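import Mathlib
import Cfsg.Prelude.Def_PLocal
import Cfsg.Prelude.Def_Transfer
import Cfsg.Prelude.Def_CaseTheorems
import Cfsg.Agent.Lib.helper59.SelfCentCyclic3
import Cfsg.Agent.Lib.helper59.TwoGroups
import Cfsg.Agent.Lib.helper59.TwoGroups2

/-!
# `p`-groups with a self-centralizing cyclic normal subgroup, IV

The two cases: `Ω₁(C_G(U ^ p))` elementary abelian of order `p ^ 2` and characteristic; or `p = 2`
and `G` is dihedral, generalized quaternion or semidihedral.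
-/

set_option autoImplicit false
set_option linter.unusedSectionVars false

namespace Cfsg.Agent.Lib.helper59

namespace SCC

variable {p : ℕ} [hp : Fact p.Prime] {G : Type*} [Group G] {U : Subgroup G} [hUn : U.Normal]
  (S : SCC p U)

theorem caseB [Finite G] (hG : IsPGroup p G) (hn : 2 ≤ S.n) (hpn : p ≠ 2 ∨ 3 ≤ S.n) {x : G}
    (hxM : x ∈ scM p U) (hxU : x ∉ U) :
    U.relIndex (scM p U) = p ∧ Cfsg.IsElementaryAbelian p (Cfsg.omegaOne p (scM p U)) ∧
      Nat.card (Cfsg.omegaOne p (scM p U)) = p ^ 2 ∧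
      (Cfsg.omegaOne p (scM p U)).Characteristic := by
  have hrel := S.relIndex_scM hG hn hxM hxU
  obtain ⟨y₀, hy₀M, hy₀U, hy₀p⟩ := S.exists_order_p hn hpn hxM hxU
  have hE := S.omegaOne_eq hn hpn hy₀M hy₀U hy₀p
  have hzy : S.u ^ p ^ (S.n - 1) * y₀ = y₀ * S.u ^ p ^ (S.n - 1) := by
    have hc : Commute y₀ (S.u ^ p) := (S.mem_scM_iff y₀).mp hy₀M
    have hz' : S.u ^ p ^ (S.n - 1) = (S.u ^ p) ^ p ^ (S.n - 2) := by
      rw [← pow_mul, ← pow_succ']
      congr 2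
      omega
    rw [hz']
    exact (hc.pow_right _).eq.symm
  have hcomm : IsMulCommutative (Subgroup.closure {S.u ^ p ^ (S.n - 1), y₀}) := by
    apply Subgroup.isMulCommutative_closure
    rintro a (ha | ha) b (hb | hb)
    · rw [ha, hb]
    · rw [Set.mem_singleton_iff] at hb
      rw [ha, hb]
      exact hzy
    · rw [Set.mem_singleton_iff] at ha
      rw [ha, hb]
      exact hzy.symm
    · rw [Set.mem_singleton_iff] at ha hb
      rw [ha, hb]
  have hexp : ∀ a ∈ Subgroup.closure {S.u ^ p ^ (S.n - 1), y₀}, a ^ p = 1 := by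
    intro a ha
    induction ha using Subgroup.closure_induction with
    | mem x hx =>
      rcases hx with hx | hx
      · rw [hx]
        exact S.z_pow_p (by omega)
      · rw [Set.mem_singleton_iff] at hx
        rw [hx]
        exact hy₀p
    | one => exact one_pow _
    | mul x y hx hy hx' hy' =>
      have hc : Commute x y := congrArg Subtype.val
        (mul_comm' (⟨x, hx⟩ : Subgroup.closure {S.u ^ p ^ (S.n - 1), y₀}) ⟨y, hy⟩)
      rw [hc.mul_pow, hx', hy', one_mul]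
    | inv x _ hx' => rw [inv_pow, hx', inv_one]
  have hFM : Subgroup.closure {S.u ^ p ^ (S.n - 1), y₀} ≤ scM p U := by
    rw [← hE]
    unfold Cfsg.omegaOne
    rw [Subgroup.closure_le]
    exact fun y hy => hy.1
  have hinf : U ⊓ Subgroup.closure {S.u ^ p ^ (S.n - 1), y₀} =
      Subgroup.zpowers (S.u ^ p ^ (S.n - 1)) := by
    apply le_antisymm
    · rintro y ⟨hyU, hyF⟩
      obtain ⟨i, rfl⟩ := (S.mem_iff_exists _).mp hyU
      have h1 : (S.u ^ i * 1) ^ p = 1 := by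
        rw [mul_one]
        exact hexp _ hyF
      exact S.zpow_mem_zpowers_of_dvd
        (S.pow_dvd_of_pow_eq_one hn hpn (Subgroup.one_mem _) (one_pow _) h1)
    · rw [Subgroup.zpowers_le]
      exact ⟨U.pow_mem S.u_mem _, Subgroup.subset_closure (Set.mem_insert _ _)⟩
  have hcardz : Nat.card (Subgroup.zpowers (S.u ^ p ^ (S.n - 1))) = p := by
    rw [Nat.card_zpowers]
    exact orderOf_eq_prime (S.z_pow_p (by omega)) (S.z_ne_one (by omega))
  have hrelF : U.relIndex (Subgroup.closure {S.u ^ p ^ (S.n - 1), y₀}) = p := by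
    have h1 : U.relIndex (Subgroup.closure {S.u ^ p ^ (S.n - 1), y₀}) ≤ p := by
      have h0 : U.relIndex (scM p U) ≠ 0 := by
        rw [hrel]
        exact hp.out.ne_zero
      exact (Subgroup.relIndex_le_of_le_right hFM h0).trans hrel.le
    have h2 : U.relIndex (Subgroup.closure {S.u ^ p ^ (S.n - 1), y₀}) ≠ 1 := by
      intro h
      exact hy₀U (Subgroup.relIndex_eq_one.mp h
        (Subgroup.subset_closure (Set.mem_insert_of_mem _ rfl)))
    obtain ⟨a, ha⟩ := IsPGroup.iff_card.mp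
      (hG.to_subgroup (Subgroup.closure {S.u ^ p ^ (S.n - 1), y₀}))
    have hdvd : U.relIndex (Subgroup.closure {S.u ^ p ^ (S.n - 1), y₀}) ∣ p ^ a := by
      rw [← ha]
      exact Subgroup.relIndex_dvd_card _ _
    obtain ⟨b, -, hb⟩ := (Nat.dvd_prime_pow hp.out).mp hdvd
    rcases b with _ | _ | b
    · exact absurd (by rw [hb, pow_zero]) h2
    · rw [hb, pow_one]
    · exfalso
      rw [hb] at h1
      have h3 := hp.out.one_lt
      have h4 : p ^ 2 ≤ p ^ (b + 1 + 1) := Nat.pow_le_pow_right hp.out.pos (by omega)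
      nlinarith
  have hcard : Nat.card (Subgroup.closure {S.u ^ p ^ (S.n - 1), y₀}) = p ^ 2 := by
    have := sc_relIndex_mul_card_inf U (Subgroup.closure {S.u ^ p ^ (S.n - 1), y₀})
    rw [hinf, hcardz, hrelF] at this
    rw [← this, sq]
  have hMn : (scM p U).Normal := S.scM_normal
  have hEn : (Cfsg.omegaOne p (scM p U)).Normal := by
    unfold Cfsg.omegaOne
    apply closure_normal_of_conj
    rintro g y ⟨hyM, hyp⟩
    refine ⟨hMn.conj_mem y hyM g, ?_⟩
    rw [conj_pow, hyp]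
    group
  have huniq : ∀ F : Subgroup G, F.Normal → (∀ a ∈ F, a ^ p = 1) →
      F ≤ Cfsg.omegaOne p (scM p U) := by
    intro F hFn hFexp f hf
    apply Subgroup.subset_closure
    refine ⟨?_, hFexp f hf⟩
    rw [S.mem_scM_iff]
    have hwU : f * S.u * f⁻¹ * S.u⁻¹ ∈ U :=
      U.mul_mem (hUn.conj_mem _ S.u_mem f) (U.inv_mem S.u_mem)
    have hwF : f * S.u * f⁻¹ * S.u⁻¹ ∈ F := by
      have : f * S.u * f⁻¹ * S.u⁻¹ = f * (S.u * f⁻¹ * S.u⁻¹) := by group
      rw [this]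
      exact F.mul_mem hf (hFn.conj_mem _ (F.inv_mem hf) S.u)
    have hwp : (f * S.u * f⁻¹ * S.u⁻¹) ^ p = 1 := hFexp _ hwF
    have hwu : Commute (f * S.u * f⁻¹ * S.u⁻¹) S.u := (S.mem_iff_comm _).mp hwU
    have h1 : f * S.u * f⁻¹ = (f * S.u * f⁻¹ * S.u⁻¹) * S.u := by group
    have h2 : f * S.u ^ p * f⁻¹ = S.u ^ p := by
      rw [← conj_pow, h1, hwu.mul_pow, hwp, one_mul]
    calc f * S.u ^ p = (f * S.u ^ p * f⁻¹) * f := by group
      _ = S.u ^ p * f := by rw [h2]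
  have hchar : (Cfsg.omegaOne p (scM p U)).Characteristic := by
    rw [Subgroup.characteristic_iff_map_le]
    intro φ
    apply huniq
    · exact hEn.map _ φ.surjective
    · rintro _ ⟨a, ha, rfl⟩
      have hap : a ^ p = 1 := by
        rw [SetLike.mem_coe, hE] at ha
        exact hexp a ha
      rw [← map_pow, hap, map_one]
  refine ⟨hrel, ?_, ?_, hchar⟩
  · rw [hE]
    exact ⟨hcomm, hexp⟩
  · rw [hE]
    exact hcard

end SCC

namespace SCC

section Two

variable {G : Type*} [Group G] {U : Subgroup G} [hUn : U.Normal] (S : SCC 2 U)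

theorem classify2 (hn : 2 ≤ S.n) (hno : 3 ≤ S.n → scM 2 U ≤ U) {y : G} {k : ℤ} (hyU : y ∉ U)
    (hy2 : y ^ 2 ∈ U) (hk : y * S.u * y⁻¹ = S.u ^ k) :
    (2 : ℤ) ^ S.n ∣ k + 1 ∨ (3 ≤ S.n ∧ (2 : ℤ) ^ S.n ∣ k + 1 - 2 ^ (S.n - 1)) := by
  obtain ⟨h1, h2⟩ := S.key_action hyU hy2 hk
  simp only [Nat.cast_ofNat] at h1 h2
  have hpn : (2 : ℤ) ^ S.n = (2 : ℤ) ^ (S.n - 1) * 2 := by
    rw [← pow_succ]; congr 1; omega
  have h1' : (2 : ℤ) ^ (S.n - 1 + 1) ∣ k ^ 2 - 1 := by
    rw [show S.n - 1 + 1 = S.n by omega]; exact h1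
  rcases two_pow_dvd_sub_or_add (S.n - 1) k h1' with hA | hB
  · have hyM : y ∈ scM 2 U := by
      rw [S.mem_scM_iff_of_conj hk (by omega)]
      simp only [Nat.cast_ofNat]
      exact hA
    by_cases h3 : 3 ≤ S.n
    · exact absurd (hno h3 hyM) hyU
    · have hn2 : S.n = 2 := by omega
      left
      rw [hn2] at h2 hA ⊢
      norm_num at h2 hA ⊢
      omega
  · obtain ⟨m, hm⟩ := hB
    rcases Int.even_or_odd' m with ⟨m', rfl | rfl⟩
    · left
      rw [hm, hpn]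
      exact ⟨m', by ring⟩
    · by_cases h3 : 3 ≤ S.n
      · right
        refine ⟨h3, ?_⟩
        rw [hm, hpn]
        exact ⟨m', by ring⟩
      · exfalso
        have hn2 : S.n = 2 := by omega
        rw [hn2] at h2 hm
        norm_num at h2 hm
        omega

theorem four_dvd (hn : 2 ≤ S.n) (hno : 3 ≤ S.n → scM 2 U ≤ U) {y : G} {k : ℤ} (hyU : y ∉ U)
    (hy2 : y ^ 2 ∈ U) (hk : y * S.u * y⁻¹ = S.u ^ k) : (4 : ℤ) ∣ k + 1 := by
  have h4 : (4 : ℤ) ∣ (2 : ℤ) ^ S.n := by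
    have : (2 : ℤ) ^ 2 ∣ (2 : ℤ) ^ S.n := pow_dvd_pow _ hn
    norm_num at this
    exact this
  rcases S.classify2 hn hno hyU hy2 hk with h | ⟨h3, h⟩
  · exact h4.trans h
  · have h4' : (4 : ℤ) ∣ (2 : ℤ) ^ (S.n - 1) := by
      have : (2 : ℤ) ^ 2 ∣ (2 : ℤ) ^ (S.n - 1) := pow_dvd_pow _ (by omega)
      norm_num at this
      exact this
    have := dvd_add (h4.trans h) h4'
    simpa using this

theorem sq_mem [Finite G] (hG : IsPGroup 2 G) (hn : 2 ≤ S.n) (hno : 3 ≤ S.n → scM 2 U ≤ U)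
    (h : G) : h ^ 2 ∈ U := by
  classical
  by_contra hh
  have hex : ∃ s, (h ^ 2) ^ 2 ^ s ∈ U := by
    obtain ⟨k, hk⟩ := hG (h ^ 2)
    exact ⟨k, by rw [hk]; exact U.one_mem⟩
  have hs0 : Nat.find hex ≠ 0 := by
    intro h0
    have := Nat.find_spec hex
    rw [h0, pow_zero, pow_one] at this
    exact hh this
  have hy2 : (h ^ 2 ^ (Nat.find hex - 1)) ^ 2 ∉ U := by
    have := Nat.find_min hex (show Nat.find hex - 1 < Nat.find hex by omega)
    rwa [← pow_mul, mul_comm, pow_mul] at this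
  have hy4 : ((h ^ 2 ^ (Nat.find hex - 1)) ^ 2) ^ 2 ∈ U := by
    have := Nat.find_spec hex
    have e : ((h ^ 2 ^ (Nat.find hex - 1)) ^ 2) ^ 2 = (h ^ 2) ^ 2 ^ Nat.find hex := by
      rw [← pow_mul, ← pow_mul, ← pow_mul]
      congr 1
      have : 2 ^ Nat.find hex = 2 ^ (Nat.find hex - 1) * 2 := by
        rw [← pow_succ]; congr 1; omega
      rw [this]; ring
    rw [e]
    exact this
  obtain ⟨k, hk⟩ := S.exists_conj (h ^ 2 ^ (Nat.find hex - 1))
  have h4 := S.four_dvd hn hno hy2 hy4 (cr_pow_conj hk 2)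
  rcases Int.even_or_odd' k with ⟨m, rfl | rfl⟩
  · have h5 : (4 : ℤ) ∣ (2 * m) ^ 2 := ⟨m ^ 2, by ring⟩
    have h6 := (Int.dvd_add_right h5).mp h4
    norm_num at h6
  · have h5 : (4 : ℤ) ∣ (2 * m + 1) ^ 2 + 1 - 2 := ⟨m ^ 2 + m, by ring⟩
    have h6 := dvd_sub h4 h5
    simp at h6

theorem mul_mem_of_not_mem [Finite G] (hG : IsPGroup 2 G) (hn : 2 ≤ S.n)
    (hno : 3 ≤ S.n → scM 2 U ≤ U) {g x : G} (hg : g ∉ U) (hx : x ∉ U) : g * x ∈ U := by
  by_contra hgx
  obtain ⟨kg, hkg⟩ := S.exists_conj g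
  obtain ⟨kx, hkx⟩ := S.exists_conj x
  obtain ⟨a, ha⟩ := S.four_dvd hn hno hg (S.sq_mem hG hn hno g) hkg
  obtain ⟨b, hb⟩ := S.four_dvd hn hno hx (S.sq_mem hG hn hno x) hkx
  obtain ⟨c, hc⟩ := S.four_dvd hn hno hgx (S.sq_mem hG hn hno (g * x)) (cr_mul hkg hkx)
  have h6 : (4 : ℤ) ∣ 2 := by
    refine ⟨c - 4 * a * b + a + b, ?_⟩
    have e1 : kg = 4 * a - 1 := by linarith
    have e2 : kx = 4 * b - 1 := by linarith
    rw [e1, e2] at hc
    linear_combination hc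
  norm_num at h6

theorem index_two [Finite G] (hG : IsPGroup 2 G) (hn : 2 ≤ S.n)
    (hno : 3 ≤ S.n → scM 2 U ≤ U) (hne : U ≠ ⊤) : U.index = 2 := by
  obtain ⟨x, hx⟩ : ∃ g, g ∉ U := by
    by_contra h
    push Not at h
    exact hne (eq_top_iff.mpr fun g _ => h g)
  rw [Subgroup.index_eq_two_iff]
  refine ⟨x, fun b => ?_⟩
  by_cases hb : b ∈ U
  · refine Or.inr ⟨hb, fun h => hx ?_⟩
    have := U.mul_mem (U.inv_mem hb) h
    rwa [inv_mul_cancel_left] at this
  · exact Or.inl ⟨S.mul_mem_of_not_mem hG hn hno hb hx, hb⟩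

theorem caseA2 [Finite G] (hG : IsPGroup 2 G) (hne : U ≠ ⊤) (hno : 3 ≤ S.n → scM 2 U ≤ U) :
    Nat.card G = 2 ^ (S.n + 1) ∧ ((∃ m : ℕ, Nonempty (G ≃* DihedralGroup m)) ∨
      (∃ m : ℕ, Nonempty (G ≃* QuaternionGroup m)) ∨ Cfsg.IsQuasiDihedral G) := by
  have hn : 2 ≤ S.n := S.two_le_n hG hne
  have hidx := S.index_two hG hn hno hne
  have hcardU : Nat.card U = 2 ^ S.n := by
    have h := Nat.card_zpowers S.u
    rw [S.gen] at h
    rw [h, S.ord]
  have hcard : Nat.card G = 2 ^ (S.n + 1) := by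
    rw [← Subgroup.card_mul_index U, hcardU, hidx, pow_succ]
  refine ⟨hcard, ?_⟩
  obtain ⟨x, hx⟩ : ∃ g, g ∉ U := by
    by_contra h
    push Not at h
    exact hne (eq_top_iff.mpr fun g _ => h g)
  have hx2 := S.sq_mem hG hn hno x
  obtain ⟨k, hk⟩ := S.exists_conj x
  have hxz : x ∉ Subgroup.zpowers S.u := by rw [S.gen]; exact hx
  have hx2z : x ^ 2 ∈ Subgroup.zpowers S.u := by rw [S.gen]; exact hx2
  have hpn : 2 ^ S.n = 2 * 2 ^ (S.n - 1) := by
    rw [← pow_succ']; congr 1; omega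
  rcases S.classify2 hn hno hx hx2 hk with h | ⟨h3, h⟩
  · have hrel : x * S.u * x⁻¹ = S.u⁻¹ := by
      rw [hk]
      have h1 : S.u ^ (k + 1) = 1 := by
        rw [S.zpow_eq_one_iff]
        simp only [Nat.cast_ofNat]
        exact h
      rw [zpow_add, zpow_one] at h1
      exact eq_inv_of_mul_eq_one_left h1
    have hord : orderOf S.u = 2 * 2 ^ (S.n - 1) := by rw [S.ord, hpn]
    rcases sq_of_inverts hord hx2z hrel with hx1 | hx1
    · left
      refine ⟨2 ^ S.n, ?_⟩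
      exact dihedral_equiv_of_rel (2 ^ S.n) S.u x S.ord (by rw [hcard, pow_succ']) hxz hx1 hrel
    · right; left
      refine ⟨2 ^ (S.n - 1), ?_⟩
      refine quaternion_equiv_of_rel (2 ^ (S.n - 1)) S.u x hord ?_ hxz hx1 hrel
      rw [hcard, pow_succ', hpn]
      ring
  · right; right
    have hN : S.n = (S.n - 3) + 3 := by omega
    have hrel : x * S.u * x⁻¹ = S.u ^ (2 ^ (S.n - 3 + 2) - 1) := by
      rw [hk]
      have h1 : S.u ^ (k + 1 - 2 ^ (S.n - 1)) = 1 := by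
        rw [S.zpow_eq_one_iff]
        simp only [Nat.cast_ofNat]
        exact h
      have h2 : k = (k + 1 - 2 ^ (S.n - 1)) + ((2 ^ (S.n - 3 + 2) - 1 : ℕ) : ℤ) := by
        have : 1 ≤ 2 ^ (S.n - 3 + 2) := Nat.one_le_two_pow
        rw [Nat.cast_sub this, show S.n - 1 = S.n - 3 + 2 by omega]
        push_cast
        ring
      rw [h2, zpow_add, h1, one_mul, zpow_natCast]
    have hord : orderOf S.u = 2 ^ (S.n - 3 + 3) := by rw [← hN]; exact S.ord
    have hrel' : ∀ y : G, y * S.u * y⁻¹ = x * S.u * x⁻¹ →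
        y * S.u * y⁻¹ = S.u ^ (2 ^ (S.n - 1) - 1) := by
      intro y hy
      rw [hy, hrel, show S.n - 3 + 2 = S.n - 1 by omega]
    have hord' : orderOf S.u = 2 ^ S.n := S.ord
    rcases sq_eq_one_of_semidihedral hord hx2z hrel with hx1 | hx1
    · refine ⟨S.n, h3, hcard, S.u, x, hord', ?_, hrel' x rfl⟩
      apply orderOf_eq_prime hx1
      rintro rfl
      exact hx U.one_mem
    · refine ⟨S.n, h3, hcard, S.u, x * S.u, hord', ?_, hrel' _ (by group)⟩
      apply orderOf_eq_prime hx1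
      intro h1
      apply hx
      have : x = S.u⁻¹ := eq_inv_of_mul_eq_one_left h1
      rw [this]
      exact U.inv_mem S.u_mem

end Two

end SCC

end Cfsg.Agent.Lib.helper59
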