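import Mathlib
import Cfsg.Prelude.Def_Classical
import Cfsg.Prelude.Def_GeometricClasses
import Cfsg.Agent.Lib.helper49.WittIso
import Cfsg.Agent.Lib.helper69.FeNDP
import Cfsg.Agent.Lib.helper69.FeNDM
import Cfsg.Agent.Lib.helper98.SfkBRIDGE
import Cfsg.Agent.Lib.helper6.SfkKAPPA
import Cfsg.Agent.Lib.helper15.SfkEVENCARD
import Cfsg.Agent.Lib.helper43.SfkNORM
import Cfsg.Agent.Lib.helper31.SfkZPM
import Cfsg.Agent.Lib.helper2.SfkUNIQ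
import Cfsg.Agent.Lib.helper57.SfkEIGB
import Cfsg.Agent.Lib.helper64.SfkEVENNEG
import Cfsg.Agent.Lib.helper10.SfkPAIR
import Cfsg.Agent.Lib.helper53.SfkKAPPA1
import Cfsg.Agent.Lib.helper82.SfkROT1
import Cfsg.Agent.Lib.helper12.SfkRHO1
import Cfsg.Agent.Lib.helper50.SfkJBASIS
import Cfsg.Agent.Lib.helper13.SfkKAPPAJ
import Cfsg.Agent.Lib.helper75.SfkROTJ
import Cfsg.Agent.Lib.helper22.SfkRHOJ

/-!
S5977 / S5978 block [A] (architect helper59): assembly of the `r = 2` direction from the leaves of the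
split `s5977a` (tools/S5977A_SPEC.md): every `x ∈ Ω` with scalar square, not scalar, is `Ω`-conjugate into
the normalizer of the quadratic field subalgebra `K`.
-/

set_option autoImplicit false

namespace Cfsg.Agent.Lib.helper59.Sfk

open Matrix Cfsg.Geo
open Cfsg.Agent.Lib.helper49 (detHom spinorSign)


/-! ## glue (helper59) -/

theorem sfk_conj_comm {F : Type*} [Field F] {ι : Type} [Fintype ι] [DecidableEq ι]
    (R : GL ι F) (x M : Matrix ι ι F) (ε : F)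
    (hR : (R : Matrix ι ι F) * x = x * (R : Matrix ι ι F))
    (hM : x * M = ε • (M * x)) :
    x * ((R : Matrix ι ι F) * M * ((R⁻¹ : GL ι F) : Matrix ι ι F)) =
      ε • (((R : Matrix ι ι F) * M * ((R⁻¹ : GL ι F) : Matrix ι ι F)) * x) := by
  have h1 : ((R⁻¹ : GL ι F) : Matrix ι ι F) * (R : Matrix ι ι F) = 1 := by
    rw [← Units.val_mul, inv_mul_cancel, Units.val_one]
  have h2 : (R : Matrix ι ι F) * ((R⁻¹ : GL ι F) : Matrix ι ι F) = 1 := by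
    rw [← Units.val_mul, mul_inv_cancel, Units.val_one]
  have hRi : ((R⁻¹ : GL ι F) : Matrix ι ι F) * x = x * ((R⁻¹ : GL ι F) : Matrix ι ι F) := by
    calc ((R⁻¹ : GL ι F) : Matrix ι ι F) * x
        = ((R⁻¹ : GL ι F) : Matrix ι ι F) * x * ((R : Matrix ι ι F) * ((R⁻¹ : GL ι F) : Matrix ι ι F)) := by
          rw [h2, mul_one]
      _ = ((R⁻¹ : GL ι F) : Matrix ι ι F) * (x * (R : Matrix ι ι F)) * ((R⁻¹ : GL ι F) : Matrix ι ι F) := by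
          simp only [mul_assoc]
      _ = ((R⁻¹ : GL ι F) : Matrix ι ι F) * ((R : Matrix ι ι F) * x) * ((R⁻¹ : GL ι F) : Matrix ι ι F) := by
          rw [hR]
      _ = (((R⁻¹ : GL ι F) : Matrix ι ι F) * (R : Matrix ι ι F)) * x * ((R⁻¹ : GL ι F) : Matrix ι ι F) := by
          simp only [mul_assoc]
      _ = x * ((R⁻¹ : GL ι F) : Matrix ι ι F) := by rw [h1, one_mul]
  calc x * ((R : Matrix ι ι F) * M * ((R⁻¹ : GL ι F) : Matrix ι ι F))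
      = (x * (R : Matrix ι ι F)) * M * ((R⁻¹ : GL ι F) : Matrix ι ι F) := by simp only [mul_assoc]
    _ = (R : Matrix ι ι F) * (x * M) * ((R⁻¹ : GL ι F) : Matrix ι ι F) := by
        rw [← hR]; simp only [mul_assoc]
    _ = (R : Matrix ι ι F) * (ε • (M * x)) * ((R⁻¹ : GL ι F) : Matrix ι ι F) := by rw [hM]
    _ = ε • ((R : Matrix ι ι F) * M * (x * ((R⁻¹ : GL ι F) : Matrix ι ι F))) := by
        simp only [Matrix.mul_smul, Matrix.smul_mul, mul_assoc]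
    _ = ε • ((R : Matrix ι ι F) * M * (((R⁻¹ : GL ι F) : Matrix ι ι F) * x)) := by rw [hRi]
    _ = ε • (((R : Matrix ι ι F) * M * ((R⁻¹ : GL ι F) : Matrix ι ι F)) * x) := by
        simp only [mul_assoc]

/-- ADJ (glue): adjusting `h` into `Ω` by an element `c` such that `c κ' c⁻¹` still (anti)commutes with `x`. -/
theorem sfk_adj {F : Type*} [Field F] [Fintype F] {ι : Type} [Fintype ι] [DecidableEq ι]
    (h2 : (2 : F) ≠ 0) (Q : QuadraticForm F (ι → F))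
    (hQ : (QuadraticMap.polarBilin Q).Nondegenerate)
    (x κ' : Matrix ι ι F) (ε : F) (hxκ : x * κ' = ε • (κ' * x))
    (r₁ : ↥(Cfsg.isometryGroup F (⇑Q)))
    (hr₁x : ((r₁ : GL ι F) : Matrix ι ι F) * x = x * ((r₁ : GL ι F) : Matrix ι ι F))
    (hr₁d : detHom (⇑Q) r₁ = 1) (hr₁s : spinorSign (⇑Q) r₁ = -1)
    (r₂ : ↥(Cfsg.isometryGroup F (⇑Q))) (hr₂d : detHom (⇑Q) r₂ = -1)
    (hr₂ : x * (((r₂ : GL ι F) : Matrix ι ι F) * κ' * (((r₂ : GL ι F)⁻¹ : GL ι F) : Matrix ι ι F)) =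
      ε • ((((r₂ : GL ι F) : Matrix ι ι F) * κ' * (((r₂ : GL ι F)⁻¹ : GL ι F) : Matrix ι ι F)) * x))
    (h : ↥(Cfsg.isometryGroup F (⇑Q))) :
    ∃ c : ↥(Cfsg.isometryGroup F (⇑Q)), c * h ∈ Cfsg.Omega F (⇑Q) ∧
      x * (((c : GL ι F) : Matrix ι ι F) * κ' * (((c : GL ι F)⁻¹ : GL ι F) : Matrix ι ι F)) =
        ε • ((((c : GL ι F) : Matrix ι ι F) * κ' * (((c : GL ι F)⁻¹ : GL ι F) : Matrix ι ι F)) * x) := by
  have hmem := fun g => Cfsg.Agent.Lib.helper49.mem_Omega_iff_det_spinor h2 Q hQ g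
  rcases Cfsg.Agent.Lib.helper49.detHom_eq_one_or h2 Q hQ h with hd | hd
  · rcases Int.units_eq_one_or (spinorSign (⇑Q) h) with hs | hs
    · refine ⟨1, ?_, ?_⟩
      · rw [one_mul]
        exact (hmem h).2 ⟨hd, hs⟩
      · simpa using hxκ
    · refine ⟨r₁, ?_, ?_⟩
      · refine (hmem _).2 ⟨?_, ?_⟩
        · rw [map_mul, hr₁d, hd, one_mul]
        · rw [map_mul, hr₁s, hs]; rfl
      · exact sfk_conj_comm (r₁ : GL ι F) x κ' ε hr₁x hxκ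
  · have hd2 : detHom (⇑Q) (r₂ * h) = 1 := by
      rw [map_mul, hr₂d, hd]; simp
    rcases Int.units_eq_one_or (spinorSign (⇑Q) (r₂ * h)) with hs | hs
    · exact ⟨r₂, (hmem _).2 ⟨hd2, hs⟩, hr₂⟩
    · refine ⟨r₁ * r₂, ?_, ?_⟩
      · refine (hmem _).2 ⟨?_, ?_⟩
        · rw [mul_assoc, map_mul, hr₁d, hd2, one_mul]
        · rw [mul_assoc, map_mul, hr₁s, hs]; rfl
      · have h3 := sfk_conj_comm (r₁ : GL ι F) x _ ε hr₁x hr₂
        have hco : (((r₁ * r₂ : ↥(Cfsg.isometryGroup F (⇑Q))) : GL ι F) : Matrix ι ι F) * κ' *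
            ((((r₁ * r₂ : ↥(Cfsg.isometryGroup F (⇑Q))) : GL ι F)⁻¹ : GL ι F) : Matrix ι ι F) =
            ((r₁ : GL ι F) : Matrix ι ι F) *
              (((r₂ : GL ι F) : Matrix ι ι F) * κ' * (((r₂ : GL ι F)⁻¹ : GL ι F) : Matrix ι ι F)) *
              (((r₁ : GL ι F)⁻¹ : GL ι F) : Matrix ι ι F) := by
          rw [Subgroup.coe_mul, _root_.mul_inv_rev, Units.val_mul, Units.val_mul]
          simp only [mul_assoc]
        rw [hco]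
        exact h3

/-- the final step, common to both cases. -/
theorem sfk_finish {F : Type*} [Field F] [Fintype F] {ι : Type} [Fintype ι] [DecidableEq ι]
    (h2 : (2 : F) ≠ 0) (Q : QuadraticForm F (ι → F))
    (hQ : (QuadraticMap.polarBilin Q).Nondegenerate)
    (hQ' : IsNondegenerateQuadraticForm (⇑Q : (ι → F) → F))
    (K : Subalgebra F (Matrix ι ι F)) (κ : Matrix ι ι F) (hκK : κ ∈ K)
    (hspan : ∀ k ∈ K, ∃ a b : F, k = a • (1 : Matrix ι ι F) + b • κ)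
    (δ : F) (hδ : ∀ r : F, r ^ 2 ≠ δ + 0 * r) (hκ : κ * κ = δ • (1 : Matrix ι ι F))
    (hsa : ∀ u v : ι → F, QuadraticMap.polar (⇑Q) (κ *ᵥ u) v = QuadraticMap.polar (⇑Q) u (κ *ᵥ v))
    (x : GL ι F) (κ' : Matrix ι ι F) (hκ' : κ' * κ' = δ • (1 : Matrix ι ι F))
    (hsa' : ∀ u v : ι → F, QuadraticMap.polar (⇑Q) (κ' *ᵥ u) v = QuadraticMap.polar (⇑Q) u (κ' *ᵥ v))
    (ε : F) (hε : ε = 1 ∨ ε = -1)
    (hxκ : (x : Matrix ι ι F) * κ' = ε • (κ' * (x : Matrix ι ι F)))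
    (r₁ : ↥(Cfsg.isometryGroup F (⇑Q)))
    (hr₁x : ((r₁ : GL ι F) : Matrix ι ι F) * (x : Matrix ι ι F) =
      (x : Matrix ι ι F) * ((r₁ : GL ι F) : Matrix ι ι F))
    (hr₁d : detHom (⇑Q) r₁ = 1) (hr₁s : spinorSign (⇑Q) r₁ = -1)
    (r₂ : ↥(Cfsg.isometryGroup F (⇑Q))) (hr₂d : detHom (⇑Q) r₂ = -1)
    (hr₂ : (x : Matrix ι ι F) *
        (((r₂ : GL ι F) : Matrix ι ι F) * κ' * (((r₂ : GL ι F)⁻¹ : GL ι F) : Matrix ι ι F)) =
      ε • ((((r₂ : GL ι F) : Matrix ι ι F) * κ' * (((r₂ : GL ι F)⁻¹ : GL ι F) : Matrix ι ι F)) *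
        (x : Matrix ι ι F))) :
    ∃ g ∈ omegaGL (⇑Q : (ι → F) → F), g⁻¹ * x * g ∈ subalgebraNormalizer K := by
  obtain ⟨h₀, hh₀, hh⟩ := sfk_uniq h2 Q hQ hQ' δ hδ κ κ' hκ hκ' hsa hsa'
  obtain ⟨c, hcΩ, hc⟩ := sfk_adj h2 Q hQ (x : Matrix ι ι F) κ' ε hxκ r₁ hr₁x hr₁d hr₁s r₂ hr₂d hr₂
    ⟨h₀, hh₀⟩
  refine ⟨((c * ⟨h₀, hh₀⟩ : ↥(Cfsg.isometryGroup F (⇑Q))) : GL ι F), ?_, ?_⟩
  · exact Subgroup.mem_map.2 ⟨c * ⟨h₀, hh₀⟩, hcΩ, rfl⟩
  · rw [Subgroup.coe_mul]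
    set C : GL ι F := (c : GL ι F) with hC
    apply sfk_norm K κ hκK hspan _ ε hε
    have hCi1 : ((C⁻¹ : GL ι F) : Matrix ι ι F) * (C : Matrix ι ι F) = 1 := by
      rw [← Units.val_mul, inv_mul_cancel, Units.val_one]
    have hHi1 : ((h₀⁻¹ : GL ι F) : Matrix ι ι F) * (h₀ : Matrix ι ι F) = 1 := by
      rw [← Units.val_mul, inv_mul_cancel, Units.val_one]
    have hHi2 : (h₀ : Matrix ι ι F) * ((h₀⁻¹ : GL ι F) : Matrix ι ι F) = 1 := by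
      rw [← Units.val_mul, mul_inv_cancel, Units.val_one]
    -- κ = h₀⁻¹ κ' h₀
    have hκeq : κ = ((h₀⁻¹ : GL ι F) : Matrix ι ι F) * κ' * (h₀ : Matrix ι ι F) := by
      calc κ = (((h₀⁻¹ : GL ι F) : Matrix ι ι F) * (h₀ : Matrix ι ι F)) * κ := by rw [hHi1, one_mul]
        _ = ((h₀⁻¹ : GL ι F) : Matrix ι ι F) * ((h₀ : Matrix ι ι F) * κ) := by simp only [mul_assoc]
        _ = ((h₀⁻¹ : GL ι F) : Matrix ι ι F) * κ' * (h₀ : Matrix ι ι F) := by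
            rw [hh]; simp only [mul_assoc]
    have hκ'eq : κ' = ((C⁻¹ : GL ι F) : Matrix ι ι F) *
        ((C : Matrix ι ι F) * κ' * ((C⁻¹ : GL ι F) : Matrix ι ι F)) * (C : Matrix ι ι F) := by
      calc κ' = (((C⁻¹ : GL ι F) : Matrix ι ι F) * (C : Matrix ι ι F)) * κ' *
            (((C⁻¹ : GL ι F) : Matrix ι ι F) * (C : Matrix ι ι F)) := by
            rw [hCi1, one_mul, mul_one]
        _ = _ := by simp only [mul_assoc]
    set κ'' : Matrix ι ι F := (C : Matrix ι ι F) * κ' * ((C⁻¹ : GL ι F) : Matrix ι ι F) with hκ''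
    have hval : (((C * (⟨h₀, hh₀⟩ : ↥(Cfsg.isometryGroup F (⇑Q))))⁻¹ * x *
        (C * (⟨h₀, hh₀⟩ : ↥(Cfsg.isometryGroup F (⇑Q)))) : GL ι F) : Matrix ι ι F) =
        ((h₀⁻¹ : GL ι F) : Matrix ι ι F) * ((C⁻¹ : GL ι F) : Matrix ι ι F) * (x : Matrix ι ι F) *
          (C : Matrix ι ι F) * (h₀ : Matrix ι ι F) := by
      simp only [_root_.mul_inv_rev, Units.val_mul, mul_assoc]
    rw [hval, hκeq, hκ'eq]
    calc ((h₀⁻¹ : GL ι F) : Matrix ι ι F) * ((C⁻¹ : GL ι F) : Matrix ι ι F) * (x : Matrix ι ι F) *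
          (C : Matrix ι ι F) * (h₀ : Matrix ι ι F) *
          (((h₀⁻¹ : GL ι F) : Matrix ι ι F) *
            (((C⁻¹ : GL ι F) : Matrix ι ι F) * κ'' * (C : Matrix ι ι F)) * (h₀ : Matrix ι ι F))
        = ((h₀⁻¹ : GL ι F) : Matrix ι ι F) * ((C⁻¹ : GL ι F) : Matrix ι ι F) * (x : Matrix ι ι F) *
          ((C : Matrix ι ι F) * ((h₀ : Matrix ι ι F) * ((h₀⁻¹ : GL ι F) : Matrix ι ι F)) *
            ((C⁻¹ : GL ι F) : Matrix ι ι F)) * κ'' * (C : Matrix ι ι F) * (h₀ : Matrix ι ι F) := by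
          simp only [mul_assoc]
      _ = ((h₀⁻¹ : GL ι F) : Matrix ι ι F) * ((C⁻¹ : GL ι F) : Matrix ι ι F) *
          ((x : Matrix ι ι F) * κ'') * (C : Matrix ι ι F) * (h₀ : Matrix ι ι F) := by
          have hCi2 : (C : Matrix ι ι F) * ((C⁻¹ : GL ι F) : Matrix ι ι F) = 1 := by
            rw [← Units.val_mul, mul_inv_cancel, Units.val_one]
          rw [hHi2, mul_one, hCi2, mul_one]
          simp only [mul_assoc]
      _ = ((h₀⁻¹ : GL ι F) : Matrix ι ι F) * ((C⁻¹ : GL ι F) : Matrix ι ι F) *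
          (ε • (κ'' * (x : Matrix ι ι F))) * (C : Matrix ι ι F) * (h₀ : Matrix ι ι F) := by
          rw [hc]
      _ = ε • (((h₀⁻¹ : GL ι F) : Matrix ι ι F) *
            (((C⁻¹ : GL ι F) : Matrix ι ι F) * κ'' * (C : Matrix ι ι F)) * (h₀ : Matrix ι ι F) *
          (((h₀⁻¹ : GL ι F) : Matrix ι ι F) * ((C⁻¹ : GL ι F) : Matrix ι ι F) * (x : Matrix ι ι F) *
          (C : Matrix ι ι F) * (h₀ : Matrix ι ι F))) := by
          have hCi2 : (C : Matrix ι ι F) * ((C⁻¹ : GL ι F) : Matrix ι ι F) = 1 := by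
            rw [← Units.val_mul, mul_inv_cancel, Units.val_one]
          have e1 : ((h₀⁻¹ : GL ι F) : Matrix ι ι F) *
              (((C⁻¹ : GL ι F) : Matrix ι ι F) * κ'' * (C : Matrix ι ι F)) * (h₀ : Matrix ι ι F) *
              (((h₀⁻¹ : GL ι F) : Matrix ι ι F) * ((C⁻¹ : GL ι F) : Matrix ι ι F) * (x : Matrix ι ι F) *
              (C : Matrix ι ι F) * (h₀ : Matrix ι ι F)) =
              ((h₀⁻¹ : GL ι F) : Matrix ι ι F) * ((C⁻¹ : GL ι F) : Matrix ι ι F) * κ'' *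
              ((C : Matrix ι ι F) * ((h₀ : Matrix ι ι F) * ((h₀⁻¹ : GL ι F) : Matrix ι ι F)) *
                ((C⁻¹ : GL ι F) : Matrix ι ι F)) * (x : Matrix ι ι F) *
              (C : Matrix ι ι F) * (h₀ : Matrix ι ι F) := by simp only [mul_assoc]
          rw [e1, hHi2, mul_one, hCi2, mul_one]
          simp only [Matrix.mul_smul, Matrix.smul_mul, mul_assoc]

/-- the case `x * x = 1` -/
theorem sfk_case_one {F : Type*} [Field F] [Fintype F] {ι : Type} [Fintype ι] [DecidableEq ι]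
    (h2 : (2 : F) ≠ 0) (Q : QuadraticForm F (ι → F))
    (hQ : (QuadraticMap.polarBilin Q).Nondegenerate)
    (hQ' : IsNondegenerateQuadraticForm (⇑Q : (ι → F) → F))
    (K : Subalgebra F (Matrix ι ι F)) (hK : IsFieldSubalgebra 2 K) (κ : Matrix ι ι F) (hκK : κ ∈ K)
    (hspan : ∀ k ∈ K, ∃ a b : F, k = a • (1 : Matrix ι ι F) + b • κ)
    (δ : F) (hδ : ∀ r : F, r ^ 2 ≠ δ + 0 * r) (hκ : κ * κ = δ • (1 : Matrix ι ι F))
    (hsa : ∀ u v : ι → F, QuadraticMap.polar (⇑Q) (κ *ᵥ u) v = QuadraticMap.polar (⇑Q) u (κ *ᵥ v))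
    (x : GL ι F) (hxO : x ∈ Cfsg.isometryGroup F (⇑Q)) (hdet : (x : Matrix ι ι F).det = 1)
    (hxx : (x : Matrix ι ι F) * (x : Matrix ι ι F) = 1) (hne : Nonempty ι) :
    ∃ g ∈ omegaGL (⇑Q : (ι → F) → F), g⁻¹ * x * g ∈ subalgebraNormalizer K := by
  classical
  obtain ⟨e, ε, he, horth, hQe, hε, hxe⟩ := sfk_eig_basis h2 Q hQ x hxO hxx
  have hev := sfk_even_neg h2 x hdet e ε he hε hxe
  obtain ⟨π, hπ, hπ', hεπ⟩ := h10_sfk_pairing h2 (Fintype.card ι) (sfk_even_card K hK) ε hε hev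
  obtain ⟨κ', hκ', hsa', hcomm⟩ := sfk_kappa_one h2 Q hQ δ x e ε he horth hQe hxe π hπ hπ' hεπ
  have hpos : 0 < Fintype.card ι := Fintype.card_pos
  obtain ⟨r₁, hr₁x, hr₁d, hr₁s⟩ := sfk_rot_one h2 Q hQ x hxO (e ⟨0, hpos⟩) (e (π ⟨0, hpos⟩))
    (ε ⟨0, hpos⟩) (hxe ⟨0, hpos⟩) (by rw [hxe (π ⟨0, hpos⟩), hεπ])
    (horth ⟨0, hpos⟩ (π ⟨0, hpos⟩) (Ne.symm (hπ' ⟨0, hpos⟩))) (hQe ⟨0, hpos⟩) (hQe (π ⟨0, hpos⟩))
  obtain ⟨r₂, hr₂x, hr₂d⟩ := h12_sfk_rho_one h2 Q hQ x hxO (e ⟨0, hpos⟩) (ε ⟨0, hpos⟩) (hxe ⟨0, hpos⟩)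
    (hQe ⟨0, hpos⟩)
  have hxκ : (x : Matrix ι ι F) * κ' = (1 : F) • (κ' * (x : Matrix ι ι F)) := by
    rw [one_smul, hcomm]
  exact sfk_finish h2 Q hQ hQ' K κ hκK hspan δ hδ hκ hsa x κ' hκ' hsa' 1 (Or.inl rfl) hxκ r₁ hr₁x
    hr₁d hr₁s r₂ hr₂d (sfk_conj_comm (r₂ : GL ι F) _ κ' 1 hr₂x hxκ)

/-- the case `x * x = -1` -/
theorem sfk_case_neg {F : Type*} [Field F] [Fintype F] {ι : Type} [Fintype ι] [DecidableEq ι]
    (h2 : (2 : F) ≠ 0) (Q : QuadraticForm F (ι → F))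
    (hQ : (QuadraticMap.polarBilin Q).Nondegenerate)
    (hQ' : IsNondegenerateQuadraticForm (⇑Q : (ι → F) → F))
    (K : Subalgebra F (Matrix ι ι F)) (κ : Matrix ι ι F) (hκK : κ ∈ K)
    (hspan : ∀ k ∈ K, ∃ a b : F, k = a • (1 : Matrix ι ι F) + b • κ)
    (δ : F) (hδ : ∀ r : F, r ^ 2 ≠ δ + 0 * r) (hκ : κ * κ = δ • (1 : Matrix ι ι F))
    (hsa : ∀ u v : ι → F, QuadraticMap.polar (⇑Q) (κ *ᵥ u) v = QuadraticMap.polar (⇑Q) u (κ *ᵥ v))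
    (x : GL ι F) (hxO : x ∈ Cfsg.isometryGroup F (⇑Q))
    (hxx : (x : Matrix ι ι F) * (x : Matrix ι ι F) = -1) (hne : Nonempty ι) :
    ∃ g ∈ omegaGL (⇑Q : (ι → F) → F), g⁻¹ * x * g ∈ subalgebraNormalizer K := by
  obtain ⟨m, e, hli, hcard, ho1, ho2, hQe⟩ := h50_sfk_j_basis h2 Q hQ x hxO hxx
  have hm : 0 < m := by
    have := Fintype.card_pos (α := ι)
    omega
  obtain ⟨κ', α, β, hκ', hsa', hanti, hκe⟩ :=
    h13_sfk_kappa_neg h2 Q hQ δ x hxO hxx m e hli hcard ho1 ho2 hQe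
  obtain ⟨r₁, hr₁x, hr₁d, hr₁s⟩ := sfk_rot_neg h2 Q hQ x hxO hxx (e ⟨0, hm⟩) (hQe ⟨0, hm⟩)
  obtain ⟨r₂, hr₂d, hr₂⟩ :=
    sfk_rho_neg h2 Q hQ x hxO hxx κ' hsa' hanti (e ⟨0, hm⟩) (hQe ⟨0, hm⟩) α β (hκe ⟨0, hm⟩)
  have hxκ : (x : Matrix ι ι F) * κ' = (-1 : F) • (κ' * (x : Matrix ι ι F)) := by
    rw [neg_smul, one_smul]
    exact hanti
  exact sfk_finish h2 Q hQ hQ' K κ hκK hspan δ hδ hκ hsa x κ' hκ' hsa' (-1) (Or.inr rfl) hxκ r₁ hr₁x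
    hr₁d hr₁s r₂ hr₂d (by rw [neg_smul, one_smul]; exact hr₂)

/-- block [A], Mathlib-form version. -/
theorem sfk_two {F : Type*} [Field F] [Fintype F] {ι : Type} [Fintype ι] [DecidableEq ι]
    (h2 : (2 : F) ≠ 0) (Q : QuadraticForm F (ι → F))
    (hQ : (QuadraticMap.polarBilin Q).Nondegenerate)
    (hQ' : IsNondegenerateQuadraticForm (⇑Q : (ι → F) → F))
    (K : Subalgebra F (Matrix ι ι F)) (hK : IsFieldSubalgebra 2 K)
    (hKf : IsSelfAdjointFor (QuadraticMap.polar (⇑Q : (ι → F) → F)) K)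
    (x : GL ι F) (hx : x ∈ omegaGL (⇑Q : (ι → F) → F)) (z : F)
    (hxz : (x : Matrix ι ι F) * (x : Matrix ι ι F) = z • (1 : Matrix ι ι F))
    (hns : ∀ c : F, (x : Matrix ι ι F) ≠ c • (1 : Matrix ι ι F)) :
    ∃ g ∈ omegaGL (⇑Q : (ι → F) → F), g⁻¹ * x * g ∈ subalgebraNormalizer K := by
  obtain ⟨κ, hκK, δ, hδ, hκ, hspan⟩ := sfk_kappa h2 K hK
  have hsa := hKf κ hκK
  have hx' : x ∈ (Cfsg.Omega F (⇑Q : (ι → F) → F)).map (Cfsg.isometryGroup F (⇑Q)).subtype := hx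
  obtain ⟨y, hyΩ, rfl⟩ := Subgroup.mem_map.1 hx'
  have hxO : (y : GL ι F) ∈ Cfsg.isometryGroup F (⇑Q) := y.2
  have hdet : ((y : GL ι F) : Matrix ι ι F).det = 1 := by
    have h1 := ((Cfsg.Agent.Lib.helper49.mem_Omega_iff_det_spinor h2 Q hQ y).1 hyΩ).1
    have h3 := congrArg Units.val h1
    rw [Cfsg.Agent.Lib.helper49.detHom, MonoidHom.comp_apply,
      Matrix.GeneralLinearGroup.val_det_apply] at h3
    simpa using h3
  have hne : Nonempty ι := by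
    by_contra hemp
    rw [not_nonempty_iff] at hemp
    exact hns 0 (Subsingleton.elim _ _)
  rcases sfk_z h2 Q hQ _ hxO z hxz hns with rfl | rfl
  · exact sfk_case_one h2 Q hQ hQ' K hK κ hκK hspan δ hδ hκ hsa _ hxO hdet
      (by rw [hxz, one_smul]) hne
  · exact sfk_case_neg h2 Q hQ hQ' K κ hκK hspan δ hδ hκ hsa _ hxO
      (by rw [hxz, neg_smul, one_smul]) hne

/-- block [A] for a Prelude quadratic form (helper20's HA). -/
theorem sfk_two_fn {F : Type*} [Field F] [Fintype F] {ι : Type} [Fintype ι] [DecidableEq ι]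
    (h2 : (2 : F) ≠ 0) (Q : (ι → F) → F) (hQ : IsNondegenerateQuadraticForm Q)
    (K : Subalgebra F (Matrix ι ι F)) (hK : IsFieldSubalgebra 2 K)
    (hKf : IsSelfAdjointFor (QuadraticMap.polar Q) K) :
    ∀ x ∈ omegaGL Q, (∃ z : F, ((x ^ 2 : GL ι F) : Matrix ι ι F) = z • (1 : Matrix ι ι F)) →
      (∀ z : F, (x : Matrix ι ι F) ≠ z • (1 : Matrix ι ι F)) →
      ∃ g ∈ omegaGL Q, g⁻¹ * x * g ∈ subalgebraNormalizer K := by
  obtain ⟨Q', rfl, hQ'⟩ := sfk_bridge Q hQ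
  rintro x hx ⟨z, hz⟩ hns
  exact sfk_two h2 Q' hQ' hQ K hK hKf x hx z (by rw [← hz, pow_two, Units.val_mul]) hns

/-- helper20's HSQ: squares of isometries lie in `Ω`. -/
theorem sfk_sq_mem {F : Type*} [Field F] [Fintype F] {ι : Type} [Fintype ι] [DecidableEq ι]
    (h2 : (2 : F) ≠ 0) (Q : (ι → F) → F) (hQ : IsNondegenerateQuadraticForm Q) (x : GL ι F)
    (hx : x ∈ Cfsg.isometryGroup F Q) : x * x ∈ omegaGL Q := by
  obtain ⟨Q', rfl, hQ'⟩ := sfk_bridge Q hQ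
  refine Subgroup.mem_map.2 ⟨(⟨x, hx⟩ : ↥(Cfsg.isometryGroup F (⇑Q'))) * ⟨x, hx⟩, ?_, rfl⟩
  apply (Cfsg.Agent.Lib.helper49.mem_Omega_iff_det_spinor h2 Q' hQ' _).2
  constructor
  · rw [map_mul]
    rcases Cfsg.Agent.Lib.helper49.detHom_eq_one_or h2 Q' hQ' ⟨x, hx⟩ with h | h <;> rw [h] <;> simp
  · rw [map_mul]
    exact Int.units_mul_self _

theorem sfk_two_ne_zero {F : Type*} [Field F] [Fintype F] (hodd : Odd (Fintype.card F)) :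
    (2 : F) ≠ 0 := by
  intro h
  have hc : ringChar F = 2 := by
    have := CharTwo.of_one_ne_zero_of_two_eq_zero (R := F) one_ne_zero h
    exact ringChar.eq F 2
  have := FiniteField.even_card_iff_char_two.1 hc
  rcases hodd with ⟨k, hk⟩
  omega

/-- block [A], plus type: the hypothesis `HA` of the main core (with `r = 2`). -/
theorem sfk_two_plus {F : Type*} [Field F] [Fintype F] (hodd : Odd (Fintype.card F)) (d : ℕ)
    (K : Subalgebra F (Matrix (Fin d ⊕ Fin d) (Fin d ⊕ Fin d) F)) (hK : IsFieldSubalgebra 2 K)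
    (hKf : IsSelfAdjointFor (QuadraticMap.polar (Cfsg.quadFormPlus d F)) K) :
    ∀ x ∈ omegaGL (Cfsg.quadFormPlus d F),
      (∃ z : F, ((x ^ 2 : GL (Fin d ⊕ Fin d) F) : Matrix (Fin d ⊕ Fin d) (Fin d ⊕ Fin d) F) =
        z • (1 : Matrix (Fin d ⊕ Fin d) (Fin d ⊕ Fin d) F)) →
      (∀ z : F, (x : Matrix (Fin d ⊕ Fin d) (Fin d ⊕ Fin d) F) ≠
        z • (1 : Matrix (Fin d ⊕ Fin d) (Fin d ⊕ Fin d) F)) →
      ∃ g ∈ omegaGL (Cfsg.quadFormPlus d F), g⁻¹ * x * g ∈ subalgebraNormalizer K :=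
  sfk_two_fn (sfk_two_ne_zero hodd) _ (Cfsg.Agent.Lib.helper96.FE.fe_nd_plus d) K hK hKf

/-- block [A], minus type: the hypothesis `HA` of the main core (with `r = 2`). -/
theorem sfk_two_minus {F : Type*} [Field F] [Fintype F] (hodd : Odd (Fintype.card F)) (m : ℕ)
    (a b : F) (hab : ∀ x y : F, x ^ 2 + a * x * y + b * y ^ 2 = 0 → x = 0 ∧ y = 0)
    (K : Subalgebra F (Matrix ((Fin m ⊕ Fin m) ⊕ Fin 2) ((Fin m ⊕ Fin m) ⊕ Fin 2) F))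
    (hK : IsFieldSubalgebra 2 K)
    (hKf : IsSelfAdjointFor (QuadraticMap.polar (Cfsg.quadFormMinus m F a b)) K) :
    ∀ x ∈ omegaGL (Cfsg.quadFormMinus m F a b),
      (∃ z : F, ((x ^ 2 : GL ((Fin m ⊕ Fin m) ⊕ Fin 2) F) :
          Matrix ((Fin m ⊕ Fin m) ⊕ Fin 2) ((Fin m ⊕ Fin m) ⊕ Fin 2) F) =
        z • (1 : Matrix ((Fin m ⊕ Fin m) ⊕ Fin 2) ((Fin m ⊕ Fin m) ⊕ Fin 2) F)) →
      (∀ z : F, (x : Matrix ((Fin m ⊕ Fin m) ⊕ Fin 2) ((Fin m ⊕ Fin m) ⊕ Fin 2) F) ≠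
        z • (1 : Matrix ((Fin m ⊕ Fin m) ⊕ Fin 2) ((Fin m ⊕ Fin m) ⊕ Fin 2) F)) →
      ∃ g ∈ omegaGL (Cfsg.quadFormMinus m F a b), g⁻¹ * x * g ∈ subalgebraNormalizer K :=
  sfk_two_fn (sfk_two_ne_zero hodd) _
    (Cfsg.Agent.Lib.helper96.FE.fe_nd_minus (sfk_two_ne_zero hodd) m a b hab) K hK hKf

end Cfsg.Agent.Lib.helper59.Sfk
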