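import Mathlib
import Cfsg.Agent.Lib.helper24.SfoDefs

/-!
# S5981, piece BINCNT (racing copy): the number of solutions of `a x² + b y² = t`
over a finite field of odd characteristic, via the quadratic character and the Jacobi sum.
-/

set_option autoImplicit false

namespace Cfsg.Agent.Lib.helper24

open Finset

theorem h59_ringChar_ne_two {F : Type*} [Field F] (h2 : (2 : F) ≠ 0) : ringChar F ≠ 2 := by
  intro h
  apply h2
  have := CharP.cast_eq_zero F (ringChar F)
  rw [h] at this
  exact_mod_cast this

/-- the number of `x` with `a x² = c` -/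
theorem h59_card_sq {F : Type*} [Field F] [Fintype F] [DecidableEq F] (h2 : (2 : F) ≠ 0)
    (a c : F) (ha : a ≠ 0) :
    (∑ x : F, if a * x ^ 2 = c then (1 : ℤ) else 0) =
      quadraticChar F a * quadraticChar F c + 1 := by
  have hF := h59_ringChar_ne_two h2
  have h1 := quadraticChar_card_sqrts hF (c / a)
  have h3 : quadraticChar F (c / a) = quadraticChar F a * quadraticChar F c := by
    have h4 : quadraticChar F (c / a) * quadraticChar F (a ^ 2) = quadraticChar F (a * c) := by
      rw [← map_mul]
      congr 1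
      field_simp
    rw [quadraticChar_sq_one' ha, mul_one] at h4
    rw [h4, map_mul]
  have h5 : ({x : F | x ^ 2 = c / a}.toFinset) = univ.filter (fun x : F => a * x ^ 2 = c) := by
    ext x
    simp only [Set.mem_toFinset, Set.mem_ofPred_eq, mem_filter, mem_univ, true_and]
    rw [eq_div_iff ha, mul_comm]
  rw [← h3, ← h1, h5, Finset.natCast_card_filter]

/-- `∑ u, χ u * χ (t - u)` for `t ≠ 0` -/
theorem h59_jac_ne {F : Type*} [Field F] [Fintype F] [DecidableEq F] (h2 : (2 : F) ≠ 0)
    (t : F) (ht : t ≠ 0) :
    (∑ u : F, quadraticChar F u * quadraticChar F (t - u)) = - quadraticChar F (-1) := by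
  have hF := h59_ringChar_ne_two h2
  have hJ := jacobiSum_nontrivial_inv (quadraticChar_ne_one hF)
  rw [MulChar.IsQuadratic.inv (quadraticChar_isQuadratic F), jacobiSum] at hJ
  rw [← hJ, ← Equiv.sum_comp (Equiv.mulLeft₀ t ht)
    (fun u => quadraticChar F u * quadraticChar F (t - u))]
  refine Finset.sum_congr rfl fun w _ => ?_
  have e1 : t - t * w = t * (1 - w) := by ring
  simp only [Equiv.mulLeft₀_apply]
  rw [e1, map_mul, map_mul]
  have := quadraticChar_sq_one ht
  linear_combination (quadraticChar F w * quadraticChar F (1 - w)) * this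

/-- `∑ u, χ u * χ (0 - u)` -/
theorem h59_jac_zero {F : Type*} [Field F] [Fintype F] [DecidableEq F] :
    (∑ u : F, quadraticChar F u * quadraticChar F (0 - u)) =
      quadraticChar F (-1) * ((Fintype.card F : ℤ) - 1) := by
  have h1 : ∀ u : F, quadraticChar F u * quadraticChar F (0 - u) =
      quadraticChar F (-1) * (if u = 0 then 0 else 1) := by
    intro u
    by_cases hu : u = 0
    · simp [hu]
    · rw [if_neg hu, zero_sub, ← neg_one_mul u, map_mul]
      have := quadraticChar_sq_one hu
      linear_combination (quadraticChar F (-1)) * this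
  simp only [h1, ← Finset.mul_sum]
  congr 1
  rw [Finset.sum_ite, Finset.sum_const_zero, zero_add, Finset.sum_const, nsmul_eq_mul, mul_one,
    Finset.filter_ne' , Finset.card_erase_of_mem (Finset.mem_univ _), Finset.card_univ]
  have : 1 ≤ Fintype.card F := Fintype.card_pos
  push_cast [Nat.cast_sub this]
  ring

/-- `∑ y, χ (t - b y²)` -/
theorem h59_sum_char {F : Type*} [Field F] [Fintype F] [DecidableEq F] (h2 : (2 : F) ≠ 0)
    (b t : F) (hb : b ≠ 0) :
    (∑ y : F, quadraticChar F (t - b * y ^ 2)) =
      quadraticChar F b * ∑ u : F, quadraticChar F u * quadraticChar F (t - u) := by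
  have hF := h59_ringChar_ne_two h2
  have h1 : ∀ y : F, quadraticChar F (t - b * y ^ 2) =
      ∑ u : F, (if b * y ^ 2 = u then (1 : ℤ) else 0) * quadraticChar F (t - u) := by
    intro y
    simp
  simp only [h1]
  rw [Finset.sum_comm]
  simp only [← Finset.sum_mul, h59_card_sq h2 b _ hb]
  have h3 : ∑ u : F, quadraticChar F (t - u) = 0 := by
    rw [← quadraticChar_sum_zero hF, ← Equiv.sum_comp (Equiv.subLeft t)
      (fun u => quadraticChar F u)]
    simp
  rw [Finset.mul_sum]
  calc ∑ u : F, (quadraticChar F b * quadraticChar F u + 1) * quadraticChar F (t - u)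
      = ∑ u : F, (quadraticChar F b * (quadraticChar F u * quadraticChar F (t - u))
          + quadraticChar F (t - u)) := by
        refine Finset.sum_congr rfl fun u _ => ?_
        ring
    _ = _ := by rw [Finset.sum_add_distrib, h3, add_zero]

/-- the count as a character sum -/
theorem h59_bin_count_eq {F : Type*} [Field F] [Fintype F] [DecidableEq F] (h2 : (2 : F) ≠ 0)
    (a b t : F) (ha : a ≠ 0) (hb : b ≠ 0) :
    ((Finset.univ.filter (fun p : F × F => a * p.1 ^ 2 + b * p.2 ^ 2 = t)).card : ℤ) =
      (Fintype.card F : ℤ) + quadraticChar F a * quadraticChar F b *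
        ∑ u : F, quadraticChar F u * quadraticChar F (t - u) := by
  rw [Finset.natCast_card_filter, Fintype.sum_prod_type_right]
  have h1 : ∀ y : F, (∑ x : F, if a * (x, y).1 ^ 2 + b * (x, y).2 ^ 2 = t then (1 : ℤ) else 0) =
      quadraticChar F a * quadraticChar F (t - b * y ^ 2) + 1 := by
    intro y
    rw [← h59_card_sq h2 a _ ha]
    refine Finset.sum_congr rfl fun x _ => ?_
    have : (a * x ^ 2 + b * y ^ 2 = t) ↔ (a * x ^ 2 = t - b * y ^ 2) := by
      constructor
      · intro h; rw [← h]; ring
      · intro h; rw [h]; ring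
    simp only [this]
  simp only [h1]
  rw [Finset.sum_add_distrib, ← Finset.mul_sum, h59_sum_char h2 b t hb, Finset.sum_const,
    Finset.card_univ]
  simp only [nsmul_eq_mul, mul_one]
  ring

/-- BINCNT (racing copy; verbatim statement of `sfo_bin_count`) -/
theorem h59_sfo_bin_count {F : Type*} [Field F] [Fintype F] [DecidableEq F] (h2 : (2 : F) ≠ 0)
    (a b : F) (ha : a ≠ 0) (hb : b ≠ 0) :
    ∃ e : ℤ, (e = 1 ∨ e = -1) ∧
      (∀ t : F, t ≠ 0 →
        ((Finset.univ.filter (fun p : F × F => a * p.1 ^ 2 + b * p.2 ^ 2 = t)).card : ℤ) =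
          (Fintype.card F : ℤ) - e) ∧
      ((Finset.univ.filter (fun p : F × F => a * p.1 ^ 2 + b * p.2 ^ 2 = 0)).card : ℤ) =
        (Fintype.card F : ℤ) + ((Fintype.card F : ℤ) - 1) * e := by
  have hm1 : (-1 : F) ≠ 0 := neg_ne_zero.mpr one_ne_zero
  refine ⟨quadraticChar F a * quadraticChar F b * quadraticChar F (-1), ?_, ?_, ?_⟩
  · rcases quadraticChar_dichotomy ha with h | h <;>
      rcases quadraticChar_dichotomy hb with h' | h' <;>
      rcases quadraticChar_dichotomy hm1 with h'' | h'' <;> simp [h, h', h'']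
  · intro t ht
    rw [h59_bin_count_eq h2 a b t ha hb, h59_jac_ne h2 t ht]
    ring
  · rw [h59_bin_count_eq h2 a b 0 ha hb, h59_jac_zero]
    ring

end Cfsg.Agent.Lib.helper24
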