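import Mathlib
import Cfsg.Agent.Lib.helper24.SfuDefs

/-!
# S5982 piece ORDER (core): the order of the isometry group of a unitary form, by orbit–stabiliser
on the norm-one vectors.  The pieces ORDT, ORDS, COUNT, STD enter as hypotheses.
-/

set_option autoImplicit false

namespace Cfsg.Agent.Lib.helper24

open Module Matrix Cfsg.Geo

/-- The action of the isometry group on vectors. -/
@[reducible] def h59_sfuAct {F : Type*} [Field F] {n : ℕ} (f : (Fin n → F) → (Fin n → F) → F) :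
    MulAction ↥(sfuIsom f) (Fin n → F) where
  smul g u := ((g : GL (Fin n) F) : Matrix (Fin n) (Fin n) F) *ᵥ u
  one_smul u := by
    show (((1 : ↥(sfuIsom f)) : GL (Fin n) F) : Matrix (Fin n) (Fin n) F) *ᵥ u = u
    simp
  mul_smul g h u := by
    show (((g * h : ↥(sfuIsom f)) : GL (Fin n) F) : Matrix (Fin n) (Fin n) F) *ᵥ u =
      ((g : GL (Fin n) F) : Matrix (Fin n) (Fin n) F) *ᵥ
        (((h : GL (Fin n) F) : Matrix (Fin n) (Fin n) F) *ᵥ u)
    rw [Matrix.mulVec_mulVec]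
    rfl

theorem h59_sfu_card_step {F : Type*} [Field F] [Fintype F] {n : ℕ}
    (f : (Fin n → F) → (Fin n → F) → F) (v : Fin n → F) (hv : f v v = 1)
    (htrans : ∀ w, f w w = 1 → ∃ g ∈ sfuIsom f, (g : Matrix (Fin n) (Fin n) F) *ᵥ v = w) :
    Nat.card (sfuIsom f) = Set.ncard {w : Fin n → F | f w w = 1} *
      Nat.card {g : GL (Fin n) F // g ∈ sfuIsom f ∧
        (g : Matrix (Fin n) (Fin n) F) *ᵥ v = v} := by
  classical
  let _ : MulAction ↥(sfuIsom f) (Fin n → F) := h59_sfuAct f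
  have horb : MulAction.orbit ↥(sfuIsom f) v = {w : Fin n → F | f w w = 1} := by
    ext w
    constructor
    · rintro ⟨g, rfl⟩
      show f (((g : GL (Fin n) F) : Matrix (Fin n) (Fin n) F) *ᵥ v)
        (((g : GL (Fin n) F) : Matrix (Fin n) (Fin n) F) *ᵥ v) = 1
      rw [g.2 v v, hv]
    · intro hw
      obtain ⟨g, hg, hgw⟩ := htrans w hw
      exact ⟨⟨g, hg⟩, hgw⟩
  have hstab : Nat.card ↥(MulAction.stabilizer ↥(sfuIsom f) v) =
      Nat.card {g : GL (Fin n) F // g ∈ sfuIsom f ∧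
        (g : Matrix (Fin n) (Fin n) F) *ᵥ v = v} := by
    apply Nat.card_congr
    refine ⟨fun g => ⟨g.1.1, g.1.2, g.2⟩, fun g => ⟨⟨g.1, g.2.1⟩, g.2.2⟩, ?_, ?_⟩
    · intro g; rfl
    · intro g; rfl
  have h1 := Subgroup.card_mul_index (MulAction.stabilizer ↥(sfuIsom f) v)
  rw [MulAction.index_stabilizer, horb, hstab] at h1
  rw [← h1, mul_comm]

theorem h59_sfu_card_isom_core {F : Type*} [Field F] [Fintype F] (q₀ : ℕ)
    (hcard : Fintype.card F = q₀ ^ 2)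
    (hSTD : ∀ m : ℕ, IsUnitaryFormPow q₀ (sfuStd F q₀ m))
    (hCOUNT : ∀ (m : ℕ) (f : (Fin m → F) → (Fin m → F) → F), IsUnitaryFormPow q₀ f →
      (Set.ncard {v : Fin m → F | f v v = 1} : ℤ) =
        (q₀ : ℤ) ^ (m - 1) * ((q₀ : ℤ) ^ m - (-1) ^ m))
    (hORDT : ∀ (n : ℕ) (f : (Fin n → F) → (Fin n → F) → F), IsUnitaryFormPow q₀ f →
      ∀ v w, f v v = 1 → f w w = 1 →
        ∃ g ∈ sfuIsom f, (g : Matrix (Fin n) (Fin n) F) *ᵥ v = w)
    (hORDS : ∀ (m : ℕ) (f : (Fin (m + 1) → F) → (Fin (m + 1) → F) → F), IsUnitaryFormPow q₀ f →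
      ∀ v, f v v = 1 →
        Nat.card {g : GL (Fin (m + 1)) F // g ∈ sfuIsom f ∧
          (g : Matrix (Fin (m + 1)) (Fin (m + 1)) F) *ᵥ v = v} =
          Nat.card (sfuIsom (sfuStd F q₀ m))) :
    ∀ (n : ℕ) (f : (Fin n → F) → (Fin n → F) → F), IsUnitaryFormPow q₀ f →
      (Nat.card (sfuIsom f) : ℤ) =
        ∏ m ∈ Finset.range n, (q₀ : ℤ) ^ m * ((q₀ : ℤ) ^ (m + 1) - (-1) ^ (m + 1)) := by
  have hq2 : 2 ≤ q₀ := by
    have h1 : 1 < Fintype.card F := Fintype.one_lt_card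
    rw [hcard] at h1
    by_contra hlt
    have : q₀ ≤ 1 := by omega
    have : q₀ ^ 2 ≤ 1 ^ 2 := Nat.pow_le_pow_left this 2
    omega
  intro n
  induction n with
  | zero =>
    intro f _
    have : Subsingleton (GL (Fin 0) F) := ⟨fun a b => Units.ext (Subsingleton.elim _ _)⟩
    have : Nat.card (sfuIsom f) = 1 := Nat.card_eq_one_iff_unique.mpr ⟨inferInstance, ⟨1⟩⟩
    rw [this]
    simp
  | succ m ih =>
    intro f hf
    have hcnt := hCOUNT (m + 1) f hf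
    have hne : (q₀ : ℤ) ^ (m + 1 - 1) * ((q₀ : ℤ) ^ (m + 1) - (-1) ^ (m + 1)) ≠ 0 := by
      have hq0 : (2 : ℤ) ≤ (q₀ : ℤ) := by exact_mod_cast hq2
      have h1 : (q₀ : ℤ) ^ (m + 1 - 1) ≠ 0 := pow_ne_zero _ (by omega)
      have h2 : (2 : ℤ) ≤ (q₀ : ℤ) ^ (m + 1) := by
        calc (2 : ℤ) ≤ (q₀ : ℤ) := hq0
          _ = (q₀ : ℤ) ^ 1 := (pow_one _).symm
          _ ≤ (q₀ : ℤ) ^ (m + 1) := pow_le_pow_right₀ (by omega) (by omega)
      have h3 : ((-1 : ℤ)) ^ (m + 1) ≤ 1 := by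
        rcases neg_one_pow_eq_or ℤ (m + 1) with h | h <;> rw [h] <;> norm_num
      have h4 : (q₀ : ℤ) ^ (m + 1) - (-1) ^ (m + 1) ≠ 0 := by omega
      exact mul_ne_zero h1 h4
    have hnz : Set.ncard {v : Fin (m + 1) → F | f v v = 1} ≠ 0 := by
      intro h0
      rw [h0] at hcnt
      exact hne (by simpa using hcnt.symm)
    obtain ⟨v, hv⟩ : ∃ v : Fin (m + 1) → F, f v v = 1 := by
      by_contra hno
      push Not at hno
      apply hnz
      have : {v : Fin (m + 1) → F | f v v = 1} = ∅ := by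
        ext v
        simp [hno v]
      rw [this, Set.ncard_empty]
    have hstep := h59_sfu_card_step f v hv (fun w hw => hORDT (m + 1) f hf v w hv hw)
    rw [hORDS m f hf v hv] at hstep
    rw [hstep, Nat.cast_mul, hcnt, ih (sfuStd F q₀ m) (hSTD m), Finset.prod_range_succ]
    have : m + 1 - 1 = m := by omega
    rw [this]
    ring

end Cfsg.Agent.Lib.helper24
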