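import Mathlib

/-! Insurance copy of piece ORTHM of the S5973 split (helper24): `stp_orth_model`, under the
prefixed name `h59_stp_orth_model` (statement verbatim from `tools/S5973_Skel.lean.txt`). -/

set_option autoImplicit false
set_option linter.unusedSectionVars false
set_option linter.unusedVariables false

namespace Cfsg.Agent.Lib.helper24

open Module

universe u

section stpgeneric

variable {F : Type u} [Field F] [Fintype F]

/-- An endomorphism of odd prime order without fixed vectors: its square has no fixed vectors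
either. -/
theorem h59_orth_sq_fix {V : Type u} [AddCommGroup V] [Module F V]
    (r : ℕ) (hr : r.Prime) (hr2 : r ≠ 2) (a : Module.End F V) (har : a ^ r = 1)
    (hfix : ∀ v, a v = v → v = 0) (v : V) (hv : a (a v) = v) : v = 0 := by
  apply hfix
  obtain ⟨k, hk⟩ : ∃ k, r = 2 * k + 1 := by
    rcases hr.eq_two_or_odd' with h | h
    · exact absurd h hr2
    · exact h
  have h1 : ∀ n : ℕ, ((a ^ 2) ^ n) v = v := by
    intro n
    induction n with
    | zero => simp
    | succ n ih =>
      have h0 : (a ^ 2) v = v := by rw [pow_two, Module.End.mul_apply, hv]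
      rw [pow_succ, Module.End.mul_apply, h0, ih]
  have h2 : (a ^ r) v = a v := by
    rw [hk, pow_succ', pow_mul, Module.End.mul_apply, h1]
  rw [← h2, har]; rfl

/-- From a symplectic space `(V, ω)` with an isometry `a` of odd order `r` without fixed vectors
to a quadratic space on the same `V`: `Q u = ω ((1 - a)⁻¹ u) u`. -/
theorem h59_stp_orth_model (r : ℕ) (hr : r.Prime) (hr2 : r ≠ 2)
    {V : Type u} [AddCommGroup V] [Module F V] [FiniteDimensional F V]
    (ω : V →ₗ[F] V →ₗ[F] F) (a b : Module.End F V)
    (halt : ∀ v, ω v v = 0) (hnd : ∀ v, (∀ w, ω v w = 0) → v = 0)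
    (hiso : ∀ v w, ω (a v) (a w) = ω v w) (hab : a * b = 1) (har : a ^ r = 1)
    (hfix : ∀ v, a v = v → v = 0) :
    ∃ Q : QuadraticForm F V, (∀ v, (∀ w, QuadraticMap.polar Q v w = 0) → v = 0) ∧
      (∀ v, Q (a v) = Q v) ∧
      ∀ X : Submodule F V, (∀ x ∈ X, Q x = 0) → (∀ x ∈ X, a x ∈ X) →
        ∀ u ∈ X, ∀ v ∈ X, ω u v = 0 := by
  classical
  have hskew : ∀ u v, ω u v = - ω v u := by
    intro u v
    have h := halt (u + v)
    simp only [map_add, LinearMap.add_apply, halt, zero_add, add_zero] at h
    exact eq_neg_of_add_eq_zero_right h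
  have hsq := h59_orth_sq_fix r hr hr2 a har hfix
  have hinj : Function.Injective (1 - a : Module.End F V) := by
    rw [← LinearMap.ker_eq_bot, LinearMap.ker_eq_bot']
    intro v hv
    apply hfix
    have h0 : v - a v = 0 := by simpa using hv
    exact (sub_eq_zero.mp h0).symm
  let e : V ≃ₗ[F] V := LinearEquiv.ofInjectiveEndo (1 - a) hinj
  have he : ∀ v, e v = v - a v := fun v => by simp [e]
  let c : Module.End F V := e.symm.toLinearMap
  have hc1 : ∀ v, c v - a (c v) = v := fun v => by
    have h0 := e.apply_symm_apply v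
    rw [he] at h0; exact h0
  have hc2 : ∀ v, c (v - a v) = v := fun v => by
    have h0 := e.symm_apply_apply v
    rw [he] at h0; exact h0
  have hba : ∀ v, a (b v) = v := fun v => by
    have h0 := congrArg (fun f : Module.End F V => f v) hab
    simpa using h0
  have hca : ∀ v, c (a v) = a (c v) := by
    intro v
    have h1 := hc2 (a (c v))
    have h2 : a (c v) - a (a (c v)) = a v := by
      rw [← map_sub, hc1]
    rw [h2] at h1; exact h1
  have hkey : ∀ x y : V, ω (c (x - a x)) (y - a y) + ω (c (y - a y)) (x - a x)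
      = ω (a x) y - ω x (a y) := by
    intro x y
    rw [hc2, hc2]
    simp only [map_sub]
    rw [hskew y x, hskew y (a x)]
    ring
  let B : LinearMap.BilinMap F V F := ω.comp c
  have hB : ∀ u v, B u v = ω (c u) v := fun u v => rfl
  have hQ : ∀ u, B.toQuadraticMap u = ω (c u) u := fun u => rfl
  have hpolar : ∀ u v, QuadraticMap.polar B.toQuadraticMap u v = ω (c u) v + ω (c v) u := by
    intro u v
    rw [LinearMap.BilinMap.polar_toQuadraticMap, hB, hB]
  refine ⟨B.toQuadraticMap, ?_, ?_, ?_⟩
  · intro v hv
    have hx : ∀ y, ω (a (c v)) y - ω (c v) (a y) = 0 := by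
      intro y
      have h0 := hv (y - a y)
      rw [hpolar] at h0
      have h1 := hkey (c v) y
      rw [hc1] at h1
      rw [← h1]; exact h0
    have h2 : a (c v) = b (c v) := by
      have h3 : ∀ y, ω (a (c v) - b (c v)) y = 0 := by
        intro y
        have h4 : ω (b (c v)) y = ω (c v) (a y) := by
          rw [← hiso (b (c v)) y, hba]
        rw [map_sub, LinearMap.sub_apply, h4]; exact hx y
      exact sub_eq_zero.mp (hnd _ h3)
    have h5 : c v = 0 := by
      apply hsq
      rw [h2, hba]
    have h6 := hc1 v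
    rw [h5] at h6
    simpa using h6.symm
  · intro v
    rw [hQ, hQ, hca, hiso]
  · intro X hX0 hXa u hu v hv
    have hpol : ∀ x ∈ X, ∀ y ∈ X, ω (c x) y + ω (c y) x = 0 := by
      intro x hx y hy
      have h0 : QuadraticMap.polar B.toQuadraticMap x y = 0 := by
        unfold QuadraticMap.polar
        rw [hX0 x hx, hX0 y hy, hX0 (x + y) (X.add_mem hx hy)]; simp
      rw [hpolar] at h0; exact h0
    have h1 : ∀ x ∈ X, ∀ y ∈ X, ω (a x) y = ω x (a y) := by
      intro x hx y hy
      have h0 := hkey x y
      rw [hpol _ (X.sub_mem hx (hXa x hx)) _ (X.sub_mem hy (hXa y hy))] at h0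
      exact (sub_eq_zero.mp h0.symm)
    have h2 : ∀ x ∈ X, ∀ y ∈ X, ω x (a (a y) - y) = 0 := by
      intro x hx y hy
      rw [map_sub, ← h1 x hx (a y) (hXa y hy), hiso, sub_self]
    let g : Module.End F V := a * a - 1
    have hg : ∀ x, g x = a (a x) - x := fun x => by simp [g]
    have hgX : ∀ x ∈ X, g x ∈ X := fun x hx => by
      rw [hg]; exact X.sub_mem (hXa _ (hXa x hx)) hx
    let gX : X →ₗ[F] X := g.restrict hgX
    have hgXinj : Function.Injective gX := by
      rw [← LinearMap.ker_eq_bot, LinearMap.ker_eq_bot']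
      intro x hx
      have h0 : g (x : V) = 0 := by
        have h3 := congrArg (Subtype.val) hx
        simpa [gX] using h3
      rw [hg] at h0
      exact Subtype.ext (hsq _ (sub_eq_zero.mp h0))
    have hgXsurj : Function.Surjective gX := LinearMap.injective_iff_surjective.mp hgXinj
    obtain ⟨y, hy⟩ := hgXsurj ⟨v, hv⟩
    have h3 : g (y : V) = v := by
      have h4 := congrArg (Subtype.val) hy
      simpa [gX] using h4
    rw [← h3, hg]
    exact h2 u hu y y.2

end stpgeneric

end Cfsg.Agent.Lib.helper24
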