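import Cfsg.Agent.Lib.helper59.SympA
import Cfsg.Agent.Lib.helper59.SelfCentCyclic4
import Cfsg.Agent.Lib.helper59.UniqueOrderP
import Cfsg.Agent.Lib.helper59.PairOrderP
import Cfsg.Agent.S3761

/-!
# P. Hall's theorem on `p`-groups of symplectic type: the critical subgroup data (helper59)

`SData p A C a₀ z m`: `A = ⟨a₀⟩` is a maximal characteristic abelian subgroup of order `p ^ m`,
`C` is a critical subgroup with `Z(C) = C_G(C) = A`, `z ∈ A` is central of order `p`.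
-/

set_option autoImplicit false
set_option linter.unusedSectionVars false
set_option linter.unusedVariables false
set_option linter.style.haveILetI false

namespace Cfsg.Agent.Lib.helper59.SympB

open Subgroup SympA

variable {G : Type*} [Group G] [Finite G] {p : ℕ} [hp : Fact p.Prime]

theorem exists_pow_of_mem_zpowers {z w : G} (h : w ∈ zpowers z) : ∃ k : ℕ, z ^ k = w := by
  have h1 : w ∈ Submonoid.powers z := mem_powers_iff_mem_zpowers.mpr h
  exact (Submonoid.mem_powers_iff _ _).mp h1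

structure SData (p : ℕ) (A C : Subgroup G) (a₀ z : G) (m : ℕ) : Prop where
  hAC : A ≤ C
  gen : zpowers a₀ = A
  ord : orderOf a₀ = p ^ m
  zA : z ∈ A
  zo : orderOf z = p
  zc : ∀ g : G, g * z = z * g
  Acent : ∀ a ∈ A, ∀ c ∈ C, a * c = c * a
  ZC : ∀ x ∈ C, (∀ y ∈ C, x * y = y * x) → x ∈ A
  CC : ∀ g : G, (∀ c ∈ C, g * c = c * g) → g ∈ A
  powA : ∀ x ∈ C, x ^ p ∈ A
  commA : ∀ g : G, ∀ x ∈ C, g * x * g⁻¹ * x⁻¹ ∈ A
  Achar : A.Characteristic
  Cchar : C.Characteristic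
  hs : ∀ B : Subgroup G, B.Characteristic → (∀ a ∈ B, ∀ b ∈ B, a * b = b * a) → IsCyclic ↥B
  hG : IsPGroup p G

namespace SData

variable {A C : Subgroup G} {a₀ z : G} {m : ℕ} (S : SData p A C a₀ z m)

include S

theorem Acomm : ∀ a ∈ A, ∀ b ∈ A, a * b = b * a := fun a ha b hb => S.Acent a ha b (S.hAC hb)

theorem zp : z ^ p = 1 := by rw [← S.zo]; exact pow_orderOf_eq_one z

theorem z1 : z ≠ 1 := by
  intro h
  have := S.zo
  rw [h, orderOf_one] at this
  exact hp.out.one_lt.ne this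

theorem zC : z ∈ C := S.hAC S.zA

theorem zpow_central (k : ℕ) (g : G) : g * z ^ k = z ^ k * g := zc_pow S.zc k g

theorem omega : ∀ w ∈ A, w ^ p = 1 → w ∈ zpowers z := fun w hw hwp =>
  mem_zpowers_of_cyclic_sub A (S.hs A S.Achar S.Acomm) hp.out S.zA S.zo hw hwp

theorem Anormal : A.Normal := @Subgroup.normal_of_characteristic _ _ A S.Achar

theorem Cnormal : C.Normal := @Subgroup.normal_of_characteristic _ _ C S.Cchar

/-- Commutators of `C` are powers of `z`. -/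
theorem commZ : ∀ x ∈ C, ∀ y ∈ C, ∃ k : ℕ, x * y = z ^ k * y * x := by
  intro x hx y hy
  have hAn := S.Anormal
  -- `c = x⁻¹ y⁻¹ x y ∈ A`
  have hc : x⁻¹ * y⁻¹ * x * y ∈ A := by
    have h1 := S.commA y⁻¹ x hx
    have h2 := hAn.conj_mem _ h1 x⁻¹
    have e : x⁻¹ * (y⁻¹ * x * y⁻¹⁻¹ * x⁻¹) * x⁻¹⁻¹ = x⁻¹ * y⁻¹ * x * y := by group
    rwa [e] at h2
  set c := x⁻¹ * y⁻¹ * x * y with hcdef
  have hrel : x * y = y * x * c := by rw [hcdef]; group
  have hcx : c * x = x * c := S.Acent c hc x hx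
  have h1 := Cfsg.Agent.Lib.helper39.pow_mul_comm_c y x c hrel hcx p
  have h2 : x ^ p * y = y * x ^ p := S.Acent _ (S.powA x hx) y hy
  have hcp : c ^ p = 1 := by
    rw [h2] at h1
    exact (mul_eq_left (a := y * x ^ p)).mp h1.symm
  obtain ⟨k, hk⟩ := exists_pow_of_mem_zpowers (S.omega c hc hcp)
  refine ⟨k, ?_⟩
  calc x * y = y * x * c := hrel
    _ = y * x * z ^ k := by rw [hk]
    _ = z ^ k * (y * x) := S.zpow_central k _
    _ = z ^ k * y * x := (mul_assoc _ _ _).symm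

end SData

/-- The subgroup of `x ∈ C` with `x ^ p ∈ Z`, as a closure. -/
def powSub (p : ℕ) (C Z : Subgroup G) : Subgroup G :=
  closure {x : G | x ∈ C ∧ x ^ p ∈ Z}

namespace SData

variable {A C : Subgroup G} {a₀ z : G} {m : ℕ} (S : SData p A C a₀ z m)

include S

/-- Membership in `F = {x ∈ C | x ^ p ∈ ⟨z⟩}`. -/
theorem mem_F (x : G) : x ∈ powSub p C (zpowers z) ↔ x ∈ C ∧ x ^ p ∈ zpowers z := by
  constructor
  · intro hx
    unfold powSub at hx
    induction hx using Subgroup.closure_induction with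
    | mem x hx => exact hx
    | one => exact ⟨one_mem _, by simp [one_mem]⟩
    | mul x y _ _ hx hy =>
      refine ⟨mul_mem hx.1 hy.1, ?_⟩
      obtain ⟨k, hk⟩ := S.commZ y hy.1 x hx.1
      have hrel : y * x = x * y * z ^ k := by
        rw [hk, mul_assoc, ← S.zpow_central k (x * y)]
      rw [Cfsg.Agent.Lib.helper39.mul_pow_class2 x y (z ^ k) hrel (S.zpow_central k x).symm
        (S.zpow_central k y).symm p]
      exact mul_mem (mul_mem hx.2 hy.2) (pow_mem (pow_mem (mem_zpowers z) _) _)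
    | inv x _ hx =>
      refine ⟨inv_mem hx.1, ?_⟩
      rw [inv_pow]
      exact inv_mem hx.2
  · intro hx
    exact subset_closure hx

/-- Membership in `Ω₁(C) = {x ∈ C | x ^ p = 1}` for odd `p`. -/
theorem mem_Om (hp2 : p ≠ 2) (x : G) : x ∈ powSub p C ⊥ ↔ x ∈ C ∧ x ^ p = 1 := by
  constructor
  · intro hx
    unfold powSub at hx
    induction hx using Subgroup.closure_induction with
    | mem x hx => exact ⟨hx.1, Subgroup.mem_bot.mp hx.2⟩
    | one => exact ⟨one_mem _, by simp⟩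
    | mul x y _ _ hx hy =>
      refine ⟨mul_mem hx.1 hy.1, ?_⟩
      obtain ⟨k, hk⟩ := S.commZ y hy.1 x hx.1
      have hrel : y * x = x * y * z ^ k := by
        rw [hk, mul_assoc, ← S.zpow_central k (x * y)]
      rw [Cfsg.Agent.Lib.helper39.mul_pow_class2 x y (z ^ k) hrel (S.zpow_central k x).symm
        (S.zpow_central k y).symm p, hx.2, hy.2, one_mul, one_mul]
      obtain ⟨e, he⟩ := Cfsg.Agent.Lib.helper3.prime_dvd_choose_two hp.out hp2
      rw [he, ← pow_mul, mul_comm k, mul_assoc, pow_mul, S.zp, one_pow]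
    | inv x _ hx =>
      refine ⟨inv_mem hx.1, ?_⟩
      rw [inv_pow, hx.2, inv_one]
  · intro hx
    exact subset_closure ⟨hx.1, by rw [hx.2]; exact one_mem _⟩

theorem F_le_C : powSub p C (zpowers z) ≤ C := fun x hx => ((S.mem_F x).mp hx).1

theorem z_mem_F : z ∈ powSub p C (zpowers z) :=
  (S.mem_F z).mpr ⟨S.zC, pow_mem (mem_zpowers z) _⟩

theorem Om_le_F (hp2 : p ≠ 2) : powSub p C ⊥ ≤ powSub p C (zpowers z) := fun x hx => by
  have h := (S.mem_Om hp2 x).mp hx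
  exact (S.mem_F x).mpr ⟨h.1, by rw [h.2]; exact one_mem _⟩

/-- `⟨z⟩` is characteristic. -/
theorem map_z (ϕ : G ≃* G) (w : G) (hw : w ∈ zpowers z) : ϕ w ∈ zpowers z := by
  have hwA : w ∈ A := by
    obtain ⟨k, rfl⟩ := Subgroup.mem_zpowers_iff.mp hw
    exact A.zpow_mem S.zA k
  apply S.omega _ ((char_mem_iff S.Achar ϕ w).mpr hwA)
  rw [← map_pow]
  obtain ⟨k, rfl⟩ := Subgroup.mem_zpowers_iff.mp hw
  rw [← zpow_natCast, ← zpow_mul, mul_comm, zpow_mul, zpow_natCast, S.zp, one_zpow, map_one]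

theorem F_char : (powSub p C (zpowers z)).Characteristic := by
  rw [Subgroup.characteristic_iff_le_comap]
  intro ϕ x hx
  have h := (S.mem_F x).mp hx
  show ϕ x ∈ powSub p C (zpowers z)
  refine (S.mem_F _).mpr ⟨(char_mem_iff S.Cchar ϕ x).mpr h.1, ?_⟩
  rw [← map_pow]
  exact S.map_z ϕ _ h.2

theorem Om_char (hp2 : p ≠ 2) : (powSub p C ⊥).Characteristic := by
  rw [Subgroup.characteristic_iff_le_comap]
  intro ϕ x hx
  have h := (S.mem_Om hp2 x).mp hx
  show ϕ x ∈ powSub p C ⊥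
  refine (S.mem_Om hp2 _).mpr ⟨(char_mem_iff S.Cchar ϕ x).mpr h.1, ?_⟩
  rw [← map_pow, h.2, map_one]

/-- Every element of `G` commutes with `F` up to powers of `z`. -/
theorem F_sc : ∀ g : G, ∀ x ∈ powSub p C (zpowers z), ∃ k : ℕ, g * x = z ^ k * x * g := by
  intro g x hx
  obtain ⟨hxC, hxp⟩ := (S.mem_F x).mp hx
  have ha : g * x * g⁻¹ * x⁻¹ ∈ A := S.commA g x hxC
  set a := g * x * g⁻¹ * x⁻¹ with hadef
  have hax : Commute a x := S.Acent a ha x hxC
  have h1 : (g * x * g⁻¹) ^ p = x ^ p := by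
    rw [conj_pow]
    obtain ⟨k, hk⟩ := Subgroup.mem_zpowers_iff.mp hxp
    rw [← hk]
    have : Commute g (z ^ k) := Commute.zpow_right (S.zc g) k
    rw [this.eq, mul_inv_cancel_right]
  have h2 : g * x * g⁻¹ = a * x := by rw [hadef]; group
  rw [h2, hax.mul_pow] at h1
  have hap : a ^ p = 1 := (mul_eq_right (b := x ^ p)).mp h1
  obtain ⟨k, hk⟩ := exists_pow_of_mem_zpowers (S.omega a ha hap)
  refine ⟨k, ?_⟩
  rw [hk, hadef]
  group

theorem F_comm : ∀ x ∈ powSub p C (zpowers z), ∀ y ∈ powSub p C (zpowers z),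
    ∃ k : ℕ, x * y = z ^ k * y * x := fun x _ y hy => S.F_sc x y hy

end SData

namespace SData

variable {A C : Subgroup G} {a₀ z : G} {m : ℕ} (S : SData p A C a₀ z m)

include S

/-- Elements of `G` act on an extraspecial-like `E ≤ F` as inner automorphisms. -/
theorem E_inner (E : Subgroup G) (hEF : E ≤ powSub p C (zpowers z))
    (hcenE : ∀ c ∈ E, (∀ d ∈ E, c * d = d * c) → c ∈ zpowers z) :
    ∀ g : G, ∃ e₀ ∈ E, ∀ c ∈ E, (e₀ * g) * c = c * (e₀ * g) :=
  fun g => inner_of_central_comm S.zc hp.out S.zo E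
    (fun a ha b hb => S.F_comm a (hEF ha) b (hEF hb)) hcenE g
    (fun e he => S.F_sc g e (hEF he))

theorem coe_mem_zpowers_iff {D : Subgroup G} {z : G} (hz : z ∈ D) (d : D) :
    d ∈ zpowers (⟨z, hz⟩ : D) ↔ (d : G) ∈ zpowers z := by
  rw [Subgroup.mem_zpowers_iff, Subgroup.mem_zpowers_iff]
  constructor
  · rintro ⟨k, hk⟩
    exact ⟨k, by rw [← hk]; simp⟩
  · rintro ⟨k, hk⟩
    exact ⟨k, Subtype.ext (by simp [hk])⟩

/-- `C_C(E) = A`. -/
theorem DA (E : Subgroup G) (hEF : E ≤ powSub p C (zpowers z))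
    (hcenE : ∀ c ∈ E, (∀ d ∈ E, c * d = d * c) → c ∈ zpowers z)
    (hΩ : ∀ x ∈ C, (∀ e ∈ E, x * e = e * x) → x ^ p = 1 → x ∈ zpowers z)
    (hq : p = 2 → ∀ x ∈ powSub p C (zpowers z), ∀ y ∈ powSub p C (zpowers z),
      (∀ e ∈ E, x * e = e * x) → (∀ e ∈ E, y * e = e * y) → x * y = y * x) :
    ∀ x ∈ C, (∀ e ∈ E, x * e = e * x) → x ∈ A := by
  set D : Subgroup G := C ⊓ centralizer (E : Set G) with hD
  have memD : ∀ d : G, d ∈ D ↔ d ∈ C ∧ ∀ e ∈ E, d * e = e * d := by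
    intro d
    rw [hD, Subgroup.mem_inf, Subgroup.mem_centralizer_iff]
    exact ⟨fun h => ⟨h.1, fun e he => (h.2 e he).symm⟩, fun h => ⟨h.1, fun e he => (h.2 e he).symm⟩⟩
  have hdec : ∀ y ∈ C, ∃ e₀ ∈ E, e₀ * y ∈ D := by
    intro y hy
    obtain ⟨e₀, he₀, h⟩ := S.E_inner E hEF hcenE y
    exact ⟨e₀, he₀, (memD _).mpr ⟨C.mul_mem (S.F_le_C (hEF he₀)) hy, h⟩⟩
  have hZD : ∀ c ∈ D, (∀ d ∈ D, c * d = d * c) → c ∈ A := by
    intro c hc hcd
    have hc' := (memD c).mp hc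
    refine S.ZC c hc'.1 (fun y hy => ?_)
    obtain ⟨e₀, he₀, hd⟩ := hdec y hy
    have h1 : Commute c e₀ := hc'.2 e₀ he₀
    have h2 : Commute c (e₀ * y) := hcd _ hd
    have h3 : Commute c (e₀⁻¹ * (e₀ * y)) := h1.inv_right.mul_right h2
    rw [inv_mul_cancel_left] at h3
    exact h3
  have zD : z ∈ D := (memD z).mpr ⟨S.zC, fun e _ => (S.zc e).symm⟩
  have hDp : IsPGroup p ↥D := S.hG.to_subgroup D
  have hU : UniqueOrderP p ↥D := by
    have key : ∀ L : Subgroup ↥D, Nat.card L = p → L = zpowers (⟨z, zD⟩ : D) := by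
      intro L hL
      apply Subgroup.eq_of_le_of_card_ge
      · intro h hh
        rw [coe_mem_zpowers_iff S zD]
        have hhp : h ^ p = 1 := by
          have h1 : (⟨h, hh⟩ : L) ^ Nat.card L = 1 := pow_card_eq_one'
          rw [hL] at h1
          have h2 := congrArg Subtype.val h1
          simpa using h2
        have h' := (memD (h : G)).mp h.2
        refine hΩ _ h'.1 h'.2 ?_
        have h2 := congrArg Subtype.val hhp
        simpa using h2
      · rw [Nat.card_zpowers, Subgroup.orderOf_mk, S.zo, hL]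
    intro H K hH hK
    rw [key H hH, key K hK]
  have hDcomm : ∀ c ∈ D, ∀ d ∈ D, c * d = d * c := by
    by_cases hp2 : p = 2
    · subst hp2
      rcases cyclic_or_quaternion_rel_of_uniqueOrderP hDp hU with hcyc | ⟨n, a, b, ha, -, -, hb2, hba⟩
      · exact comm_of_isCyclic_subgroup D hcyc
      · exfalso
        have ht2 : ((a ^ 2 ^ (n + 1) : D) : G) ^ 2 = 1 := by
          have h1 : (a ^ 2 ^ (n + 1)) ^ 2 = (1 : D) := by
            rw [← pow_mul, ← pow_succ, ← ha]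
            exact pow_orderOf_eq_one a
          have h2 := congrArg Subtype.val h1
          simpa using h2
        have htz : ((a ^ 2 ^ (n + 1) : D) : G) ∈ zpowers z := by
          have h' := (memD ((a ^ 2 ^ (n + 1) : D) : G)).mp (a ^ 2 ^ (n + 1) : D).2
          exact hΩ _ h'.1 h'.2 ht2
        have ha'F : ((a ^ 2 ^ n : D) : G) ∈ powSub 2 C (zpowers z) := by
          have h' := (memD ((a ^ 2 ^ n : D) : G)).mp (a ^ 2 ^ n : D).2
          refine (S.mem_F _).mpr ⟨h'.1, ?_⟩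
          have e : ((a ^ 2 ^ n : D) : G) ^ 2 = ((a ^ 2 ^ (n + 1) : D) : G) := by
            rw [← Subgroup.coe_pow, ← pow_mul, ← pow_succ]
          rw [e]
          exact htz
        have hbF : (b : G) ∈ powSub 2 C (zpowers z) := by
          have h' := (memD (b : G)).mp b.2
          refine (S.mem_F _).mpr ⟨h'.1, ?_⟩
          have e : (b : G) ^ 2 = ((a ^ 2 ^ (n + 1) : D) : G) := by
            rw [← Subgroup.coe_pow, hb2]
          rw [e]
          exact htz
        have hcomm := hq rfl _ ha'F _ hbF ((memD _).mp (a ^ 2 ^ n : D).2).2 ((memD _).mp b.2).2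
        have hcomm' : a ^ 2 ^ n * b = b * a ^ 2 ^ n := Subtype.ext (by simpa using hcomm)
        have hconj : b * a ^ 2 ^ n * b⁻¹ = (a ^ 2 ^ n)⁻¹ := by
          rw [← conj_pow, hba, inv_pow]
        rw [← hcomm', mul_inv_cancel_right] at hconj
        have hsq : a ^ 2 ^ (n + 1) = 1 := by
          rw [pow_succ, pow_mul, pow_two]
          nth_rewrite 2 [hconj]
          exact mul_inv_cancel _
        have hdvd := orderOf_dvd_of_pow_eq_one hsq
        rw [ha] at hdvd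
        have := (Nat.pow_dvd_pow_iff_le_right (by norm_num : 1 < 2)).mp hdvd
        omega
    · have hcyc := isCyclic_of_odd_of_uniqueOrderP hp2 (Nat.card D) D rfl hDp hU
      exact comm_of_isCyclic_subgroup D hcyc
  intro x hx hxE
  have hxD : x ∈ D := (memD x).mpr ⟨hx, hxE⟩
  exact hZD x hxD (fun d hd => hDcomm x hxD d hd)

/-- `C_G(E) ∩ C_G(A) = A`. -/
theorem RA (E : Subgroup G) (hEF : E ≤ powSub p C (zpowers z))
    (hcenE : ∀ c ∈ E, (∀ d ∈ E, c * d = d * c) → c ∈ zpowers z)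
    (hDA : ∀ x ∈ C, (∀ e ∈ E, x * e = e * x) → x ∈ A) :
    ∀ g : G, (∀ e ∈ E, g * e = e * g) → (∀ a ∈ A, g * a = a * g) → g ∈ A := by
  intro g hgE hgA
  refine S.CC g (fun y hy => ?_)
  obtain ⟨e₀, he₀, h⟩ := S.E_inner E hEF hcenE y
  have hA : e₀ * y ∈ A := hDA _ (C.mul_mem (S.F_le_C (hEF he₀)) hy) h
  have h1 : Commute g e₀ := hgE e₀ he₀
  have h2 : Commute g (e₀ * y) := hgA _ hA
  have h3 : Commute g (e₀⁻¹ * (e₀ * y)) := h1.inv_right.mul_right h2
  rw [inv_mul_cancel_left] at h3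
  exact h3

end SData

/-- A characteristic elementary abelian subgroup of order `p ^ 2` inside a characteristic subgroup
contradicts the symplectic-type hypothesis. -/
theorem no_char_sq
    (hs : ∀ B : Subgroup G, B.Characteristic → (∀ a ∈ B, ∀ b ∈ B, a * b = b * a) → IsCyclic ↥B)
    (R : Subgroup G) [R.Characteristic] (W : Subgroup R) [W.Characteristic]
    (hW : Cfsg.IsElementaryAbelian p W) (hcard : Nat.card W = p ^ 2) : False := by
  have hchar : (W.map R.subtype).Characteristic := inferInstance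
  have hab : ∀ a ∈ W.map R.subtype, ∀ b ∈ W.map R.subtype, a * b = b * a := by
    rintro _ ⟨a, ha, rfl⟩ _ ⟨b, hb, rfl⟩
    have h1 := hW.1.is_comm.comm ⟨a, ha⟩ ⟨b, hb⟩
    have h2 := congrArg Subtype.val h1
    have h3 := congrArg Subtype.val h2
    simpa using h3
  have hcyc := hs _ hchar hab
  refine not_isCyclic_of_card_sq_of_exp (p := p) (W.map R.subtype) ?_ ?_ hcyc
  · rw [Subgroup.card_map_of_injective R.subtype_injective]
    exact hcard
  · rintro _ ⟨a, ha, rfl⟩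
    have h1 := hW.2 a ha
    simpa using congrArg Subtype.val h1

/-- The `SCC` structure on `A.subgroupOf R`. -/
theorem exists_scc {A R : Subgroup G} {a₀ : G} {m : ℕ} (gen : zpowers a₀ = A)
    (ord : orderOf a₀ = p ^ m) (hAR : A ≤ R)
    (hAcomm : ∀ a ∈ A, ∀ b ∈ A, a * b = b * a)
    (hcent : ∀ g ∈ R, (∀ a ∈ A, g * a = a * g) → g ∈ A) :
    ∃ S : SCC p (A.subgroupOf R), S.n = m ∧ (S.u : G) = a₀ := by
  have ha₀A : a₀ ∈ A := by rw [← gen]; exact mem_zpowers a₀
  refine ⟨⟨⟨a₀, hAR ha₀A⟩, m, ?_, ?_, ?_⟩, rfl, rfl⟩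
  · ext x
    rw [Subgroup.mem_subgroupOf, ← gen, Subgroup.mem_zpowers_iff, Subgroup.mem_zpowers_iff]
    constructor
    · rintro ⟨k, hk⟩
      exact ⟨k, by rw [← hk]; simp⟩
    · rintro ⟨k, hk⟩
      exact ⟨k, Subtype.ext (by simp [hk])⟩
  · rw [Subgroup.orderOf_mk]
    exact ord
  · ext x
    rw [Subgroup.mem_centralizer_iff, Subgroup.mem_subgroupOf]
    constructor
    · intro h
      apply hcent x x.2
      intro a ha
      have h1 := h ⟨a, hAR ha⟩ (by rw [SetLike.mem_coe, Subgroup.mem_subgroupOf]; exact ha)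
      have h2 := congrArg Subtype.val h1
      simpa using h2.symm
    · intro hx h hh
      rw [SetLike.mem_coe, Subgroup.mem_subgroupOf] at hh
      exact Subtype.ext (hAcomm _ hh _ hx)

namespace SData

variable {A C : Subgroup G} {a₀ z : G} {m : ℕ} (S : SData p A C a₀ z m)

include S

/-- Final assembly. -/
theorem finish (E R : Subgroup G) (hEF : E ≤ powSub p C (zpowers z)) (hzE : z ∈ E)
    (hcenE : ∀ c ∈ E, (∀ d ∈ E, c * d = d * c) → c ∈ zpowers z)
    (hER : ∀ e ∈ E, ∀ r ∈ R, e * r = r * e) (hgen : ∀ g : G, ∃ e₀ ∈ E, e₀ * g ∈ R)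
    (hzR : z ∈ R)
    (hR : IsCyclic R ∨ (p = 2 ∧ 16 ≤ Nat.card R ∧ ((∃ m : ℕ, Nonempty (↥R ≃* DihedralGroup m)) ∨
      (∃ m : ℕ, Nonempty (↥R ≃* QuaternionGroup m)) ∨ Cfsg.IsQuasiDihedral ↥R))) :
    ∃ E R : Subgroup G, (∀ e ∈ E, ∀ r ∈ R, e * r = r * e) ∧ E ⊔ R = ⊤ ∧
      (E = ⊥ ∨ Cfsg.IsExtraspecial p ↥E) ∧
      (IsCyclic R ∨ (p = 2 ∧ 16 ≤ Nat.card R ∧ ((∃ m : ℕ, Nonempty (↥R ≃* DihedralGroup m)) ∨
        (∃ m : ℕ, Nonempty (↥R ≃* QuaternionGroup m)) ∨ Cfsg.IsQuasiDihedral ↥R))) := by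
  by_cases hab : ∀ a ∈ E, ∀ b ∈ E, a * b = b * a
  · refine ⟨⊥, R, ?_, ?_, Or.inl rfl, hR⟩
    · intro e he r _
      rw [Subgroup.mem_bot.mp he, one_mul, mul_one]
    · rw [bot_sup_eq, eq_top_iff]
      intro g _
      obtain ⟨e₀, he₀, h⟩ := hgen g
      have h1 : e₀ ∈ zpowers z := hcenE e₀ he₀ (fun d hd => hab e₀ he₀ d hd)
      have h2 : e₀ ∈ R := by
        obtain ⟨k, rfl⟩ := Subgroup.mem_zpowers_iff.mp h1
        exact R.zpow_mem hzR k
      have h3 : e₀⁻¹ * (e₀ * g) ∈ R := R.mul_mem (R.inv_mem h2) h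
      rwa [inv_mul_cancel_left] at h3
  · push Not at hab
    refine ⟨E, R, hER, ?_, Or.inr ?_, hR⟩
    · rw [eq_top_iff]
      intro g _
      obtain ⟨e₀, he₀, h⟩ := hgen g
      have h3 : e₀⁻¹ * (e₀ * g) ∈ E ⊔ R :=
        Subgroup.mul_mem _ (Subgroup.mem_sup_left (E.inv_mem he₀)) (Subgroup.mem_sup_right h)
      rwa [inv_mul_cancel_left] at h3
    · exact isExtraspecial_of_data' E (S.hG.to_subgroup E) z hzE S.zo
        (fun a ha b hb => S.F_comm a (hEF ha) b (hEF hb))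
        (fun a ha => ((S.mem_F a).mp (hEF ha)).2) hcenE (fun a _ => S.zc a) hab

/-- The case of odd `p`. -/
theorem odd_case (hp2 : p ≠ 2) :
    ∃ E R : Subgroup G, (∀ e ∈ E, ∀ r ∈ R, e * r = r * e) ∧ E ⊔ R = ⊤ ∧
      (E = ⊥ ∨ Cfsg.IsExtraspecial p ↥E) ∧
      (IsCyclic R ∨ (p = 2 ∧ 16 ≤ Nat.card R ∧ ((∃ m : ℕ, Nonempty (↥R ≃* DihedralGroup m)) ∨
        (∃ m : ℕ, Nonempty (↥R ≃* QuaternionGroup m)) ∨ Cfsg.IsQuasiDihedral ↥R))) := by
  set E : Subgroup G := powSub p C ⊥ with hEdef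
  have hEF : E ≤ powSub p C (zpowers z) := S.Om_le_F hp2
  have hzE : z ∈ E := (S.mem_Om hp2 z).mpr ⟨S.zC, S.zp⟩
  haveI hEchar : E.Characteristic := S.Om_char hp2
  have hcenE : ∀ c ∈ E, (∀ d ∈ E, c * d = d * c) → c ∈ zpowers z := by
    intro c hc hcd
    set ZE : Subgroup G := E ⊓ centralizer (E : Set G) with hZE
    have hZEchar : ZE.Characteristic := inferInstance
    have hZEab : ∀ a ∈ ZE, ∀ b ∈ ZE, a * b = b * a := by
      intro a ha b hb
      exact (Subgroup.mem_centralizer_iff.mp ha.2 b hb.1).symm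
    have hcyc := S.hs ZE hZEchar hZEab
    have hzZE : z ∈ ZE := ⟨hzE, Subgroup.mem_centralizer_iff.mpr (fun h _ => S.zc h)⟩
    have hcZE : c ∈ ZE := ⟨hc, Subgroup.mem_centralizer_iff.mpr (fun h hh => (hcd h hh).symm)⟩
    exact mem_zpowers_of_cyclic_sub ZE hcyc hp.out hzZE S.zo hcZE ((S.mem_Om hp2 c).mp hc).2
  have hΩ : ∀ x ∈ C, (∀ e ∈ E, x * e = e * x) → x ^ p = 1 → x ∈ zpowers z := by
    intro x hx hxE hxp
    exact hcenE x ((S.mem_Om hp2 x).mpr ⟨hx, hxp⟩) hxE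
  have hDA := S.DA E hEF hcenE hΩ (fun h => absurd h hp2)
  have hRA := S.RA E hEF hcenE hDA
  set R : Subgroup G := centralizer (E : Set G) with hRdef
  haveI hRchar : R.Characteristic := inferInstance
  have hAR : A ≤ R := by
    intro a ha
    rw [hRdef, Subgroup.mem_centralizer_iff]
    intro e he
    exact (S.Acent a ha e (S.F_le_C (hEF he))).symm
  have hcent : ∀ g ∈ R, (∀ a ∈ A, g * a = a * g) → g ∈ A := by
    intro g hg hga
    exact hRA g (fun e he => (Subgroup.mem_centralizer_iff.mp hg e he).symm) hga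
  have hRA' : R ≤ A := by
    by_contra hne
    obtain ⟨g, hgR, hgA⟩ := SetLike.not_le_iff_exists.mp hne
    obtain ⟨S', hS'n, hS'u⟩ := exists_scc (p := p) S.gen S.ord hAR S.Acomm hcent
    haveI := S.Anormal
    have hGR : IsPGroup p ↥R := S.hG.to_subgroup R
    have hna : ¬ IsMulCommutative ↥R := by
      intro hc
      apply hgA
      apply hcent g hgR
      intro a ha
      have h1 := hc.is_comm.comm (⟨g, hgR⟩ : R) ⟨a, hAR ha⟩
      exact congrArg Subtype.val h1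
    have hUcyc : IsCyclic ↥(A.subgroupOf R) := by
      rw [← S'.gen]
      infer_instance
    have hUcard : Nat.card ↥(A.subgroupOf R) = p ^ m := by
      rw [← S'.gen, Nat.card_zpowers, S'.ord, hS'n]
    rcases Cfsg.Agent.S3761.result hGR hna (A.subgroupOf R) hUcyc m hUcard S'.cent with
      ⟨h2, -⟩ | ⟨-, hel, hcard, hchar⟩
    · exact hp2 h2
    · haveI := hchar
      exact no_char_sq S.hs R _ hel hcard
  have hAcyc : IsCyclic ↥A := S.hs A S.Achar S.Acomm
  refine S.finish E A hEF hzE hcenE (fun e he r hr => (S.Acent r hr e (S.F_le_C (hEF he))).symm)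
    ?_ S.zA (Or.inl hAcyc)
  intro g
  obtain ⟨e₀, he₀, h⟩ := S.E_inner E hEF hcenE g
  refine ⟨e₀, he₀, hRA' ?_⟩
  rw [hRdef, Subgroup.mem_centralizer_iff]
  intro e he
  exact (h e he).symm

end SData

end Cfsg.Agent.Lib.helper59.SympB
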