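import Cfsg.Agent.Lib.helper59.SympB
import Cfsg.Agent.Lib.helper92.Ess3b

/-!
# P. Hall's theorem on `p`-groups of symplectic type: the case `p = 2` and the final assembly
(helper59)
-/

set_option autoImplicit false
set_option linter.unusedSectionVars false
set_option linter.unusedVariables false
set_option linter.style.haveILetI false

namespace Cfsg.Agent.Lib.helper59.SympC

open Subgroup SympA SympB

section join

variable {G : Type*} [Group G] [Finite G]

theorem sc_pow_eq_one {z u x : G} {a : ℕ} (hu : u * x = z ^ a * x * u) (hc : u * x = x * u) :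
    z ^ a = 1 := by
  rw [hc, mul_assoc] at hu
  exact (mul_eq_right (b := x * u)).mp hu.symm

theorem sc_dvd {z u x : G} {p : ℕ} (hzo : orderOf z = p) {a : ℕ}
    (hu : u * x = z ^ a * x * u) (hc : u * x = x * u) : p ∣ a := by
  rw [← hzo]
  exact orderOf_dvd_of_pow_eq_one (sc_pow_eq_one hu hc)

/-- Adjoining a hyperbolic pair centralizing `E`. -/
theorem exists_join {z : G} (hz : ∀ g : G, g * z = z * g) {p : ℕ} (hp : 0 < p) (hzp : z ^ p = 1)
    (E : Subgroup G) (hzE : z ∈ E) {x y : G} (hxy : x * y = z * y * x)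
    (hxE : ∀ e ∈ E, x * e = e * x) (hyE : ∀ e ∈ E, y * e = e * y) :
    ∃ E₂ : Subgroup G, E ≤ E₂ ∧ x ∈ E₂ ∧ y ∈ E₂ ∧
      ∀ g ∈ E₂, ∃ e ∈ E, ∃ i j : ℕ, g = e * x ^ i * y ^ j := by
  have hxy1 : x * y = z ^ 1 * y * x := by rw [pow_one]; exact hxy
  have hyx : y * x = z ^ ((p - 1) * 1) * x * y := sc_symm hz hp hzp hxy1
  have hswap : ∀ i j : ℕ, ∃ k : ℕ, y ^ j * x ^ i = z ^ k * x ^ i * y ^ j := fun i j =>
    ⟨_, sc_pow_right hz (sc_pow_left hz hyx j) i⟩
  have hxiE : ∀ (i : ℕ), ∀ e ∈ E, x ^ i * e = e * x ^ i := fun i e he =>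
    (Commute.pow_left (show Commute x e from hxE e he) i).eq
  have hyjE : ∀ (j : ℕ), ∀ e ∈ E, y ^ j * e = e * y ^ j := fun j e he =>
    (Commute.pow_left (show Commute y e from hyE e he) j).eq
  refine ⟨{ carrier := {g | ∃ e ∈ E, ∃ i j : ℕ, g = e * x ^ i * y ^ j}
            one_mem' := ⟨1, one_mem _, 0, 0, by simp⟩
            mul_mem' := ?_
            inv_mem' := ?_ }, ?_, ?_, ?_, ?_⟩
  · rintro _ _ ⟨e, he, i, j, rfl⟩ ⟨e', he', i', j', rfl⟩
    obtain ⟨k, hk⟩ := hswap i' j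
    refine ⟨e * e' * z ^ k, E.mul_mem (E.mul_mem he he') (E.pow_mem hzE k), i + i', j + j', ?_⟩
    calc e * x ^ i * y ^ j * (e' * x ^ i' * y ^ j')
        = e * x ^ i * (y ^ j * e') * x ^ i' * y ^ j' := by simp only [mul_assoc]
      _ = e * x ^ i * (e' * y ^ j) * x ^ i' * y ^ j' := by rw [hyjE j e' he']
      _ = e * (x ^ i * e') * (y ^ j * x ^ i') * y ^ j' := by simp only [mul_assoc]
      _ = e * (e' * x ^ i) * (z ^ k * x ^ i' * y ^ j) * y ^ j' := by rw [hxiE i e' he', hk]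
      _ = e * e' * (x ^ i * z ^ k) * x ^ i' * y ^ j * y ^ j' := by simp only [mul_assoc]
      _ = e * e' * (z ^ k * x ^ i) * x ^ i' * y ^ j * y ^ j' := by rw [zc_pow hz k (x ^ i)]
      _ = e * e' * z ^ k * x ^ (i + i') * y ^ (j + j') := by
          rw [pow_add, pow_add]; simp only [mul_assoc]
  · rintro _ ⟨e, he, i, j, rfl⟩
    obtain ⟨i', hi'⟩ := exists_pow_of_mem_zpowers (z := x) (w := (x ^ i)⁻¹)
      (Subgroup.inv_mem _ (Subgroup.pow_mem _ (mem_zpowers x) i))
    obtain ⟨j', hj'⟩ := exists_pow_of_mem_zpowers (z := y) (w := (y ^ j)⁻¹)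
      (Subgroup.inv_mem _ (Subgroup.pow_mem _ (mem_zpowers y) j))
    obtain ⟨k, hk⟩ := hswap i' j'
    refine ⟨e⁻¹ * z ^ k, E.mul_mem (E.inv_mem he) (E.pow_mem hzE k), i', j', ?_⟩
    calc (e * x ^ i * y ^ j)⁻¹ = (y ^ j)⁻¹ * (x ^ i)⁻¹ * e⁻¹ := by group
      _ = y ^ j' * x ^ i' * e⁻¹ := by rw [hi', hj']
      _ = z ^ k * x ^ i' * (y ^ j' * e⁻¹) := by rw [hk]; simp only [mul_assoc]
      _ = z ^ k * x ^ i' * (e⁻¹ * y ^ j') := by rw [hyjE j' e⁻¹ (E.inv_mem he)]
      _ = z ^ k * (x ^ i' * e⁻¹) * y ^ j' := by simp only [mul_assoc]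
      _ = z ^ k * (e⁻¹ * x ^ i') * y ^ j' := by rw [hxiE i' e⁻¹ (E.inv_mem he)]
      _ = (z ^ k * e⁻¹) * x ^ i' * y ^ j' := by simp only [mul_assoc]
      _ = e⁻¹ * z ^ k * x ^ i' * y ^ j' := by rw [← zc_pow hz k e⁻¹]
  · intro e he
    exact ⟨e, he, 0, 0, by simp⟩
  · exact ⟨1, one_mem _, 1, 0, by simp⟩
  · exact ⟨1, one_mem _, 0, 1, by simp⟩
  · intro g hg
    exact hg

end join

variable {G : Type*} [Group G] [Finite G] {p : ℕ} [hp : Fact p.Prime]

namespace SData

variable {A C : Subgroup G} {a₀ z : G} {m : ℕ} (S : SData p A C a₀ z m)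

include S

/-- A maximal "extraspecial-like" subgroup of `F`: its centralizer in `F` is abelian. -/
theorem exists_maxE :
    ∃ E : Subgroup G, E ≤ powSub p C (zpowers z) ∧ z ∈ E ∧
      (∀ c ∈ E, (∀ d ∈ E, c * d = d * c) → c ∈ zpowers z) ∧
      ∀ x ∈ powSub p C (zpowers z), ∀ y ∈ powSub p C (zpowers z),
        (∀ e ∈ E, x * e = e * x) → (∀ e ∈ E, y * e = e * y) → x * y = y * x := by
  set P : Set (Subgroup G) := {E | E ≤ powSub p C (zpowers z) ∧ z ∈ E ∧
    ∀ c ∈ E, (∀ d ∈ E, c * d = d * c) → c ∈ zpowers z} with hP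
  have h0 : zpowers z ∈ P :=
    ⟨by rw [zpowers_le]; exact S.z_mem_F, mem_zpowers z, fun c hc _ => hc⟩
  obtain ⟨E, -, hE⟩ := (Set.toFinite P).exists_le_maximal h0
  obtain ⟨hEF, hzE, hcenE⟩ := hE.prop
  refine ⟨E, hEF, hzE, hcenE, ?_⟩
  intro x hx y hy hxE hyE
  by_contra hne
  obtain ⟨k, hk⟩ := S.F_comm x hx y hy
  obtain ⟨j, hj⟩ := exists_pow_pair S.zc hp.out S.zo hk hne
  have hy'F : y ^ j ∈ powSub p C (zpowers z) := Subgroup.pow_mem _ hy j
  have hy'E : ∀ e ∈ E, y ^ j * e = e * y ^ j := fun e he =>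
    (Commute.pow_left (show Commute y e from hyE e he) j).eq
  obtain ⟨E₂, hEE₂, hxE₂, hyE₂, hform⟩ := exists_join S.zc hp.out.pos S.zp E hzE hj hxE hy'E
  have hzE' : zpowers z ≤ E := by rw [zpowers_le]; exact hzE
  have hpowz : ∀ w ∈ powSub p C (zpowers z), ∀ i : ℕ, p ∣ i → w ^ i ∈ zpowers z := by
    rintro w hw i ⟨i', rfl⟩
    rw [pow_mul]
    exact Subgroup.pow_mem _ ((S.mem_F w).mp hw).2 i'
  have hE₂P : E₂ ∈ P := by
    refine ⟨?_, hEE₂ hzE, ?_⟩
    · intro g hg
      obtain ⟨e, he, i, j', rfl⟩ := hform g hg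
      exact Subgroup.mul_mem _ (Subgroup.mul_mem _ (hEF he) (Subgroup.pow_mem _ hx i))
        (Subgroup.pow_mem _ hy'F j')
    · intro c hc hcd
      obtain ⟨e, he, i, j', rfl⟩ := hform c hc
      have hxy1 : x * y ^ j = z ^ 1 * y ^ j * x := by rw [pow_one]; exact hj
      have hyx := sc_symm S.zc hp.out.pos S.zp hxy1
      have hex : e * x = z ^ 0 * x * e := by rw [pow_zero, one_mul]; exact (hxE e he).symm
      have hey : e * y ^ j = z ^ 0 * y ^ j * e := by
        rw [pow_zero, one_mul]; exact (hy'E e he).symm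
      have h1 := sc_mul_left S.zc (sc_mul_left S.zc hex (sc_pow_left S.zc (sc_self z x) i))
        (sc_pow_left S.zc hyx j')
      have h2 := sc_mul_left S.zc (sc_mul_left S.zc hey (sc_pow_left S.zc hxy1 i))
        (sc_pow_left S.zc (sc_self z (y ^ j)) j')
      have hd1 := sc_dvd S.zo h1 (hcd x hxE₂)
      have hd2 := sc_dvd S.zo h2 (hcd (y ^ j) hyE₂)
      have hpj : p ∣ j' := by
        have h3 : p ∣ (p - 1) * j' := by
          have e3 : 0 + 0 * i + (p - 1) * 1 * j' = (p - 1) * j' := by ring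
          rwa [e3] at hd1
        rcases (Nat.Prime.dvd_mul hp.out).mp h3 with h4 | h4
        · exfalso
          have h5 := Nat.le_of_dvd (by have := hp.out.two_le; omega) h4
          have := hp.out.two_le
          omega
        · exact h4
      have hpi : p ∣ i := by
        have e3 : 0 + 1 * i + 0 * j' = i := by ring
        rwa [e3] at hd2
      have hcE : e * x ^ i * (y ^ j) ^ j' ∈ E :=
        E.mul_mem (E.mul_mem he (hzE' (hpowz x hx i hpi))) (hzE' (hpowz _ hy'F j' hpj))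
      exact hcenE _ hcE (fun d hd => hcd d (hEE₂ hd))
  have hle : E₂ ≤ E := hE.le_of_ge hE₂P hEE₂
  have hxz : x ∈ zpowers z := hcenE x (hle hxE₂) hxE
  obtain ⟨k', rfl⟩ := Subgroup.mem_zpowers_iff.mp hxz
  exact hne (Commute.zpow_left (show Commute z y from (S.zc y).symm) k').eq

end SData


/-- The case `p = 2`. -/
theorem two_case {A C : Subgroup G} {a₀ z : G} {m : ℕ} (S : SData 2 A C a₀ z m) :
    ∃ E R : Subgroup G, (∀ e ∈ E, ∀ r ∈ R, e * r = r * e) ∧ E ⊔ R = ⊤ ∧
      (E = ⊥ ∨ Cfsg.IsExtraspecial 2 ↥E) ∧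
      (IsCyclic R ∨ (2 = 2 ∧ 16 ≤ Nat.card R ∧ ((∃ m : ℕ, Nonempty (↥R ≃* DihedralGroup m)) ∨
        (∃ m : ℕ, Nonempty (↥R ≃* QuaternionGroup m)) ∨ Cfsg.IsQuasiDihedral ↥R))) := by
  obtain ⟨E, hEF, hzE, hcenE, hDF⟩ := SData.exists_maxE S
  set F : Subgroup G := powSub 2 C (zpowers z) with hFdef
  haveI hFchar : F.Characteristic := S.F_char
  have ha₀A : a₀ ∈ A := by rw [← S.gen]; exact mem_zpowers a₀
  -- `Ω₁(C_C(E)) ≤ ⟨z⟩`
  have hΩ : ∀ x ∈ C, (∀ e ∈ E, x * e = e * x) → x ^ 2 = 1 → x ∈ zpowers z := by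
    intro x hx hxE hx2
    have hxF : x ∈ F := (S.mem_F x).mpr ⟨hx, by rw [hx2]; exact one_mem _⟩
    set ZF : Subgroup G := F ⊓ centralizer (F : Set G) with hZF
    have hZFchar : ZF.Characteristic := inferInstance
    have hZFab : ∀ a ∈ ZF, ∀ b ∈ ZF, a * b = b * a := fun a ha b hb =>
      (Subgroup.mem_centralizer_iff.mp ha.2 b hb.1).symm
    have hcyc := S.hs ZF hZFchar hZFab
    have hzZF : z ∈ ZF := ⟨S.z_mem_F, Subgroup.mem_centralizer_iff.mpr (fun h _ => S.zc h)⟩
    have hxZF : x ∈ ZF := by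
      refine ⟨hxF, Subgroup.mem_centralizer_iff.mpr (fun f hf => ?_)⟩
      obtain ⟨e₀, he₀, h⟩ := S.E_inner E hEF hcenE f
      have h1 : Commute x e₀ := hxE e₀ he₀
      have h2 : Commute x (e₀ * f) :=
        hDF x hxF (e₀ * f) (F.mul_mem (hEF he₀) hf) hxE (fun e he => h e he)
      have h3 : Commute x (e₀⁻¹ * (e₀ * f)) := h1.inv_right.mul_right h2
      rw [inv_mul_cancel_left] at h3
      exact h3.eq.symm
    exact mem_zpowers_of_cyclic_sub ZF hcyc Nat.prime_two hzZF S.zo hxZF hx2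
  have hDA := S.DA E hEF hcenE hΩ (fun _ => hDF)
  have hRA := S.RA E hEF hcenE hDA
  -- `C_G(F) ≤ A`
  have hCF : ∀ g : G, (∀ f ∈ F, g * f = f * g) → g ∈ A := by
    set K : Subgroup G := centralizer (F : Set G) with hKdef
    haveI hKchar : K.Characteristic := inferInstance
    have hAK : A ≤ K := by
      intro a ha
      rw [hKdef, Subgroup.mem_centralizer_iff]
      intro f hf
      exact (S.Acent a ha f (S.F_le_C hf)).symm
    have hcentK : ∀ g ∈ K, (∀ a ∈ A, g * a = a * g) → g ∈ A := by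
      intro g hg hga
      exact hRA g (fun e he => (Subgroup.mem_centralizer_iff.mp hg e (hEF he)).symm) hga
    have hKA : K ≤ A := by
      by_contra hne
      obtain ⟨g, hgK, hgA⟩ := SetLike.not_le_iff_exists.mp hne
      obtain ⟨S', hS'n, hS'u⟩ := exists_scc (p := 2) S.gen S.ord hAK S.Acomm hcentK
      haveI := S.Anormal
      have hGK : IsPGroup 2 ↥K := S.hG.to_subgroup K
      have hUne : A.subgroupOf K ≠ ⊤ := by
        intro h
        apply hgA
        have : (⟨g, hgK⟩ : K) ∈ A.subgroupOf K := by rw [h]; exact mem_top _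
        exact Subgroup.mem_subgroupOf.mp this
      have hn2 : 2 ≤ S'.n := S'.two_le_n hGK hUne
      by_cases hB : 3 ≤ S'.n ∧ ¬ (scM 2 (A.subgroupOf K) ≤ A.subgroupOf K)
      · obtain ⟨h3, hnot⟩ := hB
        obtain ⟨x, hxM, hxU⟩ := SetLike.not_le_iff_exists.mp hnot
        obtain ⟨-, hel, hcard, hchar⟩ := S'.caseB hGK hn2 (Or.inr h3) hxM hxU
        haveI := hchar
        exact no_char_sq (p := 2) S.hs K _ hel hcard
      · have hno : 3 ≤ S'.n → scM 2 (A.subgroupOf K) ≤ A.subgroupOf K := by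
          intro h3
          by_contra h
          exact hB ⟨h3, h⟩
        obtain ⟨y, hyU, hy2⟩ := SCC.exists_key (p := 2) hGK hUne
        obtain ⟨k, hk⟩ := S'.exists_conj y
        have h4 := S'.four_dvd hn2 hno hyU hy2 hk
        have hm2 : 2 ≤ m := by omega
        have hw : a₀ ^ 2 ^ (m - 2) ∈ F := by
          refine (S.mem_F _).mpr ⟨S.hAC (A.pow_mem ha₀A _), ?_⟩
          apply S.omega _ (A.pow_mem (A.pow_mem ha₀A _) _)
          have e : 2 ^ (m - 2) * (2 * 2) = 2 ^ m := by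
            have : m = m - 2 + 2 := by omega
            conv_rhs => rw [this, pow_add]
            norm_num
          rw [← pow_mul, ← pow_mul, e, ← S.ord]
          exact pow_orderOf_eq_one a₀
        have hyw : (y : G) * a₀ ^ 2 ^ (m - 2) = a₀ ^ 2 ^ (m - 2) * (y : G) :=
          (Subgroup.mem_centralizer_iff.mp y.2 _ hw).symm
        have hyw' : y * S'.u ^ ((2 : ℤ) ^ (m - 2)) = S'.u ^ ((2 : ℤ) ^ (m - 2)) * y := by
          have e : S'.u ^ ((2 : ℤ) ^ (m - 2)) = S'.u ^ (2 ^ (m - 2) : ℕ) := by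
            rw [← zpow_natCast]; push_cast; rfl
          rw [e]
          apply Subtype.ext
          simp only [Subgroup.coe_mul, Subgroup.coe_pow, hS'u]
          exact hyw
        have h5 := cr_zpow hk ((2 : ℤ) ^ (m - 2))
        rw [hyw'] at h5
        have h6 : S'.u ^ ((2 : ℤ) ^ (m - 2) * k - (2 : ℤ) ^ (m - 2)) = 1 := by
          rw [zpow_sub, ← mul_right_cancel h5, mul_inv_cancel]
        have h7 := (S'.zpow_eq_one_iff _).mp h6
        rw [hS'n] at h7
        have h8 : (4 : ℤ) ∣ k - 1 := by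
          have e1 : ((2 : ℕ) : ℤ) ^ m = (2 : ℤ) ^ (m - 2) * 4 := by
            have : m = m - 2 + 2 := by omega
            conv_lhs => rw [this, pow_add]
            norm_num
          have e2 : (2 : ℤ) ^ (m - 2) * k - (2 : ℤ) ^ (m - 2) = (2 : ℤ) ^ (m - 2) * (k - 1) := by
            ring
          rw [e1, e2] at h7
          exact (mul_dvd_mul_iff_left (pow_ne_zero _ (by norm_num))).mp h7
        obtain ⟨a, ha⟩ := h4
        obtain ⟨b, hb⟩ := h8
        omega
    intro g hg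
    apply hKA
    rw [hKdef, Subgroup.mem_centralizer_iff]
    intro f hf
    exact (hg f hf).symm
  -- `R = C_G(E)`
  set R : Subgroup G := centralizer (E : Set G) with hRdef
  have hAR : A ≤ R := by
    intro a ha
    rw [hRdef, Subgroup.mem_centralizer_iff]
    intro e he
    exact (S.Acent a ha e (S.F_le_C (hEF he))).symm
  have hcent : ∀ g ∈ R, (∀ a ∈ A, g * a = a * g) → g ∈ A := by
    intro g hg hga
    exact hRA g (fun e he => (Subgroup.mem_centralizer_iff.mp hg e he).symm) hga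
  have hgenR : ∀ g : G, ∃ e₀ ∈ E, e₀ * g ∈ R := by
    intro g
    obtain ⟨e₀, he₀, h⟩ := S.E_inner E hEF hcenE g
    refine ⟨e₀, he₀, ?_⟩
    rw [hRdef, Subgroup.mem_centralizer_iff]
    intro e he
    exact (h e he).symm
  have hER : ∀ e ∈ E, ∀ r ∈ R, e * r = r * e := fun e he r hr =>
    Subgroup.mem_centralizer_iff.mp hr e he
  have hzR : z ∈ R := Subgroup.mem_centralizer_iff.mpr (fun e _ => S.zc e)
  have hAcyc : IsCyclic ↥A := S.hs A S.Achar S.Acomm
  by_cases hRle : R ≤ A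
  · refine S.finish E A hEF hzE hcenE
      (fun e he r hr => (S.Acent r hr e (S.F_le_C (hEF he))).symm) ?_ S.zA (Or.inl hAcyc)
    intro g
    obtain ⟨e₀, he₀, h⟩ := hgenR g
    exact ⟨e₀, he₀, hRle h⟩
  · obtain ⟨g, hgR, hgA⟩ := SetLike.not_le_iff_exists.mp hRle
    obtain ⟨S', hS'n, hS'u⟩ := exists_scc (p := 2) S.gen S.ord hAR S.Acomm hcent
    haveI := S.Anormal
    have hGR : IsPGroup 2 ↥R := S.hG.to_subgroup R
    have hUne : A.subgroupOf R ≠ ⊤ := by
      intro h
      apply hgA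
      have : (⟨g, hgR⟩ : R) ∈ A.subgroupOf R := by rw [h]; exact mem_top _
      exact Subgroup.mem_subgroupOf.mp this
    have hn2 : 2 ≤ S'.n := S'.two_le_n hGR hUne
    have hno : 3 ≤ S'.n → scM 2 (A.subgroupOf R) ≤ A.subgroupOf R := by
      intro h3 x hxM
      rw [Subgroup.mem_subgroupOf]
      apply hCF
      intro f hf
      have hx2 := (S'.mem_scM_iff x).mp hxM
      have hx2' : (x : G) * a₀ ^ 2 = a₀ ^ 2 * (x : G) := by
        have := congrArg Subtype.val hx2
        simpa [hS'u] using this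
      obtain ⟨e₀, he₀, h⟩ := S.E_inner E hEF hcenE f
      have hefA : e₀ * f ∈ A := hDA _ (C.mul_mem (S.F_le_C (hEF he₀)) (S.F_le_C hf)) h
      have hefF : e₀ * f ∈ F := F.mul_mem (hEF he₀) hf
      rw [← S.gen] at hefA
      obtain ⟨i, hi⟩ := Subgroup.mem_zpowers_iff.mp hefA
      have h4 : (a₀ ^ i) ^ 4 = 1 := by
        have h5 := ((S.mem_F _).mp hefF).2
        rw [← hi] at h5
        obtain ⟨k, hk⟩ := exists_pow_of_mem_zpowers h5
        have e4 : (a₀ ^ i) ^ 4 = ((a₀ ^ i) ^ 2) ^ 2 := by rw [← pow_mul]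
        rw [e4, ← hk, ← pow_mul, mul_comm, pow_mul, S.zp, one_pow]
      have h6 : (2 : ℤ) ^ m ∣ i * 4 := by
        rw [← zpow_natCast, ← zpow_mul] at h4
        have h5 := orderOf_dvd_iff_zpow_eq_one.mpr h4
        rw [S.ord] at h5
        push_cast at h5
        exact h5
      have h7 : (2 : ℤ) ∣ i := by
        have h8 : (2 : ℤ) ^ 3 ∣ (2 : ℤ) ^ m := pow_dvd_pow 2 (by omega)
        obtain ⟨c, hc⟩ := h8.trans h6
        norm_num at hc
        exact ⟨c, by omega⟩
      obtain ⟨i', rfl⟩ := h7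
      have hcomm : Commute (x : G) (a₀ ^ (2 * i')) := by
        rw [zpow_mul, zpow_ofNat]
        exact Commute.zpow_right hx2' i'
      have h1 : Commute (x : G) e₀ := (Subgroup.mem_centralizer_iff.mp x.2 e₀ he₀).symm
      rw [hi] at hcomm
      have h3' : Commute (x : G) (e₀⁻¹ * (e₀ * f)) := h1.inv_right.mul_right hcomm
      rw [inv_mul_cancel_left] at h3'
      exact h3'.eq
    obtain ⟨hcardR, hiso⟩ := S'.caseA2 hGR hUne hno
    rw [hS'n] at hcardR
    by_cases hm3 : 3 ≤ m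
    · refine S.finish E R hEF hzE hcenE hER hgenR hzR (Or.inr ⟨rfl, ?_, hiso⟩)
      rw [hcardR]
      calc 16 = 2 ^ 4 := by norm_num
        _ ≤ 2 ^ (m + 1) := Nat.pow_le_pow_right (by norm_num) (by omega)
    · have hm2 : m = 2 := by omega
      have hcardR3 : Nat.card ↥R = 2 ^ 3 := by rw [hcardR, hm2]
      have hncR : ∃ a b : R, a * b ≠ b * a := by
        by_contra hall
        push Not at hall
        apply hgA
        apply hcent g hgR
        intro a ha
        exact congrArg Subtype.val (hall ⟨g, hgR⟩ ⟨a, hAR ha⟩)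
      obtain ⟨hZcard, hcommR, hpowR, hZp, -, -⟩ :=
        Cfsg.Agent.Lib.helper92.nonabelian_cube_facts 2 hcardR3 hncR
      have hcenR : ∀ c : R, c ∈ center R → (c : G) ∈ zpowers z := by
        intro c hc
        have hcA : (c : G) ∈ A := by
          apply hcent c c.2
          intro a ha
          exact congrArg Subtype.val (Subgroup.mem_center_iff.mp hc ⟨a, hAR ha⟩).symm
        apply S.omega _ hcA
        have := hZp c hc
        simpa using congrArg Subtype.val this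
      have hdec : ∀ g : G, ∃ e ∈ E, ∃ r ∈ R, g = e * r := by
        intro g
        obtain ⟨e₀, he₀, h⟩ := hgenR g
        exact ⟨e₀⁻¹, E.inv_mem he₀, e₀ * g, h, by rw [inv_mul_cancel_left]⟩
      have hRsc : ∀ r₁ ∈ R, ∀ r₂ ∈ R, ∃ k : ℕ, r₁ * r₂ = z ^ k * r₂ * r₁ := by
        intro r₁ h₁ r₂ h₂
        have h : r₁ * r₂ * r₁⁻¹ * r₂⁻¹ ∈ zpowers z := hcenR _ (hcommR ⟨r₁, h₁⟩ ⟨r₂, h₂⟩)
        obtain ⟨k, hk⟩ := exists_pow_of_mem_zpowers h
        refine ⟨k, ?_⟩
        rw [hk]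
        group
      have hEsc : ∀ e₁ ∈ E, ∀ e₂ ∈ E, ∃ k : ℕ, e₁ * e₂ = z ^ k * e₂ * e₁ :=
        fun a ha b hb => S.F_comm a (hEF ha) b (hEF hb)
      have hcommG : ∀ a ∈ (⊤ : Subgroup G), ∀ b ∈ (⊤ : Subgroup G),
          ∃ k : ℕ, a * b = z ^ k * b * a := by
        intro a _ b _
        obtain ⟨e₁, he₁, r₁, hr₁, rfl⟩ := hdec a
        obtain ⟨e₂, he₂, r₂, hr₂, rfl⟩ := hdec b
        obtain ⟨k₁, hk₁⟩ := hEsc e₁ he₁ e₂ he₂
        obtain ⟨k₂, hk₂⟩ := hRsc r₁ hr₁ r₂ hr₂
        have h12 : e₁ * r₂ = z ^ 0 * r₂ * e₁ := by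
          rw [pow_zero, one_mul]; exact hER e₁ he₁ r₂ hr₂
        have h21 : r₁ * e₂ = z ^ 0 * e₂ * r₁ := by
          rw [pow_zero, one_mul]; exact (hER e₂ he₂ r₁ hr₁).symm
        exact ⟨_, sc_mul_left S.zc (sc_mul_right S.zc hk₁ h12) (sc_mul_right S.zc h21 hk₂)⟩
      have hpowG : ∀ a ∈ (⊤ : Subgroup G), a ^ 2 ∈ zpowers z := by
        intro a _
        obtain ⟨e, he, r, hr, rfl⟩ := hdec a
        rw [(show Commute e r from hER e he r hr).mul_pow]
        refine Subgroup.mul_mem _ ((S.mem_F e).mp (hEF he)).2 ?_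
        have := hcenR _ (hpowR ⟨r, hr⟩)
        simpa using this
      have hcenG : ∀ c ∈ (⊤ : Subgroup G), (∀ d ∈ (⊤ : Subgroup G), c * d = d * c) →
          c ∈ zpowers z := by
        intro c _ hcd
        have hcA : c ∈ A := S.CC c (fun d _ => hcd d (mem_top d))
        have hcR : c ∈ R := hAR hcA
        apply S.omega c hcA
        have hc : (⟨c, hcR⟩ : R) ∈ center R := by
          rw [Subgroup.mem_center_iff]
          intro g
          exact Subtype.ext (hcd g (mem_top _)).symm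
        have := hZp _ hc
        simpa using congrArg Subtype.val this
      have hnaG : ∃ a ∈ (⊤ : Subgroup G), ∃ b ∈ (⊤ : Subgroup G), a * b ≠ b * a := by
        obtain ⟨a, b, hab⟩ := hncR
        exact ⟨a, mem_top _, b, mem_top _, fun h => hab (Subtype.ext h)⟩
      have hex := isExtraspecial_of_data' (p := 2) ⊤ (S.hG.to_subgroup ⊤) z (mem_top z) S.zo
        hcommG hpowG hcenG (fun a _ => S.zc a) hnaG
      refine ⟨⊤, ⊥, ?_, ?_, Or.inr hex, Or.inl inferInstance⟩
      · intro e _ r hr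
        rw [Subgroup.mem_bot.mp hr, one_mul, mul_one]
      · simp

/-- **P. Hall's theorem** on `p`-groups of symplectic type. -/
theorem hall_symplectic {G : Type*} [Group G] [Finite G] {p : ℕ} [hp : Fact p.Prime]
    (hG : IsPGroup p G)
    (hsymp : ∀ A : Subgroup G, A.Characteristic → IsMulCommutative A → IsCyclic A) :
    ∃ E R : Subgroup G, (∀ e ∈ E, ∀ r ∈ R, e * r = r * e) ∧ E ⊔ R = ⊤ ∧
      (E = ⊥ ∨ Cfsg.IsExtraspecial p ↥E) ∧
      (IsCyclic R ∨ (p = 2 ∧ 16 ≤ Nat.card R ∧ ((∃ m : ℕ, Nonempty (↥R ≃* DihedralGroup m)) ∨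
        (∃ m : ℕ, Nonempty (↥R ≃* QuaternionGroup m)) ∨ Cfsg.IsQuasiDihedral ↥R))) := by
  have hs : ∀ B : Subgroup G, B.Characteristic → (∀ a ∈ B, ∀ b ∈ B, a * b = b * a) →
      IsCyclic ↥B := fun B hB hab =>
    hsymp B hB ⟨⟨fun a b => Subtype.ext (hab a a.2 b b.2)⟩⟩
  set P : Set (Subgroup G) := {A | A.Characteristic ∧ ∀ a ∈ A, ∀ b ∈ A, a * b = b * a} with hP
  have h0 : (⊥ : Subgroup G) ∈ P := ⟨inferInstance, fun a ha b hb => by
    rw [Subgroup.mem_bot.mp ha, Subgroup.mem_bot.mp hb]⟩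
  obtain ⟨A, -, hAmax⟩ := (Set.toFinite P).exists_le_maximal h0
  obtain ⟨hAchar, hAcomm⟩ := hAmax.prop
  haveI := hAchar
  haveI hAn : A.Normal := Subgroup.normal_of_characteristic A
  have hAcyc : IsCyclic ↥A := hs A hAchar hAcomm
  obtain ⟨a₀, ha₀⟩ := (Subgroup.isCyclic_iff_exists_zpowers_eq_top A).mp hAcyc
  obtain ⟨m, hm⟩ := IsPGroup.iff_card.mp (hG.to_subgroup A)
  have hord : orderOf a₀ = p ^ m := by
    rw [← Nat.card_zpowers, ha₀, hm]
  by_cases hI : ∀ g : G, (∀ a ∈ A, g * a = a * g) → g ∈ A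
  · -- Case I: `A` is self-centralizing
    have hC : centralizer (A : Set G) = A := by
      apply le_antisymm
      · intro g hg
        exact hI g (fun a ha => (Subgroup.mem_centralizer_iff.mp hg a ha).symm)
      · intro a ha
        rw [Subgroup.mem_centralizer_iff]
        intro b hb
        exact hAcomm b hb a ha
    by_cases hab : ∀ a b : G, a * b = b * a
    · have hcyc : IsCyclic ↥(⊤ : Subgroup G) := hs ⊤ inferInstance (fun a _ b _ => hab a b)
      refine ⟨⊥, ⊤, ?_, by simp, Or.inl rfl, Or.inl hcyc⟩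
      intro e he r _
      rw [Subgroup.mem_bot.mp he, one_mul, mul_one]
    · have hna : ¬ IsMulCommutative G := fun h => hab (fun a b => h.is_comm.comm a b)
      push Not at hab
      obtain ⟨x, y, hxy⟩ := hab
      rcases Cfsg.Agent.S3761.result hG hna A hAcyc m hm hC with
        ⟨h2, hcard, hiso⟩ | ⟨-, hel, hcard, hchar⟩
      · subst h2
        have hAne : A ≠ ⊤ := by
          intro h
          apply hxy
          exact hAcomm x (h ▸ mem_top x) y (h ▸ mem_top y)
        have hm2 : 2 ≤ m := (⟨a₀, m, ha₀, hord, hC⟩ : SCC 2 A).two_le_n hG hAne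
        by_cases hm3 : 3 ≤ m
        · refine ⟨⊥, ⊤, ?_, by simp, Or.inl rfl, Or.inr ⟨rfl, ?_, ?_⟩⟩
          · intro e he r _
            rw [Subgroup.mem_bot.mp he, one_mul, mul_one]
          · rw [Subgroup.card_top, hcard]
            calc 16 = 2 ^ 4 := by norm_num
              _ ≤ 2 ^ (m + 1) := Nat.pow_le_pow_right (by norm_num) (by omega)
          · rcases hiso with ⟨k, ⟨e⟩⟩ | ⟨k, ⟨e⟩⟩ | ⟨n, hn, hc, x', y', hx', hy', hrel⟩
            · exact Or.inl ⟨k, ⟨Subgroup.topEquiv.trans e⟩⟩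
            · exact Or.inr (Or.inl ⟨k, ⟨Subgroup.topEquiv.trans e⟩⟩)
            · refine Or.inr (Or.inr ⟨n, hn, by rw [Subgroup.card_top]; exact hc,
                ⟨x', mem_top _⟩, ⟨y', mem_top _⟩, ?_, ?_, ?_⟩)
              · rw [Subgroup.orderOf_mk]; exact hx'
              · rw [Subgroup.orderOf_mk]; exact hy'
              · apply Subtype.ext
                simp only [Subgroup.coe_mul, Subgroup.coe_inv, Subgroup.coe_pow]
                exact hrel
        · have hm2' : m = 2 := by omega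
          have hcard3 : Nat.card ↥(⊤ : Subgroup G) = 2 ^ 3 := by
            rw [Subgroup.card_top, hcard, hm2']
          have hnc : ∃ a b : (⊤ : Subgroup G), a * b ≠ b * a :=
            ⟨⟨x, mem_top _⟩, ⟨y, mem_top _⟩, fun h => hxy (congrArg Subtype.val h)⟩
          have hex := (Cfsg.Agent.Lib.helper92.nonabelian_cube_facts 2 hcard3 hnc).2.2.2.2.2
          refine ⟨⊤, ⊥, ?_, by simp, Or.inr hex, Or.inl inferInstance⟩
          intro e _ r hr
          rw [Subgroup.mem_bot.mp hr, one_mul, mul_one]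
      · exfalso
        have hcyc := hs _ hchar (fun a ha b hb => by
          have h1 := hel.1.is_comm.comm ⟨a, ha⟩ ⟨b, hb⟩
          exact congrArg Subtype.val h1)
        exact not_isCyclic_of_card_sq_of_exp (p := p) _ hcard hel.2 hcyc
  · -- Case II: the critical subgroup
    push Not at hI
    obtain ⟨g₀, hg₀A, hg₀⟩ := hI
    have hAbot : A ≠ ⊥ := by
      intro h
      have hcen : center G ≤ A := hAmax.le_of_ge
        ⟨inferInstance, fun a ha b hb => (Subgroup.mem_center_iff.mp ha b).symm⟩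
        (by rw [h]; exact bot_le)
      have hne : (⊤ : Subgroup G) ≠ ⊥ := by
        intro ht
        apply hg₀
        have h1 : g₀ ∈ (⊤ : Subgroup G) := mem_top _
        rw [ht] at h1
        rw [Subgroup.mem_bot.mp h1]
        exact one_mem _
      obtain ⟨z, -, hzc, hz1, -⟩ :=
        Cfsg.Agent.Lib.helper3.exists_central_of_normal_ne_bot hG ⊤ hne
      have h2 := hcen hzc
      rw [h] at h2
      exact hz1 (Subgroup.mem_bot.mp h2)
    obtain ⟨z, hzA, hzc, hz1, hzp⟩ :=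
      Cfsg.Agent.Lib.helper3.exists_central_of_normal_ne_bot hG A hAbot
    have hzo : orderOf z = p := orderOf_eq_prime hzp hz1
    set C : Subgroup G := critC p A with hCdef
    haveI hCchar : C.Characteristic := critC_characteristic p A
    have hAC : A ≤ C := by
      intro a ha
      refine mem_critC.mpr ⟨?_, A.pow_mem ha p, fun g => ?_⟩
      · rw [Subgroup.mem_centralizer_iff]
        intro b hb
        exact hAcomm b hb a ha
      · exact A.mul_mem (hAn.conj_mem a ha g) (A.inv_mem ha)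
    have hAcent : ∀ a ∈ A, ∀ c ∈ C, a * c = c * a := fun a ha c hc =>
      Subgroup.mem_centralizer_iff.mp (mem_critC.mp hc).1 a ha
    have hZC : ∀ x ∈ C, (∀ y ∈ C, x * y = y * x) → x ∈ A := by
      intro x hx hxy
      set ZC : Subgroup G := C ⊓ centralizer (C : Set G) with hZCdef
      have hZCP : ZC ∈ P := ⟨inferInstance, fun a ha b hb =>
        (Subgroup.mem_centralizer_iff.mp ha.2 b hb.1).symm⟩
      have hAZC : A ≤ ZC := fun a ha =>
        ⟨hAC ha, Subgroup.mem_centralizer_iff.mpr (fun c hc => (hAcent a ha c hc).symm)⟩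
      exact hAmax.le_of_ge hZCP hAZC
        ⟨hx, Subgroup.mem_centralizer_iff.mpr (fun y hy => (hxy y hy).symm)⟩
    have hCC : ∀ g : G, (∀ c ∈ C, g * c = c * g) → g ∈ A := by
      by_contra hne
      push Not at hne
      obtain ⟨g, hgC, hgA⟩ := hne
      have hNA : ¬ centralizer (C : Set G) ≤ A := fun h =>
        hgA (h (Subgroup.mem_centralizer_iff.mpr (fun c hc => (hgC c hc).symm)))
      obtain ⟨q, hqN, hqA, hqp, hqc⟩ := exists_lift hG A (centralizer (C : Set G)) hNA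
      have hqC : q ∈ C :=
        mem_critC.mpr ⟨Subgroup.centralizer_le (SetLike.coe_subset_coe.mpr hAC) hqN, hqp, hqc⟩
      exact hqA (hZC q hqC (fun y hy => (Subgroup.mem_centralizer_iff.mp hqN y hy).symm))
    have S : SData p A C a₀ z m :=
      { hAC := hAC, gen := ha₀, ord := hord, zA := hzA, zo := hzo
        zc := fun g => Subgroup.mem_center_iff.mp hzc g
        Acent := hAcent, ZC := hZC, CC := hCC
        powA := fun x hx => (mem_critC.mp hx).2.1
        commA := fun g x hx => (mem_critC.mp hx).2.2 g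
        Achar := hAchar, Cchar := hCchar, hs := hs, hG := hG }
    by_cases hp2 : p = 2
    · subst hp2
      exact two_case S
    · exact S.odd_case hp2

end Cfsg.Agent.Lib.helper59.SympC
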