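import Mathlib

set_option autoImplicit false

namespace Cfsg.Agent.Lib.helper59.TransVec

/-- the eight matrices of 2-power order in `SL(2,3)` -/
def qmat : Fin 8 → Matrix (Fin 2) (Fin 2) (ZMod 3) :=
  ![1, -1, !![0, 1; -1, 0], !![0, -1; 1, 0], !![1, 1; 1, -1], !![-1, -1; -1, 1],
    !![1, -1; -1, -1], !![-1, 1; 1, 1]]

theorem mf1_aux : ∀ a b c d x y : ZMod 3,
    Matrix.mulVec (!![a, b; c, d] : Matrix (Fin 2) (Fin 2) (ZMod 3)) ![x, y] = ![x, y] →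
    ¬ (x = 0 ∧ y = 0) → (!![a, b; c, d] : Matrix (Fin 2) (Fin 2) (ZMod 3)).det = 1 →
    (!![a, b; c, d] : Matrix (Fin 2) (Fin 2) (ZMod 3)) ^ 3 = 1 := by
  decide

theorem mf2_aux : ∀ a b c d : ZMod 3,
    (!![a, b; c, d] : Matrix (Fin 2) (Fin 2) (ZMod 3)) * !![a, b; c, d] = 1 →
    (∀ x y : ZMod 3, Matrix.mulVec (!![a, b; c, d] : Matrix (Fin 2) (Fin 2) (ZMod 3)) ![x, y]
      = ![x, y] → x = 0 ∧ y = 0) →
    (!![a, b; c, d] : Matrix (Fin 2) (Fin 2) (ZMod 3)) = -1 := by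
  decide

set_option maxRecDepth 100000 in
theorem mf3_aux : ∀ a b c d : ZMod 3,
    (!![a, b; c, d] : Matrix (Fin 2) (Fin 2) (ZMod 3)).det = 1 →
    (!![a, b; c, d] : Matrix (Fin 2) (Fin 2) (ZMod 3)) ^ 16 = 1 →
    ∃ i : Fin 8, (!![a, b; c, d] : Matrix (Fin 2) (Fin 2) (ZMod 3)) = qmat i := by
  decide

set_option maxRecDepth 100000 in
theorem mf4_aux : ∀ a b c d : ZMod 3,
    (!![a, b; c, d] : Matrix (Fin 2) (Fin 2) (ZMod 3)) * !![a, b; c, d] = 1 →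
    (!![a, b; c, d] : Matrix (Fin 2) (Fin 2) (ZMod 3)).det = -1 →
    ∃ i : Fin 8, ((!![a, b; c, d] : Matrix (Fin 2) (Fin 2) (ZMod 3)) * qmat i) ^ 4 = -1 ∧
      (!![a, b; c, d] : Matrix (Fin 2) (Fin 2) (ZMod 3)) * (!![a, b; c, d] * qmat i) * !![a, b; c, d]
        = (!![a, b; c, d] * qmat i) ^ 3 := by
  decide

end Cfsg.Agent.Lib.helper59.TransVec
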