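import Mathlib

set_option autoImplicit false

namespace Cfsg.Agent.Lib.helper59.TransVec

/-- for `r` even, `(r+1)^(2t+1) = r * s + 1` with `s` odd -/
theorem geom_odd (r : ℕ) (hr : Even r) (t : ℕ) :
    ∃ s, Odd s ∧ (r + 1) ^ (2 * t + 1) = r * s + 1 := by
  induction t with
  | zero => exact ⟨1, odd_one, by ring⟩
  | succ t ih =>
    obtain ⟨s, hs, h⟩ := ih
    refine ⟨(r + 1) ^ 2 * s + r + 2, ?_, ?_⟩
    · have h1 : Odd ((r + 1) ^ 2 * s) := (hr.add_one.pow).mul hs
      have h2 : Even (r + 2) := hr.add (by decide)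
      rw [add_assoc]
      exact h1.add_even h2
    · have : 2 * (t + 1) + 1 = (2 * t + 1) + 2 := by ring
      rw [this, pow_add, h]
      ring

/-- for `r` even, `(r+1)^(2t+1) + 1 = (r + 2) * s` with `s` odd -/
theorem geom_odd_add (r : ℕ) (hr : Even r) (t : ℕ) :
    ∃ s, Odd s ∧ (r + 1) ^ (2 * t + 1) + 1 = (r + 2) * s := by
  induction t with
  | zero => exact ⟨1, odd_one, by ring⟩
  | succ t ih =>
    obtain ⟨s, hs, h⟩ := ih
    have hs1 : 1 ≤ s := hs.pos
    have hle : r ≤ (r + 1) ^ 2 * s := by nlinarith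
    refine ⟨(r + 1) ^ 2 * s - r, ?_, ?_⟩
    · have h1 : Odd ((r + 1) ^ 2 * s) := (hr.add_one.pow).mul hs
      rw [Nat.odd_iff] at h1 ⊢
      rw [Nat.even_iff] at hr
      omega
    · have e : 2 * (t + 1) + 1 = (2 * t + 1) + 2 := by ring
      rw [e, pow_add]
      zify [hle]
      zify at h
      linear_combination ((r : ℤ) + 1) ^ 2 * h

theorem odd_dvd_two_pow {s b : ℕ} (hs : Odd s) (h : s ∣ 2 ^ b) : s = 1 := by
  obtain ⟨i, -, rfl⟩ := (Nat.dvd_prime_pow Nat.prime_two).mp h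
  rcases Nat.eq_zero_or_pos i with h0 | h0
  · rw [h0, pow_zero]
  · exfalso
    have : Even (2 ^ i) := (Nat.even_pow' h0.ne').mpr even_two
    exact (Nat.not_odd_iff_even.mpr this) hs

/-- `2^n = p^b + 1` forces `b ≤ 1`. -/
theorem nt_two {p n b : ℕ} (hp : p.Prime) (hn : 1 ≤ n) (h : 2 ^ n = p ^ b + 1) : b ≤ 1 := by
  by_contra hb
  push Not at hb
  have hpodd : Odd p := by
    rcases hp.eq_two_or_odd' with h2 | h2
    · exfalso
      subst h2
      have h1 : Even (2 ^ n) := (Nat.even_pow' (by omega)).mpr even_two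
      have h3 : Even (2 ^ b) := (Nat.even_pow' (by omega)).mpr even_two
      rw [h] at h1
      rw [Nat.even_iff] at h1 h3
      omega
    · exact h2
  obtain ⟨r, rfl⟩ : ∃ r, p = r + 1 := ⟨p - 1, by have := hp.pos; omega⟩
  have hr : Even r := by
    rcases Nat.even_or_odd r with h1 | h1
    · exact h1
    · exfalso
      have := h1.add_one
      exact (Nat.not_odd_iff_even.mpr this) hpodd
  rcases Nat.even_or_odd' b with ⟨t, rfl | rfl⟩
  · -- b even
    have ht : 1 ≤ t := by omega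
    have h1 : (r + 1) ^ (2 * t) = ((r + 1) ^ t) ^ 2 := by rw [← pow_mul, mul_comm]
    have h2 : Odd ((r + 1) ^ t) := hpodd.pow
    have h3 : ((r + 1) ^ t) ^ 2 % 4 = 1 := by
      obtain ⟨k, hk⟩ := h2
      rw [hk]
      have : (2 * k + 1) ^ 2 = 4 * (k ^ 2 + k) + 1 := by ring
      omega
    rw [h1] at h
    have h4 : n = 1 := by
      by_contra hn1
      obtain ⟨m, rfl⟩ : ∃ m, n = m + 2 := ⟨n - 2, by omega⟩
      rw [pow_add] at h
      omega
    subst h4
    have h5 : 2 ≤ (r + 1) ^ t := by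
      calc 2 ≤ (r + 1) ^ 1 := by rw [pow_one]; exact hp.two_le
        _ ≤ (r + 1) ^ t := Nat.pow_le_pow_right (by omega) ht
    have h6 : 4 ≤ ((r + 1) ^ t) ^ 2 := by nlinarith
    omega
  · obtain ⟨s, hs, hs2⟩ := geom_odd_add r hr t
    rw [hs2] at h
    have h1 : s = 1 := odd_dvd_two_pow hs (Dvd.intro_left _ h.symm)
    rw [h1, mul_one] at hs2
    have h2 : (r + 1) ^ (2 * t + 1) = (r + 1) ^ 1 := by rw [pow_one]; omega
    have h3 := Nat.pow_right_injective hp.two_le h2
    omega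

/-- `q^n = p^b + 1` with `q` an odd prime forces `p = 2` and `n = 1` or `(q, n) = (3, 2)`. -/
theorem nt_odd {p q n b : ℕ} (hp : p.Prime) (hq : q.Prime) (hq2 : q ≠ 2) (hn : 1 ≤ n)
    (h : q ^ n = p ^ b + 1) : p = 2 ∧ (n = 1 ∨ (q = 3 ∧ n = 2)) := by
  have hqodd : Odd q := hq.odd_of_ne_two hq2
  have hqn : Odd (q ^ n) := hqodd.pow
  have hq3 : 3 ≤ q := by
    have := hq.two_le
    omega
  have hqn3 : 3 ≤ q ^ n := by
    calc 3 ≤ q ^ 1 := by rw [pow_one]; exact hq3
      _ ≤ q ^ n := Nat.pow_le_pow_right (by omega) hn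
  have hb : b ≠ 0 := by
    rintro rfl
    rw [pow_zero] at h
    omega
  have hp2 : p = 2 := by
    rcases hp.eq_two_or_odd' with h2 | h2
    · exact h2
    · exfalso
      have h1 : Odd (p ^ b) := h2.pow
      rw [h] at hqn
      rw [Nat.odd_iff] at hqn h1
      omega
  subst hp2
  refine ⟨rfl, ?_⟩
  obtain ⟨r, rfl⟩ : ∃ r, q = r + 1 := ⟨q - 1, by omega⟩
  have hr : Even r := by
    rcases Nat.even_or_odd r with h1 | h1
    · exact h1
    · exfalso
      have := h1.add_one
      exact (Nat.not_odd_iff_even.mpr this) hqodd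
  rcases Nat.even_or_odd' n with ⟨t, rfl | rfl⟩
  · right
    have ht : 1 ≤ t := by omega
    have h1 : (r + 1) ^ (2 * t) = ((r + 1) ^ t) ^ 2 := by rw [← pow_mul, mul_comm]
    set Q := (r + 1) ^ t with hQ
    have hQodd : Odd Q := hqodd.pow
    have hQ3 : 3 ≤ Q := by
      calc 3 ≤ (r + 1) ^ 1 := by rw [pow_one]; exact hq3
        _ ≤ (r + 1) ^ t := Nat.pow_le_pow_right (by omega) ht
    have h2 : (Q - 1) * (Q + 1) = 2 ^ b := by
      rw [h1] at h
      have : (Q - 1) * (Q + 1) + 1 = Q ^ 2 := by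
        obtain ⟨u, hu⟩ : ∃ u, Q = u + 1 := ⟨Q - 1, by omega⟩
        rw [hu]
        simp only [Nat.add_sub_cancel]
        ring
      omega
    obtain ⟨i, -, hi⟩ := (Nat.dvd_prime_pow Nat.prime_two).mp (Dvd.intro _ h2)
    obtain ⟨j, -, hj⟩ := (Nat.dvd_prime_pow Nat.prime_two).mp (Dvd.intro_left _ h2)
    have h3 : 2 ^ j = 2 ^ i + 2 := by omega
    have hi1 : i = 1 := by
      rcases Nat.lt_or_ge i 2 with hi2 | hi2
      · interval_cases i
        · exfalso
          rw [pow_zero] at hi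
          rw [Nat.odd_iff] at hQodd
          omega
        · rfl
      · exfalso
        obtain ⟨m, rfl⟩ : ∃ m, i = m + 2 := ⟨i - 2, by omega⟩
        have hj2 : 2 ≤ j := by
          by_contra hj2
          push Not at hj2
          have : 2 ^ j ≤ 2 ^ 1 := Nat.pow_le_pow_right (by omega) (by omega)
          have : 4 ≤ 2 ^ (m + 2) := by
            rw [pow_add]
            have := Nat.one_le_two_pow (n := m)
            omega
          omega
        obtain ⟨m', rfl⟩ : ∃ m', j = m' + 2 := ⟨j - 2, by omega⟩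
        rw [pow_add, pow_add] at h3
        omega
    subst hi1
    have hQ3' : Q = 3 := by omega
    have h4 : r + 1 ∣ 3 := by
      rw [← hQ3', hQ]
      exact dvd_pow_self _ (by omega)
    have h5 : r + 1 = 3 := by
      rcases (Nat.dvd_prime Nat.prime_three).mp h4 with h6 | h6
      · omega
      · exact h6
    refine ⟨h5, ?_⟩
    rw [h5] at hQ
    have h6 : (3 : ℕ) ^ t = 3 ^ 1 := by rw [← hQ, hQ3', pow_one]
    have := Nat.pow_right_injective (le_refl 2 |>.trans (by norm_num : 2 ≤ 3)) h6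
    omega
  · left
    obtain ⟨s, hs, hs2⟩ := geom_odd r hr t
    rw [hs2] at h
    have h1 : r * s = 2 ^ b := by omega
    have h2 : s = 1 := odd_dvd_two_pow hs (Dvd.intro_left _ h1)
    rw [h2, mul_one] at hs2
    have h3 : (r + 1) ^ (2 * t + 1) = (r + 1) ^ 1 := by rw [pow_one]; omega
    have h4 := Nat.pow_right_injective hq.two_le h3
    omega

end Cfsg.Agent.Lib.helper59.TransVec
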