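import Mathlib
import Cfsg.Agent.Lib.helper59.TransVecNT
import Cfsg.Agent.Lib.helper59.TransVecMat

set_option autoImplicit false

namespace Cfsg.Agent.Lib.helper59.TransVec

section general

variable {q : ℕ} [hq : Fact q.Prime] {V : Type*} [AddCommGroup V] [Module (ZMod q) V] [Finite V]
  {G : Type*} [Group G] [Finite G]

/-- the stabilizer of a vector under a linear representation -/
def stab (ρ : G →* (V ≃ₗ[ZMod q] V)) (v : V) : Subgroup G :=
  @MulAction.stabilizer G V _ (MulAction.compHom V ρ) v

omit [Finite V] [Finite G] in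
theorem mem_stab {ρ : G →* (V ≃ₗ[ZMod q] V)} {v : V} {g : G} : g ∈ stab ρ v ↔ ρ g v = v :=
  Iff.rfl

omit [Finite G] in
theorem card_eq_mul_stab (ρ : G →* (V ≃ₗ[ZMod q] V))
    (htrans : ∀ v w : V, v ≠ 0 → w ≠ 0 → ∃ g : G, ρ g v = w) (v : V) (hv : v ≠ 0) :
    Nat.card G = (Nat.card V - 1) * Nat.card (stab ρ v) := by
  let _ : MulAction G V := MulAction.compHom V ρ
  have hsmul : ∀ (g : G) (w : V), g • w = ρ g w := fun _ _ => rfl
  have horb : MulAction.orbit G v = ({0} : Set V)ᶜ := by
    ext w
    rw [MulAction.mem_orbit_iff, Set.mem_compl_iff, Set.mem_singleton_iff]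
    constructor
    · rintro ⟨g, rfl⟩ h
      rw [hsmul] at h
      exact hv ((ρ g).map_eq_zero_iff.mp h)
    · intro hw
      obtain ⟨g, hg⟩ := htrans v w hv hw
      exact ⟨g, hg⟩
  have h1 := MulAction.index_stabilizer G v
  rw [horb, Set.ncard_compl, Set.ncard_singleton] at h1
  rw [← h1, mul_comm]
  exact (Subgroup.card_mul_index _).symm

/-- if `|V| = p + 1` then a `p`-group fixing a nonzero vector is trivial -/
theorem stab_eq_bot_of_card {p : ℕ} [hp : Fact p.Prime] (ρ : G →* (V ≃ₗ[ZMod q] V))
    (hG : IsPGroup p G) (hρ : Function.Injective ρ) (hcard : Nat.card V = p + 1)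
    (v : V) (hv : v ≠ 0) : stab ρ v = ⊥ := by
  let _ : MulAction G V := MulAction.compHom V ρ
  have hsmul : ∀ (g : G) (w : V), g • w = ρ g w := fun _ _ => rfl
  have hH : IsPGroup p (stab ρ v) := hG.to_subgroup _
  have hmod := hH.card_modEq_card_fixedPoints V
  have hp2 := hp.out.two_le
  set F := MulAction.fixedPoints (stab ρ v) V with hF
  have hF2 : 2 ≤ F.ncard := by
    have hsub : ({0, v} : Set V) ⊆ F := by
      intro w hw
      rw [hF, MulAction.mem_fixedPoints]
      intro g
      rcases hw with rfl | hw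
      · show ρ g 0 = 0
        exact map_zero _
      · rw [Set.mem_singleton_iff] at hw
        rw [hw]
        exact mem_stab.mp g.2
    have := Set.ncard_le_ncard hsub
    rwa [Set.ncard_pair (Ne.symm hv)] at this
  have hFle : F.ncard ≤ p + 1 := by
    rw [← hcard]
    exact Set.ncard_le_card F
  have hFcard : Nat.card F = F.ncard := Nat.card_coe_set_eq F
  rw [hcard, hFcard] at hmod
  have hmod' : F.ncard % p = 1 := by
    have h1 : (p + 1) % p = 1 := by
      rw [Nat.add_mod_left]
      exact Nat.mod_eq_of_lt (by omega)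
    rw [← h1]
    exact hmod.symm
  have hFeq : F.ncard = p + 1 := by
    have h1 := Nat.div_add_mod F.ncard p
    rw [hmod'] at h1
    have h2 : 1 ≤ F.ncard / p := by
      by_contra h
      have h3 : F.ncard / p = 0 := Nat.lt_one_iff.mp (not_le.mp h)
      rw [h3, mul_zero] at h1
      omega
    nlinarith
  have hFuniv : F = Set.univ := (Set.eq_univ_iff_ncard F).mpr (by rw [hFeq, hcard])
  rw [eq_bot_iff]
  intro g hg
  rw [Subgroup.mem_bot]
  apply hρ
  rw [map_one]
  ext w
  have hw : w ∈ F := hFuniv ▸ Set.mem_univ w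
  rw [hF, MulAction.mem_fixedPoints] at hw
  exact hw ⟨g, hg⟩

omit [Finite V] [Finite G] in
theorem stab_eq_bot_of_finrank_one (ρ : G →* (V ≃ₗ[ZMod q] V)) (hρ : Function.Injective ρ)
    (h1 : Module.finrank (ZMod q) V = 1) (v : V) (hv : v ≠ 0) : stab ρ v = ⊥ := by
  have hspan := (finrank_eq_one_iff_of_nonzero' v hv).mp h1
  rw [eq_bot_iff]
  intro g hg
  rw [Subgroup.mem_bot]
  apply hρ
  rw [map_one]
  ext w
  obtain ⟨c, rfl⟩ := hspan w
  rw [map_smul, mem_stab.mp hg]
  rfl

omit [Finite V] in
theorem isCyclic_of_finrank_one (ρ : G →* (V ≃ₗ[ZMod q] V)) (hρ : Function.Injective ρ)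
    (h1 : Module.finrank (ZMod q) V = 1) : IsCyclic G := by
  have hfd : Module.Finite (ZMod q) V := Module.finite_of_finrank_pos (by rw [h1]; exact one_pos)
  let e : V ≃ₗ[ZMod q] ZMod q :=
    LinearEquiv.ofFinrankEq V (ZMod q) (by rw [h1, Module.finrank_self])
  set v0 : V := e.symm 1 with hv0
  have hrep : ∀ w : V, w = e w • v0 := by
    intro w
    apply e.injective
    rw [map_smul, hv0, LinearEquiv.apply_symm_apply, smul_eq_mul, mul_one]
  let f : G →* ZMod q :=
    { toFun := fun g => e (ρ g v0)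
      map_one' := by
        rw [map_one]
        show e v0 = 1
        rw [hv0, LinearEquiv.apply_symm_apply]
      map_mul' := by
        intro g h
        rw [map_mul]
        show e (ρ g (ρ h v0)) = e (ρ g v0) * e (ρ h v0)
        conv_lhs => rw [hrep (ρ h v0)]
        rw [map_smul, map_smul, smul_eq_mul, mul_comm] }
  have hf : Function.Injective f := by
    intro g h hgh
    apply hρ
    ext w
    have h2 : ρ g v0 = ρ h v0 := e.injective hgh
    rw [hrep w, map_smul, map_smul, h2]
  exact isCyclic_of_injective_ringHom f hf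

end general

end Cfsg.Agent.Lib.helper59.TransVec
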