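import Mathlib
import Cfsg.Prelude.Def_CaseTheorems
import Cfsg.Agent.Lib.helper59.TransVec
import Cfsg.Agent.Lib.helper59.UniqueOrderP

set_option autoImplicit false

namespace Cfsg.Agent.Lib.helper59.TransVec

theorem mf1 (M : Matrix (Fin 2) (Fin 2) (ZMod 3)) (v : Fin 2 → ZMod 3) (hv : M.mulVec v = v)
    (hv0 : v ≠ 0) (hdet : M.det = 1) : M ^ 3 = 1 := by
  obtain ⟨a, b, c, d, rfl⟩ : ∃ a b c d, M = !![a, b; c, d] := ⟨_, _, _, _, Matrix.eta_fin_two M⟩
  have hv' : v = ![v 0, v 1] := by
    ext i; fin_cases i <;> rfl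
  rw [hv'] at hv
  refine mf1_aux a b c d (v 0) (v 1) hv ?_ hdet
  rintro ⟨h0, h1⟩
  apply hv0
  rw [hv']
  ext i; fin_cases i <;> simp [h0, h1]

theorem mf2 (M : Matrix (Fin 2) (Fin 2) (ZMod 3)) (hM : M * M = 1)
    (hfix : ∀ v : Fin 2 → ZMod 3, M.mulVec v = v → v = 0) : M = -1 := by
  obtain ⟨a, b, c, d, rfl⟩ : ∃ a b c d, M = !![a, b; c, d] := ⟨_, _, _, _, Matrix.eta_fin_two M⟩
  refine mf2_aux a b c d hM ?_
  intro x y hxy
  have := hfix _ hxy
  have h0 := congrFun this 0
  have h1 := congrFun this 1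
  exact ⟨h0, h1⟩

theorem mf3 (M : Matrix (Fin 2) (Fin 2) (ZMod 3)) (hdet : M.det = 1) (hM : M ^ 16 = 1) :
    ∃ i : Fin 8, M = qmat i := by
  obtain ⟨a, b, c, d, rfl⟩ : ∃ a b c d, M = !![a, b; c, d] := ⟨_, _, _, _, Matrix.eta_fin_two M⟩
  exact mf3_aux a b c d hdet hM

theorem mf4 (R : Matrix (Fin 2) (Fin 2) (ZMod 3)) (hR : R * R = 1) (hdet : R.det = -1) :
    ∃ i : Fin 8, (R * qmat i) ^ 4 = -1 ∧ R * (R * qmat i) * R = (R * qmat i) ^ 3 := by
  obtain ⟨a, b, c, d, rfl⟩ : ∃ a b c d, R = !![a, b; c, d] := ⟨_, _, _, _, Matrix.eta_fin_two R⟩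
  exact mf4_aux a b c d hR hdet

open Classical in
theorem lemmaE {G : Type*} [Group G] [Finite G] (φ : G →* Matrix (Fin 2) (Fin 2) (ZMod 3))
    (hφ : Function.Injective φ)
    (htrans : ∀ v w : Fin 2 → ZMod 3, v ≠ 0 → w ≠ 0 → ∃ g : G, (φ g).mulVec v = w)
    (hG : IsPGroup 2 G) :
    (IsCyclic G ∧ Nat.card G = 8) ∨ Nonempty (G ≃* QuaternionGroup 2) ∨
      (Cfsg.IsQuasiDihedral G ∧ Nat.card G = 16) := by
  -- the action
  let act : MulAction G (Fin 2 → ZMod 3) :=
    { smul := fun g v => (φ g).mulVec v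
      one_smul := fun v => by
        show (φ 1).mulVec v = v
        rw [map_one, Matrix.one_mulVec]
      mul_smul := fun g h v => by
        show (φ (g * h)).mulVec v = (φ g).mulVec ((φ h).mulVec v)
        rw [map_mul, Matrix.mulVec_mulVec] }
  have hsmul : ∀ (g : G) (v : Fin 2 → ZMod 3), g • v = (φ g).mulVec v := fun _ _ => rfl
  -- det facts
  have hdetinv : ∀ g : G, (φ g).det * (φ g⁻¹).det = 1 := by
    intro g
    rw [← Matrix.det_mul, ← map_mul, mul_inv_cancel, map_one, Matrix.det_one]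
  have hdet2 : ∀ g : G, (φ g).det = 1 ∨ (φ g).det = -1 := by
    intro g
    have h := hdetinv g
    generalize (φ g).det = x at h ⊢
    generalize (φ g⁻¹).det = y at h
    revert x y; decide
  have hdetinv' : ∀ g : G, (φ g⁻¹).det = (φ g).det := by
    intro g
    have h := hdetinv g
    generalize (φ g).det = x at h ⊢
    generalize (φ g⁻¹).det = y at h ⊢
    revert x y; decide
  -- index of stabilizers
  have hidx : ∀ v : Fin 2 → ZMod 3, v ≠ 0 → (MulAction.stabilizer G v).index = 8 := by
    intro v hv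
    have horb : MulAction.orbit G v = ({0} : Set (Fin 2 → ZMod 3))ᶜ := by
      ext w
      rw [MulAction.mem_orbit_iff, Set.mem_compl_iff, Set.mem_singleton_iff]
      constructor
      · rintro ⟨g, rfl⟩ h
        rw [hsmul] at h
        apply hv
        have h2 : (φ g⁻¹).mulVec ((φ g).mulVec v) = v := by
          rw [Matrix.mulVec_mulVec, ← map_mul, inv_mul_cancel, map_one, Matrix.one_mulVec]
        rw [h, Matrix.mulVec_zero] at h2
        exact h2.symm
      · intro hw
        obtain ⟨g, hg⟩ := htrans v w hv hw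
        exact ⟨g, hg⟩
    have h1 := MulAction.index_stabilizer G v
    rw [horb, Set.ncard_compl, Set.ncard_singleton] at h1
    rw [h1]
    simp [Nat.card_eq_fintype_card]
  have hstab1 : ∀ v : Fin 2 → ZMod 3, v ≠ 0 → ∀ g ∈ MulAction.stabilizer G v,
      (φ g).det = 1 → g = 1 := by
    intro v hv g hg hdet
    have h3 : (φ g) ^ 3 = 1 := mf1 (φ g) v (MulAction.mem_stabilizer_iff.mp hg) hv hdet
    have h3' : g ^ 3 = 1 := by
      apply hφ
      rw [map_pow, h3, map_one]
    obtain ⟨k, hk⟩ := hG g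
    have h4 : orderOf g ∣ 3 := orderOf_dvd_of_pow_eq_one h3'
    have h5 : orderOf g ∣ 2 ^ k := orderOf_dvd_of_pow_eq_one hk
    have h6 : Nat.Coprime 3 (2 ^ k) := Nat.Coprime.pow_right k (by norm_num)
    have h7 : orderOf g = 1 := Nat.eq_one_of_dvd_coprimes h6 h4 h5
    exact orderOf_eq_one_iff.mp h7
  have hstab2 : ∀ v : Fin 2 → ZMod 3, v ≠ 0 → Nat.card (MulAction.stabilizer G v) ≤ 2 := by
    intro v hv
    have hinj : Function.Injective (fun s : MulAction.stabilizer G v => decide (s = 1)) := by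
      intro s t hst
      by_cases hs : s = 1
      · by_cases ht : t = 1
        · rw [hs, ht]
        · simp [hs, ht] at hst
      · by_cases ht : t = 1
        · simp [hs, ht] at hst
        · have hs' : (φ s).det = -1 := by
            rcases hdet2 s with h | h
            · exact absurd (Subtype.ext (hstab1 v hv s s.2 h)) hs
            · exact h
          have ht' : (φ t).det = -1 := by
            rcases hdet2 t with h | h
            · exact absurd (Subtype.ext (hstab1 v hv t t.2 h)) ht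
            · exact h
          have h1 : (φ ((s : G) * (t : G)⁻¹)).det = 1 := by
            rw [map_mul, Matrix.det_mul, hdetinv', hs', ht']
            decide
          have h2 := hstab1 v hv _ (Subgroup.mul_mem _ s.2 (Subgroup.inv_mem _ t.2)) h1
          exact Subtype.ext (mul_inv_eq_one.mp h2)
    have := Nat.card_le_card_of_injective _ hinj
    simpa using this
  set v0 : Fin 2 → ZMod 3 := ![1, 0] with hv0def
  have hv0 : v0 ≠ 0 := by
    rw [hv0def]; decide
  have hcard : Nat.card (MulAction.stabilizer G v0) * 8 = Nat.card G := by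
    rw [← hidx v0 hv0]; exact Subgroup.card_mul_index _
  have hs2 := hstab2 v0 hv0
  have hs1 : 1 ≤ Nat.card (MulAction.stabilizer G v0) := Nat.card_pos
  rcases Nat.lt_or_ge (Nat.card (MulAction.stabilizer G v0)) 2 with hlt | hge
  · -- |G| = 8
    have hG8 : Nat.card G = 8 := by omega
    have hstabbot : ∀ v : Fin 2 → ZMod 3, v ≠ 0 → ∀ g ∈ MulAction.stabilizer G v, g = 1 := by
      intro v hv g hg
      have h1 : Nat.card (MulAction.stabilizer G v) * 8 = Nat.card G := by
        rw [← hidx v hv]; exact Subgroup.card_mul_index _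
      have h2 : Nat.card (MulAction.stabilizer G v) = 1 := by omega
      have h3 := Subgroup.card_eq_one.mp h2
      rw [h3] at hg
      exact Subgroup.mem_bot.mp hg
    have hinvol : ∀ g : G, g * g = 1 → g ≠ 1 → φ g = -1 := by
      intro g hg hg1
      apply mf2
      · rw [← map_mul, hg, map_one]
      · intro v hv
        by_contra hv0'
        exact hg1 (hstabbot v hv0' g (MulAction.mem_stabilizer_iff.mpr hv))
    have huniq : UniqueOrderP 2 G := by
      intro H K hH hK
      have key : ∀ L : Subgroup G, Nat.card L = 2 →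
          ∃ g : G, g ≠ 1 ∧ g * g = 1 ∧ L = Subgroup.zpowers g := by
        intro L hL
        have hnt : Nontrivial L := Finite.one_lt_card_iff_nontrivial.mp (by rw [hL]; norm_num)
        obtain ⟨g, hg⟩ := exists_ne (1 : L)
        have hg2 : g ^ 2 = 1 := hL ▸ pow_card_eq_one'
        have hg1 : (g : G) ≠ 1 := fun h => hg (Subtype.ext h)
        have hgg : (g : G) * g = 1 := by
          have := congrArg Subtype.val hg2
          simpa [pow_two] using this
        refine ⟨g, hg1, hgg, ?_⟩
        symm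
        apply Subgroup.eq_of_le_of_card_ge (by rw [Subgroup.zpowers_le]; exact g.2)
        have h2 : orderOf (g : G) = 2 := orderOf_eq_prime (by rw [pow_two]; exact hgg) hg1
        rw [hL, Nat.card_zpowers, h2]
      obtain ⟨g, hg1, hg2, rfl⟩ := key H hH
      obtain ⟨h, hh1, hh2, rfl⟩ := key K hK
      have : g = h := hφ (by rw [hinvol g hg2 hg1, hinvol h hh2 hh1])
      rw [this]
    rcases cyclic_or_quaternion_of_uniqueOrderP hG huniq with hc | ⟨n, hne⟩
    · left; exact ⟨hc, hG8⟩
    · right; left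
      have h2 : 2 ^ n = 2 := by
        obtain ⟨e⟩ := hne
        have hc := Nat.card_congr e.toEquiv
        rw [hG8, Nat.card_eq_fintype_card, QuaternionGroup.card] at hc
        omega
      rw [h2] at hne
      exact hne
  · have hG16 : Nat.card G = 16 := by omega
    right; right
    refine ⟨?_, hG16⟩
    have hst2 : Nat.card (MulAction.stabilizer G v0) = 2 := by omega
    have hnt : Nontrivial (MulAction.stabilizer G v0) :=
      Finite.one_lt_card_iff_nontrivial.mp (by rw [hst2]; norm_num)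
    obtain ⟨r', hr'⟩ := exists_ne (1 : MulAction.stabilizer G v0)
    have hr1 : (r' : G) ≠ 1 := fun h => hr' (Subtype.ext h)
    have hr2 : (r' : G) * r' = 1 := by
      have h : r' ^ Nat.card (MulAction.stabilizer G v0) = 1 := pow_card_eq_one'
      rw [hst2] at h
      have := congrArg Subtype.val h
      simpa [pow_two] using this
    obtain ⟨r, hr⟩ : ∃ r : G, r = r' := ⟨_, rfl⟩
    have hrmem : r ∈ MulAction.stabilizer G v0 := hr ▸ r'.2
    rw [← hr] at hr1 hr2
    have hRdet : (φ r).det = -1 := by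
      rcases hdet2 r with h | h
      · exact absurd (hstab1 v0 hv0 r hrmem h) hr1
      · exact h
    have hRR : φ r * φ r = 1 := by rw [← map_mul, hr2, map_one]
    let δ : G →* (ZMod 3)ˣ := Matrix.GeneralLinearGroup.det.comp φ.toHomUnits
    have hδ : ∀ g : G, ((δ g : (ZMod 3)ˣ) : ZMod 3) = (φ g).det := fun g => rfl
    have hKidx : δ.ker.index ≤ 2 := by
      rw [Subgroup.index_ker]
      calc Nat.card δ.range ≤ Nat.card (ZMod 3)ˣ := Subgroup.card_le_card_group _
        _ = 2 := by
          rw [Nat.card_eq_fintype_card, ZMod.card_units_eq_totient]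
          decide
    have hKcard : 8 ≤ Nat.card δ.ker := by
      have := Subgroup.card_mul_index δ.ker
      rw [hG16] at this
      nlinarith
    have hKq : ∀ k : δ.ker, ∃ i : Fin 8, φ k = qmat i := by
      intro k
      apply mf3
      · have h1 := MonoidHom.mem_ker.mp k.2
        rw [← hδ, h1]
        rfl
      · rw [← map_pow]
        have h1 : (k : G) ^ 16 = 1 := hG16 ▸ pow_card_eq_one'
        rw [h1, map_one]
    choose f hf using hKq
    have hfinj : Function.Injective f := by
      intro k k' h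
      apply Subtype.ext
      apply hφ
      rw [hf k, hf k', h]
    have hfsurj : Function.Surjective f :=
      (hfinj.bijective_of_nat_card_le (by simpa using hKcard)).2
    obtain ⟨i, hi4, hi3⟩ := mf4 (φ r) hRR hRdet
    obtain ⟨k, hk⟩ := hfsurj i
    have hφk : φ k = qmat i := by rw [hf k, hk]
    refine ⟨3, le_refl 3, by rw [hG16]; norm_num, r * k, r, ?_, ?_, ?_⟩
    · have h1 : ¬ (r * (k : G)) ^ 2 ^ 2 = 1 := by
        intro h
        have h2 := congrArg φ h
        rw [map_pow, map_mul, hφk, map_one] at h2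
        have h3 : (2 : ℕ) ^ 2 = 4 := by norm_num
        rw [h3, hi4] at h2
        revert h2; decide
      have h2 : (r * (k : G)) ^ 2 ^ (2 + 1) = 1 := by
        apply hφ
        rw [map_pow, map_mul, hφk, map_one]
        have h3 : (2 : ℕ) ^ (2 + 1) = 4 * 2 := by norm_num
        rw [h3, pow_mul, hi4]
        simp
      exact orderOf_eq_prime_pow h1 h2
    · exact orderOf_eq_prime (by rw [pow_two]; exact hr2) hr1
    · have hrinv : r⁻¹ = r := inv_eq_of_mul_eq_one_left hr2
      have h3 : 2 ^ (3 - 1) - 1 = 3 := by norm_num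
      rw [h3, hrinv]
      apply hφ
      rw [map_mul, map_mul, map_mul, map_pow, map_mul, hφk]
      exact hi3

/-- matrix representation from a coordinate isomorphism -/
noncomputable def matHom {V : Type*} [AddCommGroup V] [Module (ZMod 3) V] {G : Type*} [Group G]
    (e : V ≃ₗ[ZMod 3] (Fin 2 → ZMod 3)) (ρ : G →* (V ≃ₗ[ZMod 3] V)) :
    G →* Matrix (Fin 2) (Fin 2) (ZMod 3) where
  toFun g := LinearMap.toMatrix' ((e : V →ₗ[ZMod 3] (Fin 2 → ZMod 3)) ∘ₗ
    ((ρ g : V ≃ₗ[ZMod 3] V) : V →ₗ[ZMod 3] V) ∘ₗ (e.symm : (Fin 2 → ZMod 3) →ₗ[ZMod 3] V))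
  map_one' := by
    rw [map_one, ← LinearMap.toMatrix'_id]
    congr 1
    apply LinearMap.ext
    intro x
    simp
  map_mul' := by
    intro g h
    rw [← LinearMap.toMatrix'_comp]
    congr 1
    apply LinearMap.ext
    intro x
    simp

theorem matHom_mulVec {V : Type*} [AddCommGroup V] [Module (ZMod 3) V] {G : Type*} [Group G]
    (e : V ≃ₗ[ZMod 3] (Fin 2 → ZMod 3)) (ρ : G →* (V ≃ₗ[ZMod 3] V)) (g : G)
    (v : Fin 2 → ZMod 3) : (matHom e ρ g).mulVec v = e (ρ g (e.symm v)) := by
  show (LinearMap.toMatrix' _).mulVec v = _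
  rw [LinearMap.toMatrix'_mulVec]
  rfl

theorem matHom_injective {V : Type*} [AddCommGroup V] [Module (ZMod 3) V] {G : Type*} [Group G]
    (e : V ≃ₗ[ZMod 3] (Fin 2 → ZMod 3)) (ρ : G →* (V ≃ₗ[ZMod 3] V))
    (hρ : Function.Injective ρ) : Function.Injective (matHom e ρ) := by
  intro g h hgh
  apply hρ
  ext w
  have h1 := matHom_mulVec e ρ g (e w)
  have h2 := matHom_mulVec e ρ h (e w)
  rw [hgh, h2, LinearEquiv.symm_apply_apply] at h1
  exact (e.injective h1).symm

theorem matHom_trans {V : Type*} [AddCommGroup V] [Module (ZMod 3) V] {G : Type*} [Group G]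
    (e : V ≃ₗ[ZMod 3] (Fin 2 → ZMod 3)) (ρ : G →* (V ≃ₗ[ZMod 3] V))
    (htrans : ∀ v w : V, v ≠ 0 → w ≠ 0 → ∃ g : G, ρ g v = w) :
    ∀ v w : Fin 2 → ZMod 3, v ≠ 0 → w ≠ 0 → ∃ g : G, (matHom e ρ g).mulVec v = w := by
  intro v w hv hw
  have hv' : e.symm v ≠ 0 := fun h => hv (e.symm.map_eq_zero_iff.mp h)
  have hw' : e.symm w ≠ 0 := fun h => hw (e.symm.map_eq_zero_iff.mp h)
  obtain ⟨g, hg⟩ := htrans _ _ hv' hw'
  refine ⟨g, ?_⟩
  rw [matHom_mulVec, hg, LinearEquiv.apply_symm_apply]

end Cfsg.Agent.Lib.helper59.TransVec
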