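import Mathlib

/-!
# Two commuting `SL₂`-like subgroups interchanged by a square root of the involution (helper59)

Abstract setting `Setup L M j n`: basic structure of `C(j) = LM ∪ LMn`.
-/

set_option autoImplicit false

namespace Cfsg.Agent.Lib.helper59.TwoSL

variable {G : Type*} [Group G]

theorem memC {j g : G} : g ∈ Subgroup.centralizer ({j} : Set G) ↔ g * j = j * g := by
  rw [Subgroup.mem_centralizer_iff]
  constructor
  · intro h
    exact (h j rfl).symm
  · intro h x hx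
    rw [Set.mem_singleton_iff.mp hx]
    exact h.symm

/-- Conjugation by `n`. -/
def cj (n z : G) : G := n * z * n⁻¹

theorem cj_mul (n a b : G) : cj n (a * b) = cj n a * cj n b := by
  unfold cj; group

theorem cj_inv (n a : G) : cj n a⁻¹ = (cj n a)⁻¹ := by
  unfold cj; group

theorem cj_one (n : G) : cj n 1 = 1 := by
  unfold cj; group

theorem cj_sq (n a : G) : (cj n a) ^ 2 = cj n (a ^ 2) := by
  unfold cj; rw [pow_two, pow_two]; group

theorem cj_inj {n a b : G} (h : cj n a = cj n b) : a = b := by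
  unfold cj at h
  have := congrArg (fun t => n⁻¹ * t * n) h
  simpa [mul_assoc] using this

theorem mul_n (n z : G) : n * z = cj n z * n := by
  unfold cj; group

/-- The abstract setting. -/
structure Setup (L M : Subgroup G) (j n : G) : Prop where
  j1 : j ≠ 1
  j2 : j ^ 2 = 1
  hLM : L ⊓ M = Subgroup.zpowers j
  comm : ∀ x ∈ L, ∀ y ∈ M, x * y = y * x
  hle : L ⊔ M ≤ Subgroup.centralizer ({j} : Set G)
  hidx : (L ⊔ M).relIndex (Subgroup.centralizer ({j} : Set G)) = 2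
  hn : n ∈ Subgroup.centralizer ({j} : Set G)
  hn2 : n ^ 2 = j
  hswap : L.map (MulAut.conj n).toMonoidHom = M
  hA : ∀ x ∈ L, x ^ 2 = 1 → x = 1 ∨ x = j
  hD : ∀ l ∈ L, ∀ l' ∈ L, l ^ 2 = j → l' ^ 2 = j → ∃ g ∈ L, g * l * g⁻¹ = l'
  hS : ∀ l ∈ L, l ^ 2 = j → ∀ x ∈ L, ∀ y ∈ L, x ^ 2 = l → y ^ 2 = l → y = x ∨ y = x * j
  hE : ∃ l ∈ L, l ^ 2 = j

namespace Setup

variable {L M : Subgroup G} {j n : G} (S : Setup L M j n)
include S

theorem jL : j ∈ L := by
  have : j ∈ L ⊓ M := by rw [S.hLM]; exact Subgroup.mem_zpowers j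
  exact this.1

theorem jM : j ∈ M := by
  have : j ∈ L ⊓ M := by rw [S.hLM]; exact Subgroup.mem_zpowers j
  exact this.2

theorem jj : j * j = 1 := by rw [← pow_two, S.j2]

theorem j_inv : j⁻¹ = j := inv_eq_of_mul_eq_one_left S.jj

theorem LC {x : G} (hx : x ∈ L) : x * j = j * x :=
  memC.mp (S.hle (Subgroup.mem_sup_left hx))

theorem MC {x : G} (hx : x ∈ M) : x * j = j * x :=
  memC.mp (S.hle (Subgroup.mem_sup_right hx))

theorem LMC {x : G} (hx : x ∈ L ⊔ M) : x * j = j * x :=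
  memC.mp (S.hle hx)

theorem nC : n * j = j * n := memC.mp S.hn

theorem cj_j : cj n j = j := by
  unfold cj
  rw [S.nC, mul_inv_cancel_right]

theorem inter {x : G} (hL : x ∈ L) (hM : x ∈ M) : x = 1 ∨ x = j := by
  have : x ∈ Subgroup.zpowers j := by rw [← S.hLM]; exact ⟨hL, hM⟩
  obtain ⟨k, rfl⟩ := Subgroup.mem_zpowers_iff.mp this
  rcases Int.even_or_odd' k with ⟨r, rfl | rfl⟩
  · left
    rw [zpow_mul, zpow_ofNat, S.j2, one_zpow]
  · right
    rw [zpow_add, zpow_mul, zpow_ofNat, S.j2, one_zpow, one_mul, zpow_one]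

theorem cjL {x : G} (hx : x ∈ L) : cj n x ∈ M := by
  rw [← S.hswap]
  exact ⟨x, hx, rfl⟩

theorem cj_cj {z : G} (hz : z * j = j * z) : cj n (cj n z) = z := by
  unfold cj
  have h1 : n * (n * z * n⁻¹) * n⁻¹ = (n ^ 2) * z * (n ^ 2)⁻¹ := by rw [pow_two]; group
  rw [h1, S.hn2, ← hz, mul_inv_cancel_right]

theorem cjM {y : G} (hy : y ∈ M) : cj n y ∈ L := by
  rw [← S.hswap] at hy
  obtain ⟨x, hx, rfl⟩ := hy
  have : cj n ((MulAut.conj n).toMonoidHom x) = x := S.cj_cj (S.LC hx)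
  rw [this]
  exact hx

theorem mem_LM {g : G} : g ∈ L ⊔ M ↔ ∃ x ∈ L, ∃ y ∈ M, g = x * y := by
  constructor
  · intro hg
    let K : Subgroup G :=
      { carrier := {g | ∃ x ∈ L, ∃ y ∈ M, g = x * y}
        mul_mem' := by
          rintro a b ⟨x, hx, y, hy, rfl⟩ ⟨x', hx', y', hy', rfl⟩
          refine ⟨x * x', L.mul_mem hx hx', y * y', M.mul_mem hy hy', ?_⟩
          have := S.comm x' hx' y hy
          calc x * y * (x' * y') = x * (y * x') * y' := by group
            _ = x * (x' * y) * y' := by rw [this]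
            _ = x * x' * (y * y') := by group
        one_mem' := ⟨1, L.one_mem, 1, M.one_mem, by simp⟩
        inv_mem' := by
          rintro a ⟨x, hx, y, hy, rfl⟩
          refine ⟨x⁻¹, L.inv_mem hx, y⁻¹, M.inv_mem hy, ?_⟩
          have := S.comm x⁻¹ (L.inv_mem hx) y⁻¹ (M.inv_mem hy)
          rw [mul_inv_rev, this] }
    have hK : L ⊔ M ≤ K :=
      sup_le (fun x hx => ⟨x, hx, 1, M.one_mem, by simp⟩)
        (fun y hy => ⟨1, L.one_mem, y, hy, by simp⟩)
    exact hK hg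
  · rintro ⟨x, hx, y, hy, rfl⟩
    exact Subgroup.mul_mem _ (Subgroup.mem_sup_left hx) (Subgroup.mem_sup_right hy)

theorem normL {a z : G} (ha : a ∈ L ⊔ M) (hz : z ∈ L) : a * z * a⁻¹ ∈ L := by
  obtain ⟨x, hx, y, hy, rfl⟩ := S.mem_LM.mp ha
  have hc := S.comm z hz y hy
  have : x * y * z * (x * y)⁻¹ = x * z * x⁻¹ := by
    calc x * y * z * (x * y)⁻¹ = x * (y * z) * y⁻¹ * x⁻¹ := by group
      _ = x * (z * y) * y⁻¹ * x⁻¹ := by rw [hc]
      _ = x * z * x⁻¹ := by group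
  rw [this]
  exact L.mul_mem (L.mul_mem hx hz) (L.inv_mem hx)

theorem normM {a z : G} (ha : a ∈ L ⊔ M) (hz : z ∈ M) : a * z * a⁻¹ ∈ M := by
  obtain ⟨x, hx, y, hy, rfl⟩ := S.mem_LM.mp ha
  have hc := S.comm x hx (y * z * y⁻¹) (M.mul_mem (M.mul_mem hy hz) (M.inv_mem hy))
  have : x * y * z * (x * y)⁻¹ = y * z * y⁻¹ := by
    calc x * y * z * (x * y)⁻¹ = x * (y * z * y⁻¹) * x⁻¹ := by group
      _ = (y * z * y⁻¹) * x * x⁻¹ := by rw [hc]
      _ = y * z * y⁻¹ := by group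
  rw [this]
  exact M.mul_mem (M.mul_mem hy hz) (M.inv_mem hy)

theorem n_notMem : n ∉ L ⊔ M := by
  intro hn
  obtain ⟨l, hl, hl2⟩ := S.hE
  have h1 : cj n l ∈ M := S.cjL hl
  have h2 : cj n l ∈ L := S.normL hn hl
  rcases S.inter h2 h1 with h | h
  · have : l = 1 := cj_inj (h.trans (cj_one n).symm)
    rw [this, one_pow] at hl2
    exact S.j1 hl2.symm
  · have h3 := cj_sq n l
    rw [h, S.j2, hl2, S.cj_j] at h3
    exact S.j1 h3.symm

theorem dich {g : G} (hg : g * j = j * g) : g ∈ L ⊔ M ∨ g * n⁻¹ ∈ L ⊔ M := by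
  by_cases h : g ∈ L ⊔ M
  · exact Or.inl h
  · right
    have hidx : ((L ⊔ M).subgroupOf (Subgroup.centralizer ({j} : Set G))).index = 2 := S.hidx
    have hgC : g ∈ Subgroup.centralizer ({j} : Set G) := memC.mpr hg
    have hnC : n⁻¹ ∈ Subgroup.centralizer ({j} : Set G) := Subgroup.inv_mem _ S.hn
    have key := Subgroup.mul_mem_iff_of_index_two hidx (a := ⟨g, hgC⟩) (b := ⟨n⁻¹, hnC⟩)
    rw [Subgroup.mem_subgroupOf, Subgroup.mem_subgroupOf, Subgroup.mem_subgroupOf] at key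
    apply key.mpr
    constructor
    · intro h'
      exact absurd h' h
    · intro h'
      exact absurd ((L ⊔ M).inv_mem_iff.mp h') S.n_notMem

theorem outL {d z : G} (hd : d * j = j * d) (hout : d ∉ L ⊔ M) (hz : z ∈ L) :
    d * z * d⁻¹ ∈ M := by
  rcases S.dich hd with h | h
  · exact absurd h hout
  · have : d * z * d⁻¹ = (d * n⁻¹) * (cj n z) * (d * n⁻¹)⁻¹ := by unfold cj; group
    rw [this]
    exact S.normM h (S.cjL hz)

theorem outM {d z : G} (hd : d * j = j * d) (hout : d ∉ L ⊔ M) (hz : z ∈ M) :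
    d * z * d⁻¹ ∈ L := by
  rcases S.dich hd with h | h
  · exact absurd h hout
  · have : d * z * d⁻¹ = (d * n⁻¹) * (cj n z) * (d * n⁻¹)⁻¹ := by unfold cj; group
    rw [this]
    exact S.normL h (S.cjM hz)

/-- No element of `C(j)` outside `LM` is an involution. -/
theorem sq_ne_one_of_out {e : G} (he : e * j = j * e) (hout : e ∉ L ⊔ M) : e ^ 2 ≠ 1 := by
  intro h1
  rcases S.dich he with h | h
  · exact hout h
  · obtain ⟨x, hx, y, hy, hxy⟩ := S.mem_LM.mp h
    have he' : e = x * y * n := by rw [← hxy]; group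
    have hx'M : cj n x ∈ M := S.cjL hx
    have hy'L : cj n y ∈ L := S.cjM hy
    have e2 : e ^ 2 = x * cj n y * (y * cj n x) * j := by
      rw [he', pow_two]
      have : x * y * n * (x * y * n) = x * y * cj n x * cj n y * (n ^ 2) := by
        unfold cj; rw [pow_two]; group
      rw [this, S.hn2]
      have hc := S.comm (cj n y) hy'L (y * cj n x) (M.mul_mem hy hx'M)
      calc x * y * cj n x * cj n y * j = x * ((y * cj n x) * cj n y) * j := by group
        _ = x * (cj n y * (y * cj n x)) * j := by rw [hc]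
        _ = x * cj n y * (y * cj n x) * j := by group
    have hα : x * cj n y ∈ L := L.mul_mem hx hy'L
    have hβ : y * cj n x ∈ M := M.mul_mem hy hx'M
    have hαM : x * cj n y ∈ M := by
      have : x * cj n y = (y * cj n x * j)⁻¹ := by
        rw [eq_inv_iff_mul_eq_one, ← h1, e2]
        group
      rw [this]
      exact M.inv_mem (M.mul_mem hβ S.jM)
    have hyeq : y = cj n (x⁻¹ * (x * cj n y)) := by
      rw [inv_mul_cancel_left, S.cj_cj (S.MC hy)]
    have hβeq : y * cj n x = cj n (x⁻¹ * (x * cj n y) * x) := by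
      rw [cj_mul, ← hyeq]
    rcases S.inter hα hαM with h | h
    · rw [h] at hβeq
      have hβ1 : y * cj n x = 1 := by
        rw [hβeq]
        have : x⁻¹ * 1 * x = 1 := by group
        rw [this, cj_one]
      rw [h, hβ1, h1] at e2
      simp at e2
      exact S.j1 e2.symm
    · rw [h] at hβeq
      have hβj : y * cj n x = j := by
        rw [hβeq]
        have : x⁻¹ * j * x = j := by
          rw [mul_assoc, ← S.LC hx, inv_mul_cancel_left]
        rw [this, S.cj_j]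
      rw [h, hβj, h1, S.jj, one_mul] at e2
      exact S.j1 e2.symm

theorem hA_M {y : G} (hy : y ∈ M) (h : y ^ 2 = 1) : y = 1 ∨ y = j := by
  have h1 : (cj n y) ^ 2 = 1 := by rw [cj_sq, h, cj_one]
  rcases S.hA _ (S.cjM hy) h1 with h2 | h2
  · left
    exact cj_inj (h2.trans (cj_one n).symm)
  · right
    exact cj_inj (h2.trans S.cj_j.symm)

theorem hD_M {m m' : G} (hm : m ∈ M) (hm' : m' ∈ M) (h : m ^ 2 = j) (h' : m' ^ 2 = j) :
    ∃ g ∈ M, g * m * g⁻¹ = m' := by
  have h1 : (cj n m) ^ 2 = j := by rw [cj_sq, h, S.cj_j]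
  have h2 : (cj n m') ^ 2 = j := by rw [cj_sq, h', S.cj_j]
  obtain ⟨g, hg, hgm⟩ := S.hD _ (S.cjM hm) _ (S.cjM hm') h1 h2
  refine ⟨cj n g, S.cjL hg, ?_⟩
  have := congrArg (cj n) hgm
  rw [cj_mul, cj_mul, cj_inv, S.cj_cj (S.MC hm), S.cj_cj (S.MC hm')] at this
  exact this

theorem hS_M {μ y y' : G} (hμ : μ ∈ M) (hμ2 : μ ^ 2 = j) (hy : y ∈ M) (hy' : y' ∈ M)
    (h : y ^ 2 = μ) (h' : y' ^ 2 = μ) : y' = y ∨ y' = y * j := by
  have h1 : (cj n μ) ^ 2 = j := by rw [cj_sq, hμ2, S.cj_j]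
  have h2 : (cj n y) ^ 2 = cj n μ := by rw [cj_sq, h]
  have h3 : (cj n y') ^ 2 = cj n μ := by rw [cj_sq, h']
  rcases S.hS _ (S.cjM hμ) h1 _ (S.cjM hy) _ (S.cjM hy') h2 h3 with h4 | h4
  · left
    exact cj_inj h4
  · right
    apply cj_inj (n := n)
    rw [h4, cj_mul, S.cj_j]

end Setup

end Cfsg.Agent.Lib.helper59.TwoSL
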