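import Mathlib
import Cfsg.Agent.Lib.helper59.TwoSLa

/-!
# Two commuting `SL₂`-like subgroups interchanged by a square root of the involution, II (helper59)

`Setup.no_fusion`: in the setting `Setup L M j n`, the involution `j` is not conjugate to any other
involution commuting with it.  (Count the square roots of `j` and of `w` in `C(j) ∩ C(w)`.)
-/

set_option autoImplicit false

namespace Cfsg.Agent.Lib.helper59.TwoSL

variable {G : Type*} [Group G]

theorem card_le_two_of [DecidableEq G] {T : Finset G} (j : G)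
    (hT : ∀ d ∈ T, ∀ d' ∈ T, d' = d ∨ d' = d * j) : T.card ≤ 2 := by
  rcases T.eq_empty_or_nonempty with h | ⟨d, hd⟩
  · simp [h]
  · have : T ⊆ {d, d * j} := by
      intro d' hd'
      rcases hT d hd d' hd' with h | h <;> simp [h]
    exact (Finset.card_le_card this).trans Finset.card_le_two

namespace Setup

variable {L M : Subgroup G} {j n : G} (S : Setup L M j n)
include S

theorem sq_mul {x y : G} (hx : x ∈ L) (hy : y ∈ M) : (x * y) ^ 2 = x ^ 2 * y ^ 2 := by
  have hc := S.comm x hx y hy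
  rw [pow_two, pow_two, pow_two]
  calc x * y * (x * y) = x * (y * x) * y := by group
    _ = x * (x * y) * y := by rw [hc]
    _ = x * x * (y * y) := by group

theorem notMem_M {x : G} (hx : x ∈ L) (hx2 : x ^ 2 = j) : x ∉ M := by
  intro hM
  rcases S.inter hx hM with h | h
  · rw [h, one_pow] at hx2
    exact S.j1 hx2.symm
  · rw [h, S.j2] at hx2
    exact S.j1 hx2.symm

theorem notMem_L {y : G} (hy : y ∈ M) (hy2 : y ^ 2 = j) : y ∉ L := by
  intro hL
  rcases S.inter hL hy with h | h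
  · rw [h, one_pow] at hy2
    exact S.j1 hy2.symm
  · rw [h, S.j2] at hy2
    exact S.j1 hy2.symm

theorem sq_mul_j {d : G} (hd : d * j = j * d) : (d * j) ^ 2 = d ^ 2 := by
  rw [pow_two, pow_two]
  calc d * j * (d * j) = d * (j * d) * j := by group
    _ = d * (d * j) * j := by rw [hd]
    _ = d * d * (j * j) := by group
    _ = d * d := by rw [S.jj, mul_one]

/-- Involutions of `C(j)` other than `j`. -/
theorem invol {w : G} (hw : w * j = j * w) (h2 : w ^ 2 = 1) (h1 : w ≠ 1) (hj : w ≠ j) :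
    ∃ l ∈ L, ∃ m ∈ M, w = l * m ∧ l ^ 2 = j ∧ m ^ 2 = j := by
  have hin : w ∈ L ⊔ M := by
    by_contra hout
    exact S.sq_ne_one_of_out hw hout h2
  obtain ⟨x, hx, y, hy, hxy⟩ := S.mem_LM.mp hin
  rw [hxy, S.sq_mul hx hy] at h2
  have hx2L : x ^ 2 ∈ L := L.pow_mem hx 2
  have hx2M : x ^ 2 ∈ M := by
    have : x ^ 2 = (y ^ 2)⁻¹ := eq_inv_of_mul_eq_one_left h2
    rw [this]
    exact M.inv_mem (M.pow_mem hy 2)
  rcases S.inter hx2L hx2M with h | h
  · exfalso
    rw [h, one_mul] at h2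
    rcases S.hA x hx h with hx1 | hx1
    · rcases S.hA_M hy h2 with hy1 | hy1
      · exact h1 (by rw [hxy, hx1, hy1, one_mul])
      · exact hj (by rw [hxy, hx1, hy1, one_mul])
    · rcases S.hA_M hy h2 with hy1 | hy1
      · exact hj (by rw [hxy, hx1, hy1, mul_one])
      · exact h1 (by rw [hxy, hx1, hy1, S.jj])
  · refine ⟨x, hx, y, hy, hxy, h, ?_⟩
    rw [h] at h2
    have : y ^ 2 = j⁻¹ := eq_inv_of_mul_eq_one_right h2
    rw [this, S.j_inv]

theorem same_type {lam mu x y x' y' : G} (hlam : lam ∈ L) (hlam2 : lam ^ 2 = j) (hmu : mu ∈ M)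
    (hmu2 : mu ^ 2 = j) (hx : x ∈ L) (hy : y ∈ M) (hx' : x' ∈ L) (hy' : y' ∈ M)
    (e1 : x ^ 2 = lam) (e2 : y ^ 2 = mu) (e1' : x' ^ 2 = lam) (e2' : y' ^ 2 = mu) :
    x' * y' = x * y ∨ x' * y' = x * y * j := by
  have hyj := S.MC hy
  rcases S.hS lam hlam hlam2 x hx x' hx' e1 e1' with h | h <;>
    rcases S.hS_M hmu hmu2 hy hy' e2 e2' with h' | h'
  · left
    rw [h, h']
  · right
    rw [h, h', mul_assoc]
  · right
    rw [h, h']
    calc x * j * y = x * (j * y) := by group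
      _ = x * (y * j) := by rw [hyj]
      _ = x * y * j := by group
  · left
    rw [h, h']
    calc x * j * (y * j) = x * (j * y) * j := by group
      _ = x * (y * j) * j := by rw [hyj]
      _ = x * y * (j * j) := by group
      _ = x * y := by rw [S.jj, mul_one]

theorem decomp_type {l m d : G} (hl : l ∈ L) (hm : m ∈ M) (hd : d ∈ L ⊔ M)
    (hd2 : d ^ 2 = l * m) :
    ∃ x ∈ L, ∃ y ∈ M, d = x * y ∧
      ((x ^ 2 = l ∧ y ^ 2 = m) ∨ (x ^ 2 = l * j ∧ y ^ 2 = m * j)) := by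
  obtain ⟨x, hx, y, hy, hxy⟩ := S.mem_LM.mp hd
  refine ⟨x, hx, y, hy, hxy, ?_⟩
  rw [hxy, S.sq_mul hx hy] at hd2
  have hz : l⁻¹ * x ^ 2 = m * (y ^ 2)⁻¹ := by
    rw [eq_mul_inv_iff_mul_eq, mul_assoc, hd2, inv_mul_cancel_left]
  have hzL : l⁻¹ * x ^ 2 ∈ L := L.mul_mem (L.inv_mem hl) (L.pow_mem hx 2)
  have hzM : l⁻¹ * x ^ 2 ∈ M := by
    rw [hz]
    exact M.mul_mem hm (M.inv_mem (M.pow_mem hy 2))
  rcases S.inter hzL hzM with h | h
  · left
    have hx2 : x ^ 2 = l := by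
      rw [inv_mul_eq_one] at h
      exact h.symm
    refine ⟨hx2, ?_⟩
    rw [hx2] at hd2
    exact mul_left_cancel hd2
  · right
    have hx2 : x ^ 2 = l * j := by
      rw [inv_mul_eq_iff_eq_mul] at h
      exact h
    refine ⟨hx2, ?_⟩
    rw [hx2, mul_assoc] at hd2
    have h3 : j * y ^ 2 = m := mul_left_cancel hd2
    have hc := S.MC (M.pow_mem hy 2)
    rw [← h3, ← hc, mul_assoc, S.jj, mul_one]

/-- `j` is not conjugate to another involution of `C(j)`. -/
theorem no_fusion [Finite G] (h : G) (hne : h * j * h⁻¹ ≠ j)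
    (hc : (h * j * h⁻¹) * j = j * (h * j * h⁻¹)) : False := by
  classical
  have := Fintype.ofFinite G
  obtain ⟨w, hw⟩ : ∃ w, w = h * j * h⁻¹ := ⟨_, rfl⟩
  rw [← hw] at hne hc
  have hjj := S.jj
  have w2 : w ^ 2 = 1 := by
    rw [hw, pow_two]
    calc h * j * h⁻¹ * (h * j * h⁻¹) = h * (j * j) * h⁻¹ := by group
      _ = 1 := by rw [hjj]; group
  have w1 : w ≠ 1 := by
    intro e
    rw [hw] at e
    have := congrArg (fun t => h⁻¹ * t * h) e
    have hj1 : j = 1 := by simpa [mul_assoc] using this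
    exact S.j1 hj1
  obtain ⟨l, hl, m, hm, hwlm, hl2, hm2⟩ := S.invol hc w2 w1 hne
  -- the inverse conjugate
  have hwj : h⁻¹ * w * h = j := by rw [hw]; group
  have huj : (h⁻¹ * j * h) * j = j * (h⁻¹ * j * h) := by
    calc (h⁻¹ * j * h) * j = (h⁻¹ * j * h) * (h⁻¹ * w * h) := by rw [hwj]
      _ = h⁻¹ * (j * w) * h := by group
      _ = h⁻¹ * (w * j) * h := by rw [hc]
      _ = (h⁻¹ * w * h) * (h⁻¹ * j * h) := by group
      _ = j * (h⁻¹ * j * h) := by rw [hwj]
  have u2 : (h⁻¹ * j * h) ^ 2 = 1 := by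
    rw [pow_two]
    calc h⁻¹ * j * h * (h⁻¹ * j * h) = h⁻¹ * (j * j) * h := by group
      _ = 1 := by rw [hjj]; group
  have u1 : h⁻¹ * j * h ≠ 1 := by
    intro e
    have := congrArg (fun t => h * t * h⁻¹) e
    have hj1 : j = 1 := by simpa [mul_assoc] using this
    exact S.j1 hj1
  have uj : h⁻¹ * j * h ≠ j := by
    intro e
    apply hne
    rw [hw]
    have := congrArg (fun t => h * t * h⁻¹) e
    have hj1 : j = h * j * h⁻¹ := by simpa [mul_assoc] using this
    exact hj1.symm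
  obtain ⟨l₂, hl₂, m₂, hm₂, hulm, hl₂2, hm₂2⟩ := S.invol huj u2 u1 uj
  obtain ⟨g₁, hg₁, e₁⟩ := S.hD l₂ hl₂ l hl hl₂2 hl2
  obtain ⟨g₂, hg₂, e₂⟩ := S.hD_M hm₂ hm hm₂2 hm2
  have hcu : (g₁ * g₂) * (h⁻¹ * j * h) * (g₁ * g₂)⁻¹ = w := by
    rw [hulm, hwlm, ← e₁, ← e₂]
    have c1 := S.comm l₂ hl₂ g₂ hg₂
    have c2 := S.comm g₁⁻¹ (L.inv_mem hg₁) (g₂ * m₂ * g₂⁻¹)
      (M.mul_mem (M.mul_mem hg₂ hm₂) (M.inv_mem hg₂))
    calc g₁ * g₂ * (l₂ * m₂) * (g₁ * g₂)⁻¹ = g₁ * (g₂ * l₂) * m₂ * g₂⁻¹ * g₁⁻¹ := by group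
      _ = g₁ * (l₂ * g₂) * m₂ * g₂⁻¹ * g₁⁻¹ := by rw [c1]
      _ = g₁ * l₂ * ((g₂ * m₂ * g₂⁻¹) * g₁⁻¹) := by group
      _ = g₁ * l₂ * (g₁⁻¹ * (g₂ * m₂ * g₂⁻¹)) := by rw [c2]
      _ = g₁ * l₂ * g₁⁻¹ * (g₂ * m₂ * g₂⁻¹) := by group
  obtain ⟨k, hk⟩ : ∃ k, k = g₁ * g₂ * h⁻¹ := ⟨_, rfl⟩
  have hk1 : k * j * k⁻¹ = w := by
    rw [← hcu, hk]; group
  have hgg : g₁ * g₂ ∈ L ⊔ M := S.mem_LM.mpr ⟨g₁, hg₁, g₂, hg₂, rfl⟩
  have hk2 : k * w * k⁻¹ = j := by
    have e : k * w * k⁻¹ = (g₁ * g₂) * (h⁻¹ * w * h) * (g₁ * g₂)⁻¹ := by rw [hk]; group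
    rw [e, hwj, S.LMC hgg, mul_inv_cancel_right]
  -- the two sets of square roots
  let Sj : Finset G := Finset.univ.filter (fun d => d * j = j * d ∧ d * w = w * d ∧ d ^ 2 = j)
  let Sw : Finset G := Finset.univ.filter (fun d => d * j = j * d ∧ d * w = w * d ∧ d ^ 2 = w)
  have memSj : ∀ d, d ∈ Sj ↔ (d * j = j * d ∧ d * w = w * d ∧ d ^ 2 = j) := by
    intro d; simp [Sj]
  have memSw : ∀ d, d ∈ Sw ↔ (d * j = j * d ∧ d * w = w * d ∧ d ^ 2 = w) := by
    intro d; simp [Sw]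
  -- (i) conjugation by `k`
  have hij : Sj.card ≤ Sw.card := by
    refine Finset.card_le_card_of_injOn (fun d => k * d * k⁻¹) ?_ ?_
    · intro d hd
      obtain ⟨a, b, c⟩ := (memSj d).mp hd
      refine (memSw _).mpr ⟨?_, ?_, ?_⟩
      · calc k * d * k⁻¹ * j = k * d * k⁻¹ * (k * w * k⁻¹) := by rw [hk2]
          _ = k * (d * w) * k⁻¹ := by group
          _ = k * (w * d) * k⁻¹ := by rw [b]
          _ = (k * w * k⁻¹) * (k * d * k⁻¹) := by group
          _ = j * (k * d * k⁻¹) := by rw [hk2]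
      · calc k * d * k⁻¹ * w = k * d * k⁻¹ * (k * j * k⁻¹) := by rw [hk1]
          _ = k * (d * j) * k⁻¹ := by group
          _ = k * (j * d) * k⁻¹ := by rw [a]
          _ = (k * j * k⁻¹) * (k * d * k⁻¹) := by group
          _ = w * (k * d * k⁻¹) := by rw [hk1]
      · calc (k * d * k⁻¹) ^ 2 = k * d ^ 2 * k⁻¹ := by rw [pow_two, pow_two]; group
          _ = w := by rw [c, hk1]
    · intro a _ b _ hab
      have := congrArg (fun t => k⁻¹ * t * k) hab
      simpa [mul_assoc] using this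
  -- basic commutations
  have lm := S.comm l hl m hm
  have hlj := S.LC hl
  have hmj := S.MC hm
  have hlw : l * w = w * l := by
    rw [hwlm]
    calc l * (l * m) = l * (m * l) := by rw [lm]
      _ = l * m * l := by group
  have hmw : m * w = w * m := by
    rw [hwlm]
    calc m * (l * m) = (m * l) * m := by group
      _ = l * m * m := by rw [lm]
  -- (b) four inside roots of `j`
  have hjin : 4 ≤ (Sj.filter (fun d => d ∈ L ⊔ M)).card := by
    have hsub : ({l, l * j, m, m * j} : Finset G) ⊆ Sj.filter (fun d => d ∈ L ⊔ M) := by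
      intro d hd
      simp only [Finset.mem_insert, Finset.mem_singleton] at hd
      rw [Finset.mem_filter, memSj]
      rcases hd with rfl | rfl | rfl | rfl
      · exact ⟨⟨hlj, hlw, hl2⟩, Subgroup.mem_sup_left hl⟩
      · refine ⟨⟨?_, ?_, ?_⟩, Subgroup.mem_sup_left (L.mul_mem hl S.jL)⟩
        · calc l * j * j = (j * l) * j := by rw [hlj]
            _ = j * (l * j) := by group
        · calc l * j * w = l * (j * w) := by group
            _ = l * (w * j) := by rw [hc]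
            _ = (l * w) * j := by group
            _ = w * l * j := by rw [hlw]
            _ = w * (l * j) := by group
        · rw [S.sq_mul_j hlj, hl2]
      · exact ⟨⟨hmj, hmw, hm2⟩, Subgroup.mem_sup_right hm⟩
      · refine ⟨⟨?_, ?_, ?_⟩, Subgroup.mem_sup_right (M.mul_mem hm S.jM)⟩
        · calc m * j * j = (j * m) * j := by rw [hmj]
            _ = j * (m * j) := by group
        · calc m * j * w = m * (j * w) := by group
            _ = m * (w * j) := by rw [hc]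
            _ = (m * w) * j := by group
            _ = w * m * j := by rw [hmw]
            _ = w * (m * j) := by group
        · rw [S.sq_mul_j hmj, hm2]
    have n1 : l ≠ l * j := fun e => S.j1 (left_eq_mul.mp e)
    have n2 : l ≠ m := fun e => S.notMem_M hl hl2 (e ▸ hm)
    have n3 : l ≠ m * j := fun e => S.notMem_M hl hl2 (e ▸ M.mul_mem hm S.jM)
    have n4 : l * j ≠ m := fun e => S.notMem_L hm hm2 (e ▸ L.mul_mem hl S.jL)
    have n5 : l * j ≠ m * j := fun e => n2 (mul_right_cancel e)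
    have n6 : m ≠ m * j := fun e => S.j1 (left_eq_mul.mp e)
    have hcard : ({l, l * j, m, m * j} : Finset G).card = 4 := by
      rw [Finset.card_insert_of_notMem (by simp [n1, n2, n3]),
        Finset.card_insert_of_notMem (by simp [n4, n5]), Finset.card_pair n6]
    rw [← hcard]
    exact Finset.card_le_card hsub
  -- (a) at most four inside roots of `w`
  have lj2 : (l * j) ^ 2 = j := by rw [S.sq_mul_j hlj, hl2]
  have mj2 : (m * j) ^ 2 = j := by rw [S.sq_mul_j hmj, hm2]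
  have hwin : (Sw.filter (fun d => d ∈ L ⊔ M)).card ≤ 4 := by
    have hA1 : ((Sw.filter (fun d => d ∈ L ⊔ M)).filter
        (fun d => ∃ x ∈ L, ∃ y ∈ M, d = x * y ∧ x ^ 2 = l ∧ y ^ 2 = m)).card ≤ 2 := by
      refine card_le_two_of j ?_
      intro d hd d' hd'
      obtain ⟨x, hx, y, hy, hxy, e1, e2⟩ := (Finset.mem_filter.mp hd).2
      obtain ⟨x', hx', y', hy', hxy', e1', e2'⟩ := (Finset.mem_filter.mp hd').2
      rw [hxy, hxy']
      exact S.same_type hl hl2 hm hm2 hx hy hx' hy' e1 e2 e1' e2'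
    have hA2 : ((Sw.filter (fun d => d ∈ L ⊔ M)).filter
        (fun d => ¬ ∃ x ∈ L, ∃ y ∈ M, d = x * y ∧ x ^ 2 = l ∧ y ^ 2 = m)).card ≤ 2 := by
      refine card_le_two_of j ?_
      intro d hd d' hd'
      obtain ⟨hdA, hdn⟩ := Finset.mem_filter.mp hd
      obtain ⟨hd'A, hd'n⟩ := Finset.mem_filter.mp hd'
      obtain ⟨hdS, hdLM⟩ := Finset.mem_filter.mp hdA
      obtain ⟨hd'S, hd'LM⟩ := Finset.mem_filter.mp hd'A
      have hd2 : d ^ 2 = l * m := by rw [← hwlm]; exact ((memSw d).mp hdS).2.2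
      have hd'2 : d' ^ 2 = l * m := by rw [← hwlm]; exact ((memSw d').mp hd'S).2.2
      obtain ⟨x, hx, y, hy, hxy, ht | ht⟩ := S.decomp_type hl hm hdLM hd2
      · exact absurd ⟨x, hx, y, hy, hxy, ht.1, ht.2⟩ hdn
      obtain ⟨x', hx', y', hy', hxy', ht' | ht'⟩ := S.decomp_type hl hm hd'LM hd'2
      · exact absurd ⟨x', hx', y', hy', hxy', ht'.1, ht'.2⟩ hd'n
      rw [hxy, hxy']
      exact S.same_type (L.mul_mem hl S.jL) lj2 (M.mul_mem hm S.jM) mj2 hx hy hx' hy'
        ht.1 ht.2 ht'.1 ht'.2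
    have := Finset.card_filter_add_card_filter_not (s := Sw.filter (fun d => d ∈ L ⊔ M))
      (fun d => ∃ x ∈ L, ∃ y ∈ M, d = x * y ∧ x ^ 2 = l ∧ y ^ 2 = m)
    omega
  -- (c) outside roots
  have hcm2 : (cj n m) ^ 2 = j := by rw [cj_sq, hm2, S.cj_j]
  obtain ⟨x₀, hx₀, ex₀⟩ := S.hD (cj n m) (S.cjM hm) l hl hcm2 hl2
  obtain ⟨ds, hds⟩ : ∃ ds, ds = x₀ * (cj n x₀)⁻¹ * n := ⟨_, rfl⟩
  have hcx₀ : (cj n x₀)⁻¹ ∈ M := M.inv_mem (S.cjL hx₀)
  have ha_in : x₀ * (cj n x₀)⁻¹ ∈ L ⊔ M := S.mem_LM.mpr ⟨x₀, hx₀, _, hcx₀, rfl⟩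
  have ds_out : ds ∉ L ⊔ M := by
    intro hin
    have : n = (x₀ * (cj n x₀)⁻¹)⁻¹ * ds := by rw [hds]; group
    exact S.n_notMem (this ▸ Subgroup.mul_mem _ (Subgroup.inv_mem _ ha_in) hin)
  have ds_j : ds * j = j * ds := by
    rw [hds]
    calc x₀ * (cj n x₀)⁻¹ * n * j = x₀ * (cj n x₀)⁻¹ * (n * j) := by group
      _ = x₀ * (cj n x₀)⁻¹ * (j * n) := by rw [S.nC]
      _ = (x₀ * (cj n x₀)⁻¹ * j) * n := by group
      _ = (j * (x₀ * (cj n x₀)⁻¹)) * n := by rw [S.LMC ha_in]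
      _ = j * (x₀ * (cj n x₀)⁻¹ * n) := by group
  have hcl : cj n l = cj n x₀ * m * (cj n x₀)⁻¹ := by
    rw [← ex₀, cj_mul, cj_mul, cj_inv, S.cj_cj hmj]
  have ds_l : ds * l = m * ds := by
    rw [hds]
    have c1 := S.comm x₀ hx₀ m hm
    calc x₀ * (cj n x₀)⁻¹ * n * l = x₀ * (cj n x₀)⁻¹ * (n * l) := by group
      _ = x₀ * (cj n x₀)⁻¹ * (cj n l * n) := by rw [mul_n n l]
      _ = x₀ * (cj n x₀)⁻¹ * (cj n x₀ * m * (cj n x₀)⁻¹ * n) := by rw [hcl]
      _ = (x₀ * m) * (cj n x₀)⁻¹ * n := by group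
      _ = (m * x₀) * (cj n x₀)⁻¹ * n := by rw [c1]
      _ = m * (x₀ * (cj n x₀)⁻¹ * n) := by group
  have ds_m : ds * m = l * ds := by
    rw [hds]
    have c1 := S.comm (cj n m) (S.cjM hm) (cj n x₀)⁻¹ hcx₀
    have c2 : x₀ * cj n m = l * x₀ := by rw [← ex₀]; group
    calc x₀ * (cj n x₀)⁻¹ * n * m = x₀ * (cj n x₀)⁻¹ * (n * m) := by group
      _ = x₀ * (cj n x₀)⁻¹ * (cj n m * n) := by rw [mul_n n m]
      _ = x₀ * ((cj n x₀)⁻¹ * cj n m) * n := by group
      _ = x₀ * (cj n m * (cj n x₀)⁻¹) * n := by rw [c1]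
      _ = (x₀ * cj n m) * (cj n x₀)⁻¹ * n := by group
      _ = (l * x₀) * (cj n x₀)⁻¹ * n := by rw [c2]
      _ = l * (x₀ * (cj n x₀)⁻¹ * n) := by group
  have ds_w : ds * w = w * ds := by
    rw [hwlm]
    calc ds * (l * m) = (ds * l) * m := by group
      _ = m * ds * m := by rw [ds_l]
      _ = m * (ds * m) := by group
      _ = m * (l * ds) := by rw [ds_m]
      _ = (m * l) * ds := by group
      _ = l * m * ds := by rw [lm]
  have ds_sq : ds ^ 2 = j := by
    have e : ds ^ 2 = x₀ * n ^ 2 * x₀⁻¹ := by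
      rw [hds, pow_two, pow_two]; unfold cj; group
    rw [e, S.hn2, S.LC hx₀, mul_inv_cancel_right]
  have ds_mem : ds ∈ Sj.filter (fun d => d ∉ L ⊔ M) :=
    Finset.mem_filter.mpr ⟨(memSj ds).mpr ⟨ds_j, ds_w, ds_sq⟩, ds_out⟩
  have hout : (Sw.filter (fun d => d ∉ L ⊔ M)).card + 1 ≤ (Sj.filter (fun d => d ∉ L ⊔ M)).card := by
    have h1 : (Sw.filter (fun d => d ∉ L ⊔ M)).card ≤
        ((Sj.filter (fun d => d ∉ L ⊔ M)).erase ds).card := by
      refine Finset.card_le_card_of_injOn (fun d => d * l⁻¹) ?_ ?_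
      · intro d hd
        obtain ⟨hdS, hdout⟩ := Finset.mem_filter.mp hd
        obtain ⟨dj, dw, d2⟩ := (memSw d).mp hdS
        have hmem : d * l⁻¹ ∈ Sj.filter (fun d => d ∉ L ⊔ M) := by
          have hout' : d * l⁻¹ ∉ L ⊔ M := by
            intro hin
            have : d = d * l⁻¹ * l := by group
            exact hdout (this ▸ Subgroup.mul_mem _ hin (Subgroup.mem_sup_left hl))
          have hj' : d * l⁻¹ * j = j * (d * l⁻¹) := by
            have := S.LC (L.inv_mem hl)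
            calc d * l⁻¹ * j = d * (l⁻¹ * j) := by group
              _ = d * (j * l⁻¹) := by rw [this]
              _ = (d * j) * l⁻¹ := by group
              _ = j * d * l⁻¹ := by rw [dj]
              _ = j * (d * l⁻¹) := by group
          have hliw : l⁻¹ * w = w * l⁻¹ := by
            calc l⁻¹ * w = l⁻¹ * (w * l) * l⁻¹ := by group
              _ = l⁻¹ * (l * w) * l⁻¹ := by rw [hlw]
              _ = w * l⁻¹ := by group
          have hw' : d * l⁻¹ * w = w * (d * l⁻¹) := by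
            calc d * l⁻¹ * w = d * (l⁻¹ * w) := by group
              _ = d * (w * l⁻¹) := by rw [hliw]
              _ = (d * w) * l⁻¹ := by group
              _ = w * d * l⁻¹ := by rw [dw]
              _ = w * (d * l⁻¹) := by group
          have hm₁ : d * l * d⁻¹ ∈ M := S.outL dj hdout hl
          have hl₁ : d * m * d⁻¹ ∈ L := S.outM dj hdout hm
          have d2' : d ^ 2 = l * m := by rw [d2, hwlm]
          have dw' : d * (l * m) = l * m * d := by rw [← hwlm]; exact dw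
          have hz1 : (d * l⁻¹) ^ 2 = (d * l * d⁻¹)⁻¹ * m := by
            rw [pow_two]
            calc d * l⁻¹ * (d * l⁻¹) = (d * l * d⁻¹)⁻¹ * (d ^ 2) * l⁻¹ := by rw [pow_two]; group
              _ = (d * l * d⁻¹)⁻¹ * (l * m) * l⁻¹ := by rw [d2']
              _ = (d * l * d⁻¹)⁻¹ * (m * l) * l⁻¹ := by rw [lm]
              _ = (d * l * d⁻¹)⁻¹ * m := by group
          have hz2 : (d * l * d⁻¹)⁻¹ * m = l⁻¹ * (d * m * d⁻¹) := by
            have e : (d * l * d⁻¹) * (d * m * d⁻¹) = l * m := by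
              calc (d * l * d⁻¹) * (d * m * d⁻¹) = d * (l * m) * d⁻¹ := by group
                _ = (l * m) * d * d⁻¹ := by rw [dw']
                _ = l * m := by group
            have e2 : d * m * d⁻¹ = (d * l * d⁻¹)⁻¹ * (l * m) := by rw [← e]; group
            rw [e2]
            have hcm := S.comm l hl (d * l * d⁻¹)⁻¹ (M.inv_mem hm₁)
            calc (d * l * d⁻¹)⁻¹ * m = l⁻¹ * (l * (d * l * d⁻¹)⁻¹) * m := by group
              _ = l⁻¹ * ((d * l * d⁻¹)⁻¹ * l) * m := by rw [hcm]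
              _ = l⁻¹ * ((d * l * d⁻¹)⁻¹ * (l * m)) := by group
          have hzM : (d * l⁻¹) ^ 2 ∈ M := by
            rw [hz1]; exact M.mul_mem (M.inv_mem hm₁) hm
          have hzL : (d * l⁻¹) ^ 2 ∈ L := by
            rw [hz1, hz2]; exact L.mul_mem (L.inv_mem hl) hl₁
          have hsq : (d * l⁻¹) ^ 2 = j := by
            rcases S.inter hzL hzM with hz | hz
            · exact absurd hz (S.sq_ne_one_of_out hj' hout')
            · exact hz
          exact Finset.mem_filter.mpr ⟨(memSj _).mpr ⟨hj', hw', hsq⟩, hout'⟩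
        refine Finset.mem_erase.mpr ⟨?_, hmem⟩
        intro e
        have hd : d = ds * l := by rw [← e]; group
        have : d ^ 2 = w * j := by
          rw [hd, pow_two, hwlm]
          calc ds * l * (ds * l) = (ds * l) * ds * l := by group
            _ = m * ds * ds * l := by rw [ds_l]
            _ = m * ds ^ 2 * l := by rw [pow_two]; group
            _ = m * j * l := by rw [ds_sq]
            _ = m * (j * l) := by group
            _ = m * (l * j) := by rw [hlj]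
            _ = (m * l) * j := by group
            _ = l * m * j := by rw [lm]
        rw [d2] at this
        exact S.j1 (left_eq_mul.mp this)
      · intro a _ b _ hab
        exact mul_right_cancel hab
    rw [Finset.card_erase_of_mem ds_mem] at h1
    have hpos : 0 < (Sj.filter (fun d => d ∉ L ⊔ M)).card := Finset.card_pos.mpr ⟨ds, ds_mem⟩
    omega
  have hsw := Finset.card_filter_add_card_filter_not (s := Sw) (fun d => d ∈ L ⊔ M)
  have hsj := Finset.card_filter_add_card_filter_not (s := Sj) (fun d => d ∈ L ⊔ M)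
  omega

end Setup

end Cfsg.Agent.Lib.helper59.TwoSL
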