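import Mathlib
import Cfsg.Agent.Lib.helper59.TwoSLb
import Cfsg.Agent.Lib.helper59.SLTwoFacts

/-!
# Two commuting `SL₂`'s interchanged by a square root of the involution, III (helper59)

* `mkSetup` : the concrete hypotheses give the abstract `Setup`;
* `Setup.isolated` : `j` is isolated in any Sylow 2-subgroup containing it;
* `top_of_zstar` : from the conclusion of the Z*-theorem, `G = C(j) N`.
-/

set_option autoImplicit false

namespace Cfsg.Agent.Lib.helper59.TwoSL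

open Cfsg.Agent.Lib.helper59

variable {G : Type*} [Group G]

theorem mkSetup {F₁ : Type*} [Field F₁] [Fintype F₁]
    (hF₁ : Odd (Fintype.card F₁)) (L₁ L₂ : Subgroup G)
    (e₁ : ↥L₁ ≃* Matrix.SpecialLinearGroup (Fin 2) F₁)
    (hc : ∀ x ∈ L₁, ∀ y ∈ L₂, x * y = y * x) (j : G) (hj : orderOf j = 2)
    (hm : L₁ ⊓ L₂ = Subgroup.zpowers j)
    (hle : L₁ ⊔ L₂ ≤ Subgroup.centralizer ({j} : Set G))
    (hi : (L₁ ⊔ L₂).relIndex (Subgroup.centralizer ({j} : Set G)) = 2) (n : G)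
    (hn : n ∈ Subgroup.centralizer ({j} : Set G))
    (hn2 : n ^ 2 = j) (hswap : L₁.map (MulAut.conj n).toMonoidHom = L₂) :
    Setup L₁ L₂ j n := by
  have j1 : j ≠ 1 := by
    intro h
    rw [h, orderOf_one] at hj
    omega
  have j2 : j ^ 2 = 1 := by rw [← hj]; exact pow_orderOf_eq_one j
  have jL : j ∈ L₁ := by
    have : j ∈ L₁ ⊓ L₂ := by rw [hm]; exact Subgroup.mem_zpowers j
    exact this.1
  have h2 := SLTwo.two_ne_zero_of_odd hF₁
  obtain ⟨J, hJdef⟩ : ∃ J, J = e₁ ⟨j, jL⟩ := ⟨_, rfl⟩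
  have sqsub : ∀ (x y : G) (hx : x ∈ L₁) (hy : y ∈ L₁), x ^ 2 = y →
      (e₁ ⟨x, hx⟩) ^ 2 = e₁ ⟨y, hy⟩ := by
    intro x y hx hy hxy
    rw [← map_pow]
    congr 1
    exact Subtype.ext (by rw [Subgroup.coe_pow]; exact hxy)
  have hJ : J ^ 2 = 1 := by
    rw [hJdef, sqsub j 1 jL L₁.one_mem j2]
    exact map_one e₁
  have hJ1 : J ≠ 1 := by
    intro h
    have : (⟨j, jL⟩ : L₁) = 1 := e₁.injective (by rw [← hJdef, h, map_one])
    exact j1 (congrArg Subtype.val this)
  refine ⟨j1, j2, hm, hc, hle, hi, hn, hn2, hswap, ?_, ?_, ?_, ?_⟩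
  · intro x hx hx2
    have h1 : (e₁ ⟨x, hx⟩) ^ 2 = 1 := by
      rw [sqsub x 1 hx L₁.one_mem hx2]
      exact map_one e₁
    rcases SLTwo.sq_eq_one h2 J hJ hJ1 _ h1 with h | h
    · left
      have : (⟨x, hx⟩ : L₁) = 1 := e₁.injective (by rw [h, map_one])
      exact congrArg Subtype.val this
    · right
      have : (⟨x, hx⟩ : L₁) = ⟨j, jL⟩ := e₁.injective (by rw [h, hJdef])
      exact congrArg Subtype.val this
  · intro l hl l' hl' hl2 hl'2
    have t1 : (e₁ ⟨l, hl⟩) ^ 2 = J := by rw [hJdef]; exact sqsub l j hl jL hl2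
    have t2 : (e₁ ⟨l', hl'⟩) ^ 2 = J := by rw [hJdef]; exact sqsub l' j hl' jL hl'2
    obtain ⟨g, hg⟩ := SLTwo.conj_of_sq hF₁ h2 J hJ hJ1 _ _ t1 t2
    refine ⟨(e₁.symm g : G), (e₁.symm g).2, ?_⟩
    have : e₁.symm g * ⟨l, hl⟩ * (e₁.symm g)⁻¹ = ⟨l', hl'⟩ := by
      apply e₁.injective
      rw [map_mul, map_mul, map_inv, e₁.apply_symm_apply]
      exact hg
    exact congrArg Subtype.val this
  · intro l hl hl2 x hx y hy hx2 hy2
    have t1 : (e₁ ⟨l, hl⟩) ^ 2 = J := by rw [hJdef]; exact sqsub l j hl jL hl2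
    have t2 : (e₁ ⟨x, hx⟩) ^ 2 = e₁ ⟨l, hl⟩ := sqsub x l hx hl hx2
    have t3 : (e₁ ⟨y, hy⟩) ^ 2 = e₁ ⟨l, hl⟩ := sqsub y l hy hl hy2
    rcases SLTwo.sqrt_unique h2 J hJ hJ1 _ t1 _ _ t2 t3 with h | h
    · left
      have : (⟨y, hy⟩ : L₁) = ⟨x, hx⟩ := e₁.injective h
      exact congrArg Subtype.val this
    · right
      have : (⟨y, hy⟩ : L₁) = ⟨x, hx⟩ * ⟨j, jL⟩ :=
        e₁.injective (by rw [map_mul, ← hJdef]; exact h)
      exact congrArg Subtype.val this
  · obtain ⟨l, hl⟩ := SLTwo.exists_sq h2 J hJ hJ1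
    refine ⟨(e₁.symm l : G), (e₁.symm l).2, ?_⟩
    have : (e₁.symm l) ^ 2 = ⟨j, jL⟩ := by
      apply e₁.injective
      rw [map_pow, e₁.apply_symm_apply, ← hJdef]
      exact hl
    have h3 := congrArg Subtype.val this
    rw [Subgroup.coe_pow] at h3
    exact h3

/-- `j` is isolated in any Sylow `2`-subgroup containing it. -/
theorem Setup.isolated [Finite G] {L M : Subgroup G} {j n : G} (S : Setup L M j n)
    (P : Sylow 2 G) (hjP : j ∈ P) (g : G) (hg : g * j * g⁻¹ ∈ P) : g * j * g⁻¹ = j := by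
  by_contra hne
  obtain ⟨v, hv⟩ : ∃ v, v = g * j * g⁻¹ := ⟨_, rfl⟩
  have hjj := S.jj
  have hji := S.j_inv
  have hvv : v * v = 1 := by
    rw [hv]
    calc g * j * g⁻¹ * (g * j * g⁻¹) = g * (j * j) * g⁻¹ := by group
      _ = 1 := by rw [hjj]; group
  have hvi : v⁻¹ = v := inv_eq_of_mul_eq_one_left hvv
  by_cases hcomm : v * j = j * v
  · rw [hv] at hcomm
    exact S.no_fusion g hne hcomm
  · -- `t = j * v` has order `2 ^ k` with `k ≥ 2`
    obtain ⟨t, ht⟩ : ∃ t, t = j * v := ⟨_, rfl⟩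
    have htP : t ∈ P := by
      rw [ht, hv]
      exact Subgroup.mul_mem _ hjP hg
    have hti : t⁻¹ = v * j := by rw [ht, mul_inv_rev, hvi, hji]
    obtain ⟨k, hk⟩ : ∃ k, orderOf t = 2 ^ k := by
      obtain ⟨k, hk⟩ := P.isPGroup' ⟨t, htP⟩
      have h1 : t ^ 2 ^ k = 1 := by
        have := congrArg Subtype.val hk
        rwa [Subgroup.coe_pow] at this
      have h2 : orderOf t ∣ 2 ^ k := orderOf_dvd_of_pow_eq_one h1
      obtain ⟨k', -, hk'⟩ := (Nat.dvd_prime_pow Nat.prime_two).mp h2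
      exact ⟨k', hk'⟩
    have hk2 : 2 ≤ k := by
      by_contra hlt
      have hk01 : k = 0 ∨ k = 1 := by omega
      rcases hk01 with rfl | rfl
      · rw [pow_zero, orderOf_eq_one_iff] at hk
        apply hne
        rw [← hv]
        have : v = j⁻¹ := by
          rw [ht] at hk
          exact (inv_eq_of_mul_eq_one_right hk).symm
        rw [this, hji]
      · rw [pow_one] at hk
        have h1 : t ^ 2 = 1 := by rw [← hk]; exact pow_orderOf_eq_one t
        apply hcomm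
        have h2 : t = t⁻¹ := by
          rw [pow_two] at h1
          exact (inv_eq_of_mul_eq_one_left h1).symm
        rw [hti] at h2
        rw [← h2, ht]
    obtain ⟨c, hc⟩ : ∃ c, c = t ^ 2 ^ (k - 2) := ⟨_, rfl⟩
    have hc4 : c ^ 4 = 1 := by
      rw [hc, ← pow_mul]
      have : 2 ^ (k - 2) * 4 = 2 ^ k := by
        have : k = (k - 2) + 2 := by omega
        conv_rhs => rw [this, pow_add]
        norm_num
      rw [this, ← hk]
      exact pow_orderOf_eq_one t
    have hc2 : c ^ 2 ≠ 1 := by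
      rw [hc, ← pow_mul]
      have e : 2 ^ (k - 2) * 2 = 2 ^ (k - 1) := by
        have : k - 1 = (k - 2) + 1 := by omega
        rw [this, pow_succ]
      rw [e]
      intro h1
      have h2 : orderOf t ∣ 2 ^ (k - 1) := orderOf_dvd_of_pow_eq_one h1
      rw [hk] at h2
      have h3 := Nat.le_of_dvd (by positivity) h2
      have h4 : 2 ^ (k - 1) < 2 ^ k := Nat.pow_lt_pow_right (by norm_num) (by omega)
      omega
    -- `j` inverts `t`, hence `c`
    have hjt : j * t * j⁻¹ = t⁻¹ := by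
      rw [hti, ht, hji]
      calc j * (j * v) * j = (j * j) * v * j := by group
        _ = v * j := by rw [hjj, one_mul]
    have hjc : j * c * j⁻¹ = c⁻¹ := by
      rw [hc, ← inv_pow, ← hjt]
      exact (conj_pow (a := j) (b := t) (i := 2 ^ (k - 2))).symm
    have hcc : c⁻¹ * c⁻¹ = c * c := by
      have h1 : c * c * (c * c) = 1 := by
        calc c * c * (c * c) = c ^ 4 := by rw [← pow_two, ← pow_two, ← pow_mul]
          _ = 1 := hc4
      calc c⁻¹ * c⁻¹ = c⁻¹ * c⁻¹ * (c * c * (c * c)) := by rw [h1, mul_one]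
        _ = c * c := by simp only [mul_assoc, inv_mul_cancel_left]
    have hjc' : j * c = c⁻¹ * j := by
      calc j * c = (j * c * j⁻¹) * j := by group
        _ = c⁻¹ * j := by rw [hjc]
    have hjci : j * c⁻¹ = c * j := by
      calc j * c⁻¹ = c * (c⁻¹ * j) * c⁻¹ := by group
        _ = c * (j * c) * c⁻¹ := by rw [hjc']
        _ = c * j := by group
    have hw : c⁻¹ * j * c⁻¹⁻¹ = c * c * j := by
      rw [inv_inv]
      calc c⁻¹ * j * c = c⁻¹ * (j * c) := by group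
        _ = c⁻¹ * (c⁻¹ * j) := by rw [hjc']
        _ = (c⁻¹ * c⁻¹) * j := by group
        _ = c * c * j := by rw [hcc]
    have hccj : c * c * j = j * (c * c) := by
      calc c * c * j = c * (c * j) := by group
        _ = c * (j * c⁻¹) := by rw [hjci]
        _ = (c * j) * c⁻¹ := by group
        _ = (j * c⁻¹) * c⁻¹ := by rw [hjci]
        _ = j * (c⁻¹ * c⁻¹) := by group
        _ = j * (c * c) := by rw [hcc]
    refine S.no_fusion c⁻¹ ?_ ?_
    · rw [hw]
      intro h1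
      apply hc2
      rw [pow_two]
      exact mul_eq_right.mp h1
    · rw [hw]
      calc c * c * j * j = (c * c * j) * j := by group
        _ = (j * (c * c)) * j := by rw [hccj]
        _ = j * (c * c * j) := by group

/-- From the conclusion of the Z*-theorem: `G = C(j) N`. -/
theorem top_of_zstar [Finite G] (j : G) (hjj : j * j = 1) (N : Subgroup G)
    (hodd : Odd (Nat.card N)) (hcomm : ∀ g : G, j * g * j⁻¹ * g⁻¹ ∈ N) :
    Subgroup.centralizer ({j} : Set G) ⊔ N = ⊤ := by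
  have hji : j⁻¹ = j := inv_eq_of_mul_eq_one_left hjj
  rw [eq_top_iff]
  intro g _
  obtain ⟨a, ha⟩ : ∃ a, a = (j * g * j⁻¹ * g⁻¹)⁻¹ := ⟨_, rfl⟩
  have haN : a ∈ N := by rw [ha]; exact N.inv_mem (hcomm g)
  have hga : g * j * g⁻¹ = a * j := by rw [ha]; group
  -- `j` inverts `a`
  have hja : j * a * j⁻¹ = a⁻¹ := by
    rw [ha, inv_inv, hji]
    calc j * (j * g * j * g⁻¹)⁻¹ * j = j * (g * j⁻¹ * g⁻¹ * j⁻¹) * j := by group
      _ = j * (g * j * g⁻¹ * j) * j := by rw [hji]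
      _ = j * g * j * g⁻¹ * (j * j) := by group
      _ = j * g * j * g⁻¹ := by rw [hjj, mul_one]
  -- odd order
  have hodd' : Odd (orderOf a) := by
    have h1 : orderOf (⟨a, haN⟩ : N) ∣ Nat.card N := orderOf_dvd_natCard _
    have h2 : orderOf (⟨a, haN⟩ : N) = orderOf a := by
      rw [← Subgroup.orderOf_coe]
    rw [h2] at h1
    exact hodd.of_dvd_nat h1
  obtain ⟨r, hr⟩ := hodd'
  obtain ⟨m, hm⟩ : ∃ m, m = a ^ (r + 1) := ⟨_, rfl⟩
  have hmN : m ∈ N := by rw [hm]; exact N.pow_mem haN _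
  have hmm : m * m = a := by
    rw [hm, ← pow_add]
    have : r + 1 + (r + 1) = orderOf a + 1 := by omega
    rw [this, pow_succ, pow_orderOf_eq_one, one_mul]
  have hjm : j * m * j⁻¹ = m⁻¹ := by
    rw [hm, ← inv_pow, ← hja]
    exact (conj_pow (a := j) (b := a) (i := r + 1)).symm
  have hmj : m * j * m⁻¹ = a * j := by
    calc m * j * m⁻¹ = m * j * (j * m * j⁻¹) := by rw [hjm]
      _ = m * (j * j) * m * j⁻¹ := by group
      _ = m * m * j := by rw [hjj, hji]; group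
      _ = a * j := by rw [hmm]
  have hcent : m⁻¹ * g ∈ Subgroup.centralizer ({j} : Set G) := by
    rw [memC]
    have h1 : g * j = a * j * g := by rw [← hga]; group
    have h2 : m * j = a * j * m := by rw [← hmj]; group
    calc m⁻¹ * g * j = m⁻¹ * (g * j) := by group
      _ = m⁻¹ * (a * j * g) := by rw [h1]
      _ = m⁻¹ * (a * j * m) * (m⁻¹ * g) := by group
      _ = m⁻¹ * (m * j) * (m⁻¹ * g) := by rw [h2]
      _ = j * (m⁻¹ * g) := by group
  have hg : g = m * (m⁻¹ * g) := by group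
  rw [hg, sup_comm]
  exact Subgroup.mul_mem _ (Subgroup.mem_sup_left hmN) (Subgroup.mem_sup_right hcent)

end Cfsg.Agent.Lib.helper59.TwoSL
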